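import Cfsg.Agent.Lib.OddLocal.PrimeActionRankTwo
import Cfsg.Agent.Lib.Transfer.SmallClass
import Cfsg.Agent.Lib.Transfer.RankTwo
import Cfsg.Agent.Lib.PGroups.Omega

/-!
Operator groups without fixed quotients on `p`-groups of rank at most two: the metacyclic case.
-/

set_option autoImplicit false

namespace CfsgLib.OddLocal.RankTwoNoFixed

open Subgroup
open scoped commutatorElement

universe u

variable {p : ℕ} [hp : Fact p.Prime]

/-- The action of `A` leaves no nontrivial quotient fixed. -/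
def NoFixed {A R : Type*} [Group A] [Group R] (ψ : A →* MulAut R) : Prop :=
  ∀ N : Subgroup R, N.Normal → (∀ a, ∀ x ∈ N, ψ a x ∈ N) → (∀ a x, x⁻¹ * ψ a x ∈ N) → N = ⊤

/-- The induced action on an invariant quotient. -/
theorem exists_quotient_hom {A R : Type*} [Group A] [Group R] (ψ : A →* MulAut R) (N : Subgroup R)
    [N.Normal] (hN : ∀ a, ∀ x ∈ N, ψ a x ∈ N) :
    ∃ χ : A →* MulAut (R ⧸ N), ∀ a (x : R), χ a (x : R ⧸ N) = ((ψ a x : R) : R ⧸ N) := by
  have hmap : ∀ a, N.map (ψ a).toMonoidHom = N := fun a => by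
    refine le_antisymm ?_ fun x hx => ⟨ψ a⁻¹ x, hN _ x hx, ?_⟩
    · rintro _ ⟨x, hx, rfl⟩
      exact hN a x hx
    · show ψ a (ψ a⁻¹ x) = x
      rw [← MulAut.mul_apply, ← map_mul, mul_inv_cancel, map_one, MulAut.one_apply]
  refine ⟨{ toFun := fun a => QuotientGroup.congr N N (ψ a) (hmap a), map_one' := ?_, map_mul' := ?_ },
    fun a x => rfl⟩
  · ext v
    obtain ⟨x, rfl⟩ := QuotientGroup.mk_surjective v
    show ((ψ 1 x : R) : R ⧸ N) = x
    rw [map_one, MulAut.one_apply]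
  · intro a b
    ext v
    obtain ⟨x, rfl⟩ := QuotientGroup.mk_surjective v
    show ((ψ (a * b) x : R) : R ⧸ N) = ((ψ a (ψ b x) : R) : R ⧸ N)
    rw [map_mul, MulAut.mul_apply]

theorem noFixed_quotient {A R : Type*} [Group A] [Group R] {ψ : A →* MulAut R} (h : NoFixed ψ)
    (N : Subgroup R) [N.Normal] {χ : A →* MulAut (R ⧸ N)}
    (hχ : ∀ a (x : R), χ a (x : R ⧸ N) = ((ψ a x : R) : R ⧸ N)) : NoFixed χ := by
  intro M hMn hMi hMd
  have := h (M.comap (QuotientGroup.mk' N)) inferInstance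
    (fun a x hx => by
      show ((ψ a x : R) : R ⧸ N) ∈ M
      rw [← hχ]
      exact hMi a _ hx)
    fun a x => by
      show ((x⁻¹ * ψ a x : R) : R ⧸ N) ∈ M
      rw [QuotientGroup.mk_mul, QuotientGroup.mk_inv, ← hχ]
      exact hMd a _
  rw [← map_comap_eq_self_of_surjective (QuotientGroup.mk'_surjective N) M, this, ← MonoidHom.range_eq_map,
    QuotientGroup.range_mk']

/-- A fixed element of an abelian quotient is trivial. -/
theorem mem_of_fixed {A R : Type*} [Group A] [Finite A] [Group R] (hR : IsPGroup p R) {ψ : A →* MulAut R}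
    (hcop : (Nat.card A).Coprime p) (hres : NoFixed ψ) (N : Subgroup R) [N.Normal]
    (hN : ∀ a, ∀ x ∈ N, ψ a x ∈ N) (hab : IsMulCommutative (R ⧸ N)) {v : R}
    (hv : ∀ a, v⁻¹ * ψ a v ∈ N) : v ∈ N := by
  obtain ⟨χ, hχ⟩ := exists_quotient_hom ψ N hN
  let : CommGroup (R ⧸ N) := { (inferInstance : Group (R ⧸ N)) with mul_comm := hab.is_comm.comm }
  let := Fintype.ofFinite A
  let Φ : R ⧸ N →* R ⧸ N := MonoidHom.mk' (fun w => ∏ a : A, χ a w) fun u w => by
    simp only [map_mul, Finset.prod_mul_distrib]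
  have hΦ : ∀ b w, Φ (χ b w) = Φ w := fun b w => by
    show (∏ a : A, χ a (χ b w)) = ∏ a : A, χ a w
    exact Fintype.prod_equiv (Equiv.mulRight b) _ _ fun a => by simp [map_mul, MulAut.mul_apply]
  let K : Subgroup R := Φ.ker.comap (QuotientGroup.mk' N)
  have hK : K = ⊤ := hres K inferInstance
    (fun a x hx => by
      show Φ ((ψ a x : R) : R ⧸ N) = 1
      rw [← hχ, hΦ]
      exact hx)
    fun a x => by
      show Φ ((x⁻¹ * ψ a x : R) : R ⧸ N) = 1
      rw [QuotientGroup.mk_mul, QuotientGroup.mk_inv, ← hχ, map_mul, map_inv, hΦ, inv_mul_cancel]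
  have h1 : Φ (v : R ⧸ N) = 1 := (hK ▸ mem_top v : v ∈ K)
  have h2 : Φ (v : R ⧸ N) = (v : R ⧸ N) ^ Nat.card A := by
    show (∏ a : A, χ a (v : R ⧸ N)) = _
    rw [Finset.prod_congr rfl fun a _ => show χ a (v : R ⧸ N) = (v : R ⧸ N) from
      (hχ a v).trans ((QuotientGroup.eq.2 (hv a)).symm), Finset.prod_const, Finset.card_univ,
      Nat.card_eq_fintype_card]
  exact (QuotientGroup.eq_one_iff v).1
    (CfsgLib.Transfer.eq_one_of_pow_coprime (hR.to_quotient N) hcop (h2.symm.trans h1))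

/-- A nontrivial normal subgroup of a nilpotent group is not its commutator with the group. -/
theorem eq_bot_of_le_commutator {R : Type*} [Group R] [Finite R] (hR : IsPGroup p R) {N : Subgroup R}
    (h : N ≤ ⁅N, (⊤ : Subgroup R)⁆) : N = ⊥ := by
  have := hR.isNilpotent
  have hall : ∀ k, N ≤ (⊤ : Subgroup R).lowerCentralSeries k := by
    intro k
    induction k with
    | zero => rw [Subgroup.lowerCentralSeries_zero]; exact le_top
    | succ k ih => rw [Subgroup.lowerCentralSeries_succ]; exact h.trans (commutator_mono ih le_rfl)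
  obtain ⟨k, hk⟩ := Subgroup.nilpotent_iff_lowerCentralSeries.1 (inferInstance : Group.IsNilpotent R)
  exact le_bot_iff.1 ((hall k).trans hk.le)

theorem commutative_of_card_le {H : Type*} [Group H] [Finite H] (hH : IsPGroup p H)
    (h : Nat.card H ≤ p ^ 2) : IsMulCommutative H := by
  obtain ⟨k, hk⟩ := IsPGroup.iff_card.1 hH
  have hk2 : k ≤ 2 := (Nat.pow_le_pow_iff_right hp.out.one_lt).1 (hk ▸ h)
  rcases (show k = 0 ∨ k = 1 ∨ k = 2 by omega) with rfl | rfl | rfl
  · have := (Nat.card_eq_one_iff_unique.1 (hk.trans (pow_zero p))).1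
    exact ⟨⟨fun _ _ => Subsingleton.elim _ _⟩⟩
  · have := isCyclic_of_prime_card (p := p) (hk.trans (pow_one p))
    exact ⟨⟨IsCyclic.commGroup.mul_comm⟩⟩
  · exact IsPGroup.isMulCommutative_of_card_eq_prime_sq hk

theorem card_step {R : Type*} [Group R] [Finite R] (hR : IsPGroup p R) {A B : Subgroup R} (h : A < B) :
    p * Nat.card A ≤ Nat.card B := CfsgLib.PGroups.mul_card_le_of_lt (hR.to_subgroup B) h

/-- Regularity with a small `Ω₁`. -/
theorem pow_eq_pow (hp3 : 3 < p) {R : Type*} [Group R] [Finite R] (hR : IsPGroup p R) (S : Subgroup R)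
    (hS : ∀ x : R, x ^ p = 1 ↔ x ∈ S) (hcard : Nat.card S ≤ p ^ 2) :
    ∀ x y : R, x ^ p = y ^ p → (x * y⁻¹) ^ p = 1 := by
  have hSn : S.Normal := ⟨fun u hu g => (hS _).1 (by rw [conj_pow, (hS u).2 hu, mul_one, mul_inv_cancel])⟩
  have hT : ⁅S, (⊤ : Subgroup R)⁆ ≤ center R := by
    by_cases h : S ≤ ⁅S, (⊤ : Subgroup R)⁆
    · rw [eq_bot_of_le_commutator hR h, commutator_bot_left]; exact bot_le
    have hlt : ⁅S, (⊤ : Subgroup R)⁆ < S := lt_of_le_of_ne (commutator_le_left S ⊤) fun e => h e.ge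
    have h1 := card_step hR hlt
    obtain ⟨k, hk⟩ := IsPGroup.iff_card.1 (hR.to_subgroup ⁅S, (⊤ : Subgroup R)⁆)
    rw [hk] at h1
    have hk1 : k + 1 ≤ 2 := (Nat.pow_le_pow_iff_right hp.out.one_lt).1
      (by rw [pow_succ, mul_comm]; exact h1.trans hcard)
    rcases (show k = 0 ∨ k = 1 by omega) with rfl | rfl
    · rw [card_eq_one.1 (hk.trans (pow_zero p))]; exact bot_le
    · exact CfsgLib.PGroups.le_center_of_card_prime hR (hk.trans (pow_one p))
  suffices key : ∀ n : ℕ, ∀ H : Subgroup R, Nat.card H ≤ n → ∀ x ∈ H, ∀ y ∈ H, x ^ p = y ^ p →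
      (x * y⁻¹) ^ p = 1 from fun x y h => key _ ⊤ le_rfl x (mem_top x) y (mem_top y) h
  intro n
  induction n with
  | zero => exact fun H hH => absurd hH (Nat.card_pos (α := H)).not_ge
  | succ n ih =>
    intro H hH x hxH y hyH hxy
    by_cases htop : closure {(⟨x, hxH⟩ : H)} ⊔ frattini H = ⊤
    · have h := CfsgLib.PGroups.closure_eq_top_of_sup_frattini htop
      rw [← zpowers_eq_closure] at h
      obtain ⟨k, hk⟩ := mem_zpowers_iff.1 (h ▸ mem_top (⟨y, hyH⟩ : H))
      have hk' : x ^ k = y := by simpa using congrArg Subtype.val hk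
      have hc : Commute x y := hk' ▸ (Commute.refl x).zpow_right k
      rw [hc.inv_right.mul_pow, inv_pow, hxy, mul_inv_cancel]
    set M := closure {(⟨x, hxH⟩ : H)} ⊔ frattini H with hM
    have hlt : Nat.card (M.map H.subtype) < Nat.card H := by
      refine CfsgLib.Transfer.card_lt_of_lt (lt_of_le_of_ne (map_subtype_le _) fun he => htop ?_)
      exact Subgroup.map_injective H.subtype_injective
        (by rw [← MonoidHom.range_eq_map, range_subtype]; exact he)
    have hxM : (⟨x, hxH⟩ : H) ∈ M := le_sup_left (α := Subgroup H) (subset_closure rfl)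
    have hx' : (⟨y, hyH⟩ * ⟨x, hxH⟩ * ⟨y, hyH⟩⁻¹ : H) ∈ M := by
      rw [show (⟨y, hyH⟩ * ⟨x, hxH⟩ * ⟨y, hyH⟩⁻¹ : H) = ⁅(⟨y, hyH⟩ : H), ⟨x, hxH⟩⁆ * ⟨x, hxH⟩ by
        rw [commutatorElement_def]; group]
      exact mul_mem (le_sup_right (α := Subgroup H) (CfsgLib.PGroups.commutator_le_frattini'
        (hR.to_subgroup H) (commutator_mem_commutator (mem_top _) (mem_top _)))) hxM
    have hd : ⁅y, x⁆ ∈ S := by
      refine (hS _).1 ?_
      rw [show ⁅y, x⁆ = y * x * y⁻¹ * x⁻¹ from commutatorElement_def y x]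
      refine ih (M.map H.subtype) (by omega) _ ⟨_, hx', rfl⟩ _ ⟨_, hxM, rfl⟩ ?_
      show (y * x * y⁻¹) ^ p = x ^ p
      rw [conj_pow, hxy, ← pow_succ', pow_succ, mul_inv_cancel_right]
    set K := closure {x, y} with hK
    have hcS : ∀ u ∈ K, ∀ v ∈ K, ⁅u, v⁆ ∈ S := by
      intro u hu v hv
      refine (QuotientGroup.eq_one_iff _).1 ?_
      show QuotientGroup.mk' S ⁅u, v⁆ = 1
      rw [map_commutatorElement, commutatorElement_eq_one_iff_mul_comm]
      set π := QuotientGroup.mk' S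
      have hπ : π y * π x = π x * π y := by
        rw [← commutatorElement_eq_one_iff_mul_comm, ← map_commutatorElement]
        exact (QuotientGroup.eq_one_iff _).2 hd
      have hc : IsMulCommutative (closure {π x, π y}) := by
        refine isMulCommutative_closure ?_
        rintro a (rfl | rfl) b (rfl | rfl) <;> simp [hπ]
      have hm : ∀ w ∈ K, π w ∈ closure {π x, π y} := fun w hw => by
        have := mem_map_of_mem π hw
        rwa [hK, MonoidHom.map_closure, Set.image_pair] at this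
      exact congrArg Subtype.val (hc.is_comm.comm ⟨_, hm u hu⟩ ⟨_, hm v hv⟩)
    have hder : (_root_.commutator K).map K.subtype ≤ S := by
      rw [_root_.commutator_def, map_commutator, ← MonoidHom.range_eq_map, range_subtype]
      exact commutator_le.2 hcS
    have hsc : CfsgLib.Transfer.SmallClass p K := by
      refine Or.inr ⟨hp3, Subgroup.map_injective K.subtype_injective ?_⟩
      rw [map_commutator, map_commutator, Subgroup.map_bot, eq_bot_iff]
      refine (commutator_mono ((commutator_mono hder le_top).trans hT) le_top).trans ?_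
      exact (commutator_le.2 fun c hc g _ => commutatorElement_eq_one_iff_mul_comm.2
        (mem_center_iff.1 hc g).symm)
    have h1 := hsc.mul_pow_of_commutator_le (hR.to_subgroup K)
      (fun c hc => subset_closure (Subtype.ext ((hS _).2 (hder (mem_map_of_mem _ hc))) : c ^ p = 1))
      ⟨x, subset_closure (by simp)⟩ ⟨y, subset_closure (by simp)⟩⁻¹
    have h2 := congrArg Subtype.val h1
    simp only [SubgroupClass.coe_pow, coe_mul, coe_inv, inv_pow] at h2
    rw [h2, hxy, mul_inv_cancel]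

/-- The `p`th powers generate a subgroup of index at most `p²`. -/
theorem index_powers_le (hp3 : 3 < p) {R : Type*} [Group R] [Finite R] (hR : IsPGroup p R) (S : Subgroup R)
    (hS : ∀ x : R, x ^ p = 1 ↔ x ∈ S) (hcard : Nat.card S ≤ p ^ 2) :
    (closure (Set.range fun x : R => x ^ p)).index ≤ p ^ 2 := by
  set P := closure (Set.range fun x : R => x ^ p)
  let f : R → P := fun x => ⟨x ^ p, subset_closure ⟨x, rfl⟩⟩
  have hf : ∀ x, f (Function.invFun f (f x)) = f x := fun x => Function.invFun_eq ⟨x, rfl⟩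
  let g : R → P × S := fun x => (f x, ⟨x * (Function.invFun f (f x))⁻¹, (hS _).1
    (pow_eq_pow hp3 hR S hS hcard x _ (congrArg Subtype.val (hf x)).symm)⟩)
  have hg : Function.Injective g := fun u v h => by
    have h1 : f u = f v := congrArg Prod.fst h
    have h2 := congrArg (fun q : P × S => (q.2 : R)) h
    simp only [g, h1] at h2
    exact mul_right_cancel h2
  have h3 := Nat.card_le_card_of_injective g hg
  rw [Nat.card_prod, ← P.card_mul_index] at h3
  exact (Nat.le_of_mul_le_mul_left h3 Nat.card_pos).trans hcard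

theorem comm_zpow_of_central {G : Type*} [Group G] {x y : G}
    (h : ∀ u v : G, ⁅u, v⁆ ∈ center G) (i j : ℤ) : ⁅x ^ i, y ^ j⁆ = ⁅x, y⁆ ^ (i * j) := by
  let f : G → G →* G := fun v => MonoidHom.mk' (fun s => ⁅s, v⁆) fun a b =>
    CfsgLib.PGroups.comm_mul_left_of_central (h b v)
  let g : G → G →* G := fun u => MonoidHom.mk' (fun s => ⁅u, s⁆) fun a b =>
    CfsgLib.PGroups.comm_mul_right_of_central (h u b)
  have h1 : ⁅x ^ i, y ^ j⁆ = ⁅x, y ^ j⁆ ^ i := map_zpow (f (y ^ j)) x i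
  have h2 : ⁅x, y ^ j⁆ = ⁅x, y⁆ ^ j := map_zpow (g x) y j
  rw [h1, h2, ← zpow_mul, mul_comm]

theorem comm_mul_of_mem_center {G : Type*} [Group G] {u v c d : G} (hc : c ∈ center G) (hd : d ∈ center G) :
    ⁅u * c, v * d⁆ = ⁅u, v⁆ := by
  have h1 : c⁻¹ ∈ center G := inv_mem hc
  have h2 : d⁻¹ ∈ center G := inv_mem hd
  simp only [commutatorElement_def, mul_inv_rev]
  calc u * c * (v * d) * (c⁻¹ * u⁻¹) * (d⁻¹ * v⁻¹)
      = u * (c * v) * (d * c⁻¹) * (u⁻¹ * d⁻¹) * v⁻¹ := by group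
    _ = u * (v * c) * (c⁻¹ * d) * (d⁻¹ * u⁻¹) * v⁻¹ := by
        rw [mem_center_iff.1 hc v, mem_center_iff.1 h1 d, mem_center_iff.1 h2 u⁻¹]
    _ = _ := by group

/-- Class two with elementary derived group and `|R : ℧₁(R)| ≤ p²`. -/
theorem false_of_class_two (hp2 : p ≠ 2) {A R : Type*} [Group A] [Finite A] [Group R] [Finite R]
    (hR : IsPGroup p R) (ψ : A →* MulAut R) (hcop : (Nat.card A).Coprime p) (hres : NoFixed ψ)
    (hP : (closure (Set.range fun x : R => x ^ p)).index ≤ p ^ 2)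
    (hc : ∀ x y : R, ⁅x, y⁆ ∈ center R) (hcp : ∀ x y : R, ⁅x, y⁆ ^ p = 1)
    (hnc : ¬ IsMulCommutative R) : False := by
  have hodd := hp.out.odd_of_ne_two hp2
  let f : R →* R := MonoidHom.mk' (fun x => x ^ p) fun x y =>
    CfsgLib.PGroups.mul_pow_of_central_odd (hc y x) hodd (hcp y x)
  set P := f.range with hPdef
  have hPcl : closure (Set.range fun x : R => x ^ p) = P := by
    rw [show Set.range (fun x : R => x ^ p) = (P : Set R) from rfl, closure_eq]
  rw [hPcl] at hP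
  have hPc : P ≤ center R := by
    rintro _ ⟨x, rfl⟩
    refine mem_center_iff.2 fun y => (commutatorElement_eq_one_iff_mul_comm.1 ?_).symm
    show ⁅x ^ p, y⁆ = 1
    rw [CfsgLib.PGroups.comm_pow_left_of_central (hc x y)]
    exact hcp x y
  have hPn : P.Normal := ⟨fun u hu g => by rw [mem_center_iff.1 (hPc hu) g, mul_inv_cancel_right]; exact hu⟩
  have hPa : ∀ a, ∀ x ∈ P, ψ a x ∈ P := by
    rintro a _ ⟨x, rfl⟩
    exact ⟨ψ a x, (map_pow (ψ a) x p).symm⟩
  have hab : IsMulCommutative (R ⧸ P) := commutative_of_card_le (hR.to_quotient P) (by rwa [← index_eq_card])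
  -- two generators suffice
  have hgen : ∀ u v : R, u ∉ P → v ∉ zpowers u ⊔ P → zpowers v ⊔ (zpowers u ⊔ P) = ⊤ := by
    intro u v hu hv
    by_contra hne
    have h1 := card_step hR (right_lt_sup.2 fun h => hu (h (mem_zpowers u)) : P < zpowers u ⊔ P)
    have h2 := card_step hR (right_lt_sup.2 fun h => hv (h (mem_zpowers v)) :
      zpowers u ⊔ P < zpowers v ⊔ (zpowers u ⊔ P))
    have h3 := card_step hR (lt_top_iff_ne_top.2 hne)
    rw [card_top, ← P.card_mul_index] at h3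
    have h4 := (Nat.mul_le_mul_left p (Nat.mul_le_mul_left p h1)).trans
      ((Nat.mul_le_mul_left p h2).trans h3)
    have h5 := Nat.mul_le_mul_left (Nat.card P) hP
    have h6 := Nat.card_pos (α := P)
    have h7 := hp.out.two_le
    nlinarith
  have hcomm : ∀ u v : R, u ∉ P → v ∉ zpowers u ⊔ P → ⁅u, v⁆ ≠ 1 ∧
      ∀ r s : R, ⁅r, s⁆ ∈ zpowers ⁅u, v⁆ := by
    intro u v hu hv
    have hmem : ∀ r : R, ∃ i l : ℤ, ∃ c ∈ center R, r = v ^ i * u ^ l * c := by
      intro r
      have : (zpowers u ⊔ P).Normal := by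
        refine ⟨fun r hr g => ?_⟩
        have h1 : ⁅g, r⁆ ∈ P := (QuotientGroup.eq_one_iff _).1 (by
          show QuotientGroup.mk' P ⁅g, r⁆ = 1
          rw [map_commutatorElement, commutatorElement_eq_one_iff_mul_comm]
          exact hab.is_comm.comm _ _)
        rw [show g * r * g⁻¹ = ⁅g, r⁆ * r by rw [commutatorElement_def]; group]
        exact mul_mem (le_sup_right (α := Subgroup R) h1) hr
      obtain ⟨_, ⟨i, rfl⟩, t, ht, rfl⟩ := mem_sup_of_normal_right.1
        (show r ∈ zpowers v ⊔ (zpowers u ⊔ P) by rw [hgen u v hu hv]; exact mem_top r)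
      obtain ⟨_, ⟨l, rfl⟩, c, hc', rfl⟩ := mem_sup_of_normal_right.1 ht
      exact ⟨i, l, c, hPc hc', (mul_assoc _ _ _).symm⟩
    have hform : ∀ r s : R, ⁅r, s⁆ ∈ zpowers ⁅u, v⁆ := by
      intro r s
      obtain ⟨i, l, c, hcc, rfl⟩ := hmem r
      obtain ⟨i', l', c', hcc', rfl⟩ := hmem s
      rw [comm_mul_of_mem_center hcc hcc', CfsgLib.PGroups.comm_mul_left_of_central (hc _ _),
        CfsgLib.PGroups.comm_mul_right_of_central (hc _ _), CfsgLib.PGroups.comm_mul_right_of_central (hc _ _),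
        comm_zpow_of_central hc, comm_zpow_of_central hc, comm_zpow_of_central hc, comm_zpow_of_central hc,
        commutatorElement_self, commutatorElement_self, one_zpow, one_zpow, one_mul, mul_one,
        ← commutatorElement_inv u v]
      exact mul_mem (zpow_mem (inv_mem (mem_zpowers _)) _) (zpow_mem (mem_zpowers _) _)
    refine ⟨fun h => hnc ⟨⟨fun r s => commutatorElement_eq_one_iff_mul_comm.1 ?_⟩⟩, hform⟩
    simpa [h] using hform r s
  obtain ⟨x, hx⟩ : ∃ x, x ∉ P := by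
    by_contra! h
    exact hnc ⟨⟨fun r s => (mem_center_iff.1 (hPc (h r)) s).symm⟩⟩
  obtain ⟨y, hy⟩ : ∃ y, y ∉ zpowers x ⊔ P := by
    by_contra! h
    refine hnc ⟨⟨fun r s => ?_⟩⟩
    obtain ⟨_, ⟨i, rfl⟩, c, hc', rfl⟩ := mem_sup_of_normal_right.1 (h r)
    obtain ⟨_, ⟨l, rfl⟩, d, hd', rfl⟩ := mem_sup_of_normal_right.1 (h s)
    refine commutatorElement_eq_one_iff_mul_comm.1 ?_
    rw [comm_mul_of_mem_center (hPc hc') (hPc hd'), comm_zpow_of_central hc, commutatorElement_self,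
      one_zpow]
  set z := ⁅x, y⁆ with hz
  obtain ⟨hz1, hD⟩ := hcomm x y hx hy
  set D := zpowers z with hDdef
  have hzp : orderOf z = p := orderOf_eq_prime (hcp x y) hz1
  have hDgen : ∀ w ∈ D, w ≠ 1 → ∃ i : ℤ, z = w ^ i := fun w hw hw1 => by
    have hle : zpowers w ≤ D := zpowers_le.2 hw
    have hwp : w ^ p = 1 := by
      obtain ⟨i, rfl⟩ := mem_zpowers_iff.1 hw
      rw [← zpow_natCast, ← zpow_mul, mul_comm, zpow_mul, zpow_natCast, hcp x y, one_zpow]
    have heq := eq_of_le_of_card_ge hle (by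
      rw [Nat.card_zpowers, Nat.card_zpowers, hzp, orderOf_eq_prime hwp hw1])
    obtain ⟨i, hi⟩ := mem_zpowers_iff.1 (heq ▸ mem_zpowers z : z ∈ zpowers w)
    exact ⟨i, hi.symm⟩
  -- the largest root of `z`
  obtain ⟨j, ⟨w, hwz⟩, hmax⟩ : ∃ j, (∃ w, w ^ p ^ j = z) ∧ ¬ ∃ w, w ^ p ^ (j + 1) = z := by
    by_contra! h
    have hall : ∀ j, ∃ w, w ^ p ^ j = z := by
      intro j
      induction j with
      | zero => exact ⟨z, by rw [pow_zero, pow_one]⟩
      | succ j ih => exact h j ih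
    obtain ⟨n, hn⟩ := IsPGroup.iff_card.1 hR
    obtain ⟨w, hw⟩ := hall n
    rw [← hn, pow_card_eq_one'] at hw
    exact hz1 hw.symm
  let g : R →* R := MonoidHom.mk' (fun r => r ^ p ^ j) fun u v => by
    clear hwz hmax
    induction j with
    | zero => simp
    | succ j ih =>
      rw [pow_succ, pow_mul, pow_mul, pow_mul, ih]
      exact map_mul f _ _
  have hgP : ∀ q ∈ P, g q ∈ D → g q = 1 := by
    rintro _ ⟨u, rfl⟩ hu
    by_contra h1
    obtain ⟨i, hi⟩ := hDgen _ hu h1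
    refine hmax ⟨u ^ i, ?_⟩
    rw [hi]
    show (u ^ i) ^ p ^ (j + 1) = ((u ^ p) ^ p ^ j) ^ i
    rw [← pow_mul, ← pow_succ', ← zpow_natCast, ← zpow_mul, mul_comm, zpow_mul, zpow_natCast]
  have hwP : w ∉ P := fun h => hz1 (hwz.symm.trans (hgP w h (by
    show w ^ p ^ j ∈ D
    rw [hwz]; exact mem_zpowers _)))
  have hDa : ∀ a, ∀ d ∈ D, ψ a d ∈ D := fun a d hd => by
    obtain ⟨i, rfl⟩ := mem_zpowers_iff.1 hd
    rw [map_zpow, hz, map_commutatorElement]
    exact zpow_mem (hD _ _) i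
  have hza : ∀ a, ∃ t : ℤ, ψ a z = z ^ t := fun a => by
    obtain ⟨t, ht⟩ := mem_zpowers_iff.1 (hDa a z (mem_zpowers z))
    exact ⟨t, ht.symm⟩
  have hexp : ∀ e e' : ℤ, ∀ d ∈ D, d ≠ 1 → d ^ e = d ^ e' → (p : ℤ) ∣ e - e' := fun e e' d hd hd1 he => by
    have h1 : d ^ (e - e') = 1 := by rw [zpow_sub, he, mul_inv_cancel]
    have h2 : orderOf d = p := orderOf_eq_prime (by
      obtain ⟨i, rfl⟩ := mem_zpowers_iff.1 hd
      rw [← zpow_natCast, ← zpow_mul, mul_comm, zpow_mul, zpow_natCast, hcp x y, one_zpow]) hd1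
    exact h2 ▸ orderOf_dvd_iff_zpow_eq_one.2 h1
  have hpmem : ∀ (u : R) (e : ℤ), (p : ℤ) ∣ e → u ^ e ∈ P := by
    rintro u e ⟨i, rfl⟩
    rw [zpow_mul, zpow_natCast]
    exact zpow_mem (show u ^ p ∈ P from ⟨u, rfl⟩) i
  set Y := g.ker ⊔ P with hY
  have hYn : Y.Normal := inferInstance
  have hkera : ∀ a, ∀ r ∈ g.ker, ψ a r ∈ g.ker := fun a r (hr : r ^ p ^ j = 1) => show (ψ a r) ^ p ^ j = 1 by
    rw [← map_pow, hr, map_one]
  have hYa : ∀ a, ∀ r ∈ Y, ψ a r ∈ Y := fun a r hr => by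
    obtain ⟨k, hk, q, hq, rfl⟩ := mem_sup_of_normal_right.1 hr
    rw [map_mul]
    exact mul_mem (le_sup_left (α := Subgroup R) (hkera a k hk)) (le_sup_right (α := Subgroup R) (hPa a q hq))
  have hgY : ∀ r ∈ Y, g r ∈ D → g r = 1 := fun r hr hrD => by
    obtain ⟨k, hk, q, hq, rfl⟩ := mem_sup_of_normal_right.1 hr
    rw [map_mul, show g k = 1 from hk, one_mul] at hrD ⊢
    exact hgP q hq hrD
  have hwY : w ∉ Y := fun h => hz1 (hwz.symm.trans (hgY w h (by
    show w ^ p ^ j ∈ D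
    rw [hwz]; exact mem_zpowers _)))
  have hgw : g w = z := hwz
  by_cases hker : g.ker ≤ P
  · -- the roots of `z` span an invariant line
    set Y' := zpowers w ⊔ P with hY'
    have hY'n : Y'.Normal := ⟨fun r hr t => by
      rw [show t * r * t⁻¹ = ⁅t, r⁆ * r by rw [commutatorElement_def]; group]
      refine mul_mem (le_sup_right (α := Subgroup R) ((QuotientGroup.eq_one_iff _).1 ?_)) hr
      show QuotientGroup.mk' P ⁅t, r⁆ = 1
      rw [map_commutatorElement, commutatorElement_eq_one_iff_mul_comm]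
      exact hab.is_comm.comm _ _⟩
    have hwimg : ∀ a, ∃ t : ℤ, ψ a z = z ^ t ∧ (w ^ t)⁻¹ * ψ a w ∈ P := fun a => by
      obtain ⟨t, ht⟩ := hza a
      refine ⟨t, ht, hker (show g ((w ^ t)⁻¹ * ψ a w) = 1 from ?_)⟩
      rw [map_mul, map_inv, map_zpow, hgw]
      show (z ^ t)⁻¹ * (ψ a w) ^ p ^ j = 1
      rw [← map_pow, hwz, ht, inv_mul_cancel]
    have hY'a : ∀ a, ∀ r ∈ Y', ψ a r ∈ Y' := fun a r hr => by
      obtain ⟨t, -, ht⟩ := hwimg a
      obtain ⟨_, ⟨i, rfl⟩, q, hq, rfl⟩ := mem_sup_of_normal_right.1 hr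
      rw [map_mul, map_zpow]
      refine mul_mem (zpow_mem ?_ i) (le_sup_right (α := Subgroup R) (hPa a q hq))
      rw [← mul_inv_cancel_left (w ^ t) (ψ a w)]
      exact mul_mem (le_sup_left (α := Subgroup R) (zpow_mem (mem_zpowers w) t))
        (le_sup_right (α := Subgroup R) ht)
    obtain ⟨r, hr⟩ : ∃ r, r ∉ Y' := by
      by_contra! h
      obtain ⟨_, ⟨i, rfl⟩, c, hc', rfl⟩ := mem_sup_of_normal_right.1 (h x)
      obtain ⟨_, ⟨l, rfl⟩, d, hd', rfl⟩ := mem_sup_of_normal_right.1 (h y)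
      refine hz1 ?_
      show ⁅_, _⁆ = 1
      rw [comm_mul_of_mem_center (hPc hc') (hPc hd'), comm_zpow_of_central hc, commutatorElement_self,
        one_zpow]
    obtain ⟨hne, -⟩ := hcomm w r hwP hr
    refine hr ((hres Y' hY'n hY'a fun a s => ?_).symm ▸ mem_top r)
    obtain ⟨t, ht, hwt⟩ := hwimg a
    have hmemR : ∀ s : R, ∃ i : ℤ, (r ^ i)⁻¹ * s ∈ Y' := fun s => by
      obtain ⟨_, ⟨i, rfl⟩, q, hq, rfl⟩ := mem_sup_of_normal_right.1
        (show s ∈ zpowers r ⊔ Y' by rw [hgen w r hwP hr]; exact mem_top s)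
      exact ⟨i, by rwa [inv_mul_cancel_left]⟩
    obtain ⟨k, hk⟩ := hmemR (ψ a r)
    obtain ⟨d, hd⟩ := mem_zpowers_iff.1 (hD w r)
    have h1 : ψ a ⁅w, r⁆ = ⁅w, r⁆ ^ (t * k) := by
      obtain ⟨_, ⟨i, rfl⟩, q, hq, hk'⟩ := mem_sup_of_normal_right.1 hk
      rw [map_commutatorElement, ← mul_inv_cancel_left (w ^ t) (ψ a w), ← mul_inv_cancel_left (r ^ k) (ψ a r),
        ← hk', ← mul_assoc (r ^ k), comm_mul_of_mem_center (hPc hwt) (hPc hq),
        CfsgLib.PGroups.comm_mul_right_of_central (hc _ _), comm_zpow_of_central hc, comm_zpow_of_central hc,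
        commutatorElement_self, one_zpow, mul_one]
    have h2 : ψ a ⁅w, r⁆ = ⁅w, r⁆ ^ t := by
      rw [← hd, map_zpow, ht, ← zpow_mul, ← zpow_mul, mul_comm]
    have h3 := hexp _ _ _ (hD w r) hne (h1.symm.trans h2)
    rw [show t * k - t = t * (k - 1) by ring] at h3
    have ht1 : ¬ (p : ℤ) ∣ t := fun hdvd => hz1 ((ψ a).injective (by
      obtain ⟨i, rfl⟩ := hdvd
      rw [ht, map_one, zpow_mul, zpow_natCast, hcp x y, one_zpow]))
    have hk1 := (Nat.prime_iff_prime_int.1 hp.out).dvd_or_dvd h3 |>.resolve_left ht1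
    obtain ⟨i, hi⟩ := hmemR s
    have hri : (r ^ i)⁻¹ * ψ a (r ^ i) ∈ Y' := by
      rw [← QuotientGroup.eq_one_iff, QuotientGroup.mk_mul, QuotientGroup.mk_inv, map_zpow,
        QuotientGroup.mk_zpow, QuotientGroup.mk_zpow, inv_mul_eq_one]
      congr 1
      rw [← inv_mul_eq_one, ← QuotientGroup.mk_inv, ← QuotientGroup.mk_mul, QuotientGroup.eq_one_iff,
        show r⁻¹ * ψ a r = r ^ (k - 1) * ((r ^ k)⁻¹ * ψ a r) by group]
      exact mul_mem (le_sup_right (α := Subgroup R) (hpmem r _ hk1)) hk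
    have e : s⁻¹ * ψ a s = ((r ^ i)⁻¹ * s)⁻¹ * ((r ^ i)⁻¹ * ψ a (r ^ i)) * ψ a ((r ^ i)⁻¹ * s) := by
      rw [map_mul, map_inv]; group
    rw [e]
    exact mul_mem (mul_mem (inv_mem hi) hri) (hY'a a _ hi)
  · -- the kernel line is fixed
    obtain ⟨y₁, hy₁, hy₁P⟩ := SetLike.not_le_iff_exists.1 hker
    have hline : zpowers y₁ ⊔ P = Y := by
      refine le_antisymm (sup_le (zpowers_le.2 (le_sup_left (α := Subgroup R) hy₁)) le_sup_right) fun r hr => ?_
      by_contra h
      refine hwY ((show zpowers r ⊔ (zpowers y₁ ⊔ P) ≤ Y from sup_le (zpowers_le.2 hr)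
        (sup_le (zpowers_le.2 (le_sup_left (α := Subgroup R) hy₁)) le_sup_right)) ?_)
      rw [hgen y₁ r hy₁P h]
      exact mem_top w
    have hw1 : w ∉ zpowers y₁ ⊔ P := hline ▸ hwY
    obtain ⟨hne, -⟩ := hcomm y₁ w hy₁P hw1
    refine hy₁P (mem_of_fixed hR hcop hres P hPa hab fun a => ?_)
    obtain ⟨t, ht⟩ := hza a
    obtain ⟨_, ⟨m, rfl⟩, q, hq, hyq⟩ := mem_sup_of_normal_right.1
      (show ψ a y₁ ∈ zpowers y₁ ⊔ P by rw [hline]; exact hYa a _ (le_sup_left (α := Subgroup R) hy₁))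
    obtain ⟨_, ⟨k, rfl⟩, u, hu, hwu⟩ := mem_sup_of_normal_right.1
      (show ψ a w ∈ zpowers w ⊔ Y by rw [← hline, hgen y₁ w hy₁P hw1]; exact mem_top _)
    have hgu : g u = 1 := by
      refine hgY u hu ?_
      have h1 : g u = (z ^ k)⁻¹ * ψ a z := by
        rw [← hgw, ← map_zpow g, eq_inv_mul_iff_mul_eq, ← map_mul g, show w ^ k * u = ψ a w from hwu]
        exact (map_pow (ψ a) w (p ^ j)).symm
      rw [h1]
      exact mul_mem (inv_mem (zpow_mem (mem_zpowers z) k)) (hDa a z (mem_zpowers z))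
    have htk : z ^ t = z ^ k := by
      rw [← ht]
      calc ψ a z = g (ψ a w) := by rw [← hgw]; exact map_pow (ψ a) w (p ^ j)
        _ = z ^ k := by rw [← show w ^ k * u = ψ a w from hwu, map_mul, map_zpow, hgw, hgu, mul_one]
    obtain ⟨d, hd⟩ := mem_zpowers_iff.1 (hD y₁ w)
    have h1 : ψ a ⁅y₁, w⁆ = ⁅y₁, w⁆ ^ (m * k) := by
      obtain ⟨_, ⟨i, rfl⟩, q', hq', hu'⟩ := mem_sup_of_normal_right.1 (hline.symm ▸ hu : u ∈ zpowers y₁ ⊔ P)
      rw [map_commutatorElement, ← show y₁ ^ m * q = ψ a y₁ from hyq, ← show w ^ k * u = ψ a w from hwu,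
        ← show y₁ ^ i * q' = u from hu', ← mul_assoc, comm_mul_of_mem_center (hPc hq) (hPc hq'),
        CfsgLib.PGroups.comm_mul_right_of_central (hc _ _), comm_zpow_of_central hc, comm_zpow_of_central hc,
        commutatorElement_self, one_zpow, mul_one]
    have h2 : ψ a ⁅y₁, w⁆ = ⁅y₁, w⁆ ^ k := by
      rw [← hd, map_zpow, ht, htk, ← zpow_mul, ← zpow_mul, mul_comm]
    have h3 := hexp _ _ _ (hD y₁ w) hne (h1.symm.trans h2)
    rw [show m * k - k = (m - 1) * k by ring] at h3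
    have hk1 : ¬ (p : ℤ) ∣ k := fun hdvd => hz1 ((ψ a).injective (by
      obtain ⟨i, rfl⟩ := hdvd
      rw [ht, htk, map_one, zpow_mul, zpow_natCast, hcp x y, one_zpow]))
    have hm1 := (Nat.prime_iff_prime_int.1 hp.out).dvd_or_dvd h3 |>.resolve_right hk1
    rw [← show y₁ ^ m * q = ψ a y₁ from hyq, show y₁⁻¹ * (y₁ ^ m * q) = y₁ ^ (m - 1) * q by group]
    exact mul_mem (hpmem y₁ _ hm1) hq

/-- Rank two with small `Ω₁` and no fixed quotient: abelian. -/
theorem isMulCommutative_of_index (hp2 : p ≠ 2) {A R : Type*} [Group A] [Finite A] [Group R] [Finite R]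
    (hR : IsPGroup p R) (ψ : A →* MulAut R) (hcop : (Nat.card A).Coprime p) (hres : NoFixed ψ)
    (hP : (closure (Set.range fun x : R => x ^ p)).index ≤ p ^ 2) :
    IsMulCommutative R := by
  by_contra hnc
  set C := _root_.commutator R with hC
  set F := (frattini C).map C.subtype with hF
  have hFn : F.Normal := inferInstance
  set N := ⁅C, (⊤ : Subgroup R)⁆ ⊔ F with hN
  have hNC : N ≤ C := sup_le (commutator_le_left C ⊤) (map_subtype_le _)
  have hCc : C.Characteristic := inferInstance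
  have hCmap : ∀ φ : MulAut R, ∀ x ∈ C, φ x ∈ C := fun φ x hx =>
    (characteristic_iff_map_le.1 hCc φ) (mem_map_of_mem _ hx)
  have hNa : ∀ a, ∀ x ∈ N, ψ a x ∈ N := by
    intro a x hx
    have h1 : N.map (ψ a).toMonoidHom ≤ N := by
      rw [hN, Subgroup.map_sup, map_commutator]
      refine sup_le_sup (commutator_mono ?_ le_top) ?_
      · rintro _ ⟨z, hz, rfl⟩; exact hCmap _ z hz
      · let b : MulAut C := ((ψ a : R ≃* R).subgroupMap C).trans
          (MulEquiv.subgroupCongr (characteristic_iff_map_eq.1 hCc (ψ a)))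
        rintro _ ⟨_, ⟨c, hc, rfl⟩, rfl⟩
        exact ⟨b c, (characteristic_iff_map_le.1 (inferInstance : (frattini C).Characteristic) b)
          (mem_map_of_mem _ hc), rfl⟩
    exact h1 (mem_map_of_mem _ hx)
  have hNne : ¬ C ≤ N := by
    intro h
    have hgen : (⁅C, (⊤ : Subgroup R)⁆).subgroupOf C = ⊤ := by
      refine frattini_nongenerating ?_
      refine Subgroup.map_injective C.subtype_injective ?_
      rw [Subgroup.map_sup, subgroupOf_map_subtype, inf_eq_left.2 (commutator_le_left C ⊤),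
        ← MonoidHom.range_eq_map, range_subtype]
      exact le_antisymm hNC h
    have hle : C ≤ ⁅C, (⊤ : Subgroup R)⁆ := subgroupOf_eq_top.1 hgen
    have := eq_bot_of_le_commutator hR hle
    exact hnc ⟨⟨fun u v => commutatorElement_eq_one_iff_mul_comm.1 (mem_bot.1
      (this ▸ commutator_mem_commutator (mem_top u) (mem_top v)))⟩⟩
  have : N.Normal := inferInstance
  obtain ⟨χ, hχ⟩ := exists_quotient_hom ψ N hNa
  refine false_of_class_two hp2 (hR.to_quotient N) χ hcop (noFixed_quotient hres N hχ) ?_ ?_ ?_ ?_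
  · have h1 : (closure (Set.range fun x : R => x ^ p)).map (QuotientGroup.mk' N) =
        closure (Set.range fun v : R ⧸ N => v ^ p) := by
      rw [MonoidHom.map_closure, ← Set.range_comp]
      congr 1
      ext v
      constructor
      · rintro ⟨x, rfl⟩; exact ⟨(x : R ⧸ N), by simp⟩
      · rintro ⟨w, rfl⟩
        obtain ⟨x, rfl⟩ := QuotientGroup.mk_surjective w
        exact ⟨x, by simp⟩
    rw [← h1]
    exact (Nat.le_of_dvd (Nat.pos_of_ne_zero index_ne_zero_of_finite)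
      (index_map_dvd _ (QuotientGroup.mk'_surjective N))).trans hP
  · intro u v
    obtain ⟨x, rfl⟩ := QuotientGroup.mk'_surjective N u
    obtain ⟨y, rfl⟩ := QuotientGroup.mk'_surjective N v
    refine mem_center_iff.2 fun w => ?_
    obtain ⟨t, rfl⟩ := QuotientGroup.mk'_surjective N w
    refine (commutatorElement_eq_one_iff_mul_comm.1 ?_).symm
    rw [← map_commutatorElement, ← map_commutatorElement]
    exact (QuotientGroup.eq_one_iff _).2 (le_sup_left (α := Subgroup R)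
      (commutator_mem_commutator (commutator_mem_commutator (mem_top x) (mem_top y)) (mem_top t)))
  · intro u v
    obtain ⟨x, rfl⟩ := QuotientGroup.mk'_surjective N u
    obtain ⟨y, rfl⟩ := QuotientGroup.mk'_surjective N v
    rw [← map_commutatorElement, ← map_pow]
    exact (QuotientGroup.eq_one_iff _).2 (le_sup_right (α := Subgroup R)
      ⟨_, CfsgLib.PGroups.pow_mem_frattini (hR.to_subgroup C)
        (⟨⁅x, y⁆, commutator_mem_commutator (mem_top x) (mem_top y)⟩ : C), rfl⟩)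
  · intro h
    exact hNne (Subgroup.Normal.quotient_commutative_iff_commutator_le.mp h)

theorem isMulCommutative (hp3 : 3 < p) {A R : Type*} [Group A] [Finite A] [Group R] [Finite R]
    (hR : IsPGroup p R) (ψ : A →* MulAut R) (hcop : (Nat.card A).Coprime p) (hres : NoFixed ψ)
    (S : Subgroup R) (hS : ∀ x : R, x ^ p = 1 ↔ x ∈ S) (hcard : Nat.card S ≤ p ^ 2) :
    IsMulCommutative R :=
  isMulCommutative_of_index (by omega) hR ψ hcop hres (index_powers_le hp3 hR S hS hcard)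

end CfsgLib.OddLocal.RankTwoNoFixed
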