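import Cfsg.Agent.Lib.OddLocal.FixedComponents
import Cfsg.Agent.Lib.OddLocal.RankTwoNoFixed
import Cfsg.Agent.Lib.Core.Coprime
import Cfsg.Agent.Lib.PGroups.Extraspecial
import Cfsg.Agent.Lib.Transfer.CoprimeAut
import Cfsg.Agent.Lib.Char.CyclicTI.FrobeniusFormula

/-!
A `q`-group moved by a fixed point free pair acting on a `p`-group with small fixed points.
-/

set_option autoImplicit false

namespace CfsgLib.OddLocal.PLengthEndgame

open Subgroup FixedComponents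
open scoped commutatorElement

variable {A W : Type*} [Group A] [Finite A] [CommGroup W] [Finite W] (ψ : A →* MulAut W)
  {p q r : ℕ} [hp : Fact p.Prime] [hq : Fact q.Prime] [hr : Fact r.Prime]
  (Q P : Subgroup A) (σ : A)

omit [Finite A] in
theorem normalizer_le_char (Y : Subgroup Q) [hY : Y.Characteristic] :
    normalizer (Q : Set A) ≤ normalizer (Y.map Q.subtype : Set A) := by
  have h1 : ∀ g ∈ normalizer (Q : Set A), ∀ x ∈ Y.map Q.subtype, g * x * g⁻¹ ∈ Y.map Q.subtype := by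
    rintro g hg _ ⟨x, hx, rfl⟩
    exact ⟨Q.normalizerMonoidHom ⟨g, hg⟩ x, characteristic_iff_map_le.1 hY _ (mem_map_of_mem _ hx), rfl⟩
  intro g hg
  refine mem_normalizer_iff.2 fun x => ⟨h1 g hg x, fun h => ?_⟩
  have := h1 g⁻¹ (inv_mem hg) _ h
  simpa [mul_assoc] using this

include hp hq in
theorem pow_card_eq_one (hW : IsPGroup p W) (hpq : p ≠ q) {n : ℕ} {u : W} (h : u ^ q ^ n = 1) : u = 1 := by
  obtain ⟨k, hk⟩ := hW u
  exact orderOf_eq_one_iff.1 (Nat.eq_one_of_dvd_coprimes (((Nat.coprime_primes hp.out hq.out).2 hpq).pow k n)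
    (orderOf_dvd_of_pow_eq_one hk) (orderOf_dvd_of_pow_eq_one h))

omit [Finite A] in
theorem cj_inv_eq {a : A} {H : Subgroup A} (h : cj a H = H) : cj a⁻¹ H = H := by
  conv_lhs => rw [← h]
  rw [← cj_mul, inv_mul_cancel, cj_one]

omit [Finite A] in
/-- Operators act commutatively on a line. -/
theorem apply_comm_of_line (hW : IsPGroup p W) {H : Subgroup A} (hline : Nat.card (fixed ψ H) ≤ p) {a x : A}
    (ha : cj a H = H) (hx : cj x H = H) {u : W} (hu : u ∈ fixed ψ H) : ψ (a * x) u = ψ (x * a) u := by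
  by_cases hu1 : u = 1
  · rw [hu1, map_one, map_one]
  have hne : (⟨u, hu⟩ : fixed ψ H) ≠ 1 := fun h => hu1 (congrArg Subtype.val h)
  have : Nontrivial (fixed ψ H) := ⟨⟨⟨u, hu⟩, 1, hne⟩⟩
  obtain ⟨n, hn0, hn⟩ := (hW.to_subgroup (fixed ψ H)).nontrivial_iff_card.1 ‹_›
  have hc : Nat.card (fixed ψ H) = p := le_antisymm hline (hn ▸ Nat.le_self_pow hn0.ne' p)
  have hm : ∀ b : A, cj b H = H → ∃ m : ℕ, ψ b u = u ^ m := by
    intro b hb
    obtain ⟨m, hm⟩ := Submonoid.mem_powers_iff _ _ |>.1 (mem_powers_of_prime_card (G := fixed ψ H) hc hne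
      (g' := ⟨ψ b u, hb ▸ apply_mem_fixed b hu⟩))
    exact ⟨m, (congrArg Subtype.val hm).symm⟩
  obtain ⟨m, hm'⟩ := hm a ha
  obtain ⟨l, hl⟩ := hm x hx
  rw [map_mul, map_mul, MulAut.mul_apply, MulAut.mul_apply, hl, map_pow, hm', map_pow, hl, ← pow_mul, ← pow_mul,
    mul_comm]

variable (hW : IsPGroup p W) (hQ : IsPGroup q Q) (hP : IsPGroup p P) (hp2 : p ≠ 2) (hq2 : q ≠ 2) (hr2 : r ≠ 2)
  (hpq : p ≠ q) (hrp : r ≠ p) (hrq : r ≠ q) (hσ : σ ^ r = 1) (hσ1 : σ ≠ 1)
  (hPQ : P ≤ normalizer (Q : Set A)) (hσQ : σ ∈ normalizer (Q : Set A)) (hσP : σ ∈ normalizer (P : Set A))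
  (hPσ : ∀ a ∈ P, σ * a = a * σ → a = 1) (hQP : ⁅Q, P⁆ = Q) (hQ1 : Q ≠ ⊥) [Nontrivial W]
  (hQσ : IsCyclic ↥(Q ⊓ centralizer (zpowers σ : Set A))) (hWσ : Nat.card (fixed ψ (zpowers σ)) ≤ p)
  (hchar : ∀ Y ≤ Q, normalizer (Q : Set A) ≤ normalizer (Y : Set A) →
    (Y ≠ Q → P ≤ centralizer (Y : Set A)) ∧ (Y ≠ ⊥ → fixed ψ Y = ⊥))

include hW hWσ in
theorem small_fixed : (Nat.card (fixed ψ (zpowers σ))).Prime ∨ Nat.card (fixed ψ (zpowers σ)) ≤ 1 := by
  obtain ⟨n, hn⟩ := IsPGroup.iff_card.1 (hW.to_subgroup (fixed ψ (zpowers σ)))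
  rcases n with _ | n
  · exact Or.inr (le_of_eq hn)
  · refine Or.inl ?_
    rw [le_antisymm hWσ (hn ▸ Nat.le_self_pow n.succ_ne_zero p)]
    exact hp.out

include hσQ hQσ in
theorem card_fixed_Q_le (hQq : ∀ x ∈ Q, x ^ q = 1) : Nat.card ↥(Q ⊓ centralizer (zpowers σ : Set A)) ≤ q := by
  obtain ⟨g, hg⟩ := hQσ.exists_generator
  rw [← orderOf_eq_card_of_forall_mem_zpowers hg]
  exact Nat.le_of_dvd hq.out.pos (orderOf_dvd_of_pow_eq_one (Subtype.ext (hQq g g.2.1)))

include hW hQ hP hp2 hpq hrp hrq hσ hPQ hσQ hσP hPσ hQP hQ1 hQσ hWσ hchar in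
/-- The elementary abelian case. -/
theorem abelian_case (hQc : ∀ a ∈ Q, ∀ b ∈ Q, a * b = b * a) (hQq : ∀ x ∈ Q, x ^ q = 1) (hr2 : r ≠ 2) : False := by
  have hfix : fixed ψ Q = ⊥ := (hchar Q le_rfl le_rfl).2 hQ1
  have hcop : ∀ u : W, u ^ q = 1 → u = 1 := fun u h => pow_card_eq_one hW hpq (n := 1) (by rwa [pow_one])
  obtain ⟨m, hm⟩ := IsPGroup.iff_card.1 hQ
  have hcopQ : ∀ u : W, u ^ Nat.card Q = 1 → u = 1 := fun u h => pow_card_eq_one hW hpq (n := m) (hm ▸ h)
  obtain ⟨H, hH, hH1⟩ := exists_component hq.out hQc hQq hcop hfix ⊤ top_ne_bot fun _ _ _ _ => mem_top _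
  rw [top_inf_eq] at hH1
  have hnP : ∀ a ∈ P, a ∈ normalizer (Q : Set A) := fun a ha => hPQ ha
  have hne : ∀ a : A, fixed ψ H ≠ ⊥ → fixed ψ (cj a H) ≠ ⊥ := fun a h => by
    rw [← Subgroup.one_lt_card_iff_ne_bot] at h ⊢
    rwa [card_fixed_cj]
  -- `P` does not fix a component
  have hfixP : ∀ K, IsHyper Q q K → cj σ K = K → ∃ a ∈ P, cj a K ≠ K := by
    intro K hK hKσ
    by_contra! hall
    let N : Subgroup A := normalizer (Q : Set A) ⊓ normalizer (K : Set A)
    have hmem : ∀ a, a ∈ normalizer (Q : Set A) → cj a K = K → a ∈ N := fun a ha he =>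
      ⟨ha, mem_normalizer_iff.2 fun x => by
        have h1 := mem_cj (a := a) (H := K) (x := a * x * a⁻¹)
        rw [he] at h1
        rw [h1, show a⁻¹ * (a * x * a⁻¹) * a = x by group]⟩
    set K' := K.subgroupOf Q with hK'
    have : K'.Normal := ⟨fun k hk g => by
      show (g : A) * k * (g : A)⁻¹ ∈ K
      rw [hQc g g.2 k k.2, mul_inv_cancel_right]
      exact hk⟩
    let θ : N →* MulAut Q := Q.normalizerMonoidHom.comp (inclusion inf_le_left)
    obtain ⟨χ, hχ⟩ := RankTwoNoFixed.exists_quotient_hom θ K' fun a x hx =>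
      (mem_normalizer_iff.1 a.2.2 x).1 hx
    have hcard : Nat.card (Q ⧸ K') = q := by
      have h1 := K'.card_eq_card_quotient_mul_card_subgroup
      rw [Nat.card_congr (subgroupOfEquivOfLe hK.1).toEquiv, ← hK.2, mul_comm] at h1
      exact (Nat.eq_of_mul_eq_mul_right (Nat.card_pos (α := K)) h1).symm
    have : IsCyclic (Q ⧸ K') := isCyclic_of_prime_card hcard
    have hcomm : ∀ f g : MulAut (Q ⧸ K'), f * g = g * f := fun f g =>
      (IsCyclic.mulAutMulEquiv (Q ⧸ K')).injective (by rw [map_mul, map_mul, mul_comm])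
    let f : P → P := fun a => ⟨(a : A)⁻¹ * (σ * a * σ⁻¹), mul_mem (inv_mem a.2) ((mem_normalizer_iff.1 hσP a).1 a.2)⟩
    have hf : Function.Surjective f := Finite.injective_iff_surjective.1 fun a b hab => by
      have h1 : (a : A)⁻¹ * (σ * a * σ⁻¹) = (b : A)⁻¹ * (σ * b * σ⁻¹) := congrArg Subtype.val hab
      have h2 : σ * ((a : A) * (b : A)⁻¹) = (a : A) * (b : A)⁻¹ * σ :=
        calc σ * ((a : A) * (b : A)⁻¹) = (a : A) * ((a : A)⁻¹ * (σ * a * σ⁻¹)) * σ * (b : A)⁻¹ := by group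
          _ = (a : A) * ((b : A)⁻¹ * (σ * b * σ⁻¹)) * σ * (b : A)⁻¹ := by rw [h1]
          _ = _ := by group
      exact Subtype.ext (mul_inv_eq_one.1 (hPσ _ (mul_mem a.2 (inv_mem b.2)) h2))
    have hle : ⁅Q, P⁆ ≤ K := commutator_le.2 fun x hx a ha => by
      obtain ⟨⟨b, hb⟩, hbf⟩ := hf ⟨a, ha⟩
      let s : N := ⟨σ, hmem σ hσQ hKσ⟩
      let b' : N := ⟨b, hmem b (hnP b hb) (hall b hb)⟩
      have ha' : (⟨a, hmem a (hnP a ha) (hall a ha)⟩ : N) = b'⁻¹ * (s * b' * s⁻¹) :=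
        Subtype.ext (congrArg Subtype.val hbf).symm
      have h1 : χ ⟨a, hmem a (hnP a ha) (hall a ha)⟩ = 1 := by
        rw [ha', map_mul, map_mul, map_mul, map_inv, map_inv, hcomm (χ s) (χ b'), mul_inv_cancel_right,
          inv_mul_cancel]
      have h2 := hχ ⟨a, hmem a (hnP a ha) (hall a ha)⟩ ⟨x, hx⟩
      rw [h1, MulAut.one_apply, QuotientGroup.eq] at h2
      have h3 : x⁻¹ * (a * x * a⁻¹) ∈ K := h2
      have h4 := inv_mem h3
      rw [show (x⁻¹ * (a * x * a⁻¹))⁻¹ = a * x⁻¹ * a⁻¹ * x by group] at h4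
      have hy : a * x⁻¹ * a⁻¹ ∈ Q := (mem_normalizer_iff.1 (hnP a ha) _).1 (inv_mem hx)
      rwa [commutatorElement_def, show x * a * x⁻¹ * a⁻¹ = x * (a * x⁻¹ * a⁻¹) by group, hQc x hx _ hy]
    have h1 := card_le_of_le (hQP.ge.trans hle)
    rw [← hK.2] at h1
    exact absurd h1 (not_le.2 (lt_mul_of_one_lt_right (Nat.card_pos) hq.out.one_lt))
  -- a moved component
  obtain ⟨H0, hH0, hH01, hmv⟩ : ∃ K, IsHyper Q q K ∧ fixed ψ K ≠ ⊥ ∧ cj σ K ≠ K := by
    by_cases hσH : cj σ H = H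
    swap
    · exact ⟨H, hH, hH1, hσH⟩
    obtain ⟨a, ha, haH⟩ := hfixP H hH hσH
    exact (em (cj σ (cj a H) = cj a H)).elim (fun hfx => by
      by_contra! hno
      refine absurd ?_ haH
      have hall : ∀ b ∈ P, cj σ (cj b H) = cj b H := fun b hb => hno _ (hH.cj (hnP b hb)) (hne b hH1)
      have hsurj : ∀ c ∈ P, cj c H = H := by
        intro c hc
        let f : P → P := fun a => ⟨(a : A)⁻¹ * (σ * a * σ⁻¹),
          mul_mem (inv_mem a.2) ((mem_normalizer_iff.1 hσP a).1 a.2)⟩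
        have hf : Function.Surjective f := Finite.injective_iff_surjective.1 fun a b hab => by
          have h1 : (a : A)⁻¹ * (σ * a * σ⁻¹) = (b : A)⁻¹ * (σ * b * σ⁻¹) := congrArg Subtype.val hab
          have h2 : σ * ((a : A) * (b : A)⁻¹) = (a : A) * (b : A)⁻¹ * σ :=
            calc σ * ((a : A) * (b : A)⁻¹) = (a : A) * ((a : A)⁻¹ * (σ * a * σ⁻¹)) * σ * (b : A)⁻¹ := by group
              _ = (a : A) * ((b : A)⁻¹ * (σ * b * σ⁻¹)) * σ * (b : A)⁻¹ := by rw [h1]
              _ = _ := by group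
          exact Subtype.ext (mul_inv_eq_one.1 (hPσ _ (mul_mem a.2 (inv_mem b.2)) h2))
        obtain ⟨⟨b, hb⟩, hbf⟩ := hf ⟨c, hc⟩
        rw [← show b⁻¹ * (σ * b * σ⁻¹) = c from congrArg Subtype.val hbf, cj_mul, cj_mul, cj_mul]
        conv_lhs => rw [show cj σ⁻¹ H = H by
          conv_lhs => rw [← hσH]
          rw [← cj_mul, inv_mul_cancel, cj_one]]
        rw [hall b hb, ← cj_mul, inv_mul_cancel, cj_one]
      exact hsurj a ha) fun hfx => ⟨_, hH.cj (hnP a ha), hne a hH1, hfx⟩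
  have hmain := fun K (hK : IsHyper Q q K) (hKm : cj σ K ≠ K) =>
    card_le_of_moved hq.out hσ hσQ hfix hQc hcopQ hK hKm
  have hline : ∀ a : A, Nat.card (fixed ψ (cj a H0)) ≤ p := fun a => by
    rw [card_fixed_cj]; exact (hmain H0 hH0 hmv).1.trans hWσ
  -- the orbit of `σ`
  have horb : ∀ K, IsHyper Q q K → fixed ψ K ≠ ⊥ → cj σ K ≠ K → ∃ i < r, K = cj (σ ^ i) H0 :=
    fun K hK hK1 hKm => (hmain H0 hH0 hmv).2 K hK hKm hH01 hK1 (small_fixed ψ σ hW hWσ)
  -- two lines fixed by `σ` coincide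
  have huniq : ∀ K L, IsHyper Q q K → IsHyper Q q L → cj σ K = K → cj σ L = L → fixed ψ K ≠ ⊥ → fixed ψ L ≠ ⊥ →
      Nat.card (fixed ψ K) ≤ p → Nat.card (fixed ψ L) ≤ p → K = L := by
    intro K L hK hL hKσ hLσ hK1 hL1 hKl hLl
    have hcom : ∀ M, IsHyper Q q M → cj σ M = M → fixed ψ M ≠ ⊥ → Nat.card (fixed ψ M) ≤ p →
        ⁅Q, zpowers σ⁆ ≤ M := by
      intro M hM hMσ hM1 hMl
      refine commutator_le.2 fun x hx s hs => ?_
      have hsM : cj s M = M := by
        obtain ⟨i, rfl⟩ := mem_powers_iff_mem_zpowers.2 hs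
        show cj (σ ^ i) M = M
        clear hs
        induction i with
        | zero => rw [pow_zero, cj_one]
        | succ i ih => rw [pow_succ, cj_mul, hMσ, ih]
      have hsQ : s ∈ normalizer (Q : Set A) := zpowers_le.2 hσQ hs
      have hcQ : ⁅x, s⁆ ∈ Q := by
        rw [commutatorElement_def, show x * s * x⁻¹ * s⁻¹ = x * (s * x⁻¹ * s⁻¹) by group]
        exact mul_mem hx ((mem_normalizer_iff.1 hsQ _).1 (inv_mem hx))
      by_contra hc
      obtain ⟨⟨u, hu⟩, hu1⟩ := ne_bot_iff_exists_ne_one.1 hM1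
      refine hu1 (Subtype.ext ?_)
      have hxM : cj x M = M := by
        ext y
        rw [mem_cj]
        refine ⟨fun h => ?_, fun h => ?_⟩
        · have := hQc x hx _ (hM.1 h)
          rw [show x * (x⁻¹ * y * x) = y * x by group] at this
          rwa [← mul_right_cancel this] at h
        · rwa [hQc x⁻¹ (inv_mem hx) y (hM.1 h), inv_mul_cancel_right]
      have hfx : ψ ⁅x, s⁆ u = u := by
        rw [commutatorElement_def, show x * s * x⁻¹ * s⁻¹ = (x * s) * (s * x)⁻¹ by group, map_mul,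
          MulAut.mul_apply]
        have h1 := apply_comm_of_line ψ hW hMl hxM hsM (u := (ψ (s * x)⁻¹) u) (by
          have := apply_mem_fixed (ψ := ψ) (s * x)⁻¹ hu
          rwa [mul_inv_rev, cj_mul, cj_inv_eq hsM, cj_inv_eq hxM, ← mul_inv_rev] at this)
        rw [h1, ← MulAut.mul_apply, ← map_mul, mul_inv_cancel, map_one, MulAut.one_apply]
      have h2 : u ∈ fixed ψ (M ⊔ zpowers ⁅x, s⁆) := fixed_sup hu (mem_fixed_zpowers hfx)
      have hsup : M ⊔ zpowers ⁅x, s⁆ = Q := by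
        have hle : M ⊔ zpowers ⁅x, s⁆ ≤ Q := sup_le hM.1 (zpowers_le.2 hcQ)
        refine eq_of_le_of_card_ge hle ?_
        have hlt : M < M ⊔ zpowers ⁅x, s⁆ := lt_of_le_of_ne le_sup_left fun e => hc
          (e ▸ le_sup_right (α := Subgroup A) (mem_zpowers _))
        rw [← hM.2, mul_comm]
        exact CfsgLib.PGroups.mul_card_le_of_lt (hQ.to_le hle) hlt
      rw [hsup, hfix, mem_bot] at h2
      exact h2
    have hD : ⁅Q, zpowers σ⁆ ≤ K ⊓ L := le_inf (hcom K hK hKσ hK1 hKl) (hcom L hL hLσ hL1 hLl)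
    have hAQ : zpowers σ ≤ normalizer (Q : Set A) := zpowers_le.2 hσQ
    have hcopσ : (Nat.card (zpowers σ)).Coprime (Nat.card Q) := by
      rw [hm, Nat.card_zpowers]
      exact (((Nat.coprime_primes hr.out hq.out).2 hrq).pow_right m).coprime_dvd_left (orderOf_dvd_of_pow_eq_one hσ)
    have hsup : (K ⊓ L) ⊔ (Q ⊓ centralizer (zpowers σ : Set A)) = Q := le_antisymm
      (sup_le (inf_le_left.trans hK.1) inf_le_left) ((CfsgLib.Core.commutator_sup_centralizer hAQ hcopσ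
        (Or.inl inferInstance)).ge.trans (sup_le_sup_right hD _))
    have h1 : Nat.card Q ≤ Nat.card ↥(K ⊓ L) * q := by
      conv_lhs => rw [← hsup, sup_comm]
      refine (Nat.le_of_dvd (mul_pos Nat.card_pos Nat.card_pos) (CfsgLib.Core.card_sup_dvd _ _ ?_)).trans ?_
      · intro c hc
        refine mem_normalizer_iff.2 fun y => ⟨fun hy => ?_, fun hy => ?_⟩
        · rwa [hQc c hc.1 y (hK.1 hy.1), mul_inv_cancel_right]
        · have h2 := hQc c⁻¹ (inv_mem hc.1) _ (hK.1 hy.1)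
          rw [show c⁻¹ * (c * y * c⁻¹) = y * c⁻¹ by group] at h2
          rwa [← mul_right_cancel h2] at hy
      · rw [mul_comm]
        exact Nat.mul_le_mul_left _ (card_fixed_Q_le Q σ hσQ hQσ hQq)
    have hcK : Nat.card K ≤ Nat.card ↥(K ⊓ L) := by
      rw [← hK.2] at h1; exact Nat.le_of_mul_le_mul_right h1 hq.out.pos
    have hcL : Nat.card L ≤ Nat.card ↥(K ⊓ L) := by
      rw [← hL.2] at h1; exact Nat.le_of_mul_le_mul_right h1 hq.out.pos
    rw [← eq_of_le_of_card_ge inf_le_left hcK, eq_of_le_of_card_ge inf_le_right hcL]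
  have hpow : ∀ i : ℕ, σ ^ i ∈ normalizer (Q : Set A) := fun i => pow_mem hσQ i
  have hmvi : ∀ i : ℕ, cj σ (cj (σ ^ i) H0) ≠ cj (σ ^ i) H0 := by
    intro i h
    rw [← cj_mul, ← pow_succ', pow_succ, cj_mul] at h
    exact hmv (by simpa [← cj_mul, cj_one] using congrArg (cj (σ ^ i)⁻¹) h)
  have hinj : Function.Injective fun i : Fin r => cj (σ ^ (i : ℕ)) H0 := by
    have key : ∀ i j : ℕ, i < j → j < r → cj (σ ^ i) H0 ≠ cj (σ ^ j) H0 := by
      intro i j hij hj he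
      rw [show j = i + (j - i) by omega, pow_add, cj_mul] at he
      have he' : cj (σ ^ (j - i)) H0 = H0 := by
        simpa [← cj_mul, cj_one] using (congrArg (cj (σ ^ i)⁻¹) he).symm
      obtain ⟨k, hk⟩ := Nat.exists_mul_mod_eq_one_of_coprime
        ((hr.out.coprime_iff_not_dvd).2 (show ¬ r ∣ j - i from fun h => absurd (Nat.le_of_dvd (by omega) h) (by omega))).symm hr.out.one_lt
      refine hmv ?_
      rw [show σ = (σ ^ (j - i)) ^ k by rw [← pow_mul, pow_eq_pow_mod _ hσ, hk.2, pow_one]]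
      clear hk
      induction k with
      | zero => rw [pow_zero, cj_one]
      | succ k ih => rw [pow_succ, cj_mul, he', ih]
    intro i j h
    rcases lt_trichotomy (i : ℕ) j with h' | h' | h'
    · exact absurd h (key _ _ h' j.2)
    · exact Fin.ext h'
    · exact absurd h.symm (key _ _ h' i.2)
  -- the permutation action
  let : MulAction P (Subgroup A) :=
    { smul := fun a K => cj (a : A) K
      one_smul := cj_one
      mul_smul := fun a b K => cj_mul (a : A) (b : A) K }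
  have hO : ∀ (a : P), IsHyper Q q (a • H0) ∧ fixed ψ (a • H0) ≠ ⊥ ∧ Nat.card (fixed ψ (a • H0)) ≤ p :=
    fun a => ⟨hH0.cj (hnP a a.2), by
      show fixed ψ (cj (a : A) H0) ≠ ⊥
      rw [← Subgroup.one_lt_card_iff_ne_bot] at hH01 ⊢
      rwa [card_fixed_cj], hline a⟩
  by_cases hex : ∃ a : P, cj σ (a • H0) = a • H0
  · obtain ⟨a, ha⟩ := hex
    set H' := cj (a : A) H0 with hH'
    set O := MulAction.orbit P H' with hOdef
    have hOσ : ∀ K ∈ O, ∀ i : ℕ, cj (σ ^ i) K ∈ O := by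
      intro K hK i
      induction i with
      | zero => rwa [pow_zero, cj_one]
      | succ i ih =>
        obtain ⟨b, hb⟩ := ih
        refine ⟨⟨σ * b * σ⁻¹, (mem_normalizer_iff.1 hσP b).1 b.2⟩, ?_⟩
        show cj (σ * b * σ⁻¹) H' = cj (σ ^ (i + 1)) K
        rw [pow_succ', cj_mul σ, ← hb, show σ * (b : A) * σ⁻¹ = σ * ((b : A) * σ⁻¹) by group, cj_mul σ, cj_mul,
          show cj σ⁻¹ H' = H' by
            conv_lhs => rw [← show cj σ H' = H' from ha]
            rw [← cj_mul, inv_mul_cancel, cj_one]]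
        rfl
    have hH0O : H0 ∈ O := ⟨a⁻¹, by
      show cj ((a⁻¹ : P) : A) (cj (a : A) H0) = H0
      rw [← cj_mul, coe_inv, inv_mul_cancel, cj_one]⟩
    have hOeq : O = insert H' (Set.range fun i : Fin r => cj (σ ^ (i : ℕ)) H0) := by
      refine Set.ext fun K => ⟨?_, ?_⟩
      · rintro ⟨b, rfl⟩
        obtain ⟨h1, h2, h3⟩ := hO (b * a)
        have hba : (b * a) • H0 = b • H' := mul_smul b a H0
        rw [hba] at h1 h2 h3
        by_cases hfx : cj σ (b • H') = b • H'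
        · exact Or.inl (huniq _ _ h1 (hO a).1 hfx ha h2 (hO a).2.1 h3 (hline a))
        · obtain ⟨i, hi, he⟩ := horb _ h1 h2 hfx
          exact Or.inr ⟨⟨i, hi⟩, he.symm⟩
      · rintro (rfl | ⟨i, rfl⟩)
        · exact MulAction.mem_orbit_self _
        · exact hOσ _ hH0O _
    have hnot : H' ∉ Set.range fun i : Fin r => cj (σ ^ (i : ℕ)) H0 := by
      rintro ⟨i, hi⟩
      exact hmvi i (by rw [show cj (σ ^ (i : ℕ)) H0 = H' from hi]; exact ha)
    have hcard : O.ncard = r + 1 := by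
      rw [hOeq, Set.ncard_insert_of_notMem hnot (Set.toFinite _), ← Nat.card_coe_set_eq,
        Nat.card_range_of_injective hinj, Nat.card_fin]
    obtain ⟨k, hk⟩ := hP.card_orbit H'
    rw [Nat.card_coe_set_eq, hcard] at hk
    have h1 : Odd (r + 1) := hk ▸ (hp.out.odd_of_ne_two hp2).pow
    exact Nat.not_odd_iff_even.2 ((hr.out.odd_of_ne_two hr2).add_odd odd_one) h1
  · push_neg at hex
    set Ω := Set.range fun i : Fin r => cj (σ ^ (i : ℕ)) H0 with hΩ
    have hinv : ∀ (a : P), ∀ K ∈ Ω, a • K ∈ Ω := by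
      rintro a _ ⟨i, rfl⟩
      set b : P := ⟨(σ ^ (i : ℕ))⁻¹ * a * σ ^ (i : ℕ), by
        have := (mem_normalizer_iff.1 (inv_mem (pow_mem hσP (i : ℕ))) a).1 a.2
        rwa [inv_inv] at this⟩
      obtain ⟨h1, h2, -⟩ := hO b
      obtain ⟨j, hj, he⟩ := horb _ h1 h2 (hex b)
      refine ⟨⟨(i + j) % r, Nat.mod_lt _ hr.out.pos⟩, ?_⟩
      show cj (σ ^ ((i + j) % r)) H0 = cj (a : A) (cj (σ ^ (i : ℕ)) H0)
      rw [← pow_eq_pow_mod _ hσ, pow_add, cj_mul, ← show cj (b : A) H0 = cj (σ ^ j) H0 from he, ← cj_mul, ← cj_mul]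
      congr 1
      show σ ^ (i : ℕ) * ((σ ^ (i : ℕ))⁻¹ * a * σ ^ (i : ℕ)) = a * σ ^ (i : ℕ)
      group
    let : MulAction P Ω :=
      { smul := fun a K => ⟨a • (K : Subgroup A), hinv a K K.2⟩
        one_smul := fun K => Subtype.ext (one_smul P (K : Subgroup A))
        mul_smul := fun a b K => Subtype.ext (mul_smul a b (K : Subgroup A)) }
    have hcard : Nat.card Ω = r := by rw [hΩ, Nat.card_range_of_injective hinj, Nat.card_fin]
    have hndvd : ¬ p ∣ Nat.card Ω := fun h => hrp ((Nat.prime_dvd_prime_iff_eq hp.out hr.out).1 (hcard ▸ h)).symm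
    obtain ⟨⟨K, i, rfl⟩, hKf⟩ := hP.nonempty_fixed_point_of_prime_not_dvd_card Ω hndvd
    -- `P` fixes `H0`
    have hPH : ∀ b ∈ P, cj b H0 = H0 := by
      intro b hb
      have h1 := congrArg Subtype.val (hKf ⟨σ ^ (i : ℕ) * b * (σ ^ (i : ℕ))⁻¹,
        (mem_normalizer_iff.1 (pow_mem hσP _) b).1 hb⟩)
      have h2 : cj (σ ^ (i : ℕ) * b * (σ ^ (i : ℕ))⁻¹) (cj (σ ^ (i : ℕ)) H0) = cj (σ ^ (i : ℕ)) H0 := h1
      rw [← cj_mul, inv_mul_cancel_right, cj_mul] at h2
      simpa [← cj_mul, cj_one] using congrArg (cj (σ ^ (i : ℕ))⁻¹) h2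
    -- so it acts trivially on the line
    have hle : ⁅Q, P⁆ ≤ H0 := commutator_le.2 fun x hx b hb => by
      by_contra hc
      obtain ⟨⟨u, hu⟩, hu1⟩ := ne_bot_iff_exists_ne_one.1 hH01
      refine hu1 (Subtype.ext ?_)
      have hxM : cj x H0 = H0 := by
        ext y
        rw [mem_cj]
        refine ⟨fun h => ?_, fun h => ?_⟩
        · have := hQc x hx _ (hH0.1 h)
          rw [show x * (x⁻¹ * y * x) = y * x by group] at this
          rwa [← mul_right_cancel this] at h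
        · rwa [hQc x⁻¹ (inv_mem hx) y (hH0.1 h), inv_mul_cancel_right]
      have hbM := hPH b hb
      have hl0 : Nat.card (fixed ψ H0) ≤ p := (hmain H0 hH0 hmv).1.trans hWσ
      have hfx : ψ ⁅x, b⁆ u = u := by
        rw [commutatorElement_def, show x * b * x⁻¹ * b⁻¹ = (x * b) * (b * x)⁻¹ by group, map_mul,
          MulAut.mul_apply]
        have h1 := apply_comm_of_line ψ hW hl0 hxM hbM (u := (ψ (b * x)⁻¹) u) (by
          have := apply_mem_fixed (ψ := ψ) (b * x)⁻¹ hu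
          rwa [mul_inv_rev, cj_mul, cj_inv_eq hbM, cj_inv_eq hxM, ← mul_inv_rev] at this)
        rw [h1, ← MulAut.mul_apply, ← map_mul, mul_inv_cancel, map_one, MulAut.one_apply]
      have h2 : u ∈ fixed ψ (H0 ⊔ zpowers ⁅x, b⁆) := fixed_sup hu (mem_fixed_zpowers hfx)
      have hcQ : ⁅x, b⁆ ∈ Q := hQP.le (commutator_mem_commutator hx hb)
      have hsup : H0 ⊔ zpowers ⁅x, b⁆ = Q := by
        have hle : H0 ⊔ zpowers ⁅x, b⁆ ≤ Q := sup_le hH0.1 (zpowers_le.2 hcQ)
        refine eq_of_le_of_card_ge hle ?_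
        have hlt : H0 < H0 ⊔ zpowers ⁅x, b⁆ := lt_of_le_of_ne le_sup_left fun e => hc
          (e ▸ le_sup_right (α := Subgroup A) (mem_zpowers _))
        rw [← hH0.2, mul_comm]
        exact CfsgLib.PGroups.mul_card_le_of_lt (hQ.to_le hle) hlt
      rw [hsup, hfix, mem_bot] at h2
      exact h2
    have h1 := card_le_of_le (hQP.ge.trans hle)
    rw [← hH0.2] at h1
    exact absurd h1 (not_le.2 (lt_mul_of_one_lt_right (Nat.card_pos) hq.out.one_lt))

include hW hQ hP hpq hrp hrq hσ hσ1 hPQ hσQ hσP hPσ hQP hQσ hWσ hchar in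
/-- The nonabelian case. -/
theorem nonabelian_case (hna : ¬ IsMulCommutative Q) (hq2 : q ≠ 2) (hr2 : r ≠ 2) : False := by
  have hcentral : ∀ Y ≤ Q, normalizer (Q : Set A) ≤ normalizer (Y : Set A) → Y ≠ Q →
      ∀ y ∈ Y, ∀ x ∈ Q, x * y = y * x := by
    intro Y hYQ hYn hY y hy x hx
    have hPY := (hchar Y hYQ hYn).1 hY
    have h1 : ⁅⁅Q, Y⁆, P⁆ = ⊥ := eq_bot_iff.2 (commutator_le.2 fun c hc a ha => mem_bot.2
      (commutatorElement_eq_one_iff_mul_comm.2 (mem_centralizer_iff.1 (hPY ha) c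
        (le_normalizer_iff_commutator_le_right.1 (le_normalizer.trans hYn) hc))))
    have h2 : ⁅⁅Y, P⁆, Q⁆ = ⊥ := by
      rw [show ⁅Y, P⁆ = ⊥ from eq_bot_iff.2 (commutator_le.2 fun c hc a ha => mem_bot.2
        (commutatorElement_eq_one_iff_mul_comm.2 (mem_centralizer_iff.1 (hPY ha) c hc))), commutator_bot_left]
    have h3 := commutator_commutator_eq_bot_of_rotate h1 h2
    rw [commutator_comm P Q, hQP] at h3
    exact commutatorElement_eq_one_iff_mul_comm.1 (mem_bot.1 (h3 ▸ commutator_mem_commutator hx hy))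
  have : Nontrivial Q := by
    by_contra h
    exact hna ⟨⟨fun a b => (not_nontrivial_iff_subsingleton.1 h).elim _ _⟩⟩
  set Zc := (center Q).map Q.subtype with hZdef
  have hZQ : Zc ≤ Q := map_subtype_le _
  have hcent : ∀ z : Q, (∀ x ∈ Q, x * z = z * x) → z ∈ center Q := fun z h =>
    mem_center_iff.2 fun x => Subtype.ext (h x x.2)
  have hne_top : ∀ Y : Subgroup Q, Y ≠ ⊤ → Y.map Q.subtype ≠ Q := fun Y hY h => hY <|
    Subgroup.map_injective Q.subtype_injective (h.trans (by rw [← MonoidHom.range_eq_map, range_subtype]))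
  have hΦc : frattini Q ≤ center Q := fun z hz => hcent z (hcentral _ (map_subtype_le _)
    (normalizer_le_char Q (frattini Q)) (hne_top _ CfsgLib.PGroups.frattini_ne_top) _ (mem_map_of_mem _ hz))
  have hDc : _root_.commutator Q ≤ center Q := (CfsgLib.PGroups.commutator_le_frattini' hQ).trans hΦc
  have hpc : ∀ x : Q, x ^ q ∈ center Q := fun x => hΦc (CfsgLib.PGroups.pow_mem_frattini hQ x)
  have hcomm : ∀ x y : Q, ⁅x, y⁆ ∈ center Q := fun x y => hDc (commutator_mem_commutator (mem_top x) (mem_top y))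
  have hne : center Q ≠ ⊤ := fun h => hna ⟨⟨fun a b => mem_center_iff.1 (h ▸ mem_top b) a⟩⟩
  have hZn := normalizer_le_char Q (center Q)
  have hPZ : ∀ a ∈ P, ∀ z ∈ Zc, a * z = z * a := fun a ha z hz =>
    (mem_centralizer_iff.1 ((hchar Zc hZQ hZn).1 (hne_top _ hne) ha) z hz).symm
  have hQZ : ∀ x ∈ Q, ∀ z ∈ Zc, x * z = z * x := by
    rintro x hx _ ⟨z, hz, rfl⟩
    exact congrArg Subtype.val (mem_center_iff.1 hz ⟨x, hx⟩)
  -- exponent `q`
  let π : Q →* Q := MonoidHom.mk' (fun x => x ^ q) fun x y => by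
    have h1 : ⁅y ^ q, x⁆ = 1 := commutatorElement_eq_one_iff_mul_comm.2 (mem_center_iff.1 (hpc y) x).symm
    rw [CfsgLib.PGroups.comm_pow_left_of_central (hcomm y x) q] at h1
    exact CfsgLib.PGroups.mul_pow_of_central_odd (hcomm y x) (hq.out.odd_of_ne_two hq2) h1
  have hexp : ∀ x ∈ Q, x ^ q = 1 := by
    suffices h : ⁅Q, P⁆ ≤ π.ker.map Q.subtype by
      intro x hx
      obtain ⟨y, hy, rfl⟩ := h (hQP.ge hx)
      exact congrArg Subtype.val (MonoidHom.mem_ker.1 hy : y ^ q = 1)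
    refine commutator_le.2 fun x hx a ha => ?_
    have hy : a * x⁻¹ * a⁻¹ ∈ Q := (mem_normalizer_iff.1 (hPQ ha) _).1 (inv_mem hx)
    refine ⟨⟨x, hx⟩ * ⟨_, hy⟩, ?_, by simp [commutatorElement_def, mul_assoc]⟩
    rw [SetLike.mem_coe, MonoidHom.mem_ker, map_mul]
    show (⟨x, hx⟩ : Q) ^ q * (⟨_, hy⟩ : Q) ^ q = 1
    refine Subtype.ext ?_
    show x ^ q * (a * x⁻¹ * a⁻¹) ^ q = 1
    have hxZ : x ^ q ∈ Zc := ⟨_, hpc ⟨x, hx⟩, by simp⟩
    rw [conj_pow, inv_pow, hPZ a ha _ (inv_mem hxZ), mul_inv_cancel_right, mul_inv_cancel]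
  have hZc : ∀ a ∈ Zc, ∀ b ∈ Zc, a * b = b * a := fun a ha b hb => hQZ a (hZQ ha) b hb
  have hZq : ∀ z ∈ Zc, z ^ q = 1 := fun z hz => hexp z (hZQ hz)
  have hZ1 : Zc ≠ ⊥ := fun h => (Subgroup.nontrivial_iff_ne_bot (center Q)).1 hQ.center_nontrivial
    ((map_eq_bot_iff_of_injective _ Q.subtype_injective).1 h)
  have hfix : fixed ψ Zc = ⊥ := (hchar Zc hZQ hZn).2 hZ1
  have hfixD : fixed ψ ((_root_.commutator Q).map Q.subtype) = ⊥ :=
    (hchar _ (map_subtype_le _) (normalizer_le_char Q _)).2 fun h => hna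
      ((commutator_eq_bot_iff Q).1 ((map_eq_bot_iff_of_injective _ Q.subtype_injective).1 h))
  -- the centraliser of `P`
  obtain ⟨m, hm⟩ := IsPGroup.iff_card.1 hQ
  obtain ⟨mp, hmp⟩ := IsPGroup.iff_card.1 hP
  have hcopqp : (q ^ m).Coprime (p ^ mp) := (((Nat.coprime_primes hq.out hp.out).2 hpq.symm).pow m mp)
  have hCP : ∀ x ∈ Q, (∀ a ∈ P, a * x = x * a) → x ∈ Zc := by
    intro x hx hax
    let θ : P →* MulAut Q := Q.normalizerMonoidHom.comp (inclusion hPQ)
    refine ⟨⟨x, hx⟩, RankTwoNoFixed.mem_of_fixed hQ (ψ := θ) ?_ ?_ (center Q) ?_ ?_ ?_, rfl⟩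
    · rw [hmp]
      exact ((Nat.coprime_primes hp.out hq.out).2 hpq).pow_left mp
    · intro N hNn hNi hNd
      refine eq_top_iff.2 fun y _ => ?_
      have hle : ⁅Q, P⁆ ≤ N.map Q.subtype := commutator_le.2 fun z hz a ha => by
        have hz' : a * z⁻¹ * a⁻¹ ∈ Q := (mem_normalizer_iff.1 (hPQ ha) _).1 (inv_mem hz)
        refine ⟨_, hNd ⟨a, ha⟩ ⟨z⁻¹, inv_mem hz⟩, ?_⟩
        show (z⁻¹)⁻¹ * (a * z⁻¹ * a⁻¹) = _
        rw [commutatorElement_def]; group
      obtain ⟨y', hy', he⟩ := hle (hQP.ge y.2)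
      exact Subtype.ext he ▸ hy'
    · intro a z hz
      refine hcent _ fun u hu => ?_
      obtain ⟨z', hz'⟩ : ∃ z', z' = (θ a z : Q) := ⟨_, rfl⟩
      have h1 : ((θ a z : Q) : A) = z := by
        show (a : A) * z * (a : A)⁻¹ = z
        rw [hPZ a a.2 (z : A) (mem_map_of_mem Q.subtype hz), mul_inv_cancel_right]
      rw [h1]
      exact hQZ u hu _ (mem_map_of_mem Q.subtype hz)
    · exact ⟨⟨fun u v => QuotientGroup.induction_on u fun u => QuotientGroup.induction_on v fun v =>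
        QuotientGroup.eq.2 (hDc (by
          rw [show (u * v)⁻¹ * (v * u) = ⁅v⁻¹, u⁻¹⁆ by rw [commutatorElement_def]; group]
          exact commutator_mem_commutator (mem_top _) (mem_top _)))⟩⟩
    · intro a
      rw [show θ a ⟨x, hx⟩ = ⟨x, hx⟩ from Subtype.ext (by
        show (a : A) * x * (a : A)⁻¹ = x
        rw [hax a a.2, mul_inv_cancel_right]), inv_mul_cancel]
      exact one_mem _
  -- the formula
  have hord : orderOf σ = r := orderOf_eq_prime hσ hσ1
  have hEcard : Nat.card (zpowers σ) = r := by rw [Nat.card_zpowers, hord]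
  have hUE : P ⊓ zpowers σ = ⊥ := Subgroup.inf_eq_bot_of_coprime (by
    rw [hmp, hEcard]; exact ((Nat.coprime_primes hp.out hr.out).2 hrp.symm).pow_left mp)
  have hEP : zpowers σ ≤ normalizer (P : Set A) := zpowers_le.2 hσP
  have hPE : P ⊔ zpowers σ ≤ normalizer (Q : Set A) := sup_le hPQ (zpowers_le.2 hσQ)
  have hf := CfsgLib.FrobFix.formula_subgroup P (zpowers σ) Q hUE
    (fun e he u hu => (mem_normalizer_iff.1 (hEP he) u).1 hu)
    (fun e he he1 u hu hc => by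
      refine hPσ u hu ?_
      obtain ⟨i, hi⟩ := Submonoid.mem_powers_iff _ _ |>.1 (mem_powers_of_prime_card (G := zpowers σ) hEcard
        (g := ⟨e, he⟩) (fun h => he1 (congrArg Subtype.val h)) (g' := ⟨σ, mem_zpowers σ⟩))
      rw [← show e ^ i = σ from congrArg Subtype.val hi]
      exact ((show Commute e u from hc).pow_left i).eq)
    (fun x hx h hh => (mem_normalizer_iff.1 (hPE hx) h).1 hh)
    (have := hQ.isNilpotent; inferInstance) (by
      rw [hm, sup_comm]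
      refine Nat.Coprime.coprime_dvd_right (CfsgLib.Core.card_sup_dvd (zpowers σ) P hEP) ?_
      rw [hEcard, hmp]
      exact Nat.Coprime.mul_right (((Nat.coprime_primes hq.out hr.out).2 hrq.symm).pow_left m) hcopqp)
  have hCQP : Q ⊓ centralizer (P : Set A) = Zc := le_antisymm
    (fun x hx => hCP x hx.1 fun a ha => mem_centralizer_iff.1 hx.2 a ha)
    fun z hz => ⟨hZQ hz, mem_centralizer_iff.2 fun a ha => hPZ a ha z hz⟩
  have hc_le := card_fixed_Q_le Q σ hσQ hQσ hexp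
  rw [hCQP, hEcard] at hf
  set C := Q ⊓ centralizer (zpowers σ : Set A) with hC
  set C0 := Q ⊓ centralizer ((P ⊔ zpowers σ : Subgroup A) : Set A) with hC0
  have hC0C : C0 ≤ C := inf_le_inf_left _ (centralizer_le (le_sup_right : zpowers σ ≤ P ⊔ zpowers σ))
  obtain ⟨j, hj⟩ := IsPGroup.iff_card.1 (hQ.to_le (inf_le_left : C ≤ Q))
  obtain ⟨j0, hj0⟩ := IsPGroup.iff_card.1 (hQ.to_le (inf_le_left : C0 ≤ Q))
  have hQZlt : Nat.card Zc < Nat.card Q := by
    refine lt_of_le_of_ne (card_le_of_le hZQ) fun h => hne_top _ hne (eq_of_le_of_card_ge hZQ h.ge)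
  have hj1 : j ≤ 1 := (Nat.pow_le_pow_iff_right hq.out.one_lt).1 (by rw [← hj, pow_one]; exact hc_le)
  have hj01 : j0 ≤ j := (Nat.pow_le_pow_iff_right hq.out.one_lt).1 (by rw [← hj, ← hj0]; exact card_le_of_le hC0C)
  rw [hj, hj0, ← pow_mul, ← pow_mul] at hf
  obtain ⟨rfl, rfl⟩ : j = 1 ∧ j0 = 0 := by
    rcases (show (j0 = j) ∨ (j = 1 ∧ j0 = 0) by omega) with h | h
    · rw [h] at hf
      exact absurd (Nat.eq_of_mul_eq_mul_left (pow_pos hq.out.pos _) hf) hQZlt.ne'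
    · exact h
  rw [zero_mul, pow_zero, one_mul, one_mul] at hf
  have hσZ : ∀ z ∈ Zc, σ * z = z * σ → z = 1 := by
    intro z hz hc
    have h1 : z ∈ C0 := by
      refine ⟨hZQ hz, ?_⟩
      rw [← SetLike.mem_coe] at *
      refine mem_centralizer_iff.2 fun e he => ?_
      have hle : P ⊔ zpowers σ ≤ centralizer ({z} : Set A) := sup_le
        (fun a ha => mem_centralizer_singleton_iff.2 (hPZ a ha z hz))
        (zpowers_le.2 (mem_centralizer_singleton_iff.2 hc))
      exact mem_centralizer_singleton_iff.1 (hle he)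
    rw [pow_zero] at hj0
    exact mem_bot.1 (card_eq_one.1 hj0 ▸ h1)
  have hσn : σ ∈ normalizer (Zc : Set A) := hZn hσQ
  have hcopW : ∀ u : W, u ^ q = 1 → u = 1 := fun u h => pow_card_eq_one hW hpq (n := 1) (by rwa [pow_one])
  obtain ⟨mz, hmz⟩ := IsPGroup.iff_card.1 (hQ.to_le hZQ)
  have hcopZ : ∀ u : W, u ^ Nat.card Zc = 1 → u = 1 := fun u h => pow_card_eq_one hW hpq (n := mz) (hmz ▸ h)
  -- every component meets the fixed points of `σ`
  have hcomp : ∀ H, IsHyper Zc q H → fixed ψ H ≠ ⊥ → ∃ u ∈ fixed ψ H, ψ σ u = u ∧ u ≠ 1 := by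
    intro H hH hH1
    have hQH : ∀ x ∈ Q, cj x H = H := fun x hx => by
      ext y
      rw [mem_cj]
      refine ⟨fun h => ?_, fun h => ?_⟩
      · have := hQZ x hx _ (hH.1 h)
        rw [show x * (x⁻¹ * y * x) = y * x by group] at this
        rwa [← mul_right_cancel this] at h
      · rwa [hQZ x⁻¹ (inv_mem hx) y (hH.1 h), inv_mul_cancel_right]
    have hσH : cj σ H = H := by
      by_contra hmv
      have hl : Nat.card (fixed ψ H) ≤ p := (card_le_of_moved hq.out hσ hσn hfix hZc hcopZ hH hmv).1.trans hWσ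
      obtain ⟨⟨u, hu⟩, hu1⟩ := ne_bot_iff_exists_ne_one.1 hH1
      refine hu1 (Subtype.ext ?_)
      have hmem : u ∈ fixed ψ ((_root_.commutator Q).map Q.subtype) := by
        refine mem_fixed.2 ?_
        rw [map_le_iff_le_comap, _root_.commutator_def, commutator_le]
        intro x _ y _
        show ψ ((⁅x, y⁆ : Q) : A) u = u
        rw [show ((⁅x, y⁆ : Q) : A) = ((x : A) * y) * ((y : A) * x)⁻¹ by
          rw [show ((⁅x, y⁆ : Q) : A) = ⁅(x : A), (y : A)⁆ from rfl, commutatorElement_def]; group, map_mul,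
          MulAut.mul_apply]
        have h1 := apply_comm_of_line ψ hW hl (hQH x x.2) (hQH y y.2) (u := (ψ ((y : A) * x)⁻¹) u) (by
          have := apply_mem_fixed (ψ := ψ) ((y : A) * x)⁻¹ hu
          rwa [mul_inv_rev, cj_mul, cj_inv_eq (hQH y y.2), cj_inv_eq (hQH x x.2), ← mul_inv_rev] at this)
        rw [h1, ← MulAut.mul_apply, ← map_mul, mul_inv_cancel, map_one, MulAut.one_apply]
      rwa [hfixD, mem_bot] at hmem
    obtain ⟨z0, hz0, hz0H⟩ : ∃ z ∈ Zc, z ∉ H := SetLike.not_le_iff_exists.1 fun h => by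
      have h1 := hH.2
      rw [le_antisymm hH.1 h] at h1
      exact absurd h1 (lt_mul_of_one_lt_right Nat.card_pos hq.out.one_lt).ne'
    have hz0n : zpowers z0 ≤ normalizer (H : Set A) := zpowers_le.2 (mem_normalizer_iff.2 fun x => by
      have := hQH z0 (hZQ hz0)
      have h1 := mem_cj (a := z0) (H := H) (x := z0 * x * z0⁻¹)
      rw [this] at h1
      rw [h1, show z0⁻¹ * (z0 * x * z0⁻¹) * z0 = x by group])
    have hgen : H ⊔ zpowers z0 = Zc := by
      refine eq_of_le_of_card_ge (sup_le hH.1 (zpowers_le.2 hz0)) ?_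
      have hlt : H < H ⊔ zpowers z0 := lt_of_le_of_ne le_sup_left fun e => hz0H
        (e ▸ le_sup_right (α := Subgroup A) (mem_zpowers z0))
      rw [← hH.2, mul_comm]
      exact CfsgLib.PGroups.mul_card_le_of_lt (hQ.to_le ((sup_le hH.1 (zpowers_le.2 hz0)).trans hZQ)) hlt
    obtain ⟨h0, hh0, b, hb, he⟩ : ∃ h ∈ H, ∃ b ∈ zpowers z0, h * b = σ * z0 * σ⁻¹ := by
      have h1 : σ * z0 * σ⁻¹ ∈ H ⊔ zpowers z0 := hgen.symm ▸ (mem_normalizer_iff.1 hσn z0).1 hz0
      obtain ⟨h, hh, b, hb, he⟩ := (CfsgLib.OddLocal.mem_sup_of_le_normalizer hz0n).1 h1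
      exact ⟨h, hh, b, hb, he.symm⟩
    obtain ⟨n, rfl⟩ := mem_powers_iff_mem_zpowers.2 hb
    have hn : ((n : ZMod q)) ≠ 1 := by
      intro hn
      have hz : (fun i : ℕ => z0 ^ i) n = z0 := by
        show z0 ^ n = z0
        conv_rhs => rw [← pow_one z0]
        rw [pow_eq_pow_mod n (hZq z0 hz0), pow_eq_pow_mod 1 (hZq z0 hz0)]
        rw [← Nat.cast_one, ZMod.natCast_eq_natCast_iff'] at hn
        rw [hn]
      rw [hz] at he
      obtain ⟨w, hw, hwc⟩ := CfsgLib.Core.exists_centralizing_in_coset (A := zpowers σ) (N := H) (k := z0)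
        (zpowers_le.2 (mem_normalizer_iff.2 fun x => by
          have h1 := mem_cj (a := σ) (H := H) (x := σ * x * σ⁻¹)
          rw [hσH] at h1
          rw [h1, show σ⁻¹ * (σ * x * σ⁻¹) * σ = x by group]))
        (by
          rw [hEcard]
          exact (((Nat.coprime_primes hr.out hq.out).2 hrq).pow_right mz).coprime_dvd_right
            (hmz ▸ card_dvd_of_le hH.1))
        (Or.inl inferInstance) (fun a ha => by
          obtain ⟨i, rfl⟩ := mem_powers_iff_mem_zpowers.2 ha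
          show z0⁻¹ * (σ ^ i * z0 * (σ ^ i)⁻¹) ∈ H
          clear ha
          induction i with
          | zero => simpa using one_mem H
          | succ i ih =>
            have h1 : z0⁻¹ * (σ * z0 * σ⁻¹) ∈ H := by
              rw [← he, hZc h0 (hH.1 hh0) z0 hz0, inv_mul_cancel_left]
              exact hh0
            have h2 : σ * (z0⁻¹ * (σ ^ i * z0 * (σ ^ i)⁻¹)) * σ⁻¹ ∈ H := by
              rw [← hσH, mem_cj]
              convert ih using 1
              group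
            have h3 := mul_mem h1 h2
            rw [show z0⁻¹ * (σ * z0 * σ⁻¹) * (σ * (z0⁻¹ * (σ ^ i * z0 * (σ ^ i)⁻¹)) * σ⁻¹) =
              z0⁻¹ * (σ ^ (i + 1) * z0 * (σ ^ (i + 1))⁻¹) by rw [pow_succ']; group] at h3
            exact h3)
      refine hz0H ?_
      have h1 := hσZ _ (mul_mem hz0 (hH.1 hw)) (mem_centralizer_iff.1 hwc σ (mem_zpowers σ))
      rw [show z0 = z0 * w * w⁻¹ by group, h1, one_mul]
      exact inv_mem hw
    -- restrict to the component
    have hUz : ∀ u ∈ fixed ψ H, ψ z0 u ∈ fixed ψ H := fun u hu => by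
      have := apply_mem_fixed (ψ := ψ) z0 hu
      rwa [hQH z0 (hZQ hz0)] at this
    have hUs : ∀ u ∈ fixed ψ H, ψ σ u ∈ fixed ψ H := fun u hu => by
      have := apply_mem_fixed (ψ := ψ) σ hu
      rwa [hσH] at this
    let rest : ∀ a : A, (∀ u ∈ fixed ψ H, ψ a u ∈ fixed ψ H) → MulAut (fixed ψ H) := fun a ha =>
      MulEquiv.ofBijective (((ψ a).toMonoidHom.comp (fixed ψ H).subtype).codRestrict _ fun u => ha u u.2)
        (Finite.injective_iff_bijective.1 fun u v h => Subtype.ext ((ψ a).injective (congrArg Subtype.val h)))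
    have hrest : ∀ (a : A) (ha) (k : ℕ) (u : fixed ψ H), ((((rest a ha) ^ k) u : fixed ψ H) : W) = ψ (a ^ k) u := by
      intro a ha k
      induction k with
      | zero => intro u; simp
      | succ k ih =>
        intro u
        rw [pow_succ, MulAut.mul_apply, ih, pow_succ a, map_mul, MulAut.mul_apply]
        rfl
    by_contra! hno
    obtain ⟨u, hu1⟩ := ne_bot_iff_exists_ne_one.1 hH1
    refine hu1 (eq_one_of_semidirect hq.out (r := r) (rest z0 hUz) (rest σ hUs) n ?_ ?_ ?_ hn ?_ ?_ ?_ u)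
    · exact MulEquiv.ext fun v => Subtype.ext (by rw [hrest, hZq z0 hz0, map_one]; rfl)
    · exact MulEquiv.ext fun v => Subtype.ext (by rw [hrest, hσ, map_one]; rfl)
    · refine mul_inv_eq_iff_eq_mul.2 (MulEquiv.ext fun v => Subtype.ext ?_)
      show ψ σ (ψ z0 (v : W)) = ((((rest z0 hUz) ^ n) (rest σ hUs v) : fixed ψ H) : W)
      rw [hrest]
      show ψ σ (ψ z0 (v : W)) = ψ (z0 ^ n) (ψ σ (v : W))
      rw [← MulAut.mul_apply, ← map_mul, show σ * z0 = h0 * (z0 ^ n) * σ by rw [he]; group, map_mul, map_mul,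
        MulAut.mul_apply, MulAut.mul_apply]
      refine (?_ : ψ (z0 ^ n) (ψ σ (v : W)) ∈ fixed ψ H) h0 hh0
      have hm : ψ σ (v : W) ∈ fixed ψ H := hUs v v.2
      have := apply_mem_fixed (ψ := ψ) (z0 ^ n) hm
      rwa [hQH _ (pow_mem (hZQ hz0) n)] at this
    · exact fun v hv => Subtype.ext (hcopW v (congrArg Subtype.val hv))
    · intro v hv
      refine Subtype.ext ?_
      have h1 := fixed_sup (ψ := ψ) v.2 (mem_fixed_zpowers (congrArg Subtype.val hv : ψ z0 (v : W) = v))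
      rwa [hgen, hfix, mem_bot] at h1
    · intro v hv
      exact Subtype.ext (hno v v.2 (congrArg Subtype.val hv))
  -- a component
  obtain ⟨H, hH, hH1⟩ := exists_component hq.out hZc hZq hcopW hfix ⊤ top_ne_bot fun _ _ _ _ => mem_top _
  rw [top_inf_eq] at hH1
  obtain ⟨u, hu, huσ, hu1⟩ := hcomp H hH hH1
  have hHb : H = ⊥ := by
    by_contra hHne
    obtain ⟨⟨h, hh⟩, hh1⟩ := ne_bot_iff_exists_ne_one.1 hHne
    have hh1' : h ≠ 1 := fun e => hh1 (Subtype.ext e)
    let δ : W →* W := MonoidHom.mk' (fun w => ψ h w * w⁻¹) fun v w => by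
      simp only [map_mul, mul_inv_rev]
      ac_rfl
    have hδ : δ.range ≠ ⊥ := by
      intro hb
      have hker : ∀ w, ψ h w = w := fun w => mul_inv_eq_one.1 (mem_bot.1 (hb ▸ ⟨w, rfl⟩ : δ w ∈ (⊥ : Subgroup W)))
      have hKn : normalizer (Q : Set A) ≤ normalizer ((Zc ⊓ ψ.ker : Subgroup A) : Set A) := by
        intro g hg
        refine mem_normalizer_iff.2 fun x => ?_
        simp only [mem_inf, SetLike.mem_coe, MonoidHom.mem_ker, map_mul, map_inv, mul_inv_eq_one, mul_eq_left]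
        exact and_congr ((mem_normalizer_iff.1 (hZn hg)) x) Iff.rfl
      have hfk := (hchar (Zc ⊓ ψ.ker) (inf_le_left.trans hZQ) hKn).2 fun e => hh1' (mem_bot.1 (e ▸
        ⟨hH.1 hh, MonoidHom.mem_ker.2 (MulEquiv.ext hker)⟩))
      obtain ⟨w, hw⟩ := exists_ne (1 : W)
      refine hw (mem_bot.1 (hfk ▸ ?_))
      intro k hk
      rw [MonoidHom.mem_ker.1 hk.2, MulAut.one_apply]
    obtain ⟨H2, hH2, hH21⟩ := exists_component hq.out hZc hZq hcopW hfix δ.range hδ (by
      rintro z hz _ ⟨w, rfl⟩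
      refine ⟨ψ z w, ?_⟩
      show ψ h (ψ z w) * (ψ z w)⁻¹ = ψ z (ψ h w * w⁻¹)
      rw [map_mul, map_inv, ← MulAut.mul_apply, ← map_mul, hZc h (hH.1 hh) z hz, map_mul, MulAut.mul_apply])
    have hne2 : H2 ≠ H := by
      rintro rfl
      obtain ⟨⟨v, ⟨w, rfl⟩, hvf⟩, hv1⟩ := ne_bot_iff_exists_ne_one.1 hH21
      refine hv1 (Subtype.ext (hcopW _ ?_))
      have hv' : ψ h (δ w) = δ w := hvf h hh
      have hk : ∀ k : ℕ, ψ (h ^ k) w = δ w ^ k * w := by
        intro k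
        induction k with
        | zero => simp
        | succ k ih =>
          rw [pow_succ', map_mul, MulAut.mul_apply, ih, map_mul, map_pow, hv', pow_succ, mul_assoc]
          congr 1
          show ψ h w = ψ h w * w⁻¹ * w
          group
      have := hk q
      rw [hZq h (hH.1 hh), map_one, MulAut.one_apply] at this
      exact mul_eq_right.1 this.symm
    have hH2' : fixed ψ H2 ≠ ⊥ := fun e => hH21 (by rw [e, inf_bot_eq])
    obtain ⟨v, hv, hvσ, hv1⟩ := hcomp H2 hH2 hH2'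
    rcases small_fixed ψ σ hW hWσ with hpr | hle
    · have := Fact.mk hpr
      obtain ⟨k, hk⟩ := Submonoid.mem_powers_iff _ _ |>.1 (mem_powers_of_prime_card (G := fixed ψ (zpowers σ)) rfl
        (g := ⟨u, mem_fixed_zpowers huσ⟩) (fun e => hu1 (congrArg Subtype.val e)) (g' := ⟨v, mem_fixed_zpowers hvσ⟩))
      have hk' : u ^ k = v := congrArg Subtype.val hk
      have hv' : v ∈ fixed ψ H := hk' ▸ pow_mem hu k
      exact hv1 (eq_one_of_two hq.out hfix hH2 hH hne2 hv hv')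
    · exact hu1 (congrArg Subtype.val ((Finite.card_le_one_iff_subsingleton.1 hle).elim
        (⟨u, mem_fixed_zpowers huσ⟩ : fixed ψ (zpowers σ)) 1))
  have hZq' : Nat.card Zc = q := by rw [← hH.2, hHb, card_bot, one_mul]
  have hext : Cfsg.IsExtraspecial q Q := CfsgLib.PGroups.isExtraspecial_of hQ hna
    (by rw [← card_map_of_injective (K := center Q) Q.subtype_injective]; exact hZq') hDc hpc
  obtain ⟨n, -, hn, -⟩ := CfsgLib.PGroups.IsExtraspecial.exists_card hext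
  have hf' : Nat.card Q = q ^ r * q := by rw [hf, hZq']
  rw [hn, ← pow_succ] at hf'
  have h1 := Nat.pow_right_injective hq.out.two_le hf'
  obtain ⟨k, hk⟩ := hr.out.odd_of_ne_two hr2
  omega

include hW hQ hP hp2 hpq hrp hrq hσ hσ1 hPQ hσQ hσP hPσ hQP hQ1 hQσ hWσ hchar in
/-- No such configuration exists. -/
theorem endgame (hq2 : q ≠ 2) (hr2 : r ≠ 2) : False := by
  by_cases hc : IsMulCommutative Q
  swap
  · exact nonabelian_case ψ Q P σ hW hQ hP hpq hrp hrq hσ hσ1 hPQ hσQ hσP hPσ hQP hQσ hWσ hchar hc hq2 hr2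
  have hQc : ∀ a ∈ Q, ∀ b ∈ Q, a * b = b * a := fun a ha b hb =>
    congrArg Subtype.val (hc.is_comm.comm (⟨a, ha⟩ : Q) ⟨b, hb⟩)
  refine abelian_case ψ Q P σ hW hQ hP hp2 hpq hrp hrq hσ hPQ hσQ hσP hPσ hQP hQ1 hQσ hWσ hchar hQc ?_ hr2
  let Y : Subgroup A :=
    { carrier := {x | x ∈ Q ∧ x ^ q = 1}
      one_mem' := ⟨one_mem Q, one_pow q⟩
      mul_mem' := fun {a b} ha hb => ⟨mul_mem ha.1 hb.1, by
        rw [(show Commute a b from hQc a ha.1 b hb.1).mul_pow, ha.2, hb.2, one_mul]⟩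
      inv_mem' := fun {a} ha => ⟨inv_mem ha.1, by rw [inv_pow, ha.2, inv_one]⟩ }
  have hYn : normalizer (Q : Set A) ≤ normalizer (Y : Set A) := fun g hg => mem_normalizer_iff.2 fun x => by
    show x ∈ Q ∧ x ^ q = 1 ↔ g * x * g⁻¹ ∈ Q ∧ (g * x * g⁻¹) ^ q = 1
    rw [conj_pow, mul_inv_eq_one, mul_eq_left]
    exact and_congr ((mem_normalizer_iff.1 hg) x) Iff.rfl
  by_cases hY : Y = Q
  · exact fun x hx => (hY.ge hx).2
  exfalso
  have hPY := (hchar Y (fun x hx => hx.1) hYn).1 hY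
  have hPfix : ∀ a ∈ P, ∀ x ∈ Q, a * x * a⁻¹ = x := by
    intro a ha x hx
    obtain ⟨k, hk⟩ := IsPGroup.iff_card.1 hP
    have h1 := CfsgLib.Transfer.eq_one_of_fixes_order_p hq2 (Nat.card Q) Q le_rfl hQ
      (Q.normalizerMonoidHom ⟨a, hPQ ha⟩) (p ^ k) (((Nat.coprime_primes hp.out hq.out).2 hpq).pow_left k)
      (by
        rw [← map_pow, ← map_one Q.normalizerMonoidHom]
        refine congrArg _ (Subtype.ext ?_)
        show a ^ p ^ k = 1
        rw [← hk]; exact pow_card_eq_one_of_mem ha)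
      fun y hy => Subtype.ext (by
        show a * y * a⁻¹ = y
        rw [← mem_centralizer_iff.1 (hPY ha) y ⟨y.2, congrArg Subtype.val hy⟩, mul_inv_cancel_right])
    exact congrArg Subtype.val (DFunLike.congr_fun h1 ⟨x, hx⟩)
  refine hQ1 (hQP.symm.trans (eq_bot_iff.2 (commutator_le.2 fun x hx a ha => mem_bot.2 ?_)))
  rw [commutatorElement_eq_one_iff_mul_comm]
  exact (mul_inv_eq_iff_eq_mul.1 (hPfix a ha x hx)).symm

end CfsgLib.OddLocal.PLengthEndgame
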