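import Mathlib.GroupTheory.Complement
import Mathlib.GroupTheory.OrderOfElement
import Mathlib.Algebra.Group.Subgroup.Pointwise
import Cfsg.Prelude.Def_OddOrderLocal

/-!
Elementary facts on `Cfsg.IsComplIn` and coprime elements, used for the odd order local analysis.
-/

set_option autoImplicit false

namespace CfsgLib.OddLocal

open Subgroup

variable {G : Type*} [Group G]

theorem IsComplIn_isComplement' {A B M : Subgroup G} (h : Cfsg.IsComplIn A B M) :
    Subgroup.IsComplement' (A.subgroupOf M) (B.subgroupOf M) := by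
  apply Subgroup.isComplement'_of_disjoint_and_mul_eq_univ
  · rw [disjoint_iff, eq_bot_iff]
    rintro ⟨x, hx⟩ ⟨hxA, hxB⟩
    have : x ∈ A ⊓ B := ⟨hxA, hxB⟩
    rw [h.2.2.1] at this
    simpa using this
  · rw [Set.eq_univ_iff_forall]
    rintro ⟨m, hm⟩
    obtain ⟨a, ha, b, hb, rfl⟩ := h.2.2.2 m hm
    exact ⟨⟨a, h.1 ha⟩, ha, ⟨b, h.2.1 hb⟩, hb, rfl⟩

theorem IsComplIn_relIndex_right {A B M : Subgroup G} (h : Cfsg.IsComplIn A B M) :
    B.relIndex M = Nat.card A := by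
  show (B.subgroupOf M).index = _
  rw [← Nat.card_congr (Subgroup.subgroupOfEquivOfLe h.1).toEquiv]
  exact (IsComplIn_isComplement' h).index_eq_card

theorem IsComplIn_relIndex_left {A B M : Subgroup G} (h : Cfsg.IsComplIn A B M) :
    A.relIndex M = Nat.card B := by
  show (A.subgroupOf M).index = _
  rw [← Nat.card_congr (Subgroup.subgroupOfEquivOfLe h.2.1).toEquiv]
  exact (IsComplIn_isComplement' h).symm.index_eq_card

theorem IsComplIn_card_mul {A B M : Subgroup G} (h : Cfsg.IsComplIn A B M) :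
    Nat.card A * Nat.card B = Nat.card M := by
  rw [← Nat.card_congr (Subgroup.subgroupOfEquivOfLe h.1).toEquiv,
    ← Nat.card_congr (Subgroup.subgroupOfEquivOfLe h.2.1).toEquiv]
  exact (IsComplIn_isComplement' h).card_mul_card

theorem eq_one_of_pow_eq_one_coprime {g : G} {m n : ℕ} (hm : g ^ m = 1) (hn : g ^ n = 1)
    (h : m.Coprime n) : g = 1 := by
  have := pow_gcd_eq_one.mpr ⟨hm, hn⟩
  rwa [h.gcd_eq_one, pow_one] at this

theorem mem_of_pow_mem_coprime {S : Subgroup G} {g : G} {m n : ℕ} (hm : g ^ m ∈ S) (hn : g ^ n ∈ S)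
    (h : m.Coprime n) : g ∈ S := by
  have h1 : g = (g ^ (m : ℤ)) ^ Nat.gcdA m n * (g ^ (n : ℤ)) ^ Nat.gcdB m n := by
    rw [← zpow_mul, ← zpow_mul, ← zpow_add, ← Nat.gcd_eq_gcd_ab, h.gcd_eq_one, Nat.cast_one, zpow_one]
  rw [h1, zpow_natCast, zpow_natCast]
  exact mul_mem (zpow_mem hm _) (zpow_mem hn _)

theorem pow_card_eq_one_of_mem {H : Subgroup G} {x : G} (hx : x ∈ H) : x ^ Nat.card H = 1 := by
  have := pow_card_eq_one' (G := H) (x := ⟨x, hx⟩)
  exact congrArg Subtype.val this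

theorem mem_sup_of_le_normalizer {H K : Subgroup G} (h : K ≤ Subgroup.normalizer (H : Set G)) {x : G} :
    x ∈ H ⊔ K ↔ ∃ a ∈ H, ∃ b ∈ K, x = a * b := by
  rw [← SetLike.mem_coe, Subgroup.coe_mul_of_right_le_normalizer_left H K h, Set.mem_mul]
  constructor
  · rintro ⟨a, ha, b, hb, rfl⟩; exact ⟨a, ha, b, hb, rfl⟩
  · rintro ⟨a, ha, b, hb, rfl⟩; exact ⟨a, ha, b, hb, rfl⟩

end CfsgLib.OddLocal
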