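import Mathlib.GroupTheory.Nilpotent
import Mathlib.GroupTheory.Index
import Mathlib.GroupTheory.OrderOfElement
import Mathlib.Algebra.Group.Subgroup.Pointwise
import Mathlib.GroupTheory.PGroup
import Cfsg.Prelude.Def_OddOrderLocal

/-!
`fittingHall M` is nilpotent, normal and Hall; elements of coprime order in a nilpotent group commute.
-/

set_option autoImplicit false

namespace CfsgLib.OddLocal

open Subgroup

variable {G : Type*} [Group G]

/-- In a finite nilpotent group elements of coprime order commute. -/
theorem commute_of_coprime_orderOf [Finite G] (hG : Group.IsNilpotent G) {x y : G}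
    (h : (orderOf x).Coprime (orderOf y)) : Commute x y := by
  obtain ⟨e⟩ := (Group.isNilpotent_of_finite_tfae (G := G)).out 0 4 |>.mp hG
  suffices Commute (e.symm x) (e.symm y) by
    simpa using this.map e.toMonoidHom
  funext p P
  have : Fact (Nat.Prime p) := ⟨Nat.prime_of_mem_primeFactors p.2⟩
  simp only [Pi.mul_apply]
  set a := e.symm x p P
  set b := e.symm y p P
  have ha : orderOf a ∣ orderOf x := by
    apply orderOf_dvd_of_pow_eq_one
    have h1 : e.symm x ^ orderOf x = 1 := by rw [← map_pow, pow_orderOf_eq_one, map_one]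
    exact congrFun (congrFun h1 p) P
  have hb : orderOf b ∣ orderOf y := by
    apply orderOf_dvd_of_pow_eq_one
    have h1 : e.symm y ^ orderOf y = 1 := by rw [← map_pow, pow_orderOf_eq_one, map_one]
    exact congrFun (congrFun h1 p) P
  by_cases hpx : (p : ℕ) ∣ orderOf x
  · have hpy : ¬ (p : ℕ) ∣ orderOf y := fun hy =>
      this.out.not_dvd_one (by simpa [h.gcd_eq_one] using Nat.dvd_gcd hpx hy)
    obtain ⟨k, hk⟩ := IsPGroup.iff_orderOf.mp P.isPGroup' b
    have : b = 1 := by
      rcases k with _ | k
      · simpa using hk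
      · exact absurd (dvd_trans (by rw [hk]; exact dvd_pow_self _ (by omega)) hb) hpy
    simp [this]
  · obtain ⟨k, hk⟩ := IsPGroup.iff_orderOf.mp P.isPGroup' a
    have : a = 1 := by
      rcases k with _ | k
      · simpa using hk
      · exact absurd (dvd_trans (by rw [hk]; exact dvd_pow_self _ (by omega)) ha) hpx
    simp [this]

/-- A nilpotent subgroup with two elements of coprime orders: they commute. -/
theorem commute_of_mem_nilpotent [Finite G] {H : Subgroup G} (hH : Group.IsNilpotent H) {x y : G}
    (hx : x ∈ H) (hy : y ∈ H) (h : (orderOf x).Coprime (orderOf y)) : x * y = y * x := by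
  have := commute_of_coprime_orderOf hH (x := ⟨x, hx⟩) (y := ⟨y, hy⟩)
    (by rwa [← Subgroup.orderOf_coe, ← Subgroup.orderOf_coe])
  exact congrArg Subtype.val this.eq

/-- The join of a set of normal nilpotent Hall subgroups of a finite group is one. -/
theorem fittingHall_spec (M : Type*) [Group M] [Finite M] :
    Group.IsNilpotent (Cfsg.fittingHall M) ∧ (Nat.card (Cfsg.fittingHall M)).Coprime (Cfsg.fittingHall M).index := by
  classical
  set S : Set (Subgroup M) := {N : Subgroup M | N.Normal ∧ Group.IsNilpotent N ∧ (Nat.card N).Coprime N.index}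
  have key : ∀ A ∈ S, ∀ B ∈ S, A ⊔ B ∈ S := by
    rintro A ⟨hA, hAn, hAc⟩ B ⟨hB, hBn, hBc⟩
    have hcard : Nat.card ↥(A ⊔ B) ∣ Nat.card A * Nat.card B := by
      have h1 := Subgroup.card_mul_index (A.subgroupOf (A ⊔ B))
      rw [Nat.card_congr (Subgroup.subgroupOfEquivOfLe le_sup_left).toEquiv] at h1
      have h2 : (A.subgroupOf (A ⊔ B)).index = A.relIndex B := by
        show A.relIndex (A ⊔ B) = _
        exact Subgroup.relIndex_sup_left B A
      rw [← h1, h2]
      exact Nat.mul_dvd_mul_left _ (Subgroup.relIndex_dvd_card A B)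
    have hc : (Nat.card ↥(A ⊔ B)).Coprime (A ⊔ B).index := by
      apply Nat.Coprime.coprime_dvd_left hcard
      exact Nat.Coprime.mul_left (hAc.coprime_dvd_right (Subgroup.index_dvd_of_le le_sup_left))
        (hBc.coprime_dvd_right (Subgroup.index_dvd_of_le le_sup_right))
    have hn : Group.IsNilpotent ↥(A ⊔ B) := by
      apply (Group.isNilpotent_of_finite_tfae (G := ↥(A ⊔ B))).out 3 0 |>.mp
      intro p hp P
      by_cases hpd : p ∣ Nat.card ↥(A ⊔ B)
      · -- the Sylow subgroup lies in `A` or `B` and is the unique one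
        obtain ⟨C, hC, hCn, hCc, hpC, hCle⟩ : ∃ C : Subgroup M, C.Normal ∧ Group.IsNilpotent C ∧
            (Nat.card C).Coprime C.index ∧ p ∣ Nat.card C ∧ C ≤ A ⊔ B := by
          rcases hp.out.dvd_mul.mp (hpd.trans hcard) with h | h
          · exact ⟨A, hA, hAn, hAc, h, le_sup_left⟩
          · exact ⟨B, hB, hBn, hBc, h, le_sup_right⟩
        let C' : Subgroup ↥(A ⊔ B) := C.subgroupOf (A ⊔ B)
        have hC'n : Group.IsNilpotent C' := Group.nilpotent_of_mulEquiv (Subgroup.subgroupOfEquivOfLe hCle).symm
        have hnd : ¬ p ∣ C'.index := by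
          intro h
          have h' : p ∣ C.index := h.trans (Subgroup.relIndex_dvd_index_of_normal C (A ⊔ B))
          exact hp.out.not_dvd_one (hCc.gcd_eq_one ▸ Nat.dvd_gcd hpC h')
        -- a Sylow subgroup of `C'` is a Sylow subgroup of `A ⊔ B`
        obtain ⟨Q⟩ : Nonempty (Sylow p C') := inferInstance
        have hQn : (Q : Subgroup C').Normal := inferInstance
        have hQc : (Q : Subgroup C').Characteristic := Q.characteristic_of_normal hQn
        have hQ' : ((Q : Subgroup C').map C'.subtype).Normal := inferInstance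
        have hidx : ¬ p ∣ ((Q : Subgroup C').map C'.subtype).index := by
          rw [Subgroup.index_map_subtype]
          intro h
          rcases hp.out.dvd_mul.mp h with h | h
          · exact Q.not_dvd_index h
          · exact hnd h
        let Q' : Sylow p ↥(A ⊔ B) := (Q.isPGroup'.map C'.subtype).toSylow hidx
        have hQ'n : (Q' : Subgroup ↥(A ⊔ B)).Normal := by
          simpa [Q'] using hQ'
        have := Q'.unique_of_normal hQ'n
        rw [Subsingleton.elim P Q']
        exact hQ'n
      · have : (P : Subgroup ↥(A ⊔ B)) = ⊥ := by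
          rw [← Subgroup.card_eq_one]
          obtain ⟨k, hk⟩ := IsPGroup.iff_card.mp P.isPGroup'
          rcases k with _ | k
          · simpa using hk
          · exact absurd (dvd_trans (by rw [hk]; exact dvd_pow_self _ (by omega))
              (Subgroup.card_subgroup_dvd_card (P : Subgroup ↥(A ⊔ B)))) hpd
        rw [this]; infer_instance
    exact ⟨inferInstance, hn, hc⟩
  have hfin : S.Finite := Set.toFinite S
  have hmem : sSup S ∈ S := by
    have : ∀ T : Finset (Subgroup M), (∀ A ∈ T, A ∈ S) → T.sup id ∈ S := by
      intro T hT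
      induction T using Finset.induction with
      | empty =>
        refine ⟨by simp only [Finset.sup_empty]; infer_instance, ?_, ?_⟩
        · show Group.IsNilpotent ↥(⊥ : Subgroup M)
          infer_instance
        · show (Nat.card ↥(⊥ : Subgroup M)).Coprime (⊥ : Subgroup M).index
          simp
      | @insert a T _ ih =>
        rw [Finset.sup_insert]
        exact key _ (hT a (Finset.mem_insert_self a T)) _ (ih fun A hA => hT A (Finset.mem_insert_of_mem hA))
    have h := this hfin.toFinset (fun A hA => hfin.mem_toFinset.mp hA)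
    rwa [Finset.sup_id_eq_sSup, hfin.coe_toFinset] at h
  exact hmem.2

theorem le_fittingHall {M : Type*} [Group M] {N : Subgroup M} (h1 : N.Normal) (h2 : Group.IsNilpotent N)
    (h3 : (Nat.card N).Coprime N.index) : N ≤ Cfsg.fittingHall M := le_sSup ⟨h1, h2, h3⟩

theorem fittingHallOf_le (M : Subgroup G) : Cfsg.fittingHallOf M ≤ M := Subgroup.map_subtype_le _

theorem fittingOf_le (M : Subgroup G) : Cfsg.fittingOf M ≤ M := Subgroup.map_subtype_le _

theorem fittingHallOf_nilpotent [Finite G] (M : Subgroup G) : Group.IsNilpotent (Cfsg.fittingHallOf M) :=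
  have := (fittingHall_spec M).1
  Group.nilpotent_of_mulEquiv (Subgroup.equivMapOfInjective _ _ M.subtype_injective)

theorem fittingHallOf_coprime [Finite G] (M : Subgroup G) :
    (Nat.card (Cfsg.fittingHallOf M)).Coprime ((Cfsg.fittingHallOf M).relIndex M) := by
  have h := (fittingHall_spec M).2
  have h1 : Nat.card (Cfsg.fittingHallOf M) = Nat.card (Cfsg.fittingHall M) :=
    (Nat.card_congr (Subgroup.equivMapOfInjective _ _ M.subtype_injective).toEquiv).symm
  have h2 : (Cfsg.fittingHallOf M).relIndex M = (Cfsg.fittingHall M).index := by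
    unfold Cfsg.fittingHallOf Subgroup.relIndex Subgroup.subgroupOf
    rw [Subgroup.comap_map_eq_self_of_injective M.subtype_injective]
  rwa [h1, h2]

end CfsgLib.OddLocal
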