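import Mathlib.GroupTheory.Sylow
import Mathlib.Algebra.IsPrimePow
import Cfsg.Prelude.Def_LieExceptional
import Cfsg.Agent.Lib.OddLocal.Basic
import Cfsg.Agent.Lib.OddLocal.FittingHall
import Cfsg.Agent.Lib.Core.Nilpotent
import Cfsg.Agent.Lib.Core.Cores

/-!
CN-groups: groups in which the centraliser of every non-identity element is nilpotent.
-/

set_option autoImplicit false

namespace CfsgLib.OddLocal.CN

open Subgroup

variable {G : Type*} [Group G]

/-- A subgroup contains another one as soon as it contains its elements of prime power order. -/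
theorem le_of_prime_pow_mem [Finite G] {H K : Subgroup G}
    (h : ∀ g ∈ K, IsPrimePow (orderOf g) → g ∈ H) : K ≤ H := by
  suffices ∀ n, ∀ g ∈ K, orderOf g = n → g ∈ H from fun g hg => this _ g hg rfl
  intro n
  induction n using Nat.recOnPrimeCoprime with
  | zero => intro g _ hn; exact absurd hn (orderOf_pos g).ne'
  | prime_pow r e hr =>
    intro g hg hn
    rcases Nat.eq_zero_or_pos e with rfl | he
    · rw [pow_zero, orderOf_eq_one_iff] at hn
      exact hn ▸ one_mem _
    · exact h g hg (hn ▸ ⟨r, e, hr.prime, he, rfl⟩)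
  | coprime a b ha hb hab iha ihb =>
    intro g hg hn
    refine mem_of_pow_mem_coprime (m := a) (n := b) ?_ ?_ hab
    · refine ihb _ (pow_mem hg a) ?_
      rw [orderOf_pow' g (by omega), hn, Nat.gcd_mul_right_left, Nat.mul_div_cancel_left b (by omega)]
    · refine iha _ (pow_mem hg b) ?_
      rw [orderOf_pow' g (by omega), hn, Nat.gcd_mul_left_left, Nat.mul_div_cancel a (by omega)]

/-- The order of an element of prime power order is prime to every other prime. -/
theorem coprime_orderOf {g y : G} {r k q : ℕ} (hr : r.Prime) (hg : orderOf g = r ^ k)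
    (hq : q.Prime) (hy : orderOf y = q) (hne : r ≠ q) : (orderOf g).Coprime (orderOf y) := by
  rw [hg, hy]; exact Nat.Coprime.pow_left _ ((Nat.coprime_primes hr hq).mpr hne)

theorem cn_subgroup (hCN : Cfsg.IsCNGroup G) (K : Subgroup G) : Cfsg.IsCNGroup K := by
  intro g hg
  have := hCN (g : G) (fun h => hg (Subtype.ext h))
  have hle : (centralizer ({g} : Set K)).map K.subtype ≤ centralizer ({(g : G)} : Set G) := by
    rintro _ ⟨x, hx, rfl⟩
    exact mem_centralizer_singleton_iff.mpr (congrArg Subtype.val (mem_centralizer_singleton_iff.mp hx))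
  have := CfsgLib.Core.isNilpotent_of_le hle
  exact Group.nilpotent_of_mulEquiv (equivMapOfInjective _ _ K.subtype_injective).symm

theorem cn_congr {G' : Type*} [Group G'] (e : G ≃* G') (hCN : Cfsg.IsCNGroup G) : Cfsg.IsCNGroup G' := by
  intro g hg
  have := hCN (e.symm g) (fun h => hg (by simpa using congrArg e h))
  have hmap : (centralizer ({e.symm g} : Set G)).map e.toMonoidHom = centralizer ({g} : Set G') := by
    ext x
    simp only [mem_map, mem_centralizer_singleton_iff]
    constructor
    · rintro ⟨y, hy, rfl⟩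
      simpa using congrArg e hy
    · intro hx
      exact ⟨e.symm x, by simpa using congrArg e.symm hx, by simp⟩
  rw [← hmap]
  exact CfsgLib.Core.isNilpotent_map _ _

/-- Two elements of coprime order commuting with `z ≠ 1` commute. -/
theorem commute_cn [Finite G] (hCN : Cfsg.IsCNGroup G) {z a b : G} (hz : z ≠ 1) (ha : a * z = z * a)
    (hb : b * z = z * b) (h : (orderOf a).Coprime (orderOf b)) : a * b = b * a :=
  commute_of_mem_nilpotent (hCN z hz) (mem_centralizer_singleton_iff.mpr ha)
    (mem_centralizer_singleton_iff.mpr hb) h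

/-- A nontrivial nilpotent subgroup has a central element of each prime order dividing its order. -/
theorem exists_central_orderOf [Finite G] {H : Subgroup G} (hH : Group.IsNilpotent H) {p : ℕ}
    [hp : Fact p.Prime] (hd : p ∣ Nat.card H) :
    ∃ z ∈ H, orderOf z = p ∧ ∀ h ∈ H, h * z = z * h := by
  obtain ⟨P⟩ : Nonempty (Sylow p H) := inferInstance
  have : (P : Subgroup H).Normal := inferInstance
  have hP : (P : Subgroup H) ≠ ⊥ := P.ne_bot_of_dvd_card hd
  have hb := CfsgLib.Core.inf_center_ne_bot_of_isNilpotent (P : Subgroup H) hP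
  have hdvd : p ∣ Nat.card ((P : Subgroup H) ⊓ center H : Subgroup H) := by
    rcases (P.isPGroup'.to_le (inf_le_left : (P : Subgroup H) ⊓ center H ≤ P)).card_eq_or_dvd with h | h
    · exact absurd (card_eq_one.mp h) hb
    · exact h
  obtain ⟨⟨z, hzP, hz⟩, hzo⟩ := exists_prime_orderOf_dvd_card' p hdvd
  refine ⟨z, z.2, ?_, fun h hh => congrArg Subtype.val (mem_center_iff.mp hz ⟨h, hh⟩)⟩
  rw [orderOf_coe]
  exact (orderOf_mk _ _).symm.trans hzo

section Maximal

variable [Finite G] {H : Subgroup G} (hCN : Cfsg.IsCNGroup G) (hH : Group.IsNilpotent H)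
  (hmax : ∀ L : Subgroup G, Group.IsNilpotent L → H ≤ L → L = H)

include hCN hH hmax

omit [Finite G] hH in
/-- A maximal nilpotent subgroup is the centraliser of each of its central elements. -/
theorem mem_of_commute_central {z g : G} (hz : z ≠ 1) (hcent : ∀ h ∈ H, h * z = z * h)
    (hg : g * z = z * g) : g ∈ H := by
  have := hmax _ (hCN z hz) (fun h hh => mem_centralizer_singleton_iff.mpr (hcent h hh))
  rw [← this]
  exact mem_centralizer_singleton_iff.mpr hg

theorem sylow_le {p : ℕ} [hp : Fact p.Prime] (hd : p ∣ Nat.card H) :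
    ∃ P : Sylow p G, (P : Subgroup G) ≤ H := by
  obtain ⟨Q⟩ : Nonempty (Sylow p H) := inferInstance
  obtain ⟨P, hP⟩ := (Q.isPGroup'.map H.subtype).exists_le_sylow
  have hQn : (Q : Subgroup H).Normal := inferInstance
  have := Q.unique_of_normal hQn
  have hpel : ∀ a ∈ H, ∀ k, orderOf a = p ^ k → a ∈ (P : Subgroup G) := by
    intro a ha k hk
    have hpg : IsPGroup p (zpowers (⟨a, ha⟩ : H)) :=
      IsPGroup.of_card (n := k) (by rw [Nat.card_zpowers, orderOf_mk, hk])
    obtain ⟨R, hR⟩ := hpg.exists_le_sylow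
    rw [Subsingleton.elim R Q] at hR
    exact hP ⟨_, hR (mem_zpowers _), rfl⟩
  refine ⟨P, ?_⟩
  obtain ⟨z, hzH, hzo, hz⟩ := exists_central_orderOf hH hd
  have hz1 : z ≠ 1 := fun h => hp.out.ne_one (by rw [← hzo, h, orderOf_one])
  have hzP : z ∈ (P : Subgroup G) := hpel z hzH 1 (by rw [hzo, pow_one])
  have hPn : Group.IsNilpotent (P : Subgroup G) := P.isPGroup'.isNilpotent
  have hPd : p ∣ Nat.card (P : Subgroup G) := hzo ▸ (P : Subgroup G).orderOf_dvd_natCard hzP
  obtain ⟨c, hcP, hco, hc⟩ := exists_central_orderOf hPn hPd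
  have hc1 : c ≠ 1 := fun h => hp.out.ne_one (by rw [← hco, h, orderOf_one])
  have hcH : c ∈ H := mem_of_commute_central hCN hmax hz1 hz (hc z hzP).symm
  have hcent : ∀ h ∈ H, h * c = c * h := by
    have hle : H ≤ centralizer ({c} : Set G) := le_of_prime_pow_mem fun h hh hpp => by
      obtain ⟨r, k, hr, -, hk⟩ := hpp
      rw [mem_centralizer_singleton_iff]
      rcases eq_or_ne r p with rfl | hne
      · exact hc h (hpel h hh k hk.symm)
      · exact commute_of_mem_nilpotent hH hh hcH (coprime_orderOf hr.nat_prime hk.symm hp.out hco hne)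
    exact fun h hh => mem_centralizer_singleton_iff.mp (hle hh)
  exact fun g hg => mem_of_commute_central hCN hmax hc1 hcent (hc g hg)

theorem coprime_index : (Nat.card H).Coprime H.index := by
  refine Nat.coprime_of_dvd fun p hp hd hi => ?_
  have := Fact.mk hp
  obtain ⟨P, hP⟩ := sylow_le hCN hH hmax hd
  exact P.not_dvd_index (hi.trans (index_dvd_of_le hP))

/-- With two primes in `|H|`, `H` contains the centralisers of its elements. -/
theorem centralizer_le_of_two_primes {p q : ℕ} [hp : Fact p.Prime] [hq : Fact q.Prime] (hne : p ≠ q)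
    (hpd : p ∣ Nat.card H) (hqd : q ∣ Nat.card H) {x : G} (hx : x ∈ H) (hx1 : x ≠ 1) :
    centralizer ({x} : Set G) ≤ H := by
  obtain ⟨y, hy, hyo, hyc⟩ := exists_central_orderOf hH hpd
  obtain ⟨z, hz, hzo, hzc⟩ := exists_central_orderOf hH hqd
  refine le_of_prime_pow_mem fun g hg hpp => ?_
  obtain ⟨r, k, hr, -, hk⟩ := hpp
  rw [mem_centralizer_singleton_iff] at hg
  have key : ∀ w ∈ H, ∀ s : ℕ, s.Prime → orderOf w = s → (∀ h ∈ H, h * w = w * h) → r ≠ s → g ∈ H :=
    fun w hw s hs hwo hwc hrs =>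
      mem_of_commute_central hCN hmax (fun h => hs.ne_one (by rw [← hwo, h, orderOf_one])) hwc
        (commute_cn hCN hx1 hg (hwc x hx).symm (coprime_orderOf hr.nat_prime hk.symm hs hwo hrs))
  rcases eq_or_ne r p with rfl | hrp
  · exact key z hz q hq.out hzo hzc hne
  · exact key y hy p hp.out hyo hyc hrp

/-- With two primes in `|H|`, `H` is the only maximal nilpotent subgroup through each of its elements. -/
theorem eq_of_mem_two_primes {p q : ℕ} [hp : Fact p.Prime] [hq : Fact q.Prime] (hne : p ≠ q)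
    (hpd : p ∣ Nat.card H) (hqd : q ∣ Nat.card H) {L : Subgroup G} (hL : Group.IsNilpotent L)
    (hLc : ∀ a ∈ H ⊓ L, a ≠ 1 → centralizer ({a} : Set G) ≤ L)
    {x : G} (hx : x ∈ H) (hxL : x ∈ L) (hx1 : x ≠ 1) : L ≤ H := by
  obtain ⟨y, hy, hyo, hyc⟩ := exists_central_orderOf hH hpd
  obtain ⟨z, hz, hzo, hzc⟩ := exists_central_orderOf hH hqd
  have hyL : y ∈ L := hLc x ⟨hx, hxL⟩ hx1 (mem_centralizer_singleton_iff.mpr (hyc x hx).symm)
  have hzL : z ∈ L := hLc x ⟨hx, hxL⟩ hx1 (mem_centralizer_singleton_iff.mpr (hzc x hx).symm)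
  refine le_of_prime_pow_mem fun g hg hpp => ?_
  obtain ⟨r, k, hr, -, hk⟩ := hpp
  have key : ∀ w ∈ L, ∀ s : ℕ, s.Prime → orderOf w = s → (∀ h ∈ H, h * w = w * h) → r ≠ s → g ∈ H :=
    fun w hw s hs hwo hwc hrs =>
      mem_of_commute_central hCN hmax (fun h => hs.ne_one (by rw [← hwo, h, orderOf_one])) hwc
        (commute_of_mem_nilpotent hL hg hw (coprime_orderOf hr.nat_prime hk.symm hs hwo hrs))
  rcases eq_or_ne r p with rfl | hrp
  · exact key z hzL q hq.out hzo hzc hne
  · exact key y hyL p hp.out hyo hyc hrp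

/-- If `H` is a TI subgroup, it contains the centralisers of its elements. -/
theorem centralizer_le_of_ti (hti : ∀ g : G, g ∉ normalizer (H : Set G) → ∀ x ∈ H, g * x * g⁻¹ ∈ H → x = 1)
    {x : G} (hx : x ∈ H) (hx1 : x ≠ 1) : centralizer ({x} : Set G) ≤ H := by
  refine le_of_prime_pow_mem fun g hg hpp => ?_
  obtain ⟨r, k, hr, -, hk⟩ := hpp
  rw [mem_centralizer_singleton_iff] at hg
  have := Fact.mk hr.nat_prime
  by_cases hrd : r ∣ Nat.card H
  · have hgn : g ∈ normalizer (H : Set G) := by
      by_contra hn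
      exact hx1 (hti g hn x hx (by rw [hg, mul_inv_cancel_right]; exact hx))
    -- `g` is an `r`-element of `N(H)`, and `H` contains a Sylow `r`-subgroup
    have hidx : ¬ r ∣ H.relIndex (normalizer (H : Set G)) := fun h => by
      have h2 : r ∣ H.index :=
        h.trans (relIndex_mul_index (Subgroup.le_normalizer (H := H)) ▸ dvd_mul_right _ _)
      exact hr.nat_prime.ne_one (Nat.eq_one_of_dvd_coprimes (coprime_index hCN hH hmax) hrd h2)
    set N := normalizer (H : Set G)
    have hn : (H.subgroupOf N).Normal := normal_in_normalizer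
    have h1 : (QuotientGroup.mk' (H.subgroupOf N)) ⟨g, hgn⟩ = 1 := by
      refine CfsgLib.OddLocal.eq_one_of_pow_eq_one_coprime (m := r ^ k) (n := H.relIndex N) ?_ ?_ ?_
      · rw [← map_pow, show (⟨g, hgn⟩ : N) ^ r ^ k = 1 from Subtype.ext (by rw [← hk.symm]; exact pow_orderOf_eq_one g), map_one]
      · exact pow_card_eq_one'
      · exact Nat.Coprime.pow_left _ (hr.nat_prime.coprime_iff_not_dvd.mpr hidx)
    exact mem_subgroupOf.mp ((QuotientGroup.eq_one_iff _).mp h1)
  · obtain ⟨s, hs, hsd⟩ := Nat.exists_prime_and_dvd (n := Nat.card H) fun h =>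
      hx1 (mem_bot.mp (card_eq_one.mp h ▸ hx))
    have := Fact.mk hs
    obtain ⟨z, hz, hzo, hzc⟩ := exists_central_orderOf hH hsd
    exact mem_of_commute_central hCN hmax (fun h => hs.ne_one (by rw [← hzo, h, orderOf_one])) hzc
      (commute_cn hCN hx1 hg (hzc x hx).symm
        (coprime_orderOf hr.nat_prime hk.symm hs hzo fun h => hrd (h ▸ hsd)))

end Maximal

end CfsgLib.OddLocal.CN
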