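import Cfsg.Agent.Lib.OddLocal.RankTwoAut
import Cfsg.Agent.Lib.Core.SolvableStruct
import Cfsg.Agent.Lib.Core.Cores
import Cfsg.Agent.Lib.PLocal.PConstrained
import Cfsg.Prelude.Def_OddOrderLocal

/-!
Solvable groups of odd order with `p`-rank at most two.
-/

set_option autoImplicit false

namespace CfsgLib.OddLocal.RankTwoAut

open Subgroup
open scoped commutatorElement

variable {p : ℕ} [hp : Fact p.Prime] {G : Type*} [Group G] [Finite G]

theorem eq_one_of_isPGroup {P : Type*} [Group P] (hP : IsPGroup p P) {x : P}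
    (hx : (orderOf x).Coprime p) : x = 1 :=
  CfsgLib.Transfer.eq_one_of_pow_coprime hP hx (pow_orderOf_eq_one x)

/-- `p`-rank passes to quotients by `p'`-subgroups. -/
theorem prankLE_quotient {k : ℕ} (hr : Cfsg.PRankLE p k G) (N : Subgroup G) [N.Normal]
    (hN : (Nat.card N).Coprime p) : Cfsg.PRankLE p k (G ⧸ N) := by
  intro E hE hEe
  have hEp : IsPGroup p E := fun e => ⟨1, Subtype.ext (by rw [pow_one]; exact hEe e e.2)⟩
  set X := E.comap (QuotientGroup.mk' N)
  let f : X →* E := (QuotientGroup.mk' N).subgroupComap E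
  have hf : Function.Surjective f :=
    MonoidHom.subgroupComap_surjective_of_surjective _ _ (QuotientGroup.mk'_surjective N)
  obtain ⟨P⟩ : Nonempty (Sylow p X) := inferInstance
  have htop : ((P.mapSurjective hf : Sylow p E) : Subgroup E) = ⊤ :=
    ((P.mapSurjective hf).3 (hEp.to_subgroup ⊤) le_top).symm
  rw [Sylow.coe_mapSurjective] at htop
  have hinj : Function.Injective (f.comp (P : Subgroup X).subtype) := by
    refine (injective_iff_map_eq_one _).2 fun x hx => ?_
    have hxN : (((x : X)) : G) ∈ N := (QuotientGroup.eq_one_iff _).1 (congrArg Subtype.val hx)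
    refine eq_one_of_isPGroup P.2 ?_
    refine (hN.coprime_dvd_left ?_)
    rw [← Subgroup.orderOf_coe, ← Subgroup.orderOf_coe]
    exact N.orderOf_dvd_natCard hxN
  have hsurj : Function.Surjective (f.comp (P : Subgroup X).subtype) := fun e => by
    obtain ⟨x, hx, hxe⟩ := htop.ge (mem_top e)
    exact ⟨⟨x, hx⟩, hxe⟩
  rw [← Nat.card_congr (MulEquiv.ofBijective _ ⟨hinj, hsurj⟩).toEquiv,
    ← card_map_of_injective (K := (P : Subgroup X)) X.subtype_injective]
  have : IsMulCommutative (P : Subgroup X) :=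
    ⟨⟨fun a b => hinj (by rw [map_mul, map_mul]; exact hE.is_comm.comm _ _)⟩⟩
  refine hr _ inferInstance ?_
  rintro _ ⟨x, hx, rfl⟩
  have h1 : (f.comp (P : Subgroup X).subtype) ((⟨x, hx⟩ : (P : Subgroup X)) ^ p) = 1 := by
    rw [map_pow]
    exact Subtype.ext (hEe _ (f x).2)
  have h2 := congrArg (fun w : (P : Subgroup X) => ((w : X) : G)) (hinj (h1.trans (map_one _).symm))
  simpa using h2

/-- The structure of a solvable group of odd order with `p`-rank two and `O_{p'} = 1`. -/
theorem core_bot_structure [Group.IsSolvable G] (hodd : Odd (Nat.card G)) (hp2 : p ≠ 2)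
    (hr : Cfsg.PRankLE p 2 G) (h0 : Cfsg.pPrimeCore p G = ⊥) :
    _root_.commutator G ≤ Cfsg.pCore p G ∧ ¬ p ∣ (Cfsg.pCore p G).index ∧
      ∀ q : ℕ, q.Prime → q ∣ Nat.card G → q ≤ p := by
  set R := Cfsg.pCore p G with hR
  have hRp : IsPGroup p R := CfsgLib.Core.isPGroup_pCore p G
  have hC := CfsgLib.Core.centralizer_pCore_le_of_pPrimeCore_eq_bot h0
  have hr' : Cfsg.PRankLE p 2 R := fun A hA hAe => by
    rw [← card_map_of_injective (K := A) R.subtype_injective]
    refine hr _ inferInstance ?_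
    rintro _ ⟨a, ha, rfl⟩
    rw [← map_pow, hAe a ha, map_one]
  obtain ⟨h1, h2⟩ := rankTwo_aut hodd hp2 hRp hr' (MulAut.conjNormal : G →* MulAut R) fun a ha hco => by
    have hmem : a ∈ centralizer (R : Set G) := mem_centralizer_iff.2 fun r hr => by
      have h := congrArg (fun φ : MulAut R => ((φ ⟨r, hr⟩ : R) : G)) ha
      simp only [MulAut.conjNormal_apply, MulAut.one_apply] at h
      exact (mul_inv_eq_iff_eq_mul.1 h).symm
    have := eq_one_of_isPGroup hRp (x := (⟨a, hC hmem⟩ : R)) (by rwa [orderOf_mk])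
    exact congrArg Subtype.val this
  have hle : _root_.commutator G ≤ R := CfsgLib.Core.le_pCore h1
  refine ⟨hle, fun hd => ?_, fun q hq hqd => ?_⟩
  · -- `G ⧸ R` is abelian without normal `p`-subgroups
    obtain ⟨x, hx⟩ := exists_prime_orderOf_dvd_card' (G := G ⧸ R) p (by rwa [← index_eq_card])
    have hcomm : IsMulCommutative (G ⧸ R) := Subgroup.Normal.quotient_commutative_iff_commutator_le.mpr hle
    have hn : (zpowers x).Normal := ⟨fun y hy g => by
      rw [hcomm.is_comm.comm g y, mul_inv_cancel_right]; exact hy⟩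
    have hb := CfsgLib.Core.le_pCore (p := p) (IsPGroup.of_card (G := zpowers x) (n := 1)
      (by rw [Nat.card_zpowers, hx, pow_one]))
    have hq0 : Cfsg.pCore p (G ⧸ R) = ⊥ := CfsgLib.Core.pCore_quotient_pCore p G
    rw [hq0, le_bot_iff, zpowers_eq_bot] at hb
    rw [hb, orderOf_one] at hx
    exact hp.out.ne_one hx.symm
  · rcases eq_or_ne q p with rfl | hqp
    · exact le_rfl
    have := Fact.mk hq
    obtain ⟨a, ha⟩ := exists_prime_orderOf_dvd_card' q hqd
    exact ha ▸ (h2 a (ha ▸ hq) (ha ▸ hqp)).le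

/-- The conclusions of BG 4.18 from the structure of `G ⧸ O_{p'}(G)`. -/
theorem wrap_up (hodd : Odd (Nat.card G))
    (h1 : _root_.commutator (G ⧸ Cfsg.pPrimeCore p G) ≤ Cfsg.pCore p (G ⧸ Cfsg.pPrimeCore p G))
    (h2 : ¬ p ∣ (Cfsg.pCore p (G ⧸ Cfsg.pPrimeCore p G)).index)
    (h3 : ∀ q : ℕ, q.Prime → q ∣ Nat.card (G ⧸ Cfsg.pPrimeCore p G) → q ≤ p) :
    (∀ q : ℕ, q.Prime → q ∣ (Cfsg.pPrimeCore p G).index → q ≤ p) ∧
      ((p = 3 ∨ ∀ q : ℕ, q.Prime → q ∣ Nat.card G → p ≤ q) → Cfsg.HasNormalPComplement p G) ∧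
      Cfsg.HasNormalPComplement p ↥(_root_.commutator G) ∧
      (∀ L : Subgroup ↥(_root_.commutator G), (Nat.card L).Coprime p →
        L ≤ Cfsg.pPrimeCore p ↥(_root_.commutator G)) ∧
      _root_.commutator G ≤ Cfsg.pPrimePCore p G ∧ ((Cfsg.pPrimePCore p G).index).Coprime p := by
  set O := Cfsg.pPrimeCore p G with hO
  have hOc : (Nat.card O).Coprime p := CfsgLib.Core.coprime_card_pPrimeCore p G
  have hle : _root_.commutator G ≤ Cfsg.pPrimePCore p G := by
    rw [Cfsg.pPrimePCore, ← map_le_iff_le_comap, _root_.commutator_def, map_commutator]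
    exact (commutator_mono le_top le_top).trans h1
  refine ⟨fun q hq hqd => h3 q hq (by rwa [← index_eq_card]), fun hc => ?_, ?_, ?_, hle, ?_⟩
  · refine CfsgLib.Transfer.hasNormalPComplement_iff_exists.2 ⟨O, inferInstance, hOc, ?_⟩
    refine IsPGroup.of_card (n := (Nat.card (G ⧸ O)).factorization p) ?_
    refine Nat.eq_pow_of_factorization_eq_single Nat.card_pos.ne' ?_
    ext r
    rcases eq_or_ne r p with rfl | hr
    · simp
    · rw [Finsupp.single_apply, if_neg (Ne.symm hr)]
      by_cases hrp : r.Prime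
      · refine Nat.factorization_eq_zero_of_not_dvd fun hrd => ?_
        have hle' := h3 r hrp hrd
        have hrG : r ∣ Nat.card G := hrd.trans (card_quotient_dvd_card O)
        rcases hc with rfl | hmin
        · obtain ⟨w, hw⟩ := hodd
          have := hrp.two_le
          interval_cases r <;> omega
        · exact hr (le_antisymm hle' (hmin r hrp hrG))
      · exact Nat.factorization_eq_zero_of_not_prime _ hrp
  · set D := _root_.commutator G with hD
    refine CfsgLib.Transfer.hasNormalPComplement_iff_exists.2 ⟨O.subgroupOf D, inferInstance, ?_, ?_⟩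
    · exact hOc.coprime_dvd_left (by
        rw [← card_map_of_injective (K := O.subgroupOf D) D.subtype_injective, subgroupOf_map_subtype]
        exact card_dvd_of_le inf_le_left)
    · let f : D →* G ⧸ O := (QuotientGroup.mk' O).comp D.subtype
      have hker : f.ker = O.subgroupOf D := by
        ext x
        rw [MonoidHom.mem_ker, mem_subgroupOf, ← QuotientGroup.eq_one_iff]
        rfl
      have hrange : f.range ≤ Cfsg.pCore p (G ⧸ O) := by
        rintro _ ⟨x, rfl⟩
        exact hle x.2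
      exact IsPGroup.of_equiv ((CfsgLib.Core.isPGroup_pCore p (G ⧸ O)).to_le hrange)
        ((QuotientGroup.quotientMulEquivOfEq hker.symm).trans (QuotientGroup.quotientKerEquivRange f)).symm
  · intro L hL x hx
    have hx' : (x : G) ∈ O := by
      have h1 : QuotientGroup.mk' O (x : G) ∈ Cfsg.pCore p (G ⧸ O) := hle x.2
      refine (QuotientGroup.eq_one_iff _).1 ?_
      have := eq_one_of_isPGroup (CfsgLib.Core.isPGroup_pCore p (G ⧸ O)) (x := ⟨_, h1⟩) (by
        rw [orderOf_mk]
        refine (hL.coprime_dvd_left ?_)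
        refine (orderOf_map_dvd _ _).trans ?_
        rw [Subgroup.orderOf_coe]
        exact L.orderOf_dvd_natCard hx)
      exact congrArg Subtype.val this
    exact CfsgLib.Core.pPrimeCore_subgroupOf_le (_root_.commutator G) (mem_subgroupOf.2 hx')
  · rw [Cfsg.pPrimePCore, index_comap_of_surjective _ (QuotientGroup.mk'_surjective O)]
    exact (hp.out.coprime_iff_not_dvd.2 h2).symm

/-- BG 4.18. -/
theorem rankTwo_solvable [Group.IsSolvable G] (hodd : Odd (Nat.card G)) (hpG : p ∣ Nat.card G)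
    (hr : Cfsg.PRankLE p 2 G) :
    (∀ q : ℕ, q.Prime → q ∣ (Cfsg.pPrimeCore p G).index → q ≤ p) ∧
      ((p = 3 ∨ ∀ q : ℕ, q.Prime → q ∣ Nat.card G → p ≤ q) → Cfsg.HasNormalPComplement p G) ∧
      Cfsg.HasNormalPComplement p ↥(_root_.commutator G) ∧
      (∀ L : Subgroup ↥(_root_.commutator G), (Nat.card L).Coprime p →
        L ≤ Cfsg.pPrimeCore p ↥(_root_.commutator G)) ∧
      _root_.commutator G ≤ Cfsg.pPrimePCore p G ∧ ((Cfsg.pPrimePCore p G).index).Coprime p := by
  have hp2 : p ≠ 2 := by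
    rintro rfl
    obtain ⟨w, hw⟩ := hodd
    omega
  obtain ⟨h1, h2, h3⟩ := core_bot_structure (p := p) (G := G ⧸ Cfsg.pPrimeCore p G)
    (hodd.of_dvd_nat (card_quotient_dvd_card _)) hp2
    (prankLE_quotient hr _ (CfsgLib.Core.coprime_card_pPrimeCore p G))
    (CfsgLib.Core.pPrimeCore_quotient_pPrimeCore p G)
  exact wrap_up hodd h1 h2 h3

end CfsgLib.OddLocal.RankTwoAut
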