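import Cfsg.Agent.Lib.OddLocal.NarrowAut
import Cfsg.Agent.Lib.OddLocal.RankTwoSolvable
import Cfsg.Agent.Lib.OddLocal.CNGroup
import Cfsg.Agent.Lib.Components.FStar
import Cfsg.Agent.Lib.Core.Hall
import Cfsg.Agent.Lib.HallGen.Counting

/-!
Solvable groups of odd order whose Fitting subgroup has small rank.
-/

set_option autoImplicit false

namespace CfsgLib.OddLocal.RankTwoFitting

open Subgroup
open scoped commutatorElement

variable {G : Type*} [Group G] [Finite G]

/-- A prime power element of a normal nilpotent subgroup lies in the corresponding `O_q`. -/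
theorem mem_pCore_of_mem_nilpotent {F : Subgroup G} [F.Normal] [Group.IsNilpotent F] {q j : ℕ}
    [hq : Fact q.Prime] {y : G} (hy : y ∈ F) (ho : orderOf y = q ^ j) : y ∈ Cfsg.pCore q G := by
  obtain ⟨S⟩ : Nonempty (Sylow q F) := inferInstance
  have hSn : (S : Subgroup F).Normal := inferInstance
  have hSc := S.characteristic_of_normal hSn
  have hSG : ((S : Subgroup F).map F.subtype).Normal := inferInstance
  have hle := CfsgLib.Core.le_pCore (p := q) (S.2.map F.subtype)
  have hp : IsPGroup q (zpowers (⟨y, hy⟩ : F)) :=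
    IsPGroup.of_card (n := j) (by rw [Nat.card_zpowers, orderOf_mk, ho])
  obtain ⟨S', hS'⟩ := hp.exists_le_sylow
  have := S.unique_of_normal hSn
  rw [Subsingleton.elim S' S] at hS'
  exact hle ⟨⟨y, hy⟩, hS' (mem_zpowers _), rfl⟩

theorem mem_centralizer_fitting {g : G}
    (h : ∀ q : ℕ, q.Prime → g ∈ centralizer (Cfsg.pCore q G : Set G)) :
    g ∈ centralizer (Cfsg.fittingSubgroup G : Set G) := by
  have hle : Cfsg.fittingSubgroup G ≤ centralizer ({g} : Set G) := by
    rw [CfsgLib.Core.fittingSubgroup_eq_iSup_pCore]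
    exact iSup_le fun q y hy => mem_centralizer_singleton_iff.2 (mem_centralizer_iff.1 (h q q.2) y hy)
  exact mem_centralizer_iff.2 fun y hy => mem_centralizer_singleton_iff.1 (hle hy)

/-- If the derived subgroup induces a `q`-group on each `O_q`, it lies in the Fitting subgroup. -/
theorem derived_le_fitting [Group.IsSolvable G]
    (h : ∀ q : ℕ, q.Prime → ∀ g ∈ _root_.commutator G, (orderOf g).Coprime q →
      g ∈ centralizer (Cfsg.pCore q G : Set G)) :
    _root_.commutator G ≤ Cfsg.fittingSubgroup G := by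
  have := CfsgLib.Core.isNilpotent_fittingSubgroup G
  refine CfsgLib.OddLocal.CN.le_of_prime_pow_mem fun x hx hpp => ?_
  obtain ⟨r, j, hr, -, hj⟩ := hpp
  have := Fact.mk hr.nat_prime
  -- the elements of `G'` centralising every `O_q`, `q ≠ r`
  let X : Subgroup G :=
    { carrier := {g | g ∈ _root_.commutator G ∧
        ∀ q : ℕ, q.Prime → q ≠ r → g ∈ centralizer (Cfsg.pCore q G : Set G)}
      one_mem' := ⟨one_mem _, fun _ _ _ => one_mem _⟩
      mul_mem' := fun ha hb => ⟨mul_mem ha.1 hb.1, fun q hq hne => mul_mem (ha.2 q hq hne) (hb.2 q hq hne)⟩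
      inv_mem' := fun ha => ⟨inv_mem ha.1, fun q hq hne => inv_mem (ha.2 q hq hne)⟩ }
  have hXn : X.Normal := ⟨fun g hg c => ⟨(inferInstance : (_root_.commutator G).Normal).conj_mem g hg.1 c,
    fun q hq hne => (inferInstance : (centralizer (Cfsg.pCore q G : Set G)).Normal).conj_mem g (hg.2 q hq hne) c⟩⟩
  have hxX : x ∈ X := ⟨hx, fun q hq hne => h q hq x hx (hj ▸ Nat.Coprime.pow_left j
    ((Nat.coprime_primes hr.nat_prime hq).2 hne.symm))⟩
  -- prime power elements of the other primes are central in `X`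
  have hcentral : ∀ g ∈ X, ∀ s i : ℕ, s.Prime → s ≠ r → orderOf g = s ^ i → ∀ y ∈ X, y * g = g * y := by
    intro g hg s i hs hsr hgo y hy
    have := Fact.mk hs
    have hgF : g ∈ Cfsg.fittingSubgroup G := by
      refine CfsgLib.Components.centralizer_fitting_le_of_isSolvable (mem_centralizer_fitting fun q hq => ?_)
      rcases eq_or_ne q r with rfl | hqr
      · exact h q hq g hg.1 (hgo ▸ Nat.Coprime.pow_left i ((Nat.coprime_primes hs hq).2 hsr))
      · exact hg.2 q hq hqr
    exact (mem_centralizer_iff.1 (hy.2 s hs hsr) g (mem_pCore_of_mem_nilpotent hgF hgo)).symm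
  obtain ⟨R⟩ : Nonempty (Sylow r X) := inferInstance
  have htop : center X ⊔ (R : Subgroup X) = ⊤ := by
    refine CfsgLib.Core.eq_top_of_forall_exists_sylow_le _ fun s hs _ => ?_
    have := Fact.mk hs
    rcases eq_or_ne s r with rfl | hsr
    · exact ⟨R, le_sup_right⟩
    obtain ⟨S⟩ : Nonempty (Sylow s X) := inferInstance
    refine ⟨S, fun g hg => mem_sup_left (mem_center_iff.2 fun y => ?_)⟩
    obtain ⟨i, hi⟩ := IsPGroup.iff_orderOf.1 S.2 ⟨g, hg⟩
    rw [orderOf_mk, ← Subgroup.orderOf_coe] at hi
    exact Subtype.ext (hcentral g g.2 s i hs hsr hi y y.2)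
  have hRn : (R : Subgroup X).Normal := by
    rw [← normalizer_eq_top_iff, eq_top_iff, ← htop]
    exact sup_le ((center_le_centralizer _).trans (centralizer_le_normalizer _)) le_normalizer
  have hRc := R.characteristic_of_normal hRn
  have hRG : ((R : Subgroup X).map X.subtype).Normal := inferInstance
  refine CfsgLib.Core.pCore_le_fittingSubgroup r (CfsgLib.Core.le_pCore (R.2.map X.subtype) ?_)
  obtain ⟨R', hR'⟩ := (IsPGroup.of_card (G := zpowers (⟨x, hxX⟩ : X)) (n := j)
    (by rw [Nat.card_zpowers, orderOf_mk, hj])).exists_le_sylow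
  have := R.unique_of_normal hRn
  rw [Subsingleton.elim R' R] at hR'
  exact ⟨⟨x, hxX⟩, hR' (mem_zpowers _), rfl⟩

/-- The image of `G'` acting on `O_q`. -/
theorem centralizes_pCore_of_aut [Group.IsSolvable G] (hodd : Odd (Nat.card G)) {q : ℕ} [hq : Fact q.Prime]
    {B : Subgroup (Cfsg.pCore q G)} (hB : Cfsg.IsElementaryAbelian q B)
    (hBr : Cfsg.PRankLE q 2 (centralizer (B : Set (Cfsg.pCore q G))))
    {g : G} (hg : g ∈ _root_.commutator G) (hco : (orderOf g).Coprime q) :
    g ∈ centralizer (Cfsg.pCore q G : Set G) := by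
  set O := Cfsg.pCore q G with hO
  by_cases hOb : O = ⊥
  · rw [hOb]; exact mem_centralizer_iff.2 fun y hy => by rw [mem_bot.1 hy, one_mul, mul_one]
  have hq2 : q ≠ 2 := by
    rintro rfl
    rcases (CfsgLib.Core.isPGroup_pCore 2 G).card_eq_or_dvd with h | h
    · exact hOb (card_eq_one.1 h)
    · obtain ⟨w, hw⟩ := hodd
      have := h.trans O.card_subgroup_dvd_card
      omega
  let χ : G →* MulAut O := MulAut.conjNormal
  have : Finite χ.range := Finite.of_surjective χ.rangeRestrict χ.rangeRestrict_surjective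
  have : Group.IsSolvable χ.range := Group.isSolvable_of_surjective χ.rangeRestrict_surjective
  have h := CfsgLib.OddLocal.NarrowAut.derived_isPGroup (p := q) (A := χ.range)
    (hodd.of_dvd_nat (card_range_dvd χ)) hq2 (CfsgLib.Core.isPGroup_pCore q G) hB hBr χ.range.subtype
    (fun a ha _ => Subtype.ext ha)
  have hmem : χ.rangeRestrict g ∈ _root_.commutator χ.range := by
    have := mem_map_of_mem χ.rangeRestrict hg
    rw [_root_.commutator_def, map_commutator] at this
    exact commutator_mono le_top le_top this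
  have h1 := CfsgLib.OddLocal.RankTwoAut.eq_one_of_isPGroup h (x := ⟨_, hmem⟩)
    (by rw [orderOf_mk]; exact hco.coprime_dvd_left (orderOf_map_dvd _ _))
  refine mem_centralizer_iff.2 fun y hy => ?_
  have h2 : χ g = 1 := congrArg (fun w : _root_.commutator χ.range => ((w : χ.range) : MulAut O)) h1
  have h3 := congrArg (fun φ : MulAut O => ((φ ⟨y, hy⟩ : O) : G)) h2
  simp only [χ, MulAut.conjNormal_apply, MulAut.one_apply] at h3
  exact (mul_inv_eq_iff_eq_mul.1 h3).symm

theorem prankLE_of_le {q k : ℕ} {H K : Subgroup G} (hK : Cfsg.PRankLE q k K) (h : H ≤ K) :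
    Cfsg.PRankLE q k H := fun A hA hAe => by
  rw [← card_map_of_injective (K := A) (inclusion_injective h)]
  refine hK _ inferInstance ?_
  rintro _ ⟨a, ha, rfl⟩
  rw [← map_pow, hAe a ha, map_one]

theorem derived_le_fitting_of_centralizer [Group.IsSolvable G] (hodd : Odd (Nat.card G)) {p : ℕ} [hp : Fact p.Prime]
    {E : Subgroup G} (hE : E ≤ Cfsg.fittingSubgroup G) (hEe : Cfsg.IsElementaryAbelian p E)
    (hr : Cfsg.RankLE 2 ↥(Cfsg.fittingSubgroup G ⊓ centralizer (E : Set G))) :
    _root_.commutator G ≤ Cfsg.fittingSubgroup G := by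
  have := CfsgLib.Core.isNilpotent_fittingSubgroup G
  refine derived_le_fitting fun q hq g hg hco => ?_
  have := Fact.mk hq
  set O := Cfsg.pCore q G
  have hOF : O ≤ Cfsg.fittingSubgroup G := CfsgLib.Core.pCore_le_fittingSubgroup q
  have hEp : ∀ e ∈ E, e ∈ Cfsg.pCore p G := fun e he => by
    obtain ⟨j, -, hj⟩ := (Nat.dvd_prime_pow hp.out).1
      ((orderOf_dvd_of_pow_eq_one (hEe.2 e he)).trans (pow_one p).symm.dvd)
    exact mem_pCore_of_mem_nilpotent (hE he) hj
  have hfin : ∀ (B : Subgroup O), E ≤ centralizer (((centralizer (B : Set O)).map O.subtype : Subgroup G) : Set G) →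
      Cfsg.PRankLE q 2 (centralizer (B : Set O)) := by
    intro B hB A hA hAe
    have hle : ((A.map (centralizer (B : Set O)).subtype).map O.subtype) ≤
        Cfsg.fittingSubgroup G ⊓ centralizer (E : Set G) :=
      le_inf ((map_subtype_le _).trans hOF)
        ((map_mono (map_subtype_le A)).trans (le_centralizer_iff.1 hB))
    rw [← card_map_of_injective (K := A) (centralizer (B : Set O)).subtype_injective,
      ← card_map_of_injective (K := A.map (centralizer (B : Set O)).subtype) O.subtype_injective,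
      ← Nat.card_congr (subgroupOfEquivOfLe hle).toEquiv]
    refine hr q hq _ inferInstance fun a ha => Subtype.ext ?_
    obtain ⟨b, hb, hba⟩ := mem_subgroupOf.1 ha
    obtain ⟨c, hc, rfl⟩ := hb
    rw [SubmonoidClass.coe_pow, ← hba, ← map_pow, ← map_pow, hAe c hc, map_one, map_one]
    rfl
  by_cases hpq : q = p
  · subst hpq
    have hEO : E ≤ O := fun e he => hEp e he
    refine centralizes_pCore_of_aut hodd (B := E.subgroupOf O) ⟨?_, fun b hb => Subtype.ext (hEe.2 _ hb)⟩ (hfin _ ?_) hg hco
    · have := hEe.1; infer_instance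
    · intro e he
      rw [mem_centralizer_iff]
      rintro _ ⟨c, hc, rfl⟩
      exact (congrArg Subtype.val (mem_centralizer_iff.1 hc ⟨e, hEO he⟩ (mem_subgroupOf.2 he))).symm
  · refine centralizes_pCore_of_aut hodd (B := ⊥) ⟨inferInstance, fun b hb => by rw [mem_bot.1 hb, one_pow]⟩
      (hfin _ ?_) hg hco
    intro e he
    rw [mem_centralizer_iff]
    rintro _ ⟨c, hc, rfl⟩
    exact (CfsgLib.Core.commute_pCore_pCore hp.out hq (Ne.symm hpq) e (hEp e he) _ c.2).symm

theorem mem_of_coprime_index {H : Type*} [Group H] (N : Subgroup H) [N.Normal] {g : H}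
    (hg : (orderOf g).Coprime N.index) : g ∈ N := by
  refine (QuotientGroup.eq_one_iff g).1 ?_
  refine CfsgLib.OddLocal.eq_one_of_pow_eq_one_coprime (m := orderOf g) (n := N.index) ?_ ?_ hg
  · exact (map_pow (QuotientGroup.mk' N) g _).symm.trans (by rw [pow_orderOf_eq_one, map_one])
  · rw [index_eq_card]; exact pow_card_eq_one'

/-- BG 4.20: consequences of small rank of the Fitting subgroup. -/
theorem fitting_rankTwo [Group.IsSolvable G] (hodd : Odd (Nat.card G))
    (hF : Cfsg.RankLE 2 (Cfsg.fittingSubgroup G)) :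
    Group.IsNilpotent ↥(_root_.commutator G) ∧
      (∀ (q : ℕ) [Fact q.Prime] (S : Sylow q G) (T : Subgroup ↥(S : Subgroup G)), T.Characteristic →
        T.map (S : Subgroup G).subtype ≤ ⁅(S : Subgroup G), (S : Subgroup G)⁆ →
        (T.map (S : Subgroup G).subtype).Normal) ∧
      ∀ p : ℕ, ∃ N : Subgroup G, N.Characteristic ∧ Cfsg.IsPiHall {q | q.Prime ∧ p < q} N := by
  have hFn := CfsgLib.Core.isNilpotent_fittingSubgroup G
  have hle : _root_.commutator G ≤ Cfsg.fittingSubgroup G := by
    refine derived_le_fitting_of_centralizer (p := 2) hodd (E := ⊥) bot_le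
      ⟨inferInstance, fun b hb => by rw [mem_bot.1 hb, one_pow]⟩ fun q hq => ?_
    have := Fact.mk hq
    exact prankLE_of_le (hF q hq) inf_le_left
  have hn : Group.IsNilpotent ↥(_root_.commutator G) := CfsgLib.Core.isNilpotent_of_le hle
  refine ⟨hn, ?_, fun p => ?_⟩
  · intro q _ S T hTc hTS
    set T₀ := T.map (S : Subgroup G).subtype
    set D := _root_.commutator G with hD
    have hT₀D : T₀ ≤ D := hTS.trans (commutator_mono le_top le_top)
    have hSN : normalizer ((S : Subgroup G) : Set G) ≤ normalizer (T₀ : Set G) := fun g hg => mem_normalizer_iff.2 fun x => by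
      constructor
      · rintro ⟨w, hw, rfl⟩
        let e : (S : Subgroup G) ≃* (S : Subgroup G) := (S : Subgroup G).normalizerMonoidHom ⟨g, hg⟩
        exact ⟨e w, (characteristic_iff_map_eq.1 hTc e) ▸ ⟨w, hw, rfl⟩, rfl⟩
      · rintro ⟨w, hw, hwx⟩
        let e : (S : Subgroup G) ≃* (S : Subgroup G) := (S : Subgroup G).normalizerMonoidHom ⟨g⁻¹, inv_mem hg⟩
        refine ⟨e w, (characteristic_iff_map_eq.1 hTc e) ▸ ⟨w, hw, rfl⟩, ?_⟩
        show g⁻¹ * (S : Subgroup G).subtype w * g⁻¹⁻¹ = x
        rw [hwx]; group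
    have hDN : D ≤ normalizer (T₀ : Set G) := by
      refine CfsgLib.OddLocal.CN.le_of_prime_pow_mem fun y hy hpp => ?_
      obtain ⟨r, i, hr, -, hi⟩ := hpp
      have := Fact.mk hr.nat_prime
      rcases eq_or_ne r q with rfl | hrq
      · have hyS : y ∈ (S : Subgroup G) := CfsgLib.Core.pCore_le_sylow S
          (mem_pCore_of_mem_nilpotent hy hi.symm)
        exact hSN (le_normalizer hyS)
      · refine centralizer_le_normalizer _ (mem_centralizer_iff.2 fun t ht => ?_)
        refine (CfsgLib.OddLocal.commute_of_mem_nilpotent hn hy (hT₀D ht) ?_).symm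
        obtain ⟨w, -, rfl⟩ := ht
        obtain ⟨m, hm⟩ := IsPGroup.iff_orderOf.1 S.2 w
        show (orderOf y).Coprime (orderOf (w : G))
        rw [Subgroup.orderOf_coe, hm, ← hi]
        exact Nat.Coprime.pow _ _ ((Nat.coprime_primes hr.nat_prime Fact.out).2 hrq)
    have hMn : ((S : Subgroup G) ⊔ D).Normal := ⟨fun x hx g => by
      rw [show g * x * g⁻¹ = ⁅g, x⁆ * x by rw [commutatorElement_def]; group]
      exact mul_mem (mem_sup_right (commutator_mem_commutator (mem_top g) (mem_top x))) hx⟩
    have hfr : normalizer ((S : Subgroup G) : Set G) ⊔ ((S : Subgroup G) ⊔ D) = ⊤ := by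
      have := Sylow.normalizer_sup_eq_top (S.subtype (le_sup_left : (S : Subgroup G) ≤ (S : Subgroup G) ⊔ D))
      rwa [show ((S.subtype (le_sup_left : (S : Subgroup G) ≤ (S : Subgroup G) ⊔ D) : Sylow q ↥((S : Subgroup G) ⊔ D)) : Subgroup ↥((S : Subgroup G) ⊔ D)).map ((S : Subgroup G) ⊔ D).subtype = (S : Subgroup G)
        from map_subgroupOf_eq_of_le le_sup_left] at this
    exact normalizer_eq_top_iff.1 (eq_top_iff.2 (hfr ▸ sup_le hSN (sup_le (le_normalizer.trans hSN) hDN)))
  · set π := {q : ℕ | q.Prime ∧ p < q} with hπ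
    obtain ⟨H, hH⟩ := CfsgLib.Core.exists_piHall (G := G) π
    set F := Cfsg.fittingSubgroup G with hFdef
    -- large primes centralise the small `O_r`
    have hcent : ∀ r : ℕ, r.Prime → r ≤ p → ∀ q i : ℕ, q.Prime → p < q → ∀ h : G, orderOf h = q ^ i →
        h ∈ centralizer (Cfsg.pCore r G : Set G) := by
      intro r hr hrp q i hq hpq h hho
      have := Fact.mk hr
      set O := Cfsg.pCore r G
      by_cases hOb : O = ⊥
      · rw [hOb]; exact mem_centralizer_iff.2 fun y hy => by rw [mem_bot.1 hy, one_mul, mul_one]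
      have hr2 : r ≠ 2 := by
        rintro rfl
        rcases (CfsgLib.Core.isPGroup_pCore 2 G).card_eq_or_dvd with h' | h'
        · exact hOb (card_eq_one.1 h')
        · obtain ⟨w, hw⟩ := hodd
          have := h'.trans O.card_subgroup_dvd_card
          omega
      let χ : G →* MulAut O := MulAut.conjNormal
      have : Finite χ.range := Finite.of_surjective χ.rangeRestrict χ.rangeRestrict_surjective
      have : Group.IsSolvable χ.range := Group.isSolvable_of_surjective χ.rangeRestrict_surjective
      obtain ⟨-, h2⟩ := CfsgLib.OddLocal.RankTwoAut.rankTwo_aut (p := r) (A := χ.range)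
        (hodd.of_dvd_nat (card_range_dvd χ)) hr2 (CfsgLib.Core.isPGroup_pCore r G)
        (prankLE_of_le (hF r hr) (CfsgLib.Core.pCore_le_fittingSubgroup r)) χ.range.subtype
        (fun a ha _ => Subtype.ext ha)
      have h1 : χ.rangeRestrict h = 1 := by
        obtain ⟨m, -, hm⟩ := (Nat.dvd_prime_pow hq).1 (hho ▸ orderOf_map_dvd χ.rangeRestrict h)
        rcases Nat.eq_zero_or_pos m with rfl | hm0
        · exact orderOf_eq_one_iff.1 (by simpa using hm)
        exfalso
        have hb : orderOf (χ.rangeRestrict h ^ q ^ (m - 1)) = q := by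
          rw [orderOf_pow, hm, Nat.gcd_eq_right (Nat.pow_dvd_pow q (by omega)),
            Nat.pow_div (by omega) hq.pos, show m - (m - 1) = 1 by omega, pow_one]
        have := h2 _ (hb ▸ hq) (by rw [hb]; omega)
        rw [hb] at this
        omega
      refine mem_centralizer_iff.2 fun y hy => ?_
      have h3 := congrArg (fun w : χ.range => (((w : MulAut O) ⟨y, hy⟩ : O) : G)) h1
      simp only [MonoidHom.coe_rangeRestrict, OneMemClass.coe_one, χ, MulAut.conjNormal_apply,
        MulAut.one_apply] at h3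
      exact (mul_inv_eq_iff_eq_mul.1 h3).symm
    have hFN : F ≤ normalizer (H : Set G) := by
      refine CfsgLib.OddLocal.CN.le_of_prime_pow_mem fun y hy hpp => ?_
      obtain ⟨r, i, hr, -, hi⟩ := hpp
      have := Fact.mk hr.nat_prime
      have hyO := mem_pCore_of_mem_nilpotent hy hi.symm
      by_cases hrp : r ≤ p
      · refine centralizer_le_normalizer _ ?_
        have hHy : H ≤ centralizer ({y} : Set G) := by
          refine CfsgLib.OddLocal.CN.le_of_prime_pow_mem fun h hh hpp' => ?_
          obtain ⟨q, k, hq, hk0, hk⟩ := hpp'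
          have hqπ := hH.1 q hq.nat_prime ((dvd_pow_self q hk0.ne').trans
            (hk ▸ H.orderOf_dvd_natCard hh))
          exact mem_centralizer_singleton_iff.2 (mem_centralizer_iff.1
            (hcent r hr.nat_prime hrp q k hq.nat_prime hqπ.2 h hk.symm) y hyO).symm
        exact mem_centralizer_iff.2 fun h hh => mem_centralizer_singleton_iff.1 (hHy hh)
      · refine le_normalizer (CfsgLib.Core.le_of_coprime_index (H := H) (M := Cfsg.pCore r G)
          (CfsgLib.Core.le_normalizer_of_normal H _) ?_ hyO)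
        obtain ⟨m, hm⟩ := (CfsgLib.Core.isPGroup_pCore r G).exists_card_eq
        rw [hm]
        exact ((hr.nat_prime.coprime_iff_not_dvd).2 (hH.2 r hr.nat_prime ⟨hr.nat_prime, by omega⟩)).pow_left m
    set M := H ⊔ F with hM
    have hMn : M.Normal := ⟨fun x hx g => by
      rw [show g * x * g⁻¹ = ⁅g, x⁆ * x by rw [commutatorElement_def]; group]
      exact mul_mem (mem_sup_right (hle (commutator_mem_commutator (mem_top g) (mem_top x)))) hx⟩
    have hHM : (H.subgroupOf M).Normal :=
      (normal_subgroupOf_iff_le_normalizer le_sup_left).2 (sup_le le_normalizer hFN)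
    refine ⟨H, characteristic_iff_map_le.2 fun φ => ?_, hH⟩
    rintro _ ⟨h, hh, rfl⟩
    have hco : (orderOf (φ.toMonoidHom h)).Coprime H.index := by
      refine (CfsgLib.Core.piHall_coprime hH).coprime_dvd_left ?_
      rw [show orderOf (φ.toMonoidHom h) = orderOf h from φ.orderOf_eq h]
      exact H.orderOf_dvd_natCard hh
    have hhM : φ.toMonoidHom h ∈ M :=
      mem_of_coprime_index M (hco.coprime_dvd_right (index_dvd_of_le le_sup_left))
    exact mem_subgroupOf.1 (mem_of_coprime_index (H.subgroupOf M) (g := ⟨_, hhM⟩) (by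
      rw [orderOf_mk]
      exact hco.coprime_dvd_right (CfsgLib.HallGen.relIndex_dvd_index_right _ _)))

end CfsgLib.OddLocal.RankTwoFitting
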