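import Cfsg.Agent.S3769
import Cfsg.Agent.Lib.OddLocal.CNGroup
import Cfsg.Agent.Lib.OddLocal.RankTwoFitting
import Cfsg.Agent.Lib.Core.Coprime
import Cfsg.Agent.Lib.PGroups.Basic
import Cfsg.Prelude.Def_OddOrderLocal

/-!
An operator group of prime order without fixed points on the Fitting subgroup.
-/

set_option autoImplicit false

namespace CfsgLib.OddLocal.PrimeActionFitting

open Subgroup
open scoped commutatorElement

variable {G : Type*} [Group G] [Finite G]

/-- The fixed point free theorem on a group of prime power order. -/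
theorem commutator_le_centralizer {p r : ℕ} (hp : p.Prime) [hr : Fact r.Prime] (R Q V : Subgroup G)
    (hs : Group.IsSolvable G) (hodd : Odd (Nat.card G)) (hR : Nat.card R = p)
    (hRQ : R ≤ normalizer (Q : Set G)) (hV : IsPGroup r V) (hQV : Q ≤ normalizer (V : Set G))
    (hRV : R ≤ normalizer (V : Set G)) (hQp : (Nat.card Q).Coprime p) (hQr : (Nat.card Q).Coprime r)
    (hpr : p ≠ r) (hfix : V ⊓ centralizer (R : Set G) = ⊥) : ⁅R, Q⁆ ≤ centralizer (V : Set G) := by
  set Φ := (frattini V).map V.subtype with hΦdef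
  have hΦV : Φ ≤ V := map_subtype_le _
  have hnorm : normalizer (V : Set G) ≤ normalizer (Φ : Set G) := by
    have hinv : ∀ g ∈ normalizer (V : Set G), ∀ x ∈ Φ, g * x * g⁻¹ ∈ Φ := by
      rintro g hg _ ⟨x, hx, rfl⟩
      exact ⟨V.normalizerMonoidHom ⟨g, hg⟩ x, (characteristic_iff_map_le.1
        (inferInstance : (frattini V).Characteristic) _) (mem_map_of_mem _ hx), rfl⟩
    intro g hg
    refine mem_normalizer_iff.2 fun x => ⟨hinv g hg x, fun h => ?_⟩
    have := hinv g⁻¹ (inv_mem hg) _ h
    simpa [mul_assoc] using this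
  let N := normalizer (Φ : Set G)
  set Φ' := Φ.subgroupOf N with hΦ'
  have hΦn : Φ'.Normal := normal_in_normalizer
  let π := QuotientGroup.mk' Φ'
  have hle : ∀ H : Subgroup G, H ≤ normalizer (V : Set G) → H ≤ N := fun H h => h.trans hnorm
  let im : Subgroup G → Subgroup (N ⧸ Φ') := fun H => (H.subgroupOf N).map π
  have hVN : V ≤ N := hle V le_normalizer
  have hQN := hle Q hQV
  have hRN := hle R hRV
  have himdvd : ∀ H : Subgroup G, H ≤ N → Nat.card (im H) ∣ Nat.card H := fun H hH =>
    (card_map_dvd _ _).trans (Nat.card_congr (subgroupOfEquivOfLe hH).toEquiv).dvd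
  have hVe : Cfsg.IsElementaryAbelian r (im V) := by
    refine ⟨⟨⟨?_⟩⟩, ?_⟩
    · rintro ⟨_, ⟨a, ha, rfl⟩⟩ ⟨_, ⟨b, hb, rfl⟩⟩
      refine Subtype.ext ?_
      show π a * π b = π b * π a
      rw [← commutatorElement_eq_one_iff_mul_comm, ← map_commutatorElement]
      refine (QuotientGroup.eq_one_iff _).2 (mem_subgroupOf.2 ?_)
      exact ⟨⁅(⟨(a : G), ha⟩ : V), ⟨(b : G), hb⟩⁆, CfsgLib.PGroups.commutator_le_frattini' hV
        (commutator_mem_commutator (mem_top _) (mem_top _)), rfl⟩
    · rintro _ ⟨a, ha, rfl⟩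
      rw [← map_pow]
      refine (QuotientGroup.eq_one_iff _).2 (mem_subgroupOf.2 ?_)
      exact ⟨_, CfsgLib.PGroups.pow_mem_frattini hV (⟨(a : G), ha⟩ : V), rfl⟩
  have hVr : r ∈ ({r} : Set ℕ) := rfl
  have hrp : ∀ n, n ∣ Nat.card V → (p.Coprime n) := fun n hn => by
    obtain ⟨k, hk⟩ := IsPGroup.iff_card.1 hV
    exact (((Nat.coprime_primes hp hr.out).2 hpr).pow_right k).coprime_dvd_right (hk ▸ hn)
  have hΦcard : Nat.card Φ' ∣ Nat.card V := by
    rw [Nat.card_congr (subgroupOfEquivOfLe (hΦV.trans hVN)).toEquiv]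
    exact card_dvd_of_le hΦV
  have hRcard : Nat.card (im R) = p := by
    rcases (Nat.dvd_prime hp).1 (hR ▸ himdvd R hRN) with h | h
    · exfalso
      have hle : R.subgroupOf N ≤ Φ' := by
        have h1 := card_eq_one.1 h
        rwa [Subgroup.map_eq_bot_iff, QuotientGroup.ker_mk'] at h1
      have h2 := (card_dvd_of_le hle).trans hΦcard
      rw [Nat.card_congr (subgroupOfEquivOfLe hRN).toEquiv, hR] at h2
      have := Nat.Coprime.eq_one_of_dvd (hrp _ dvd_rfl) h2
      exact hp.ne_one this
    · exact h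
  have hQcop : (Nat.card (im Q)).Coprime p := hQp.coprime_dvd_left (himdvd Q hQN)
  have hint : im Q ⊓ im R = ⊥ := Subgroup.inf_eq_bot_of_coprime (by rw [hRcard]; exact hQcop)
  have hRQ' : im R ≤ normalizer (im Q : Set (N ⧸ Φ')) := by
    refine le_trans (map_mono ?_) (le_normalizer_map π)
    intro x hx
    refine mem_normalizer_iff.2 fun y => ?_
    simp only [mem_subgroupOf, coe_mul, coe_inv]
    exact mem_normalizer_iff.1 (hRQ hx) y
  have hQVn : ∀ H : Subgroup G, H ≤ normalizer (V : Set G) → im H ≤ normalizer (im V : Set (N ⧸ Φ')) := by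
    intro H hH
    refine le_trans (map_mono ?_) (le_normalizer_map π)
    intro x hx
    refine mem_normalizer_iff.2 fun y => ?_
    simp only [mem_subgroupOf, coe_mul, coe_inv]
    exact mem_normalizer_iff.1 (hH hx) y
  set GG := im Q ⊔ im R with hGG
  have hGGcard : Nat.card GG = Nat.card (im Q) * p := by
    rw [hGG, sup_comm, CfsgLib.Core.card_sup_of_coprime _ _ hRQ' (by rw [hRcard]; exact hQcop.symm), hRcard,
      mul_comm]
  have hsolG : Group.IsSolvable GG := by
    have := hs
    infer_instance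
  have hoddG : Odd (Nat.card GG) :=
    hodd.of_dvd_nat (((card_subgroup_dvd_card GG).trans (card_quotient_dvd_card Φ')).trans
      (card_subgroup_dvd_card N))
  have hlG : ¬ r ∣ Nat.card GG := by
    rw [hGGcard]
    intro h
    rcases (Nat.Prime.dvd_mul hr.out).1 h with h | h
    · exact hr.out.ne_one (Nat.Coprime.eq_one_of_dvd (hQr.coprime_dvd_left (himdvd Q hQN)).symm h)
    · exact hpr ((Nat.prime_dvd_prime_iff_eq hr.out hp).1 h).symm
  have hHall : (Nat.card (im Q)).Coprime ((im Q).relIndex GG) := by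
    have h2 : Nat.card ((im Q).subgroupOf GG) * (im Q).relIndex GG = Nat.card GG := card_mul_index _
    rw [Nat.card_congr (subgroupOfEquivOfLe (le_sup_left : im Q ≤ GG)).toEquiv, hGGcard] at h2
    rw [Nat.eq_of_mul_eq_mul_left Nat.card_pos h2]
    exact hQcop
  have hfix' : im V ⊓ centralizer (im R : Set (N ⧸ Φ')) = ⊥ := by
    refine eq_bot_iff.2 ?_
    rintro _ ⟨⟨v, hv, rfl⟩, hc⟩
    have hVs : Group.IsSolvable Φ := CfsgLib.Core.isSolvable_of_le
      (by have := hs; infer_instance : Group.IsSolvable V) hΦV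
    obtain ⟨n, hn, hvn⟩ := CfsgLib.Core.exists_centralizing_in_coset (A := R) (N := Φ) hRN
      (by rw [hR]; exact hrp _ (card_dvd_of_le hΦV)) (Or.inr hVs) (k := (v : G)) fun a ha => by
        have h1 := mem_centralizer_iff.1 hc (π ⟨a, hRN ha⟩) ⟨_, mem_subgroupOf.2 ha, rfl⟩
        have h2 : π v = π (⟨a, hRN ha⟩ * v * ⟨a, hRN ha⟩⁻¹) := by
          rw [map_mul, map_mul, map_inv, h1, mul_inv_cancel_right]
        have h3 := mem_subgroupOf.1 (QuotientGroup.eq.1 h2)
        simpa using h3
    have h4 : (v : G) * n ∈ (⊥ : Subgroup G) := hfix ▸ ⟨mul_mem hv (hΦV hn), hvn⟩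
    rw [mem_bot] at h4 ⊢
    refine (QuotientGroup.eq_one_iff v).2 (mem_subgroupOf.2 ?_)
    rw [eq_inv_of_mul_eq_one_left h4]
    exact inv_mem hn
  have key := Cfsg.Agent.S3769.result GG hsolG hoddG (im V) hr.out hVe hlG
    (sup_le (hQVn Q hQV) (hQVn R hRV)) (im Q) (im R) le_sup_left
    (sup_le le_normalizer hRQ') hHall le_sup_right (hRcard.symm ▸ hp) hint rfl hfix'
  -- back to `G`
  set A := ⁅R, Q⁆
  have hAQ : A ≤ Q := le_normalizer_iff_commutator_le_right.1 hRQ
  have hVΦ : (Nat.card A).Coprime (Nat.card (frattini V)) := by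
    obtain ⟨k, hk⟩ := IsPGroup.iff_card.1 (hV.to_subgroup (frattini V))
    rw [hk]
    exact (hQr.coprime_dvd_left (card_dvd_of_le hAQ)).pow_right k
  refine CfsgLib.Core.centralizes_of_centralizes_frattini_quotient (hAQ.trans hQV) hVΦ fun a ha v hv => ?_
  have hmap : π ⟨a, hQN (hAQ ha)⟩ ∈ ⁅im R, im Q⁆ := by
    rw [← Subgroup.map_commutator]
    refine mem_map_of_mem π ?_
    have h1 : (⁅R.subgroupOf N, Q.subgroupOf N⁆).map N.subtype = ⁅R, Q⁆ := by
      rw [Subgroup.map_commutator, map_subgroupOf_eq_of_le hRN, map_subgroupOf_eq_of_le hQN]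
    obtain ⟨w, hw, hwa⟩ := h1.ge ha
    rwa [show (⟨a, hQN (hAQ ha)⟩ : N) = w from Subtype.ext hwa.symm]
  have h2 := mem_centralizer_iff.1 (key hmap) (π ⟨v, hVN hv⟩) ⟨_, mem_subgroupOf.2 hv, rfl⟩
  have h3 : π (⟨a, hQN (hAQ ha)⟩ * ⟨v, hVN hv⟩ * ⟨a, hQN (hAQ ha)⟩⁻¹ * ⟨v, hVN hv⟩⁻¹) = 1 := by
    rw [map_mul, map_mul, map_mul, ← h2, map_inv, map_inv, mul_inv_cancel_right, mul_inv_cancel]
  exact mem_subgroupOf.1 ((QuotientGroup.eq_one_iff _).1 h3)

theorem normal_fittingOf (K : Subgroup G) [K.Normal] : (Cfsg.fittingOf K).Normal :=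
  ⟨fun x hx g => by
    obtain ⟨y, hy, rfl⟩ := hx
    exact ⟨MulAut.conjNormal g y, (characteristic_iff_map_le.1
      (inferInstance : (Cfsg.fittingSubgroup K).Characteristic) (MulAut.conjNormal g)) (mem_map_of_mem _ hy),
      MulAut.conjNormal_apply g y⟩⟩

/-- A prime order operator group without fixed points on the Fitting subgroup. -/
theorem commutator_le_fitting_of_prime {p : ℕ} (hp : p.Prime) (hs : Group.IsSolvable G)
    (hodd : Odd (Nat.card G)) (K R : Subgroup G) [K.Normal] (hR : Nat.card R = p)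
    (hcop : (Nat.card K).Coprime p) (hfix : Cfsg.fittingOf K ⊓ centralizer (R : Set G) = ⊥) :
    ⁅K, R⁆ ≤ Cfsg.fittingOf K := by
  have hRn : R ≤ normalizer (K : Set G) := by rw [normalizer_eq_top_iff.2 inferInstance]; exact le_top
  set F := Cfsg.fittingOf K with hF
  have hFn : F.Normal := normal_fittingOf K
  have hFK : F ≤ K := map_subtype_le _
  have hFnil := CfsgLib.Core.isNilpotent_fittingSubgroup K
  have hKs : Group.IsSolvable K := by have := hs; infer_instance
  set π := QuotientGroup.mk' F with hπ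
  set Kb := K.map π with hKb
  have hKbn : Kb.Normal := (inferInstance : K.Normal).map π (QuotientGroup.mk'_surjective F)
  set Fb := Cfsg.fittingOf Kb with hFb
  have hFbn : Fb.Normal := normal_fittingOf Kb
  have hFbK : Fb ≤ Kb := map_subtype_le _
  set P := Fb.comap π with hP
  have hPn : P.Normal := inferInstance
  have hFP : F ≤ P := fun x hx => by
    show π x ∈ Fb
    rw [show π x = 1 from (QuotientGroup.eq_one_iff x).2 hx]
    exact one_mem _
  have hPK : P ≤ K := by
    intro x hx
    obtain ⟨k, hk, hkx⟩ := hFbK hx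
    rw [show x = k * (k⁻¹ * x) by group]
    exact mul_mem hk (hFK (QuotientGroup.eq.1 hkx))
  have hPcop : (Nat.card R).Coprime (Nat.card P) := by
    rw [hR]; exact (hcop.coprime_dvd_left (card_dvd_of_le hPK)).symm
  have hPs : Group.IsSolvable P := by have := hs; infer_instance
  -- each invariant Sylow subgroup of `P`
  have hsyl : ∀ q : ℕ, q.Prime → ∃ S : Sylow q P,
      ∀ x ∈ R, ∀ y ∈ (S : Subgroup P), ⁅(y : G), x⁆ ∈ F := by
    intro q hq
    have := Fact.mk hq
    obtain ⟨S, hS⟩ := CfsgLib.Core.exists_invariant_sylow (K := P)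
      (by rw [normalizer_eq_top_iff.2 inferInstance]; exact le_top) hPcop (Or.inr hPs) q
    refine ⟨S, ?_⟩
    set Q := (S : Subgroup P).map P.subtype with hQ
    have hQP : Q ≤ P := map_subtype_le _
    have hQq : IsPGroup q Q := S.2.map P.subtype
    -- the image is normal
    let f : P →* Fb := π.subgroupComap Fb
    have hfs : Function.Surjective f :=
      MonoidHom.subgroupComap_surjective_of_surjective _ _ (QuotientGroup.mk'_surjective F)
    let T : Sylow q Fb := S.mapSurjective hfs
    have hTn : (T : Subgroup Fb).Normal := by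
      have := CfsgLib.Core.isNilpotent_fittingSubgroup Kb
      have : Group.IsNilpotent Fb := Group.nilpotent_of_mulEquiv
        ((Cfsg.fittingSubgroup Kb).equivMapOfInjective Kb.subtype Kb.subtype_injective)
      infer_instance
    have hTc := T.characteristic_of_normal hTn
    have hTG : ((T : Subgroup Fb).map Fb.subtype).Normal := inferInstance
    have hQT : Q.map π = (T : Subgroup Fb).map Fb.subtype := by
      rw [hQ, Subgroup.map_map, show (T : Subgroup Fb) = (S : Subgroup P).map f from rfl, Subgroup.map_map]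
      rfl
    set PQ := (Q.map π).comap π with hPQ
    have hPQn : PQ.Normal := (hQT ▸ hTG : (Q.map π).Normal).comap π
    have hPQe : PQ = Q ⊔ F := by
      rw [hPQ, comap_map_eq, hπ, QuotientGroup.ker_mk']
    have hPQK : PQ ≤ K := hPQe ▸ sup_le (hQP.trans hPK) hFK
    let Fr : ℕ → Subgroup G := fun r => (Cfsg.pCore r K).map K.subtype
    have hFrn : ∀ r : ℕ, (Fr r).Normal := fun r => ⟨fun x hx g => by
      obtain ⟨y, hy, rfl⟩ := hx
      exact ⟨MulAut.conjNormal g y, (characteristic_iff_map_le.1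
        (inferInstance : (Cfsg.pCore r K).Characteristic) (MulAut.conjNormal g)) (mem_map_of_mem _ hy),
        MulAut.conjNormal_apply g y⟩⟩
    -- the elements centralising the other parts of `F`
    let X : Subgroup G :=
      { carrier := {g | g ∈ PQ ∧ ∀ r : ℕ, r.Prime → r ≠ q → g ∈ centralizer (Fr r : Set G)}
        one_mem' := ⟨one_mem _, fun _ _ _ => one_mem _⟩
        mul_mem' := fun ha hb => ⟨mul_mem ha.1 hb.1, fun r hr hne => mul_mem (ha.2 r hr hne) (hb.2 r hr hne)⟩
        inv_mem' := fun ha => ⟨inv_mem ha.1, fun r hr hne => inv_mem (ha.2 r hr hne)⟩ }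
    have hXn : X.Normal := ⟨fun g hg c => ⟨hPQn.conj_mem g hg.1 c, fun r hr hne =>
      have := hFrn r
      (inferInstance : (centralizer (Fr r : Set G)).Normal).conj_mem g (hg.2 r hr hne) c⟩⟩
    have hXK : X ≤ K := fun g hg => hPQK hg.1
    have hXF : X ≤ F := by
      obtain ⟨W⟩ : Nonempty (Sylow q X) := inferInstance
      have hcentral : ∀ g ∈ X, ∀ s i : ℕ, s.Prime → s ≠ q → orderOf g = s ^ i → ∀ y ∈ X, y * g = g * y := by
        intro g hg s i hs hsq hgo y hy
        have := Fact.mk hs
        have hgF : g ∈ F := by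
          refine (QuotientGroup.eq_one_iff g).1 ?_
          obtain ⟨j, hj⟩ := IsPGroup.iff_orderOf.1 (hQq.map π) ⟨π g, (mem_comap.1 hg.1 : π g ∈ Q.map π)⟩
          rw [orderOf_mk] at hj
          exact orderOf_eq_one_iff.1 (Nat.eq_one_of_dvd_coprimes
            (((Nat.coprime_primes hs hq).2 hsq).pow i j) (hgo ▸ orderOf_map_dvd π g) hj.dvd)
        obtain ⟨g', hg', rfl⟩ := hgF
        have hmem : g' ∈ Cfsg.pCore s K :=
          RankTwoFitting.mem_pCore_of_mem_nilpotent hg' (by rw [← hgo]; exact (Subgroup.orderOf_coe g').symm)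
        exact (mem_centralizer_iff.1 (hy.2 s hs hsq) _ ⟨g', hmem, rfl⟩).symm
      have htop : center X ⊔ (W : Subgroup X) = ⊤ := by
        refine CfsgLib.Core.eq_top_of_forall_exists_sylow_le _ fun s hs _ => ?_
        have := Fact.mk hs
        rcases eq_or_ne s q with rfl | hsq
        · exact ⟨W, le_sup_right⟩
        obtain ⟨S'⟩ : Nonempty (Sylow s X) := inferInstance
        refine ⟨S', fun g hg => mem_sup_left (mem_center_iff.2 fun y => ?_)⟩
        obtain ⟨i, hi⟩ := IsPGroup.iff_orderOf.1 S'.2 ⟨g, hg⟩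
        rw [orderOf_mk, ← Subgroup.orderOf_coe] at hi
        exact Subtype.ext (hcentral g g.2 s i hs hsq hi y y.2)
      have hWnil : Group.IsNilpotent (W : Subgroup X) := W.2.isNilpotent
      have hXnil : Group.IsNilpotent X := by
        have hZnil : Group.IsNilpotent (center X) := Subgroup.isNilpotent_of_ker_le_center
          (1 : center X →* (⊥ : Subgroup X)) (fun z _ => mem_center_iff.2 fun w => Subtype.ext
            (mem_center_iff.1 z.2 w))
        have hall : Group.IsNilpotent (center X ⊔ (W : Subgroup X) : Subgroup X) :=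
          CfsgLib.Core.isNilpotent_sup_of_commute _ _ fun x hx y _ => (mem_center_iff.1 hx y).symm
        rw [htop] at hall
        exact Group.nilpotent_of_mulEquiv topEquiv
      have hX'n : (X.subgroupOf K).Normal := inferInstance
      have hX'nil : Group.IsNilpotent (X.subgroupOf K) :=
        Group.nilpotent_of_mulEquiv (subgroupOfEquivOfLe hXK).symm
      intro g hg
      exact ⟨⟨g, hXK hg⟩, CfsgLib.Core.le_fittingSubgroup hX'nil (mem_subgroupOf.2 hg), rfl⟩
    intro x hx y hy
    refine hXF ⟨?_, fun r hr hne => ?_⟩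
    · have hyPQ : (y : G) ∈ PQ := by
        rw [hPQe]; exact mem_sup_left (mem_map_of_mem P.subtype hy)
      rw [show ⁅(y : G), x⁆ = y * (x * (y : G)⁻¹ * x⁻¹) by rw [commutatorElement_def]; group]
      exact mul_mem hyPQ (hPQn.conj_mem _ (inv_mem hyPQ) x)
    · have := Fact.mk hr
      have hFr : Fr r ≤ F := map_mono (CfsgLib.Core.pCore_le_fittingSubgroup r)
      by_cases hFr1 : Fr r = ⊥
      · rw [hFr1]; exact mem_centralizer_iff.2 fun w hw => by rw [mem_bot.1 hw, one_mul, mul_one]
      have hFrp : IsPGroup r (Fr r) := (CfsgLib.Core.isPGroup_pCore r K).map K.subtype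
      have hrp : p ≠ r := by
        rintro rfl
        rcases hFrp.card_eq_or_dvd with h | h
        · exact hFr1 (card_eq_one.1 h)
        · exact hp.ne_one (hcop.symm.eq_one_of_dvd (h.trans (card_dvd_of_le (hFr.trans hFK))))
      have hQr : (Nat.card Q).Coprime r := by
        obtain ⟨j, hj⟩ := IsPGroup.iff_card.1 hQq
        rw [hj]
        exact ((Nat.coprime_primes hq hr).2 hne.symm).pow_left j
      have hFrn' := hFrn r
      have h := commutator_le_centralizer hp R Q (Fr r) hs hodd hR hS hFrp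
        (by rw [normalizer_eq_top_iff.2 inferInstance]; exact le_top) (by rw [normalizer_eq_top_iff.2 inferInstance]; exact le_top)
        (hcop.coprime_dvd_left (card_dvd_of_le (hQP.trans hPK))) hQr hrp
        (eq_bot_iff.2 ((inf_le_inf_right _ hFr).trans hfix.le))
      have h2 := inv_mem (h (commutator_mem_commutator hx (mem_map_of_mem P.subtype hy)))
      rwa [commutatorElement_inv] at h2
  -- `R` centralises `P ⧸ F`
  have hcentP : ∀ x ∈ R, ∀ y ∈ P, ⁅y, x⁆ ∈ F := by
    intro x hx
    have : ((centralizer {π x}).comap (π.comp P.subtype)) = ⊤ := by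
      refine CfsgLib.Core.eq_top_of_forall_exists_sylow_le _ fun q hq _ => ?_
      obtain ⟨S, hS⟩ := hsyl q hq
      refine ⟨S, fun y hy => mem_centralizer_singleton_iff.2 ?_⟩
      show π y * π x = π x * π y
      rw [← commutatorElement_eq_one_iff_mul_comm, ← map_commutatorElement]
      exact (QuotientGroup.eq_one_iff _).2 (hS x hx y hy)
    intro y hy
    have h1 : π y * π x = π x * π y :=
      mem_centralizer_singleton_iff.1 (this.ge (mem_top (⟨y, hy⟩ : P)))
    refine (QuotientGroup.eq_one_iff _).1 ?_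
    show π ⁅y, x⁆ = 1
    rwa [map_commutatorElement, commutatorElement_eq_one_iff_mul_comm]
  have hRcent : R.map π ≤ centralizer (Fb : Set (G ⧸ F)) := by
    rintro _ ⟨x, hx, rfl⟩
    refine mem_centralizer_iff.2 fun w hw => ?_
    obtain ⟨y, rfl⟩ := QuotientGroup.mk'_surjective F w
    rw [← commutatorElement_eq_one_iff_mul_comm, ← map_commutatorElement]
    exact (QuotientGroup.eq_one_iff _).2 (hcentP x hx y hw)
  -- hence `R` centralises `K ⧸ F`
  have hKbs : Group.IsSolvable Kb := by have := hs; infer_instance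
  have hsub : ⁅Kb, R.map π⁆ ≤ Fb := by
    refine commutator_le.2 fun k hk x hx => ?_
    have hxc : x ∈ centralizer (Fb : Set (G ⧸ F)) := hRcent hx
    have hc : ⁅k, x⁆ ∈ centralizer (Fb : Set (G ⧸ F)) := by
      have := (inferInstance : (centralizer (Fb : Set (G ⧸ F))).Normal).conj_mem x hxc k
      rw [commutatorElement_def]
      exact mul_mem this (inv_mem hxc)
    have hcK : ⁅k, x⁆ ∈ Kb := by
      rw [show ⁅k, x⁆ = k * (x * k⁻¹ * x⁻¹) by rw [commutatorElement_def]; group]
      exact mul_mem hk (hKbn.conj_mem _ (inv_mem hk) x)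
    have := CfsgLib.Components.centralizer_fitting_le_of_isSolvable (G := Kb) (x := ⟨⁅k, x⁆, hcK⟩)
      (mem_centralizer_iff.2 fun f hf => Subtype.ext (mem_centralizer_iff.1 hc _ ⟨f, hf, rfl⟩))
    exact ⟨_, this, rfl⟩
  have hKbc : (Nat.card (R.map π)).Coprime (Nat.card Kb) :=
    ((hR ▸ hcop.symm : (Nat.card R).Coprime (Nat.card K)).coprime_dvd_left (card_map_dvd _ _)).coprime_dvd_right
      (card_map_dvd _ _)
  have hnorm : R.map π ≤ normalizer (Kb : Set (G ⧸ F)) := by rw [normalizer_eq_top_iff.2 inferInstance]; exact le_top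
  have hbot : ⁅Kb, R.map π⁆ = ⊥ := by
    rw [← CfsgLib.Core.commutator_commutator_eq hnorm hKbc (Or.inr hKbs), eq_bot_iff]
    refine (commutator_mono hsub le_rfl).trans (le_of_eq ?_)
    rw [commutator_eq_bot_iff_le_centralizer]
    exact le_centralizer_iff.1 hRcent
  rw [hKb, ← Subgroup.map_commutator, Subgroup.map_eq_bot_iff, hπ, QuotientGroup.ker_mk'] at hbot
  exact hbot

end CfsgLib.OddLocal.PrimeActionFitting
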