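import Cfsg.Agent.Lib.OddLocal.PLengthOne
import Cfsg.Agent.Lib.OddLocal.PLengthEndgame
import Cfsg.Agent.Lib.OddLocal.PrimeActionFitting
import Cfsg.Agent.Lib.Core.MinNormal
import Cfsg.Agent.Lib.Core.SchurZassenhaus
import Cfsg.Prelude.Def_Transfer

/-!
`p`-length one of a commutator with an operator group having small fixed points.
-/

set_option autoImplicit false

namespace CfsgLib.OddLocal.CommutatorPLength

open Subgroup
open scoped commutatorElement Pointwise

universe u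

variable {G : Type u} [Group G] [Finite G] {p : ℕ} [hp : Fact p.Prime]

/-- A normal Sylow subgroup contains every `p`-element. -/
theorem mem_sylow_of_isPGroup {H : Type*} [Group H] [Finite H] (S : Sylow p H) (hn : (S : Subgroup H).Normal)
    (T : Subgroup H) (hT : IsPGroup p T) : T ≤ S := by
  have h := hT.to_sup_of_normal_right (K := (S : Subgroup H)) S.2
  exact le_sup_left.trans (S.3 h le_sup_right).le

theorem normalizer_inf_le {A B C : Subgroup G} (hB : A ≤ normalizer (B : Set G)) (hC : A ≤ normalizer (C : Set G)) :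
    A ≤ normalizer ((B ⊓ C : Subgroup G) : Set G) :=
  le_normalizer_iff.2 fun a ha x hx => ⟨CfsgLib.Core.conj_mem_of_le_normalizer hB ha hx.1,
    CfsgLib.Core.conj_mem_of_le_normalizer hC ha hx.2⟩

theorem normalizer_sup_le {A B C : Subgroup G} (hB : A ≤ normalizer (B : Set G)) (hC : A ≤ normalizer (C : Set G)) :
    A ≤ normalizer ((B ⊔ C : Subgroup G) : Set G) := by
  intro a ha
  rw [CfsgLib.Core.mem_normalizer_iff_conj_smul_eq, smul_sup,
    CfsgLib.Core.mem_normalizer_iff_conj_smul_eq.1 (hB ha), CfsgLib.Core.mem_normalizer_iff_conj_smul_eq.1 (hC ha)]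

theorem normalizer_centralizer_le {A B : Subgroup G} (hB : A ≤ normalizer (B : Set G)) :
    A ≤ normalizer (centralizer (B : Set G) : Set G) :=
  le_normalizer_iff.2 fun a ha x hx => mem_centralizer_iff.2 fun b hb => by
    have h := mem_centralizer_iff.1 hx _ (CfsgLib.Core.conj_mem_of_le_normalizer' hB ha hb)
    calc b * (a * x * a⁻¹) = a * ((a⁻¹ * b * a) * x) * a⁻¹ := by group
      _ = a * (x * (a⁻¹ * b * a)) * a⁻¹ := by rw [h]
      _ = _ := by group

theorem normalizer_pCore_le (Y : Subgroup G) :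
    normalizer (Y : Set G) ≤ normalizer ((Cfsg.pCore p Y).map Y.subtype : Set G) :=
  PLengthEndgame.normalizer_le_char Y _

theorem normalizer_pPrimeCore_le (Y : Subgroup G) :
    normalizer (Y : Set G) ≤ normalizer ((Cfsg.pPrimeCore p Y).map Y.subtype : Set G) :=
  PLengthEndgame.normalizer_le_char Y _

/-- A normal `p'`-subgroup lies in the `p'`-core. -/
theorem le_map_pPrimeCore {Y N : Subgroup G} (hN : N ≤ Y) (hY : Y ≤ normalizer (N : Set G))
    (hc : (Nat.card N).Coprime p) : N ≤ (Cfsg.pPrimeCore p Y).map Y.subtype := by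
  have : (N.subgroupOf Y).Normal := normal_subgroupOf_of_le_normalizer hY
  rw [← map_subgroupOf_eq_of_le hN]
  refine map_mono (CfsgLib.Core.le_pPrimeCore ?_)
  rwa [Nat.card_congr (subgroupOfEquivOfLe hN).toEquiv]

theorem le_map_pCore {Y N : Subgroup G} (hN : N ≤ Y) (hY : Y ≤ normalizer (N : Set G))
    (hc : IsPGroup p N) : N ≤ (Cfsg.pCore p Y).map Y.subtype := by
  have : (N.subgroupOf Y).Normal := normal_subgroupOf_of_le_normalizer hY
  rw [← map_subgroupOf_eq_of_le hN]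
  exact map_mono (CfsgLib.Core.le_pCore (hc.of_equiv (subgroupOfEquivOfLe hN).symm))

/-- The hypotheses on a normalised group and its operators. -/
def Hyp (H R R₀ : Subgroup G) : Prop :=
  Group.IsSolvable G ∧ Odd (Nat.card G) ∧ R ≤ normalizer (H : Set G) ∧ (Nat.card R).Coprime (Nat.card H) ∧
    R₀ ≤ R ∧ (Nat.card R₀).Prime ∧ IsZGroup ↥(H ⊓ centralizer (R₀ : Set G))

theorem hyp_of_le {H H₁ R R₀ : Subgroup G} (h : Hyp H R R₀) (hle : H₁ ≤ H) (hn : R ≤ normalizer (H₁ : Set G)) :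
    Hyp H₁ R R₀ := by
  obtain ⟨h1, h2, -, h4, h5, h6, h7⟩ := h
  exact ⟨h1, h2, hn, h4.coprime_dvd_right (card_dvd_of_le hle), h5, h6,
    IsZGroup.of_injective (f := inclusion (inf_le_inf_right _ hle)) (inclusion_injective _)⟩

variable (p) in
/-- The induction hypothesis below a given order. -/
def IH (n : ℕ) : Prop :=
  ∀ (G' : Type u) [Group G'] [Finite G'] (H R R₀ : Subgroup G'), Nat.card H < n → Hyp H R R₀ → ⁅H, R⁆ = H →
    Cfsg.PLengthLE p 1 H

/-- The induction hypothesis applies to a quotient. -/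
theorem quot_step {H R R₀ : Subgroup G} (h : Hyp H R R₀) (hHR : ⁅H, R⁆ = H) (ih : IH.{u} p (Nat.card H))
    {N : Subgroup G} (hNH : N ≤ H) (hHN : H ≤ normalizer (N : Set G)) (hRN : R ≤ normalizer (N : Set G))
    (hN : N ≠ ⊥) :
    Cfsg.PLengthLE p 1 ((H.subgroupOf (normalizer (N : Set G))).map
      (QuotientGroup.mk' (N.subgroupOf (normalizer (N : Set G))))) := by
  obtain ⟨h1, h2, h3, h4, h5, h6, h7⟩ := h
  set Nz := normalizer (N : Set G) with hNz
  set π := QuotientGroup.mk' (N.subgroupOf Nz) with hπ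
  set f : Subgroup G → Subgroup (Nz ⧸ N.subgroupOf Nz) := fun K => (K.subgroupOf Nz).map π with hfdef
  have hdvd : ∀ K : Subgroup G, K ≤ Nz → Nat.card (f K) ∣ Nat.card K := fun K hK =>
    (card_map_dvd _ _).trans (Nat.card_congr (subgroupOfEquivOfLe hK).toEquiv).dvd
  have hlt : Nat.card (f H) < Nat.card H := by
    have h8 := CfsgLib.Core.card_mul_card_map_mk' (N.subgroupOf Nz) (H.subgroupOf Nz) (subgroupOf_mono _ hNH)
    rw [Nat.card_congr (subgroupOfEquivOfLe hHN).toEquiv,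
      Nat.card_congr (subgroupOfEquivOfLe (le_normalizer : N ≤ Nz)).toEquiv] at h8
    rw [← h8]
    exact lt_mul_of_one_lt_left Nat.card_pos ((Subgroup.one_lt_card_iff_ne_bot N).2 hN)
  have hR₀N : R₀ ≤ Nz := h5.trans hRN
  have hcop₀ : (Nat.card R₀).Coprime (Nat.card N) :=
    (h4.coprime_dvd_left (card_dvd_of_le h5)).coprime_dvd_right (card_dvd_of_le hNH)
  refine ih _ (f H) (f R) (f R₀) hlt ⟨?_, ?_, ?_, ?_, map_mono (subgroupOf_mono _ h5), ?_, ?_⟩ ?_
  · exact Group.isSolvable_of_surjective (QuotientGroup.mk'_surjective (N.subgroupOf Nz))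
  · exact h2.of_dvd_nat ((card_quotient_dvd_card _).trans (card_subgroup_dvd_card Nz))
  · refine le_normalizer_iff.2 ?_
    rintro _ ⟨a, ha, rfl⟩ _ ⟨x, hx, rfl⟩
    rw [← map_inv, ← map_mul, ← map_mul]
    exact mem_map_of_mem π (CfsgLib.Core.conj_mem_of_le_normalizer h3 ha hx)
  · exact (h4.coprime_dvd_left (hdvd R hRN)).coprime_dvd_right (hdvd H hHN)
  · have hR₀ : Nat.card (f R₀) = Nat.card R₀ := by
      rcases (Nat.dvd_prime h6).1 (hdvd R₀ hR₀N) with he | he
      · exfalso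
        have hle : R₀ ≤ N := fun x hx => by
          have hm : π ⟨x, hR₀N hx⟩ ∈ f R₀ :=
            mem_map_of_mem π (show (⟨x, hR₀N hx⟩ : Nz) ∈ R₀.subgroupOf Nz from hx)
          rw [card_eq_one.1 he, mem_bot] at hm
          exact (QuotientGroup.eq_one_iff (⟨x, hR₀N hx⟩ : Nz)).1 hm
        exact h6.ne_one (Nat.eq_one_of_dvd_coprimes hcop₀ dvd_rfl (card_dvd_of_le hle))
      · exact he
    rwa [hR₀]
  · -- fixed points lift
    set D := (H ⊓ centralizer (R₀ : Set G)).subgroupOf Nz with hD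
    have hle : f H ⊓ centralizer (f R₀ : Set (Nz ⧸ N.subgroupOf Nz)) ≤ D.map π := by
      rintro _ ⟨⟨x, hx, rfl⟩, hxc⟩
      obtain ⟨n, hn, hc⟩ := CfsgLib.Core.exists_centralizing_in_coset (A := R₀) (N := N) hR₀N hcop₀
        (Or.inl inferInstance) (k := (x : G)) fun a ha => by
          have h9 := mem_centralizer_iff.1 hxc _ (mem_map_of_mem π (show (⟨a, hR₀N ha⟩ : Nz) ∈ R₀.subgroupOf Nz from ha))
          rw [← map_mul, ← map_mul] at h9
          have h10 : (x⁻¹ * (⟨a, hR₀N ha⟩ * x * ⟨a, hR₀N ha⟩⁻¹) : Nz) ∈ N.subgroupOf Nz := by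
            rw [← QuotientGroup.eq_one_iff]
            show π (x⁻¹ * (⟨a, hR₀N ha⟩ * x * ⟨a, hR₀N ha⟩⁻¹)) = 1
            simp only [map_mul, map_inv] at h9 ⊢
            rw [h9]
            group
          exact h10
      refine ⟨x * ⟨n, le_normalizer hn⟩, ⟨mul_mem hx (hNH hn), hc⟩, ?_⟩
      rw [map_mul, show π ⟨n, le_normalizer hn⟩ = 1 from (QuotientGroup.eq_one_iff _).2 hn, mul_one]
    have : IsZGroup D := IsZGroup.of_injective
      (f := (subgroupOfEquivOfLe (inf_le_left.trans hHN)).toMonoidHom) (MulEquiv.injective _)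
    have : IsZGroup (D.map π) := IsZGroup.of_surjective (π.subgroupMap_surjective D)
    exact IsZGroup.of_injective (f := inclusion hle) (inclusion_injective hle)
  · rw [hfdef, ← map_commutator]
    congr 1
    refine Subgroup.map_injective Nz.subtype_injective ?_
    rw [map_commutator, map_subgroupOf_eq_of_le hHN, map_subgroupOf_eq_of_le hRN, hHR]

/-- A commutator with the operators inherits the property from the induction hypothesis. -/
theorem sub_step {H R R₀ : Subgroup G} (h : Hyp H R R₀) (ih : IH.{u} p (Nat.card H)) {M : Subgroup G}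
    (hMH : M ≤ H) (hne : M ≠ H) (hRM : R ≤ normalizer (M : Set G)) : Cfsg.PLengthLE p 1 ↥⁅M, R⁆ := by
  have hcop : (Nat.card R).Coprime (Nat.card M) := h.2.2.2.1.coprime_dvd_right (card_dvd_of_le hMH)
  have hle : ⁅M, R⁆ ≤ M := CfsgLib.Core.commutator_le_of_normalizes hRM
  have : Group.IsSolvable G := h.1
  refine ih G _ R R₀ ?_ (hyp_of_le h (hle.trans hMH) (normalizer_commutator_ge_right M R))
    (CfsgLib.Core.commutator_commutator_eq hRM hcop (Or.inl inferInstance))
  exact lt_of_le_of_lt (card_le_of_le hle) (CfsgLib.Transfer.card_lt_of_lt (lt_of_le_of_ne hMH hne))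

omit [Finite G] in
theorem of_inf {A B : Subgroup G} (h : A ⊓ B = ⊥) {x : G} (ha : x ∈ A) (hb : x ∈ B) : x = 1 :=
  mem_bot.1 (h ▸ mem_inf.2 ⟨ha, hb⟩)

/-- The configuration of a minimal counterexample. -/
structure Config (H R R₀ W K X P : Subgroup G) (p : ℕ) : Prop where
  hW : W ≤ H
  hWn : H ⊔ R ≤ normalizer (W : Set G)
  hWp : IsPGroup p W
  hWe : Cfsg.IsElementaryAbelian p W
  hWmin : ∀ N : Subgroup G, N ≤ W → H ⊔ R ≤ normalizer (N : Set G) → N = ⊥ ∨ N = W
  hX : X ≤ H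
  hWX : W ⊔ X = H
  hWXi : W ⊓ X = ⊥
  hRX : R ≤ normalizer (X : Set G)
  hCX : X ⊓ centralizer (W : Set G) = ⊥
  hK : K ≤ X
  hKn : X ⊔ R ≤ normalizer (K : Set G)
  hKc : (Nat.card K).Coprime p
  hCK : W ⊓ centralizer (K : Set G) = ⊥
  hP : P ≤ X
  hPp : IsPGroup p P
  hPs : ¬ p ∣ P.relIndex X
  hRP : R ≤ normalizer (P : Set G)
  hP1 : P ≠ ⊥
  hKP : X ≤ normalizer ((K ⊔ P : Subgroup G) : Set G)
  hKN : X ≤ K ⊔ (X ⊓ normalizer (P : Set G))
  hOp : ∀ T : Subgroup G, T ≤ X → X ⊔ R ≤ normalizer (T : Set G) → IsPGroup p T → T = ⊥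
  hXR : ⁅X, R⁆ = X
  hsub : ∀ L : Subgroup G, L ≤ X → L ≠ X → R ≤ normalizer (L : Set G) → P ≤ L →
    ∃ T : Subgroup G, T ≤ L ∧ IsPGroup p T ∧ L ≤ normalizer (T : Set G) ∧ ⁅P, R⁆ ≤ T

/-- A counterexample has a configuration. -/
theorem exists_config {H R R₀ : Subgroup G} (h : Hyp H R R₀) (hHR : ⁅H, R⁆ = H) (ih : IH.{u} p (Nat.card H))
    (hO : Cfsg.pPrimeCore p H = ⊥) (S : Sylow p H) (hS : ¬ (S : Subgroup H).Normal) :
    ∃ W K X P, Config H R R₀ W K X P p := by
  have hG : Group.IsSolvable G := h.1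
  have hRH : R ≤ normalizer (H : Set G) := h.2.2.1
  have hcop : (Nat.card R).Coprime (Nat.card H) := h.2.2.2.1
  set J := H ⊔ R with hJdef
  have hJH : J ≤ normalizer (H : Set G) := sup_le le_normalizer hRH
  have hHJ : H ≤ J := le_sup_left
  have hRJ : R ≤ J := le_sup_right
  set Op := (Cfsg.pCore p H).map H.subtype with hOp
  have hpOp : IsPGroup p Op := (CfsgLib.Core.isPGroup_pCore p H).map _
  have hne : Nontrivial H := by
    by_contra h'
    exact hS ⟨fun x hx g => by rwa [(not_nontrivial_iff_subsingleton.1 h').elim (g * x * g⁻¹) x]⟩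
  -- every invariant normal subgroup meets `O_p`
  have hmeet : ∀ Y : Subgroup G, Y ≤ H → J ≤ normalizer (Y : Set G) → Y ≠ ⊥ →
      ∃ Z : Subgroup G, Z ≤ Y ∧ J ≤ normalizer (Z : Set G) ∧ IsPGroup p Z ∧ Z ≠ ⊥ := by
    intro Y hY hYn hY1
    refine ⟨(Cfsg.pCore p Y).map Y.subtype, map_subtype_le _, hYn.trans (normalizer_pCore_le Y),
      (CfsgLib.Core.isPGroup_pCore p Y).map _, fun he => ?_⟩
    have := (Subgroup.nontrivial_iff_ne_bot Y).2 hY1
    obtain ⟨q, hq, hq1⟩ := CfsgLib.Core.exists_pCore_ne_bot (G := Y)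
    have := Fact.mk hq
    have hne' : q ≠ p := fun e => (e ▸ hq1) ((map_eq_bot_iff_of_injective _ Y.subtype_injective).1 he)
    have h1 : Nat.Coprime (Nat.card ((Cfsg.pCore q Y).map Y.subtype)) p := by
      obtain ⟨k, hk⟩ := IsPGroup.iff_card.1 ((CfsgLib.Core.isPGroup_pCore q Y).map Y.subtype)
      rw [hk]
      exact ((Nat.coprime_primes hq hp.out).2 hne').pow_left k
    have h2 := le_map_pPrimeCore (Y := H) ((map_subtype_le _).trans hY)
      (hHJ.trans (hYn.trans (normalizer_pCore_le Y))) h1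
    rw [hO, Subgroup.map_bot, le_bot_iff] at h2
    exact hq1 ((map_eq_bot_iff_of_injective _ Y.subtype_injective).1 h2)
  -- a minimal invariant subgroup
  obtain ⟨Z0, hZ0, hZ0n, hZ0p, hZ01⟩ := hmeet H le_rfl hJH ((Subgroup.nontrivial_iff_ne_bot H).1 hne)
  obtain ⟨W, -, ⟨hW1, hWH, hWn, hWp⟩, hWmin'⟩ :=
    (Set.toFinite {N : Subgroup G | N ≠ ⊥ ∧ N ≤ H ∧ J ≤ normalizer (N : Set G) ∧ IsPGroup p N}).exists_le_minimal
      (a := Z0) ⟨hZ01, hZ0, hZ0n, hZ0p⟩
  have hWmin : ∀ N : Subgroup G, N ≤ W → J ≤ normalizer (N : Set G) → N = ⊥ ∨ N = W := fun N hN hNn =>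
    or_iff_not_imp_left.2 fun hN1 =>
      le_antisymm hN (hWmin' ⟨hN1, hN.trans hWH, hNn, hWp.to_le hN⟩ hN)
  have hWe : Cfsg.IsElementaryAbelian p W := by
    have := (Subgroup.nontrivial_iff_ne_bot W).2 hW1
    have hC1 : (center W).map W.subtype ≠ ⊥ := fun e => (Subgroup.nontrivial_iff_ne_bot (center W)).1
      hWp.center_nontrivial ((map_eq_bot_iff_of_injective _ W.subtype_injective).1 e)
    have hC := (hWmin _ (map_subtype_le _) (hWn.trans (PLengthEndgame.normalizer_le_char W (center W)))).resolve_left hC1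
    have hcomm : ∀ a ∈ W, ∀ b ∈ W, a * b = b * a := by
      intro a ha b hb
      obtain ⟨b', hb', rfl⟩ := hC.ge hb
      exact congrArg Subtype.val (mem_center_iff.1 hb' ⟨a, ha⟩)
    refine ⟨⟨⟨fun a b => Subtype.ext (hcomm a a.2 b b.2)⟩⟩, ?_⟩
    let E : Subgroup G :=
      { carrier := {x | x ∈ W ∧ x ^ p = 1}
        one_mem' := ⟨one_mem W, one_pow p⟩
        mul_mem' := fun {a b} ha hb => ⟨mul_mem ha.1 hb.1, by
          rw [(show Commute a b from hcomm a ha.1 b hb.1).mul_pow, ha.2, hb.2, one_mul]⟩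
        inv_mem' := fun {a} ha => ⟨inv_mem ha.1, by rw [inv_pow, ha.2, inv_one]⟩ }
    have hEn : J ≤ normalizer (E : Set G) := le_normalizer_iff.2 fun a ha x hx =>
      ⟨CfsgLib.Core.conj_mem_of_le_normalizer hWn ha hx.1, by rw [conj_pow, hx.2, mul_one, mul_inv_cancel]⟩
    have hE1 : E ≠ ⊥ := by
      obtain ⟨n, hn0, hn⟩ := hWp.nontrivial_iff_card.1 ‹_›
      obtain ⟨x, hx⟩ := exists_prime_orderOf_dvd_card' (G := W) p (hn ▸ dvd_pow_self p hn0.ne')
      intro e
      have hxE : (x : G) ∈ E := ⟨x.2, by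
        rw [← SubgroupClass.coe_pow, ← hx, pow_orderOf_eq_one, OneMemClass.coe_one]⟩
      rw [e, mem_bot] at hxE
      rw [show x = 1 from Subtype.ext hxE, orderOf_one] at hx
      exact hp.out.ne_one hx.symm
    intro x hx
    exact (((hWmin E (fun x hx => hx.1) hEn).resolve_left hE1).ge hx).2
  have hWc : ∀ a ∈ W, ∀ b ∈ W, a * b = b * a := fun a ha b hb =>
    congrArg Subtype.val (hWe.1.is_comm.comm (⟨a, ha⟩ : W) ⟨b, hb⟩)
  have hHW : H ≤ normalizer (W : Set G) := hHJ.trans hWn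
  have hRW : R ≤ normalizer (W : Set G) := hRJ.trans hWn
  -- uniqueness
  have huniq : ∀ Y : Subgroup G, Y ≤ H → J ≤ normalizer (Y : Set G) → Y ⊓ W = ⊥ → Y = ⊥ := by
    intro Y hY hYn hYW
    by_contra hY1
    obtain ⟨Z, hZY, hZn, hZp, hZ1⟩ := hmeet Y hY hYn hY1
    let emb := fun (N : Subgroup G) (hN : H ≤ normalizer (N : Set G)) =>
      ((QuotientGroup.mk' (N.subgroupOf (normalizer (N : Set G)))).comp (inclusion hN)).rangeRestrict
    have hrange : ∀ (N : Subgroup G) (hN : H ≤ normalizer (N : Set G)),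
        ((QuotientGroup.mk' (N.subgroupOf (normalizer (N : Set G)))).comp (inclusion hN)).range =
          (H.subgroupOf (normalizer (N : Set G))).map (QuotientGroup.mk' (N.subgroupOf (normalizer (N : Set G)))) := by
      intro N hN
      rw [MonoidHom.range_comp, inclusion_range]
    have hpl : ∀ (N : Subgroup G) (hN : H ≤ normalizer (N : Set G)) (hNH : N ≤ H) (hNR : R ≤ normalizer (N : Set G))
        (_ : N ≠ ⊥), Cfsg.PLengthLE p 1
          ((QuotientGroup.mk' (N.subgroupOf (normalizer (N : Set G)))).comp (inclusion hN)).range := by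
      intro N hN hNH hNR hN1
      rw [hrange]
      exact quot_step h hHR ih hNH hN hNR hN1
    have hker : ∀ (N : Subgroup G) (hN : H ≤ normalizer (N : Set G)), (emb N hN).ker = N.subgroupOf H := by
      intro N hN
      rw [MonoidHom.ker_rangeRestrict, ← MonoidHom.comap_ker, QuotientGroup.ker_mk']
      rfl
    have hkp : ∀ (N : Subgroup G) (hN : H ≤ normalizer (N : Set G)), N ≤ H → IsPGroup p N → IsPGroup p (emb N hN).ker := by
      intro N hN hNH hNp
      rw [hker]
      exact hNp.of_equiv (subgroupOfEquivOfLe hNH).symm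
    refine hS (PLengthOne.sylow_normal_of_two (emb W hHW) (emb Z (hHJ.trans hZn))
      (MonoidHom.rangeRestrict_surjective _) (MonoidHom.rangeRestrict_surjective _) (hkp W hHW hWH hWp)
      (hkp Z _ (hZY.trans hY) hZp) ?_ (hpl W hHW hWH hRW hW1)
      (hpl Z _ (hZY.trans hY) (hRJ.trans hZn) hZ1) hO S)
    rw [hker, hker, eq_bot_iff]
    intro x hx
    refine mem_bot.2 (Subtype.ext (mem_bot.1 ?_))
    exact hYW ▸ ⟨hZY hx.2, hx.1⟩
  -- the quotient by `W`
  set Nz := normalizer (W : Set G) with hNz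
  set π := QuotientGroup.mk' (W.subgroupOf Nz) with hπ
  set H' := (π.comp (inclusion hHW)).range with hH'
  set φ : H →* H' := (π.comp (inclusion hHW)).rangeRestrict with hφ
  have hrange : H' = (H.subgroupOf Nz).map π := by
    rw [hH', MonoidHom.range_comp, inclusion_range]
  have hφs : Function.Surjective φ := MonoidHom.rangeRestrict_surjective _
  have hpl : Cfsg.PLengthLE p 1 H' := by
    rw [hrange]; exact quot_step h hHR ih hWH hHW hRW hW1
  have hkerφ : φ.ker = W.subgroupOf H := by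
    rw [hφ, MonoidHom.ker_rangeRestrict, ← MonoidHom.comap_ker, QuotientGroup.ker_mk']
    rfl
  set O' := Cfsg.pPrimeCore p H' with hO'
  have hO'1 : O' ≠ ⊥ := fun e => hS (PLengthOne.sylow_normal_of_one φ hφs
    (hkerφ ▸ hWp.of_equiv (subgroupOfEquivOfLe hWH).symm) hpl e S)
  -- the preimage
  set U := (O'.comap φ).map H.subtype with hU
  have hUH : U ≤ H := map_subtype_le _
  have hWU : W ≤ U := fun x hx => ⟨⟨x, hWH hx⟩, by
    show φ ⟨x, hWH hx⟩ ∈ O'
    rw [MonoidHom.mem_ker.1 (hkerφ.symm ▸ hx : (⟨x, hWH hx⟩ : H) ∈ φ.ker)]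
    exact one_mem _, rfl⟩
  have hUn : J ≤ normalizer (U : Set G) := by
    refine le_normalizer_iff.2 ?_
    rintro a ha _ ⟨x, hx, rfl⟩
    have hax : a * (x : G) * a⁻¹ ∈ H := CfsgLib.Core.conj_mem_of_le_normalizer hJH ha x.2
    have hx' : ((φ x : H') : Nz ⧸ W.subgroupOf Nz) ∈ O'.map H'.subtype := ⟨φ x, hx, rfl⟩
    have han : π ⟨a, hWn ha⟩ ∈ normalizer (H' : Set (Nz ⧸ W.subgroupOf Nz)) := by
      refine mem_normalizer_iff.2 fun y => ?_
      have key : ∀ b (hb : b ∈ J), ∀ y ∈ H', π ⟨b, hWn hb⟩ * y * (π ⟨b, hWn hb⟩)⁻¹ ∈ H' := by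
        rintro b hb _ ⟨⟨z, hz⟩, rfl⟩
        refine ⟨⟨b * z * b⁻¹, CfsgLib.Core.conj_mem_of_le_normalizer hJH hb hz⟩, ?_⟩
        show π _ = π ⟨b, hWn hb⟩ * π _ * (π ⟨b, hWn hb⟩)⁻¹
        rw [← map_inv, ← map_mul, ← map_mul]
        rfl
      refine ⟨key a ha y, fun hy => ?_⟩
      have := key a⁻¹ (inv_mem ha) _ hy
      rw [show (⟨a⁻¹, hWn (inv_mem ha)⟩ : Nz) = ⟨a, hWn ha⟩⁻¹ from rfl, map_inv] at this
      simpa [mul_assoc] using this
    have h2 := (mem_normalizer_iff.1 (normalizer_pPrimeCore_le H' han) _).1 hx'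
    obtain ⟨y, hy, hye⟩ := h2
    refine ⟨⟨_, hax⟩, ?_, rfl⟩
    show φ ⟨_, hax⟩ ∈ O'
    suffices he : φ ⟨_, hax⟩ = y by rw [he]; exact hy
    refine Subtype.ext ?_
    refine Eq.trans ?_ hye.symm
    show π _ = π ⟨a, hWn ha⟩ * π _ * (π ⟨a, hWn ha⟩)⁻¹
    rw [← map_inv, ← map_mul, ← map_mul]
    rfl
  have hUW : U ≤ normalizer (W : Set G) := hUH.trans hHW
  have hUcard : Nat.card U = Nat.card W * Nat.card O' := by
    have h1 := (φ.ker.subgroupOf (O'.comap φ)).card_mul_index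
    have hle : φ.ker ≤ O'.comap φ := fun x hx => by
      show φ x ∈ O'
      rw [MonoidHom.mem_ker.1 hx]; exact one_mem _
    have h2 : (φ.ker.subgroupOf (O'.comap φ)).index = Nat.card ((O'.comap φ).map φ) := relIndex_ker φ (K := O'.comap φ)
    rw [h2, map_comap_eq_self_of_surjective hφs, Nat.card_congr (subgroupOfEquivOfLe hle).toEquiv, hkerφ,
      Nat.card_congr (subgroupOfEquivOfLe hWH).toEquiv] at h1
    rw [hU, card_map_of_injective H.subtype_injective, h1]
  obtain ⟨wn, hwn⟩ := IsPGroup.iff_card.1 hWp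
  have hcopO : (Nat.card W).Coprime (Nat.card O') :=
    hwn ▸ ((CfsgLib.Core.coprime_card_pPrimeCore p H').symm.pow_left wn)
  -- an invariant complement
  obtain ⟨K, hKU, hRK, hKW, hWK⟩ : ∃ K, K ≤ U ∧ R ≤ normalizer (K : Set G) ∧ W ⊓ K = ⊥ ∧ W ⊔ K = U := by
    have : (W.subgroupOf U).Normal := normal_subgroupOf_of_le_normalizer hUW
    have hcopU : (Nat.card (W.subgroupOf U)).Coprime (W.subgroupOf U).index := by
      have h1 := (W.subgroupOf U).card_mul_index
      rw [Nat.card_congr (subgroupOfEquivOfLe hWU).toEquiv, hUcard] at h1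
      rw [Nat.card_congr (subgroupOfEquivOfLe hWU).toEquiv, Nat.eq_of_mul_eq_mul_left Nat.card_pos h1]
      exact hcopO
    obtain ⟨C, hC⟩ := Subgroup.exists_right_complement'_of_coprime hcopU
    set K0 := C.map U.subtype with hK0
    have hK0U : K0 ≤ U := map_subtype_le _
    have hsup0 : W ⊔ K0 = U := by
      rw [← map_subgroupOf_eq_of_le hWU, hK0, ← Subgroup.map_sup, hC.sup_eq_top, ← MonoidHom.range_eq_map,
        range_subtype]
    have hinf0 : W ⊓ K0 = ⊥ := by
      rw [← map_subgroupOf_eq_of_le hWU, hK0, ← Subgroup.map_inf _ _ _ U.subtype_injective, hC.disjoint.eq_bot,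
        Subgroup.map_bot]
    have hcardK0 : Nat.card K0 = Nat.card O' := by
      have h1 := CfsgLib.Core.card_sup_of_disjoint K0 W (hK0U.trans hUW) (by rw [inf_comm, hinf0])
      rw [sup_comm, hsup0, hUcard, mul_comm] at h1
      exact (Nat.eq_of_mul_eq_mul_right Nat.card_pos h1).symm
    obtain ⟨k, hk, hkR⟩ := CfsgLib.Core.exists_invariant_conj (A := R) (K := W) (P := K0) hRW
      (hcop.coprime_dvd_right (card_dvd_of_le hWH)) (Or.inl inferInstance) fun a ha => by
        obtain ⟨n, hn, he⟩ := CfsgLib.Core.exists_conj_eq_of_coprime (N := W) (H := K0)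
          (K := MulAut.conj a • K0) (hK0U.trans hUW) (fun x hx => by
            rw [sup_comm, hsup0]
            have h5 := CfsgLib.Core.conj_mem_of_le_normalizer (hRJ.trans hUn) ha
              (hK0U (CfsgLib.Core.mem_conj_smul_iff.1 hx))
            simpa [mul_assoc] using h5)
          (CfsgLib.Core.card_conj_smul _ _) (by rw [hcardK0]; exact hcopO.symm) (Or.inl inferInstance)
        exact ⟨n, hn, he.symm⟩
    have hkU : k ∈ U := hWU hk
    have hconjW : MulAut.conj k • W = W :=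
      CfsgLib.Core.mem_normalizer_iff_conj_smul_eq.1 (le_normalizer hk)
    have hconjU : MulAut.conj k • U = U :=
      CfsgLib.Core.mem_normalizer_iff_conj_smul_eq.1 (le_normalizer hkU)
    refine ⟨MulAut.conj k • K0, hconjU ▸ CfsgLib.Core.conj_smul_mono hK0U, hkR, ?_, ?_⟩
    · rw [← hconjW, ← smul_inf, hinf0, smul_bot]
    · rw [← hconjW, ← smul_sup, hsup0, hconjU]
  have hcardK : Nat.card K = Nat.card O' := by
    have h1 := CfsgLib.Core.card_sup_of_disjoint K W (hKU.trans hUW) (by rw [inf_comm, hKW])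
    rw [sup_comm, hWK, hUcard, mul_comm] at h1
    exact (Nat.eq_of_mul_eq_mul_right Nat.card_pos h1).symm
  have hKc : (Nat.card K).Coprime p := hcardK ▸ CfsgLib.Core.coprime_card_pPrimeCore p H'
  set X := H ⊓ normalizer (K : Set G) with hX
  have hXH : X ≤ H := inf_le_left
  have hKX : K ≤ X := le_inf (hKU.trans hUH) le_normalizer
  have hRX : R ≤ normalizer (X : Set G) := normalizer_inf_le hRH
    (hRK.trans le_normalizer)
  have hWX : W ⊔ X = H := by
    refine le_antisymm (sup_le hWH hXH) fun x hx => ?_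
    obtain ⟨n, hn, he⟩ := CfsgLib.Core.exists_conj_eq_of_coprime (N := W) (H := K) (K := MulAut.conj x • K)
      (hKU.trans hUW) (fun y hy => by
        rw [sup_comm, hWK]
        have h5 := CfsgLib.Core.conj_mem_of_le_normalizer (hHJ.trans hUn) hx
          (hKU (CfsgLib.Core.mem_conj_smul_iff.1 hy))
        simpa [mul_assoc] using h5)
      (CfsgLib.Core.card_conj_smul _ _) (hcardK ▸ hcopO.symm) (Or.inl inferInstance)
    rw [show x = n * (n⁻¹ * x) by group]
    refine mul_mem (mem_sup_left hn) (mem_sup_right (show n⁻¹ * x ∈ X from mem_inf.2 ⟨mul_mem (inv_mem (hWH hn)) hx, ?_⟩))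
    rw [CfsgLib.Core.mem_normalizer_iff_conj_smul_eq, map_mul, mul_smul, ← he, ← mul_smul,
      ← map_mul, inv_mul_cancel, map_one, one_smul]
  have hXW : X ≤ normalizer (W : Set G) := hXH.trans hHW
  have hXK : X ≤ normalizer (K : Set G) := inf_le_right
  have hWW : W ≤ centralizer (W : Set G) := fun a ha => mem_centralizer_iff.2 fun b hb => hWc b hb a ha
  have hWcW : W ≤ normalizer ((W ⊓ centralizer (K : Set G) : Subgroup G) : Set G) :=
    le_normalizer_iff.2 fun w hw x hx => by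
      rw [hWc w hw x hx.1, mul_inv_cancel_right]; exact hx
  have hCK : W ⊓ centralizer (K : Set G) = ⊥ := by
    refine (hWmin _ inf_le_left ?_).resolve_right fun e => ?_
    · refine sup_le ?_ (normalizer_inf_le hRW (normalizer_centralizer_le hRK))
      rw [← hWX]
      exact sup_le hWcW (normalizer_inf_le hXW (normalizer_centralizer_le hXK))
    · -- then `K` is normal
      have hWK' : W ≤ normalizer (K : Set G) := le_normalizer_iff.2 fun w hw k hk => by
        rw [← mem_centralizer_iff.1 (inf_eq_left.1 e hw) k hk, mul_inv_cancel_right]; exact hk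
      have h1 := le_map_pPrimeCore (hKU.trans hUH) (show H ≤ normalizer (K : Set G) from hWX ▸ sup_le hWK' hXK) hKc
      rw [hO, Subgroup.map_bot, le_bot_iff] at h1
      rw [h1, card_bot] at hcardK
      exact hO'1 (card_eq_one.1 hcardK.symm)
  have hWXi : W ⊓ X = ⊥ := by
    refine eq_bot_iff.2 fun w hw => hCK ▸ ⟨hw.1, ?_⟩
    refine mem_centralizer_iff.2 fun k hk => commutatorElement_eq_one_iff_mul_comm.1 ?_
    refine of_inf hKW (?_) (?_)
    · rw [commutatorElement_def]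
      exact mul_mem (CfsgLib.Core.conj_mem_of_le_normalizer (hKU.trans hUW) hk hw.1) (inv_mem hw.1)
    · rw [commutatorElement_def, show k * w * k⁻¹ * w⁻¹ = k * (w * k⁻¹ * w⁻¹) by group]
      exact mul_mem hk (CfsgLib.Core.conj_mem_of_le_normalizer hXK hw.2 (inv_mem hk))
  have hCX : X ⊓ centralizer (W : Set G) = ⊥ := by
    refine huniq _ (inf_le_left.trans hXH) ?_ ?_
    · refine sup_le ?_ (normalizer_inf_le hRX (normalizer_centralizer_le hRW))
      rw [← hWX]
      refine sup_le (le_normalizer_iff.2 fun w hw x hx => ?_)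
        (normalizer_inf_le le_normalizer (normalizer_centralizer_le hXW))
      rw [mem_centralizer_iff.1 hx.2 w hw, mul_inv_cancel_right]; exact hx
    · exact eq_bot_iff.2 fun x hx => hWXi ▸ ⟨hx.2, hx.1.1⟩
  have hKn : X ⊔ R ≤ normalizer (K : Set G) := sup_le hXK hRK
  -- no invariant normal `p`-subgroup
  have hOpX : ∀ T : Subgroup G, T ≤ X → X ⊔ R ≤ normalizer (T : Set G) → IsPGroup p T → T = ⊥ := by
    intro T hT hTn hTp
    by_contra hT1
    have hTK : T ≤ centralizer (K : Set G) := fun t ht => mem_centralizer_iff.2 fun k hk =>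
      commutatorElement_eq_one_iff_mul_comm.1 (of_inf (Subgroup.inf_eq_bot_of_coprime
        (H := K) (K := T) (by
          obtain ⟨n, hn⟩ := IsPGroup.iff_card.1 hTp
          rw [hn]; exact hKc.pow_right n)) (by
            rw [commutatorElement_def, show k * t * k⁻¹ * t⁻¹ = k * (t * k⁻¹ * t⁻¹) by group]
            exact mul_mem hk (CfsgLib.Core.conj_mem_of_le_normalizer hXK (hT ht) (inv_mem hk))) (by
            rw [commutatorElement_def]
            exact mul_mem (CfsgLib.Core.conj_mem_of_le_normalizer (le_sup_left.trans hTn) (hKX hk) ht) (inv_mem ht)))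
    have hC1 : W ⊓ centralizer (T : Set G) ≠ ⊥ := by
      intro e
      let : MulDistribMulAction T W :=
        MulDistribMulAction.compHom W (W.normalizerMonoidHom.comp (inclusion (hT.trans hXW)))
      have hdvd : p ∣ Nat.card W := by
        obtain ⟨n, hn0, hn⟩ := hWp.nontrivial_iff_card.1 ((Subgroup.nontrivial_iff_ne_bot W).2 hW1)
        exact hn ▸ dvd_pow_self p hn0.ne'
      obtain ⟨b, hb, hb1⟩ := hTp.exists_fixed_point_of_prime_dvd_card_of_fixed_point (α := W) hdvd
        (a := 1) (fun t => smul_one t)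
      refine hb1.symm (Subtype.ext (mem_bot.1 (e ▸ ⟨b.2, mem_centralizer_iff.2 fun t ht => ?_⟩)))
      have h1 : t * (b : G) * t⁻¹ = b := congrArg Subtype.val (hb ⟨t, ht⟩)
      calc t * (b : G) = t * b * t⁻¹ * t := by group
        _ = b * t := by rw [h1]
    have hCe := (hWmin _ inf_le_left (sup_le (by
      rw [← hWX]
      exact sup_le (le_normalizer_iff.2 fun w hw x hx => by
          rw [hWc w hw x hx.1, mul_inv_cancel_right]; exact hx)
        (normalizer_inf_le hXW (normalizer_centralizer_le (le_sup_left.trans hTn))))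
      (normalizer_inf_le hRW (normalizer_centralizer_le (le_sup_right.trans hTn))))).resolve_left hC1
    exact hT1 (eq_bot_iff.2 fun t ht => hCX ▸ ⟨hT ht, mem_centralizer_iff.2 fun w hw =>
      (mem_centralizer_iff.1 (inf_eq_left.1 hCe hw) t ht).symm⟩)
  -- a Sylow subgroup of `X`
  obtain ⟨PX, hPR⟩ := CfsgLib.Core.exists_invariant_sylow hRX (hcop.coprime_dvd_right (card_dvd_of_le hXH))
    (Or.inl inferInstance) p
  set P := (PX : Subgroup X).map X.subtype with hP
  have hPs : ¬ p ∣ P.relIndex X := by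
    rw [relIndex, hP, subgroupOf, comap_map_eq_self_of_injective X.subtype_injective]
    exact PX.not_dvd_index
  -- the isomorphism with the quotient
  let e : X →* H' := φ.comp (inclusion hXH)
  have hei : Function.Injective e := (injective_iff_map_eq_one e).2 fun x hx => by
    have h1 : (inclusion hXH x) ∈ W.subgroupOf H := hkerφ ▸ MonoidHom.mem_ker.2 hx
    exact Subtype.ext (of_inf hWXi (h1) (x.2))
  have hes : Function.Surjective e := by
    intro y
    obtain ⟨z, rfl⟩ := hφs y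
    have hz : (z : G) ∈ W ⊔ X := hWX.symm ▸ z.2
    rw [sup_comm] at hz
    obtain ⟨x, hx, w, hw, hzw⟩ := (CfsgLib.Core.mem_sup_iff_mul hXW).1 hz
    refine ⟨⟨x, hx⟩, ?_⟩
    show φ ⟨x, hXH hx⟩ = φ z
    rw [show z = ⟨x, hXH hx⟩ * ⟨w, hWH hw⟩ from Subtype.ext hzw, map_mul,
      MonoidHom.mem_ker.1 (show (⟨w, hWH hw⟩ : H) ∈ φ.ker from hkerφ.symm ▸ hw), mul_one]
  have hplX : Cfsg.PLengthLE p 1 X := PLengthOne.of_pPrime_kernel e hes (by
    rw [(MonoidHom.ker_eq_bot_iff e).2 hei, card_bot]; exact Nat.coprime_one_left p) hpl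
  have hOX : (Cfsg.pPrimeCore p X).map X.subtype = K := by
    refine le_antisymm ?_ (le_map_pPrimeCore hKX hXK hKc)
    rintro _ ⟨x, hx, rfl⟩
    have h1 : e x ∈ O' := by
      have : ((Cfsg.pPrimeCore p X).map e).Normal := (inferInstance : (Cfsg.pPrimeCore p X).Normal).map e hes
      exact CfsgLib.Core.le_pPrimeCore ((CfsgLib.Core.coprime_card_pPrimeCore p X).coprime_dvd_left
        (card_map_dvd _ _)) (mem_map_of_mem e hx)
    have hxU : (x : G) ∈ W ⊔ K := hWK.symm ▸ ⟨inclusion hXH x, h1, rfl⟩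
    rw [sup_comm] at hxU
    obtain ⟨k, hk, w, hw, hxe⟩ := (CfsgLib.Core.mem_sup_iff_mul (hKX.trans hXW)).1 hxU
    have hw1 : w = 1 := of_inf hWXi (hw) (by
      rw [show w = k⁻¹ * x by rw [hxe]; group]
      exact mul_mem (inv_mem (hKX hk)) x.2)
    show (x : G) ∈ K
    rw [hxe, hw1, mul_one]; exact hk
  obtain ⟨hKPn, hfr⟩ := pLengthOne_sylow hplX PX
  have hKP : X ≤ normalizer ((K ⊔ P : Subgroup G) : Set G) := by
    rw [← hOX, hP, ← Subgroup.map_sup]
    refine le_normalizer_iff.2 ?_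
    rintro a ha _ ⟨y, hy, rfl⟩
    exact ⟨⟨a, ha⟩ * y * ⟨a, ha⟩⁻¹, hKPn.conj_mem y hy _, rfl⟩
  have hKN : X ≤ K ⊔ (X ⊓ normalizer (P : Set G)) := by
    intro x hx
    have h1 := mem_map_of_mem X.subtype (hfr ▸ mem_top (⟨x, hx⟩ : X) :
      (⟨x, hx⟩ : X) ∈ Cfsg.pPrimeCore p X ⊔ normalizer ((PX : Subgroup X) : Set X))
    rw [Subgroup.map_sup, hOX] at h1
    refine sup_le_sup_left ?_ K h1
    rintro _ ⟨n, hn, rfl⟩
    refine mem_inf.2 ⟨n.2, CfsgLib.Core.mem_normalizer_iff_conj_smul_eq.2 ?_⟩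
    rw [hP, CfsgLib.Core.conj_smul_eq_map, map_map]
    conv_rhs => rw [← CfsgLib.Core.mem_normalizer_iff_conj_smul_eq.1 hn, CfsgLib.Core.conj_smul_eq_map, map_map]
    rfl
  have hP1 : P ≠ ⊥ := by
    intro e0
    have hpX : ¬ p ∣ Nat.card X := by
      rw [← relIndex_bot_left X, ← e0]; exact hPs
    have hsW : (S : Subgroup H) = W.subgroupOf H := by
      have h1 : W.subgroupOf H ≤ S := by
        have : (W.subgroupOf H).Normal := normal_subgroupOf_of_le_normalizer hHW
        exact (hWp.of_equiv (subgroupOfEquivOfLe hWH).symm).le_sylow_of_normal S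
      refine (eq_of_le_of_card_ge h1 ?_).symm
      obtain ⟨n, hn⟩ := IsPGroup.iff_card.1 S.2
      have hcard : Nat.card H = Nat.card W * Nat.card X := by
        have := CfsgLib.Core.card_sup_of_disjoint X W hXW (by rw [inf_comm]; exact hWXi)
        rw [sup_comm, hWX] at this
        rw [this, mul_comm]
      have hd : p ^ n ∣ Nat.card W * Nat.card X := hcard ▸ hn ▸ card_subgroup_dvd_card _
      rw [hn, Nat.card_congr (subgroupOfEquivOfLe hWH).toEquiv]
      exact Nat.le_of_dvd Nat.card_pos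
        (((hp.out.coprime_iff_not_dvd.2 hpX).pow_left n).dvd_of_dvd_mul_right hd)
    exact hS (hsW ▸ normal_subgroupOf_of_le_normalizer hHW)
  have hXR : ⁅X, R⁆ = X := by
    refine le_antisymm (CfsgLib.Core.commutator_le_of_normalizes hRX) fun x hx => ?_
    set D := W ⊔ ⁅X, R⁆
    have hD : ⁅H, R⁆ ≤ D := by
      refine commutator_le.2 fun z hz a ha => ?_
      have hz' : z ∈ X ⊔ W := sup_comm W X ▸ hWX.symm ▸ hz
      obtain ⟨y, hy, w, hw, rfl⟩ := (CfsgLib.Core.mem_sup_iff_mul hXW).1 hz'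
      rw [show ⁅y * w, a⁆ = (y * ⁅w, a⁆ * y⁻¹) * ⁅y, a⁆ by simp only [commutatorElement_def]; group]
      refine mul_mem (mem_sup_left (CfsgLib.Core.conj_mem_of_le_normalizer hXW hy ?_))
        (mem_sup_right (commutator_mem_commutator hy ha))
      rw [commutatorElement_def, show w * a * w⁻¹ * a⁻¹ = w * (a * w⁻¹ * a⁻¹) by group]
      exact mul_mem hw (CfsgLib.Core.conj_mem_of_le_normalizer hRW ha (inv_mem hw))
    have hxD : x ∈ ⁅X, R⁆ ⊔ W := sup_comm W ⁅X, R⁆ ▸ hD (hHR.ge (hXH hx))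
    have hle := CfsgLib.Core.commutator_le_of_normalizes (K := X) hRX
    obtain ⟨c, hc, w, hw, hxe⟩ := (CfsgLib.Core.mem_sup_iff_mul (hle.trans hXW)).1 hxD
    have hw1 : w = 1 := of_inf hWXi (hw) (by
      rw [show w = c⁻¹ * x by rw [hxe]; group]
      exact mul_mem (inv_mem (hle hc)) hx)
    rw [hxe, hw1, mul_one]; exact hc
  refine ⟨W, K, X, P, ⟨hWH, hWn, hWp, hWe, hWmin, hXH, hWX, hWXi, hRX, hCX, hKX, hKn, hKc, hCK, map_subtype_le _,
    PX.2.map _, hPs, hPR, hP1, hKP, hKN, hOpX, hXR, ?_⟩⟩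
  -- proper invariant subgroups containing `P`
  intro L hLX hLne hRL hPL
  set M := W ⊔ L with hM
  have hLW : L ≤ normalizer (W : Set G) := hLX.trans hXW
  have hMH : M ≤ H := sup_le hWH (hLX.trans hXH)
  have hMn : R ≤ normalizer (M : Set G) := normalizer_sup_le hRW hRL
  have hMne : M ≠ H := fun e => hLne (le_antisymm hLX fun x hx => by
    have hxM : x ∈ L ⊔ W := by rw [sup_comm, ← hM, e]; exact hXH hx
    obtain ⟨l, hl, w, hw, hxe⟩ := (CfsgLib.Core.mem_sup_iff_mul hLW).1 hxM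
    have hw1 : w = 1 := of_inf hWXi (hw) (by
      rw [show w = l⁻¹ * x by rw [hxe]; group]
      exact mul_mem (inv_mem (hLX hl)) hx)
    rw [hxe, hw1, mul_one]; exact hl)
  have hplM := sub_step h ih hMH hMne hMn
  set H2 := ⁅M, R⁆ with hH2
  have hH2M : H2 ≤ M := CfsgLib.Core.commutator_le_of_normalizes hMn
  have hMH2 : M ≤ normalizer (H2 : Set G) := normalizer_commutator_ge_left M R
  have hWM : W ≤ M := le_sup_left
  have hO2 : Cfsg.pPrimeCore p H2 = ⊥ := by
    refine (map_eq_bot_iff_of_injective _ H2.subtype_injective).1 (eq_bot_iff.2 fun x hx => mem_bot.2 ?_)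
    set O2 := (Cfsg.pPrimeCore p H2).map H2.subtype
    have hO2n : M ≤ normalizer (O2 : Set G) := hMH2.trans (normalizer_pPrimeCore_le H2)
    have hO2c : (Nat.card O2).Coprime p :=
      (CfsgLib.Core.coprime_card_pPrimeCore p H2).coprime_dvd_left (card_map_dvd _ _)
    have hO2W : O2 ⊓ W = ⊥ := Subgroup.inf_eq_bot_of_coprime (by rw [hwn]; exact hO2c.pow_right wn)
    have hxM : x ∈ M := hH2M (map_subtype_le _ hx)
    have hcW : x ∈ centralizer (W : Set G) := mem_centralizer_iff.2 fun w hw =>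
      commutatorElement_eq_one_iff_mul_comm.1 (of_inf hO2W (by
        rw [commutatorElement_def]
        exact mul_mem (CfsgLib.Core.conj_mem_of_le_normalizer hO2n (hWM hw) hx) (inv_mem hx)) (by
        rw [commutatorElement_def, show w * x * w⁻¹ * x⁻¹ = w * (x * w⁻¹ * x⁻¹) by group]
        exact mul_mem hw (CfsgLib.Core.conj_mem_of_le_normalizer hHW (hMH hxM) (inv_mem hw))))
    have hxM' : x ∈ L ⊔ W := sup_comm W L ▸ hxM
    obtain ⟨l, hl, w, hw, hxe⟩ := (CfsgLib.Core.mem_sup_iff_mul hLW).1 hxM'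
    have hl1 : l = 1 := of_inf hCX (hLX hl) (by
      rw [show l = x * w⁻¹ by rw [hxe]; group]
      exact mul_mem hcW (inv_mem (hWW hw)))
    exact of_inf hO2W (hx) (by rw [hxe, hl1, one_mul]; exact hw)
  obtain ⟨S2⟩ : Nonempty (Sylow p H2) := inferInstance
  have hS2 : (S2 : Subgroup H2).Normal := PLengthOne.sylow_normal hplM hO2 S2
  set T2 := (Cfsg.pCore p H2).map H2.subtype with hT2
  have hT2n : M ≤ normalizer (T2 : Set G) := hMH2.trans (normalizer_pCore_le H2)
  have hT2W : T2 ⊔ W ≤ M := sup_le ((map_subtype_le _).trans hH2M) hWM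
  refine ⟨(W ⊔ T2) ⊓ L, inf_le_right, ?_, ?_, ?_⟩
  · exact (IsPGroup.to_sup_of_normal_right' hWp ((CfsgLib.Core.isPGroup_pCore p H2).map _)
      (hWM.trans hT2n)).to_le inf_le_left
  · exact normalizer_inf_le (normalizer_sup_le hLW ((le_sup_right : L ≤ M).trans hT2n)) le_normalizer
  · refine le_inf (le_sup_of_le_right ?_) (commutator_le.2 fun x hx a ha => ?_)
    · have hle : ⁅P, R⁆ ≤ H2 := commutator_mono (hPL.trans le_sup_right) le_rfl
      rw [← map_subgroupOf_eq_of_le hle]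
      refine map_mono (le_trans (mem_sylow_of_isPGroup S2 hS2 _ ?_) (CfsgLib.Core.le_pCore S2.2))
      exact ((PX.2.map X.subtype).to_le (CfsgLib.Core.commutator_le_of_normalizes hPR)).of_equiv
        (subgroupOfEquivOfLe hle).symm
    · rw [commutatorElement_def, show x * a * x⁻¹ * a⁻¹ = x * (a * x⁻¹ * a⁻¹) by group]
      exact hPL (mul_mem hx (CfsgLib.Core.conj_mem_of_le_normalizer hPR ha (inv_mem hx)))

/-- The Sylow subgroup is not centralised by the operators. -/
theorem sup_eq_of_config {H R R₀ W K X P : Subgroup G} (c : Config H R R₀ W K X P p) :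
    K ⊔ P = X := by
  obtain ⟨-, -, -, -, -, -, -, -, hRX, -, hK, hKn, hKc, -, hP, hPp, hPs, hRP, hP1, hKP, hKN, hOp, hXR, hsub⟩ := c
  have hXK : X ≤ normalizer (K : Set G) := le_sup_left.trans hKn
  have hRK : R ≤ normalizer (K : Set G) := le_sup_right.trans hKn
  have hKPX : K ⊔ P ≤ X := sup_le hK hP
  by_contra hne
  obtain ⟨T, hT, hTp, hTn, hPT⟩ := hsub (K ⊔ P) hKPX hne (normalizer_sup_le hRK hRP) le_sup_right
  set O := (Cfsg.pCore p ↥(K ⊔ P : Subgroup G)).map (K ⊔ P).subtype with hO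
  have hO1 : O = ⊥ := hOp O ((map_subtype_le _).trans hKPX)
    ((sup_le hKP (normalizer_sup_le hRK hRP)).trans (normalizer_pCore_le _))
    ((CfsgLib.Core.isPGroup_pCore p _).map _)
  have hcen : ∀ x ∈ P, ∀ a ∈ R, a * x = x * a := fun x hx a ha => by
    have h1 : ⁅x, a⁆ ∈ O := le_map_pCore hT hTn hTp (hPT (commutator_mem_commutator hx ha))
    rw [hO1, mem_bot, commutatorElement_eq_one_iff_mul_comm] at h1
    exact h1.symm
  set N := X ⊓ normalizer (P : Set G) with hN
  have hPR : ⁅P, R⁆ = ⊥ := eq_bot_iff.2 (commutator_le.2 fun x hx a ha => mem_bot.2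
    (commutatorElement_eq_one_iff_mul_comm.2 (hcen x hx a ha).symm))
  have h3 : ⁅⁅N, R⁆, P⁆ = ⊥ := by
    refine commutator_commutator_eq_bot_of_rotate ?_ ?_
    · rw [commutator_comm R P, hPR, commutator_bot_left]
    · refine le_bot_iff.1 (le_trans (commutator_mono ?_ le_rfl) hPR.le)
      exact le_normalizer_iff_commutator_le_left.1 inf_le_right
  -- `P` is central modulo `K`
  have hPn : ∀ x ∈ X, ∀ y ∈ P, ⁅x, y⁆ ∈ K := by
    have hle : ⁅X, R⁆ ≤ K ⊔ ⁅N, R⁆ := by
      refine commutator_le.2 fun x hx a ha => ?_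
      have hx' : x ∈ N ⊔ K := sup_comm K N ▸ hKN hx
      obtain ⟨n, hn, k, hk, rfl⟩ := (CfsgLib.Core.mem_sup_iff_mul ((inf_le_left : N ≤ X).trans hXK)).1 hx'
      rw [show ⁅n * k, a⁆ = (n * ⁅k, a⁆ * n⁻¹) * ⁅n, a⁆ by simp only [commutatorElement_def]; group]
      refine mul_mem (mem_sup_left (CfsgLib.Core.conj_mem_of_le_normalizer hXK hn.1 ?_))
        (mem_sup_right (commutator_mem_commutator hn ha))
      rw [commutatorElement_def, show k * a * k⁻¹ * a⁻¹ = k * (a * k⁻¹ * a⁻¹) by group]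
      exact mul_mem hk (CfsgLib.Core.conj_mem_of_le_normalizer hRK ha (inv_mem hk))
    intro x hx y hy
    have hx1 : x ∈ ⁅N, R⁆ ⊔ K := sup_comm K ⁅N, R⁆ ▸ hle (hXR.ge hx)
    have hNX : ⁅N, R⁆ ≤ normalizer (K : Set G) := (commutator_mono inf_le_left le_rfl).trans (hXR.le.trans hXK)
    obtain ⟨n, hn, k, hk, rfl⟩ := (CfsgLib.Core.mem_sup_iff_mul hNX).1 hx1
    have hny : ⁅n, y⁆ = 1 := mem_bot.1 (h3 ▸ commutator_mem_commutator hn hy)
    rw [show ⁅n * k, y⁆ = (n * ⁅k, y⁆ * n⁻¹) * ⁅n, y⁆ by simp only [commutatorElement_def]; group, hny, mul_one]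
    refine CfsgLib.Core.conj_mem_of_le_normalizer hNX hn ?_
    rw [commutatorElement_def, show k * y * k⁻¹ * y⁻¹ = k * (y * k⁻¹ * y⁻¹) by group]
    exact mul_mem hk (CfsgLib.Core.conj_mem_of_le_normalizer (hP.trans hXK) hy (inv_mem hk))
  -- the power map
  have : (K.subgroupOf X).Normal := normal_subgroupOf_of_le_normalizer hXK
  set π := QuotientGroup.mk' (K.subgroupOf X) with hπ
  set Pb := (P.subgroupOf X).map π with hPb
  have hPbc : Pb ≤ center (X ⧸ K.subgroupOf X) := by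
    rintro _ ⟨y, hy, rfl⟩
    refine mem_center_iff.2 fun z => ?_
    obtain ⟨x, rfl⟩ := QuotientGroup.mk'_surjective _ z
    rw [← commutatorElement_eq_one_iff_mul_comm, ← map_commutatorElement]
    exact (QuotientGroup.eq_one_iff _).2 (hPn x x.2 y hy)
  have hPcard : Nat.card Pb ∣ Nat.card P :=
    (card_map_dvd _ _).trans (Nat.card_congr (subgroupOfEquivOfLe hP).toEquiv).dvd
  have hidx : ¬ p ∣ Pb.index := by
    intro hd
    have h1 : Pb.index ∣ (P.subgroupOf X).index := by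
      exact index_map_dvd (P.subgroupOf X) (QuotientGroup.mk'_surjective (K.subgroupOf X))
    exact hPs (hd.trans h1)
  have : Pb.Normal := ⟨fun z hz g => by
    rw [mem_center_iff.1 (hPbc hz) g, mul_inv_cancel_right]; exact hz⟩
  set n := Pb.relIndex (center (X ⧸ K.subgroupOf X)) with hn'
  have hidx' : (center (X ⧸ K.subgroupOf X)).index * n = Pb.index := by
    rw [hn', mul_comm]; exact relIndex_mul_index hPbc
  let F : X ⧸ K.subgroupOf X →* X ⧸ K.subgroupOf X := MonoidHom.mk' (fun z => z ^ Pb.index) fun y z => by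
    rw [← hidx', pow_mul, pow_mul, pow_mul]
    have h := congrArg Subtype.val (map_mul (MonoidHom.transferCenterPow (X ⧸ K.subgroupOf X)) y z)
    simp only [MonoidHom.transferCenterPow_apply, coe_mul] at h
    rw [h, ((show Commute (y ^ _) (z ^ _) from
      (mem_center_iff.1 ((center (X ⧸ K.subgroupOf X)).pow_index_mem z) _))).mul_pow]
  have hker : ⁅X, R⁆ ≤ (F.comp π).ker.map X.subtype := by
    refine commutator_le.2 fun x hx a ha => ?_
    have hax : a * x * a⁻¹ ∈ X := CfsgLib.Core.conj_mem_of_le_normalizer hRX ha hx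
    have hcx : ⁅x, a⁆ = x * (a * x * a⁻¹)⁻¹ := by rw [commutatorElement_def]; group
    refine ⟨⟨x, hx⟩ * ⟨_, hax⟩⁻¹, ?_, hcx.symm⟩
    rw [SetLike.mem_coe, MonoidHom.mem_ker, map_mul, map_inv, mul_inv_eq_one]
    show π ⟨x, hx⟩ ^ Pb.index = π ⟨_, hax⟩ ^ Pb.index
    obtain ⟨y, hy, hye⟩ : π ⟨x, hx⟩ ^ Pb.index ∈ Pb := Pb.pow_index_mem _
    rw [← hye, ← map_pow, QuotientGroup.mk'_apply, QuotientGroup.mk'_apply, QuotientGroup.eq]
    rw [← map_pow] at hye
    have h1' : y⁻¹ * ⟨x, hx⟩ ^ Pb.index ∈ K.subgroupOf X := QuotientGroup.eq.1 hye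
    have h1 : ((y : G))⁻¹ * x ^ Pb.index ∈ K := h1'
    have h2 := CfsgLib.Core.conj_mem_of_le_normalizer hRK ha h1
    show ((y : G))⁻¹ * (a * x * a⁻¹) ^ Pb.index ∈ K
    rw [conj_pow]
    have h3 : a * (y : G) * a⁻¹ = y := by rw [hcen y hy a ha, mul_inv_cancel_right]
    rw [show (y : G)⁻¹ * (a * x ^ Pb.index * a⁻¹) = (a * y * a⁻¹)⁻¹ * (a * x ^ Pb.index * a⁻¹) by rw [h3]]
    convert h2 using 1
    group
  refine hP1 (eq_bot_iff.2 fun y hy => mem_bot.2 ?_)
  obtain ⟨z, hz, hze⟩ := hker (hXR.ge (hP hy))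
  have hz' : z = ⟨y, hP hy⟩ := Subtype.ext hze
  rw [SetLike.mem_coe, MonoidHom.mem_ker, hz'] at hz
  have h1 : y ^ Pb.index ∈ K := by
    have : π (⟨y, hP hy⟩ ^ Pb.index) = 1 := by rw [map_pow]; exact hz
    have h' : (⟨y, hP hy⟩ : X) ^ Pb.index ∈ K.subgroupOf X := (QuotientGroup.eq_one_iff _).1 this
    exact h'
  obtain ⟨k, hk⟩ := IsPGroup.iff_card.1 hPp
  have h2 : y ^ Pb.index = 1 := of_inf (Subgroup.inf_eq_bot_of_coprime (by rw [hk]; exact hKc.pow_right k))
    h1 (P.pow_mem hy _)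
  exact orderOf_eq_one_iff.1 (Nat.eq_one_of_dvd_coprimes ((hp.out.coprime_iff_not_dvd.2 hidx).pow_left k)
    (orderOf_dvd_of_pow_eq_one (hk ▸ pow_card_eq_one_of_mem hy)) (orderOf_dvd_of_pow_eq_one h2))

/-- There is no configuration. -/
theorem false_of_config {H R R₀ W K X P : Subgroup G} (h : Hyp H R R₀) (c : Config H R R₀ W K X P p) : False := by
  have hKP := sup_eq_of_config c
  obtain ⟨hW, hWn, hWp, hWe, hWmin, hX, hWX, hWXi, hRX, hCX, hK, hKn, hKc, hCK, hP, hPp, hPs, hRP, hP1, -, -, hOp,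
    hXR, hsub⟩ := c
  obtain ⟨hG, hodd, hRH, hcop, hR₀, hr, hZ⟩ := h
  set r := Nat.card R₀ with hrdef
  have := Fact.mk hr
  have hXW : X ≤ normalizer (W : Set G) := hX.trans (le_sup_left.trans hWn)
  have hRW : R ≤ normalizer (W : Set G) := le_sup_right.trans hWn
  have hXK : X ≤ normalizer (K : Set G) := le_sup_left.trans hKn
  have hRK : R ≤ normalizer (K : Set G) := le_sup_right.trans hKn
  obtain ⟨kp, hkp⟩ := IsPGroup.iff_card.1 hPp
  have hKPi : K ⊓ P = ⊥ := Subgroup.inf_eq_bot_of_coprime (by rw [hkp]; exact hKc.pow_right kp)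
  have hPK : P ≤ normalizer (K : Set G) := hP.trans hXK
  -- `P = [P, R]`
  have hPR : ⁅P, R⁆ = P := by
    refine le_antisymm (CfsgLib.Core.commutator_le_of_normalizes hRP) fun y hy => ?_
    have hle : ⁅X, R⁆ ≤ ⁅P, R⁆ ⊔ K := by
      refine commutator_le.2 fun x hx a ha => ?_
      have hx' : x ∈ P ⊔ K := sup_comm K P ▸ hKP.symm ▸ hx
      obtain ⟨n, hn, k, hk, rfl⟩ := (CfsgLib.Core.mem_sup_iff_mul hPK).1 hx'
      rw [show ⁅n * k, a⁆ = (n * ⁅k, a⁆ * n⁻¹) * ⁅n, a⁆ by simp only [commutatorElement_def]; group]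
      refine mul_mem (mem_sup_right (CfsgLib.Core.conj_mem_of_le_normalizer hPK hn ?_))
        (mem_sup_left (commutator_mem_commutator hn ha))
      rw [commutatorElement_def, show k * a * k⁻¹ * a⁻¹ = k * (a * k⁻¹ * a⁻¹) by group]
      exact mul_mem hk (CfsgLib.Core.conj_mem_of_le_normalizer hRK ha (inv_mem hk))
    have hlP : ⁅P, R⁆ ≤ P := CfsgLib.Core.commutator_le_of_normalizes hRP
    obtain ⟨n, hn, k, hk, hye⟩ := (CfsgLib.Core.mem_sup_iff_mul (hlP.trans hPK)).1 (hle (hXR.ge (hP hy)))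
    have hk1 : k = 1 := of_inf hKPi hk (by
      rw [show k = n⁻¹ * y by rw [hye]; group]
      exact mul_mem (inv_mem (hlP hn)) hy)
    rw [hye, hk1, mul_one]; exact hn
  have hPRK : P ⊔ R ≤ normalizer (K : Set G) := sup_le hPK hRK
  have hcopPR : (Nat.card ↥(P ⊔ R)).Coprime (Nat.card K) := by
    rw [sup_comm]
    refine Nat.Coprime.coprime_dvd_left (CfsgLib.Core.card_sup_dvd R P hRP) ?_
    refine Nat.Coprime.mul_left (hcop.coprime_dvd_right (card_dvd_of_le (hK.trans hX))) ?_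
    rw [hkp]; exact (hKc.pow_right kp).symm
  -- subgroups of `K` with a proper product
  have hcentral : ∀ Q1 : Subgroup G, Q1 ≤ K → Q1 ⊔ P ≠ X → P ⊔ R ≤ normalizer (Q1 : Set G) →
      ∀ y ∈ P, ∀ x ∈ Q1, x * y = y * x := by
    intro Q1 hQ1 hne hn y hy x hx
    obtain ⟨T, hT, hTp, hTn, hPT⟩ := hsub (Q1 ⊔ P) (sup_le (hQ1.trans hK) hP) hne
      (normalizer_sup_le (le_sup_right.trans hn) hRP) le_sup_right
    have hyT : y ∈ T := hPT (hPR.ge hy)
    obtain ⟨kt, hkt⟩ := IsPGroup.iff_card.1 hTp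
    have hi : Q1 ⊓ T = ⊥ := Subgroup.inf_eq_bot_of_coprime (by
      rw [hkt]; exact (hKc.coprime_dvd_left (card_dvd_of_le hQ1)).pow_right kt)
    refine commutatorElement_eq_one_iff_mul_comm.1 (of_inf hi ?_ ?_)
    · rw [commutatorElement_def, show x * y * x⁻¹ * y⁻¹ = x * (y * x⁻¹ * y⁻¹) by group]
      exact mul_mem hx (CfsgLib.Core.conj_mem_of_le_normalizer (le_sup_left.trans hn) hy (inv_mem hx))
    · rw [commutatorElement_def]
      exact mul_mem (CfsgLib.Core.conj_mem_of_le_normalizer ((le_sup_left : Q1 ≤ Q1 ⊔ P).trans hTn) hx hyT)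
        (inv_mem hyT)
  have hnc : ¬ ∀ y ∈ P, ∀ x ∈ K, x * y = y * x := by
    intro hall
    refine hP1 (hOp P hP (sup_le ?_ hRP) hPp)
    rw [← hKP]
    exact sup_le (le_normalizer_iff.2 fun x hx y hy => by rw [hall y hy x hx, mul_inv_cancel_right]; exact hy)
      le_normalizer
  -- one prime
  obtain ⟨q, hqp, QK, hQn, hQX⟩ : ∃ q : ℕ, ∃ _ : Fact q.Prime, ∃ QK : Sylow q K,
      P ⊔ R ≤ normalizer ((QK : Subgroup K).map K.subtype : Set G) ∧ (QK : Subgroup K).map K.subtype ⊔ P = X := by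
    by_contra! hno
    refine hnc fun y hy x hx => ?_
    have htop : (centralizer (P : Set G)).subgroupOf K = ⊤ :=
      CfsgLib.Core.eq_top_of_forall_exists_sylow_le _ fun q hq _ => by
        have := Fact.mk hq
        obtain ⟨QK, hQn⟩ := CfsgLib.Core.exists_invariant_sylow hPRK hcopPR (Or.inl inferInstance) q
        refine ⟨QK, fun z hz => ?_⟩
        exact mem_centralizer_iff.2 fun y hy => (hcentral _ (map_subtype_le _) (hno q ⟨hq⟩ QK hQn) hQn y hy _
          (mem_map_of_mem K.subtype hz)).symm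
    exact (mem_centralizer_iff.1 (htop.ge (mem_top (⟨x, hx⟩ : K))) y hy).symm
  set Q := (QK : Subgroup K).map K.subtype with hQdef
  have hQK : Q = K := by
    refine le_antisymm (map_subtype_le _) fun x hx => ?_
    have hx' : x ∈ P ⊔ Q := sup_comm Q P ▸ hQX.symm ▸ hK hx
    obtain ⟨y, hy, z, hz, rfl⟩ := (CfsgLib.Core.mem_sup_iff_mul (le_sup_left.trans hQn)).1 hx'
    have hy1 : y = 1 := of_inf hKPi (by
      rw [show y = y * z * z⁻¹ by group]
      exact mul_mem hx (inv_mem (map_subtype_le _ hz))) hy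
    rw [hy1, one_mul]; exact hz
  have hQp : IsPGroup q K := hQK ▸ QK.2.map _
  have hK1 : K ≠ ⊥ := by
    intro e
    refine hnc fun y hy x hx => ?_
    rw [e, mem_bot] at hx
    rw [hx, one_mul, mul_one]
  obtain ⟨kq, hkq⟩ := IsPGroup.iff_card.1 hQp
  have hkq0 : kq ≠ 0 := fun e => hK1 (card_eq_one.1 (by rw [hkq, e, pow_zero]))
  have hqcard : q ∣ Nat.card K := hkq ▸ dvd_pow_self q hkq0
  have hpq : p ≠ q := fun e => (hp.out.coprime_iff_not_dvd.1 hKc.symm) (e ▸ hqcard)
  have hKH : K ≤ H := hK.trans hX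
  have hPH : P ≤ H := hP.trans hX
  have hodd' : ∀ {d : ℕ}, d.Prime → d ∣ Nat.card G → d ≠ 2 := fun hd hdG e =>
    Nat.not_even_iff_odd.2 hodd (even_iff_two_dvd.2 (e ▸ hdG))
  have hpP : p ∣ Nat.card P := by
    rw [hkp]
    exact dvd_pow_self p fun e => hP1 (card_eq_one.1 (by rw [hkp, e, pow_zero]))
  have hp2 : p ≠ 2 := hodd' hp.out (hpP.trans (card_subgroup_dvd_card P))
  have hq2 : q ≠ 2 := hodd' hqp.out (hqcard.trans (card_subgroup_dvd_card K))
  have hr2 : r ≠ 2 := hodd' hr (card_subgroup_dvd_card R₀)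
  have hcop₀ : r.Coprime (Nat.card H) := hcop.coprime_dvd_left (card_dvd_of_le hR₀)
  have hrp : r ≠ p := fun e => (hr.coprime_iff_not_dvd.1 hcop₀) (e ▸ hpP.trans (card_dvd_of_le hPH))
  have hrq : r ≠ q := fun e => (hr.coprime_iff_not_dvd.1 hcop₀) (e ▸ hqcard.trans (card_dvd_of_le hKH))
  have hWne : W ≠ ⊥ := fun e => hP1 (eq_bot_iff.2 fun y hy => mem_bot.2 (of_inf hCX (hP hy)
    (mem_centralizer_iff.2 fun w hw => by rw [mem_bot.1 (e ▸ hw : w ∈ (⊥ : Subgroup G)), one_mul, mul_one])))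
  have hWc : ∀ a ∈ W, ∀ b ∈ W, a * b = b * a := fun a ha b hb =>
    congrArg Subtype.val (hWe.1.is_comm.comm (⟨a, ha⟩ : W) ⟨b, hb⟩)
  -- invariant subgroups of `K`
  have hfix : ∀ Y ≤ K, P ⊔ R ≤ normalizer (Y : Set G) → K ≤ normalizer (Y : Set G) → Y ≠ ⊥ →
      W ⊓ centralizer (Y : Set G) = ⊥ := by
    intro Y hY hYn hKY hY1
    refine (hWmin _ inf_le_left (sup_le ?_ (normalizer_inf_le hRW (normalizer_centralizer_le
      (le_sup_right.trans hYn))))).resolve_right fun e => hY1 ?_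
    · rw [← hWX]
      refine sup_le (le_normalizer_iff.2 fun w hw x hx => by
        rw [hWc w hw x hx.1, mul_inv_cancel_right]; exact hx) (normalizer_inf_le hXW (normalizer_centralizer_le ?_))
      rw [← hKP]
      exact sup_le hKY (le_sup_left.trans hYn)
    · exact eq_bot_iff.2 fun y hy => mem_bot.2 (of_inf hCX (hK (hY hy)) (mem_centralizer_iff.2 fun w hw =>
        (mem_centralizer_iff.1 (inf_eq_left.1 e hw) y hy).symm))
  have hcen' : ∀ Y ≤ K, P ⊔ R ≤ normalizer (Y : Set G) → Y ≠ K → ∀ y ∈ P, ∀ x ∈ Y, x * y = y * x := by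
    intro Y hY hn hne
    refine hcentral Y hY (fun e => hne (le_antisymm hY fun x hx => ?_)) hn
    have hx' : x ∈ P ⊔ Y := sup_comm Y P ▸ e.symm ▸ hK hx
    obtain ⟨y, hy, z, hz, rfl⟩ := (CfsgLib.Core.mem_sup_iff_mul (le_sup_left.trans hn)).1 hx'
    have hy1 : y = 1 := of_inf hKPi (by
      rw [show y = y * z * z⁻¹ by group]
      exact mul_mem hx (inv_mem (hY hz))) hy
    rw [hy1, one_mul]; exact hz
  have hKP' : ⁅K, P⁆ = K := by
    by_contra hne
    have hle : ⁅K, P⁆ ≤ K := CfsgLib.Core.commutator_le_of_normalizes hPK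
    have hn : P ⊔ R ≤ normalizer ((⁅K, P⁆ : Subgroup G) : Set G) := sup_le (normalizer_commutator_ge_right K P)
      fun a ha => by
        rw [CfsgLib.Core.mem_normalizer_iff_conj_smul_eq, CfsgLib.Core.conj_smul_eq_map, map_commutator,
          ← CfsgLib.Core.conj_smul_eq_map, ← CfsgLib.Core.conj_smul_eq_map,
          CfsgLib.Core.mem_normalizer_iff_conj_smul_eq.1 (hRK ha),
          CfsgLib.Core.mem_normalizer_iff_conj_smul_eq.1 (hRP ha)]
    have hc := hcen' _ hle hn hne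
    have h1 := CfsgLib.Core.commutator_commutator_eq (A := P) (K := K) hPK
      (hcopPR.coprime_dvd_left (card_dvd_of_le le_sup_left)) (Or.inl inferInstance)
    have h2 : ⁅K, P⁆ = ⊥ := by
      rw [← h1]
      exact eq_bot_iff.2 (commutator_le.2 fun x hx y hy => mem_bot.2
        (commutatorElement_eq_one_iff_mul_comm.2 (hc y hy x hx)))
    exact hnc fun y hy x hx => commutatorElement_eq_one_iff_mul_comm.1
      (mem_bot.1 (h2 ▸ commutator_mem_commutator hx hy))
  -- the fixed points of `R₀`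
  have hR₀X : R₀ ≤ normalizer (X : Set G) := hR₀.trans hRX
  have hR₀W : R₀ ≤ normalizer (W : Set G) := hR₀.trans hRW
  have hR₀K : R₀ ≤ normalizer (K : Set G) := hR₀.trans hRK
  set CH := H ⊓ centralizer (R₀ : Set G) with hCH
  have hcyc : ∀ {q' : ℕ} [Fact q'.Prime] (D : Subgroup G), D ≤ CH → IsPGroup q' D → IsCyclic D := by
    intro q' _ D hD hDp
    have : IsZGroup CH := hZ
    have : IsZGroup D := IsZGroup.of_injective (f := inclusion hD) (inclusion_injective hD)
    have := (hDp.to_subgroup (⊤ : Subgroup D)).isCyclic_of_isZGroup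
    exact Subgroup.topEquiv.isCyclic.1 this
  have hCQ : IsCyclic ↥(K ⊓ centralizer (R₀ : Set G)) :=
    hcyc _ (inf_le_inf_right _ hKH) (hQp.to_le inf_le_left)
  set CW := W ⊓ centralizer (R₀ : Set G) with hCW
  have hCWcyc : IsCyclic CW := hcyc _ (inf_le_inf_right _ hW) (hWp.to_le inf_le_left)
  have hCWle : Nat.card CW ≤ p := by
    obtain ⟨g, hg⟩ := hCWcyc.exists_generator
    rw [← orderOf_eq_card_of_forall_mem_zpowers hg]
    exact Nat.le_of_dvd hp.out.pos (orderOf_dvd_of_pow_eq_one (Subtype.ext (hWe.2 g g.2.1)))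
  -- `R₀` moves `K`
  have hnotcen : ¬ ⁅R₀, K⁆ ≤ centralizer (W : Set G) := by
    intro hc
    have h1 : ⁅R₀, K⁆ = ⊥ := eq_bot_iff.2 (hCX ▸ le_inf
      ((commutator_comm R₀ K).le.trans ((CfsgLib.Core.commutator_le_of_normalizes hR₀K).trans hK)) hc)
    have hcen : K ≤ centralizer (R₀ : Set G) := fun x hx => mem_centralizer_iff.2 fun a ha =>
      commutatorElement_eq_one_iff_mul_comm.1 (mem_bot.1 (h1 ▸ commutator_mem_commutator ha hx))
    have : IsCyclic K := by
      rwa [inf_eq_left.2 hcen] at hCQ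
    have hcomm : ∀ f g : MulAut K, f * g = g * f := fun f g =>
      (IsCyclic.mulAutMulEquiv K).injective (by rw [map_mul, map_mul, mul_comm])
    let θ : ↥(normalizer (K : Set G)) →* MulAut K := K.normalizerMonoidHom
    have hle : ⁅P, R⁆ ≤ θ.ker.map (normalizer (K : Set G)).subtype := commutator_le.2 fun y hy a ha =>
      ⟨⁅(⟨y, hPK hy⟩ : normalizer (K : Set G)), ⟨a, hRK ha⟩⁆, by
        rw [SetLike.mem_coe, MonoidHom.mem_ker, map_commutatorElement, commutatorElement_eq_one_iff_mul_comm]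
        exact hcomm _ _, rfl⟩
    rw [hPR] at hle
    refine hnc fun y hy x hx => ?_
    obtain ⟨z, hz, rfl⟩ := hle hy
    have h2 := congrArg Subtype.val (DFunLike.congr_fun (MonoidHom.mem_ker.1 hz) ⟨x, hx⟩)
    exact (mul_inv_eq_iff_eq_mul.1 (show (z : G) * x * (z : G)⁻¹ = x from h2)).symm
  have hPW : CW ≠ ⊥ := fun e => hnotcen (PrimeActionFitting.commutator_le_centralizer (p := r) (r := p) hr R₀ K W
    hG hodd rfl hR₀K hWp (hK.trans hXW) hR₀W
    ((hcop₀.coprime_dvd_right (card_dvd_of_le hKH)).symm) hKc hrp e)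
  have hPfix : ∀ y ∈ P, y ∈ centralizer (R₀ : Set G) → y = 1 := by
    intro y hy hyc
    by_contra hy1
    set D := CW ⊔ zpowers y with hD
    have hyW : zpowers y ≤ normalizer (CW : Set G) := zpowers_le.2 (mem_normalizer_iff.2 fun w => by
      have hyW : y ∈ normalizer (W : Set G) := hXW (hP hy)
      refine ⟨fun hw => mem_inf.2 ⟨(mem_normalizer_iff.1 hyW w).1 hw.1, mul_mem (mul_mem hyc hw.2) (inv_mem hyc)⟩,
        fun hw => mem_inf.2 ⟨(mem_normalizer_iff.1 hyW w).2 hw.1, ?_⟩⟩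
      have := mul_mem (mul_mem (inv_mem hyc) hw.2) hyc
      simpa [mul_assoc] using this)
    have hDp : IsPGroup p D := by
      have hz : IsPGroup p (zpowers y) := hPp.to_le (zpowers_le.2 hy)
      exact IsPGroup.to_sup_of_normal_left' (hWp.to_le inf_le_left) hz hyW
    have : IsCyclic D := hcyc D (sup_le (inf_le_inf_right _ hW)
      (zpowers_le.2 (mem_inf.2 ⟨hPH hy, hyc⟩))) hDp
    obtain ⟨w, hw1⟩ := ne_bot_iff_exists_ne_one.1 hPW
    -- a power of `y` of order `p`
    obtain ⟨k, hk⟩ := IsPGroup.iff_card.1 (hPp.to_le (zpowers_le.2 hy))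
    have hk0 : k ≠ 0 := fun e => hy1 (by
      rw [e, pow_zero, Nat.card_zpowers, orderOf_eq_one_iff] at hk; exact hk)
    obtain ⟨c, hc⟩ := exists_prime_orderOf_dvd_card' (G := zpowers y) p (hk ▸ dvd_pow_self p hk0)
    have hwo : orderOf (⟨w, mem_sup_left w.2⟩ : D) = p := by
      rw [orderOf_mk]
      refine orderOf_eq_prime (hWe.2 _ w.2.1) fun e => hw1 (Subtype.ext e)
    have hco : orderOf (⟨c, mem_sup_right c.2⟩ : D) = p := by rw [orderOf_mk, orderOf_coe, hc]
    have heq : zpowers (⟨w, mem_sup_left w.2⟩ : D) = zpowers (⟨c, mem_sup_right c.2⟩ : D) :=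
      by
        let : CommGroup D := IsCyclic.commGroup
        have hker : ∀ x : D, orderOf x = p → zpowers x = (powMonoidHom p : D →* D).ker := fun x hx => by
          refine eq_of_le_of_card_ge (zpowers_le.2 ?_) ?_
          · show x ^ p = 1
            rw [← hx, pow_orderOf_eq_one]
          · rw [IsCyclic.card_powMonoidHom_ker, Nat.card_zpowers, hx]
            exact Nat.le_of_dvd hp.out.pos (Nat.gcd_dvd_right _ _)
        rw [hker _ hwo, hker _ hco]
    obtain ⟨i, hi⟩ := mem_zpowers_iff.1 (heq ▸ mem_zpowers (⟨w, mem_sup_left w.2⟩ : D) :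
      (⟨w, mem_sup_left w.2⟩ : D) ∈ zpowers (⟨c, mem_sup_right c.2⟩ : D))
    have hi' : (c : G) ^ i = w := congrArg Subtype.val hi
    exact hw1 (Subtype.ext (of_inf hWXi w.2.1 (hi' ▸ hP ((P.zpow_mem ((zpowers_le.2 hy) c.2)) i))))
  -- the endgame
  have := Fact.mk hqp.out
  obtain ⟨σ₀, hσ₀⟩ := (isCyclic_of_prime_card (α := R₀) (p := r) rfl).exists_generator
  have hσord : orderOf (σ₀ : G) = r := by
    rw [orderOf_coe]; exact orderOf_eq_card_of_forall_mem_zpowers hσ₀
  have hσz : ∀ a ∈ R₀, a ∈ zpowers (σ₀ : G) := fun a ha => by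
    obtain ⟨i, hi⟩ := mem_zpowers_iff.1 (hσ₀ ⟨a, ha⟩)
    exact ⟨i, congrArg Subtype.val hi⟩
  have hcenR : ∀ {x : G}, (σ₀ : G) * x = x * σ₀ → x ∈ centralizer (R₀ : Set G) := fun {x} hx =>
    mem_centralizer_iff.2 fun a ha => by
      obtain ⟨i, rfl⟩ := mem_zpowers_iff.1 (hσz a ha)
      exact ((show Commute (σ₀ : G) x from hx).zpow_left i).eq
  let A := normalizer (W : Set G)
  have hσA : (σ₀ : G) ∈ A := hR₀W σ₀.2
  let : CommGroup W := { (inferInstance : Group W) with mul_comm := fun a b => Subtype.ext (hWc a a.2 b b.2) }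
  let ψ : A →* MulAut W := W.normalizerMonoidHom
  set QA := K.subgroupOf A
  set PA := P.subgroupOf A
  have hKA : K ≤ A := hK.trans hXW
  have hPA : P ≤ A := hP.trans hXW
  have hsub_norm : ∀ (Y : Subgroup G) (a : A), (a : G) ∈ normalizer (Y : Set G) → a ∈ normalizer (Y.subgroupOf A : Set A) :=
    fun Y a ha => mem_normalizer_iff.2 fun x => by
      rw [mem_subgroupOf, mem_subgroupOf]
      exact (mem_normalizer_iff.1 ha) x
  have : Nontrivial W := (Subgroup.nontrivial_iff_ne_bot W).2 hWne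
  refine PLengthEndgame.endgame ψ QA PA (⟨σ₀, hσA⟩ : A) hWp (hQp.of_equiv (subgroupOfEquivOfLe hKA).symm)
    (hPp.of_equiv (subgroupOfEquivOfLe hPA).symm) hp2 hpq hrp hrq ?_ ?_ ?_ ?_ ?_ ?_ ?_ ?_ ?_ ?_ ?_ hq2 hr2
  · exact Subtype.ext (show (σ₀ : G) ^ r = 1 by rw [← hσord, pow_orderOf_eq_one])
  · intro e
    have : (σ₀ : G) = 1 := congrArg Subtype.val e
    rw [this, orderOf_one] at hσord
    exact hr.ne_one hσord.symm
  · exact fun a ha => hsub_norm K a (hPK ha)
  · exact hsub_norm K _ (hR₀K σ₀.2)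
  · exact hsub_norm P _ (hR₀.trans hRP σ₀.2)
  · intro a ha hc
    exact Subtype.ext (hPfix a ha (hcenR (congrArg Subtype.val hc)))
  · refine Subgroup.map_injective A.subtype_injective ?_
    rw [map_commutator, map_subgroupOf_eq_of_le hKA, map_subgroupOf_eq_of_le hPA, hKP']
  · intro e
    refine hK1 ?_
    rw [← map_subgroupOf_eq_of_le hKA, show K.subgroupOf A = ⊥ from e, Subgroup.map_bot]
  · have := hCQ
    refine isCyclic_of_injective
      (((A.subtype.comp (QA ⊓ centralizer (zpowers (⟨σ₀, hσA⟩ : A) : Set A)).subtype).codRestrict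
        (K ⊓ centralizer (R₀ : Set G)) fun x => mem_inf.2 ⟨x.2.1, hcenR ?_⟩)) fun x y h => ?_
    · exact congrArg Subtype.val (mem_centralizer_iff.1 x.2.2 _ (mem_zpowers _))
    · exact Subtype.ext (Subtype.ext (congrArg (fun v : ↥(K ⊓ centralizer (R₀ : Set G)) => (v : G)) h))
  · refine le_trans (Nat.card_le_card_of_injective (fun u : FixedComponents.fixed ψ (zpowers (⟨σ₀, hσA⟩ : A)) =>
      (⟨((u : W) : G), mem_inf.2 ⟨(u : W).2, hcenR ?_⟩⟩ : CW)) fun u v h => ?_) hCWle
    · have h1 : (σ₀ : G) * (u : W) * (σ₀ : G)⁻¹ = (u : W) := congrArg Subtype.val (u.2 _ (mem_zpowers _))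
      exact mul_inv_eq_iff_eq_mul.1 h1
    · exact Subtype.ext (Subtype.ext (congrArg (fun v : CW => (v : G)) h))
  · intro Y hY hYn
    set Y' := Y.map A.subtype with hY'
    have hY'K : Y' ≤ K := map_le_iff_le_comap.2 hY
    have hY'n : ∀ g : G, g ∈ A → g ∈ normalizer (K : Set G) → g ∈ normalizer (Y' : Set G) := by
      intro g hgA hgK
      have h1 := hYn (hsub_norm K ⟨g, hgA⟩ hgK)
      rw [CfsgLib.Core.mem_normalizer_iff_conj_smul_eq, CfsgLib.Core.conj_smul_eq_map] at h1 ⊢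
      conv_rhs => rw [hY', ← h1, map_map]
      rw [hY', map_map]
      rfl
    have hn : P ⊔ R ≤ normalizer (Y' : Set G) := sup_le (fun g hg => hY'n g (hPA hg) (hPK hg))
      fun g hg => hY'n g (hRW hg) (hRK hg)
    refine ⟨fun hne => fun a ha => mem_centralizer_iff.2 fun y hy => Subtype.ext
      (hcen' Y' hY'K hn (fun e => hne ?_) a ha _ (mem_map_of_mem A.subtype hy)), fun hne => ?_⟩
    · refine Subgroup.map_injective A.subtype_injective ?_
      rw [← hY', e, map_subgroupOf_eq_of_le hKA]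
    · have h1 := hfix Y' hY'K hn (fun g hg => hY'n g (hKA hg) (le_normalizer hg)) fun e => hne
        ((map_eq_bot_iff_of_injective _ A.subtype_injective).1 e)
      refine eq_bot_iff.2 fun u hu => mem_bot.2 (Subtype.ext (of_inf h1 u.2 (mem_centralizer_iff.2 ?_)))
      rintro _ ⟨y, hy, rfl⟩
      exact mul_inv_eq_iff_eq_mul.1 (show (y : G) * (u : G) * (y : G)⁻¹ = u from congrArg Subtype.val (hu y hy))

/-- The main induction. -/
theorem main : ∀ (n : ℕ) (G : Type u) [Group G] [Finite G] (H R R₀ : Subgroup G),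
    Nat.card H ≤ n → Hyp H R R₀ → ⁅H, R⁆ = H → Cfsg.PLengthLE p 1 H := by
  intro n
  induction n with
  | zero => exact fun G _ _ H _ _ hc => absurd hc (Nat.card_pos (α := H)).not_ge
  | succ n ih =>
    intro G _ _ H R R₀ hc h hHR
    have hIH : IH.{u} p (Nat.card H) := fun G' _ _ H' R' R₀' hlt => ih G' H' R' R₀' (by omega)
    by_cases hO : Cfsg.pPrimeCore p H = ⊥
    · obtain ⟨S⟩ : Nonempty (Sylow p H) := inferInstance
      by_cases hS : (S : Subgroup H).Normal
      · exact PLengthOne.pLengthLE_one_of_normal S hS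
      obtain ⟨W, K, X, P, hcfg⟩ := exists_config h hHR hIH hO S hS
      exact (false_of_config h hcfg).elim
    set N := (Cfsg.pPrimeCore p H).map H.subtype with hN
    have hNH : N ≤ H := map_subtype_le _
    have hHN : H ≤ normalizer (N : Set G) := le_normalizer.trans (normalizer_pPrimeCore_le H)
    have hRN : R ≤ normalizer (N : Set G) := h.2.2.1.trans (normalizer_pPrimeCore_le H)
    have hq := quot_step h hHR hIH hNH hHN hRN fun e => hO
      ((map_eq_bot_iff_of_injective _ H.subtype_injective).1 e)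
    set f := ((QuotientGroup.mk' (N.subgroupOf (normalizer (N : Set G)))).comp (inclusion hHN)).rangeRestrict
    refine PLengthOne.of_pPrime_kernel f (MonoidHom.rangeRestrict_surjective _) ?_ ?_
    · rw [MonoidHom.ker_rangeRestrict, ← MonoidHom.comap_ker, QuotientGroup.ker_mk',
        show comap (inclusion hHN) (N.subgroupOf (normalizer (N : Set G))) = N.subgroupOf H from rfl,
        Nat.card_congr (subgroupOfEquivOfLe hNH).toEquiv, hN, card_map_of_injective H.subtype_injective]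
      exact CfsgLib.Core.coprime_card_pPrimeCore p H
    · rwa [MonoidHom.range_comp, inclusion_range]

end CfsgLib.OddLocal.CommutatorPLength
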