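import Cfsg.Agent.Lib.OddLocal.RankThree
import Cfsg.Agent.Lib.Core.UniqueOrderP

/-!
A maximal elementary abelian subgroup of order `p ^ 2` makes a `p`-group narrow.
-/

set_option autoImplicit false

namespace CfsgLib.OddLocal.NarrowOfMaximal

open Subgroup

theorem isNarrow_of_maximal_sq {R : Type*} [Group R] [Finite R] {p : ℕ} [hp : Fact p.Prime] (hp2 : p ≠ 2)
    (hR : IsPGroup p R) {E : Subgroup R} (hE : Cfsg.IsElementaryAbelian p E) (hE2 : Nat.card E = p ^ 2)
    (hEmax : ∀ B : Subgroup R, Cfsg.IsElementaryAbelian p B → E ≤ B → B = E) : Cfsg.IsNarrow p R := by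
  by_cases hr : Cfsg.PRankLE p 2 R
  · exact Or.inl hr
  obtain ⟨hET, hZ, -, hTc, hTi⟩ := CfsgLib.OddLocal.RankThree.facts hp2 hR hr hE hE2 hEmax
  set T := centralizer ((closure {x : R | x ∈ Subgroup.upperCentralSeries R 2 ∧ x ^ p = 1} : Subgroup R) : Set R)
  obtain ⟨e, he, heT⟩ := SetLike.not_le_iff_exists.1 hET
  have he1 : e ≠ 1 := fun h => heT (h ▸ one_mem T)
  have heord : orderOf e = p := orderOf_eq_prime (hE.2 e he) he1
  have hTn : T.Normal := inferInstance
  have heZ : ∀ z, z ∈ center R → z ^ p = 1 → z ∈ E := fun z hz hzp =>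
    CfsgLib.OddLocal.RankThree.mem_of_centralizes hE hEmax (center_le_centralizer _ hz) hzp
  set R₁ := T ⊓ centralizer ({e} : Set R) with hR₁
  refine Or.inr ⟨zpowers e, R₁, by rw [Nat.card_zpowers, heord], ?_, ?_, ?_, ?_⟩
  · -- a unique subgroup of order `p`
    refine ((CfsgLib.Core.UniqueOrderP.isCyclic_or_quaternion_of_unique (hR.to_subgroup R₁)
      fun H K hH hK => ?_).resolve_right fun h => hp2 h.1)
    have hmem : ∀ f : R, f ∈ R₁ → f ^ p = 1 → f ∈ E ⊓ T := by
      intro f hf hfp
      have hEgen : E = (closure {x : R | x ∈ center R ∧ x ^ p = 1}) ⊔ zpowers e := by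
        have hle : closure {x : R | x ∈ center R ∧ x ^ p = 1} ⊔ zpowers e ≤ E :=
          sup_le ((closure_le _).2 fun x hx => heZ x hx.1 hx.2) (zpowers_le.2 he)
        refine (eq_of_le_of_card_ge hle ?_).symm
        have hlt : closure {x : R | x ∈ center R ∧ x ^ p = 1} <
            closure {x : R | x ∈ center R ∧ x ^ p = 1} ⊔ zpowers e := lt_of_le_of_ne le_sup_left fun h => by
          have h2 : e ∈ closure {x : R | x ∈ center R ∧ x ^ p = 1} :=
            h.ge (mem_sup_right (mem_zpowers e))
          exact heT (center_le_centralizer _ ((closure_le _).2 (fun x hx => hx.1) h2))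
        have h3 := CfsgLib.PGroups.mul_card_le_of_lt (hR.to_subgroup _) hlt
        rw [hZ] at h3
        rwa [hE2, pow_two]
      refine ⟨CfsgLib.OddLocal.RankThree.mem_of_centralizes hE hEmax (mem_centralizer_iff.2 ?_) hfp, hf.1⟩
      intro x hx
      have hle : E ≤ centralizer ({f} : Set R) := by
        rw [hEgen]
        refine sup_le ((closure_le _).2 fun z hz => center_le_centralizer _ hz.1) (zpowers_le.2 ?_)
        exact mem_centralizer_singleton_iff.2 (mem_centralizer_singleton_iff.1 hf.2).symm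
      exact mem_centralizer_singleton_iff.1 (hle hx)
    have hET2 : Nat.card ↥(E ⊓ T : Subgroup R) ≤ p := by
      obtain ⟨j, hj, hjc⟩ := (Nat.dvd_prime_pow hp.out).1 (hE2 ▸ card_dvd_of_le (inf_le_left : E ⊓ T ≤ E))
      rw [hjc]
      rcases (show j = 2 ∨ j ≤ 1 by omega) with rfl | h
      · exact absurd (le_trans (eq_of_le_of_card_ge inf_le_left (by rw [hjc, hE2])).ge inf_le_right) hET
      · exact le_trans (Nat.pow_le_pow_right hp.out.pos h) (pow_one p).le
    have hkey : ∀ L : Subgroup R₁, Nat.card L = p → L.map R₁.subtype = E ⊓ T := by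
      intro L hL
      refine eq_of_le_of_card_ge ?_ ?_
      · rintro _ ⟨x, hx, rfl⟩
        refine hmem x x.2 ?_
        rw [← orderOf_dvd_iff_pow_eq_one, ← hL]
        exact (Subgroup.orderOf_coe x).symm ▸ L.orderOf_dvd_natCard hx
      · rw [card_map_of_injective R₁.subtype_injective, hL]; exact hET2
    exact Subgroup.map_injective R₁.subtype_injective ((hkey H hH).trans (hkey K hK).symm)
  · refine eq_bot_iff.2 fun x hx => mem_bot.2 ?_
    by_contra hx1
    have h1 : zpowers e ⊓ T = ⊥ := by
      have hd := card_dvd_of_le (inf_le_left : zpowers e ⊓ T ≤ zpowers e)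
      rw [Nat.card_zpowers, heord] at hd
      rcases (Nat.dvd_prime hp.out).1 hd with h | h
      · exact card_eq_one.1 h
      · exact absurd ((eq_of_le_of_card_ge inf_le_left (by rw [h, Nat.card_zpowers, heord])).ge.trans
          inf_le_right (mem_zpowers e)) heT
    exact hx1 (mem_bot.1 (h1 ▸ mem_inf.2 ⟨hx.1, hx.2.1⟩))
  · intro a ha b hb
    obtain ⟨i, rfl⟩ := mem_zpowers_iff.1 ha
    exact ((show Commute e b from (mem_centralizer_singleton_iff.1 hb.2).symm).zpow_left i).eq
  · refine le_antisymm (sup_le ?_ ?_) fun x hx => ?_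
    · exact zpowers_le.2 (mem_centralizer_iff.2 fun y hy => by
        obtain ⟨i, rfl⟩ := mem_zpowers_iff.1 hy
        exact ((Commute.refl e).zpow_left i).eq)
    · intro b hb
      refine mem_centralizer_iff.2 fun y hy => ?_
      obtain ⟨i, rfl⟩ := mem_zpowers_iff.1 hy
      exact ((show Commute e b from (mem_centralizer_singleton_iff.1 hb.2).symm).zpow_left i).eq
    · have htop : zpowers e ⊔ T = ⊤ := by
        have hd := index_dvd_of_le (le_sup_right : T ≤ zpowers e ⊔ T)
        rw [hTi] at hd
        rcases (Nat.dvd_prime hp.out).1 hd with h | h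
        · exact index_eq_one.1 h
        · refine absurd ?_ heT
          have hc := Subgroup.card_mul_index T
          have hc' := Subgroup.card_mul_index (zpowers e ⊔ T)
          rw [hTi] at hc
          rw [h, ← hc] at hc'
          have := eq_of_le_of_card_ge (le_sup_right : T ≤ zpowers e ⊔ T) (Nat.eq_of_mul_eq_mul_right hp.out.pos hc').le
          exact this ▸ mem_sup_left (mem_zpowers e)
      obtain ⟨a, ha, t, ht, rfl⟩ := mem_sup_of_normal_right.1 (htop.symm ▸ mem_top x : x ∈ zpowers e ⊔ T)
      refine mul_mem (mem_sup_left ha) (mem_sup_right (mem_inf.2 ⟨ht, mem_centralizer_singleton_iff.2 ?_⟩))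
      have h1 : e * (a * t) = a * t * e := mem_centralizer_iff.1 hx e (mem_zpowers e)
      obtain ⟨i, rfl⟩ := mem_zpowers_iff.1 ha
      rw [← mul_assoc, ((Commute.refl e).zpow_right i).eq, mul_assoc, mul_assoc] at h1
      exact (mul_left_cancel h1).symm

end CfsgLib.OddLocal.NarrowOfMaximal
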