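import Mathlib.GroupTheory.Nilpotent
import Mathlib.GroupTheory.PGroup
import Mathlib.GroupTheory.Solvable
import Mathlib.Algebra.Group.Subgroup.Pointwise
import Mathlib.Data.Nat.Choose.Dvd
import Cfsg.Agent.Lib.OddLocal.Basic

/-!
Coprime action by conjugation: stabilised series, self-centralising fixed points, and the fact that a
`p'`-element fixing every element of order `p` of an odd `p`-group centralises it.
-/

set_option autoImplicit false

namespace CfsgLib.OddLocal

open Subgroup
open scoped commutatorElement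

variable {G : Type*} [Group G]

theorem conj_mem_of_normalizes {H : Subgroup G} {a h : G} (ha : a ∈ Subgroup.normalizer (H : Set G))
    (hh : h ∈ H) : a * h * a⁻¹ ∈ H := (Subgroup.mem_normalizer_iff.mp ha h).mp hh

/-- `a` moves `h` by a fixed element `z` of order coprime to that of `a`: then `z = 1`. -/
theorem shift_eq_one {a h z : G} (hz : a * h * a⁻¹ = h * z) (hc : Commute a z) {n m : ℕ}
    (hn : a ^ n = 1) (hm : z ^ m = 1) (hcop : n.Coprime m) : z = 1 := by
  have key : ∀ k : ℕ, a ^ k * h * (a ^ k)⁻¹ = h * z ^ k := by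
    intro k
    induction k with
    | zero => simp
    | succ k ih =>
      calc a ^ (k + 1) * h * (a ^ (k + 1))⁻¹ = a * (a ^ k * h * (a ^ k)⁻¹) * a⁻¹ := by
            rw [pow_succ']; group
        _ = (a * h * a⁻¹) * (a * z ^ k * a⁻¹) := by rw [ih]; group
        _ = h * z ^ (k + 1) := by
            rw [hz, (hc.pow_right k).eq, mul_inv_cancel_right, mul_assoc, pow_succ']
  have := key n
  rw [hn, one_mul, inv_one, mul_one] at this
  have h1 : z ^ n = 1 := mul_left_cancel (a := h) (by rw [mul_one]; exact this.symm)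
  exact eq_one_of_pow_eq_one_coprime h1 hm hcop

/-- If `a` centralises `C` and `h` normalises `C`, then `h⁻¹ a h a⁻¹` centralises `C`. -/
theorem shift_mem_centralizer {C : Subgroup G} {a h : G} (hC : a ∈ Subgroup.centralizer (C : Set G))
    (hh : h ∈ Subgroup.normalizer (C : Set G)) :
    h⁻¹ * (a * h * a⁻¹) ∈ Subgroup.centralizer (C : Set G) := by
  rw [Subgroup.mem_centralizer_iff]
  intro c hc
  have h1 : c * a = a * c := Subgroup.mem_centralizer_iff.mp hC c hc
  have hc' : h * c * h⁻¹ ∈ C := conj_mem_of_normalizes hh hc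
  have h2 : h * c * h⁻¹ * a = a * (h * c * h⁻¹) := Subgroup.mem_centralizer_iff.mp hC _ hc'
  have h1' : a⁻¹ * c = c * a⁻¹ := ((show Commute c a from h1).inv_right.symm).eq
  calc c * (h⁻¹ * (a * h * a⁻¹)) = h⁻¹ * (h * c * h⁻¹ * a) * h * a⁻¹ := by group
    _ = h⁻¹ * a * h * (c * a⁻¹) := by rw [h2]; group
    _ = h⁻¹ * a * h * (a⁻¹ * c) := by rw [h1']
    _ = h⁻¹ * (a * h * a⁻¹) * c := by group

theorem mem_centralizer_of_commute {H : Subgroup G} {a : G} (h : ∀ x ∈ H, a * x = x * a) :
    a ∈ Subgroup.centralizer (H : Set G) :=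
  Subgroup.mem_centralizer_iff.mpr fun x hx => (h x hx).symm

/-- An element normalising each term of a stabilised series and of order coprime to `|H|` centralises `H`. -/
theorem centralizes_of_stabilizes_series {H : Subgroup G} {a : G} {k : ℕ} {n : ℕ} (hn : a ^ n = 1)
    (hcop : n.Coprime (Nat.card H)) (c : Fin (k + 1) → Subgroup G) (hc0 : c 0 = H)
    (hck : c (Fin.last k) = ⊥) (hle : ∀ i, c i ≤ H)
    (htriv : ∀ i : Fin k, ∀ h ∈ c i.castSucc, h⁻¹ * (a * h * a⁻¹) ∈ c i.succ) :
    a ∈ Subgroup.centralizer (H : Set G) := by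
  have key : ∀ i : Fin (k + 1), ∀ h ∈ c i, Commute a h := by
    intro i
    induction i using Fin.reverseInduction with
    | last =>
      intro h hh
      rw [hck, Subgroup.mem_bot] at hh
      rw [hh]; exact Commute.one_right a
    | cast i ih =>
      intro h hh
      have hz := htriv i h hh
      have h1 := shift_eq_one (h := h) (z := h⁻¹ * (a * h * a⁻¹)) (by group) (ih _ hz) hn
        (pow_card_eq_one_of_mem (hle _ hz)) hcop
      rw [inv_mul_eq_one] at h1
      show a * h = h * a
      conv_rhs => rw [h1]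
      group
  exact mem_centralizer_of_commute fun x hx => key 0 x (hc0 ▸ hx)

/-- If the fixed points of a coprime operator group on a nilpotent group contain their own centraliser,
the action is trivial. -/
theorem centralizes_of_selfcentralizing_fixed [Finite G] {H A : Subgroup G} (hH : Group.IsNilpotent H)
    (hA : A ≤ Subgroup.normalizer (H : Set G)) (hcop : (Nat.card A).Coprime (Nat.card H))
    (hC : H ⊓ Subgroup.centralizer ((H ⊓ Subgroup.centralizer (A : Set G) : Subgroup G) : Set G)
      ≤ H ⊓ Subgroup.centralizer (A : Set G)) :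
    A ≤ Subgroup.centralizer (H : Set G) := by
  set C := H ⊓ Subgroup.centralizer (A : Set G) with hCdef
  rw [Subgroup.le_centralizer_iff]
  by_contra hne
  have hlt : C.subgroupOf H < ⊤ := by
    rw [lt_top_iff_ne_top, ne_eq, Subgroup.subgroupOf_eq_top]
    exact fun h => hne (h.trans inf_le_right)
  have hlt' := (Group.normalizerCondition_of_isNilpotent (G := H)) (C.subgroupOf H) hlt
  obtain ⟨h, hh, hhC⟩ := SetLike.exists_of_lt hlt'
  have hhN : (h : G) ∈ Subgroup.normalizer (C : Set G) := by
    rw [Subgroup.mem_normalizer_iff]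
    intro x
    have key := Subgroup.mem_normalizer_iff.mp hh
    constructor
    · intro hx
      simpa [Subgroup.mem_subgroupOf] using (key ⟨x, (inf_le_left : C ≤ H) hx⟩).mp (by simpa [Subgroup.mem_subgroupOf] using hx)
    · intro hx
      have hxH : x ∈ H := by
        have := mul_mem (mul_mem (inv_mem h.2) ((inf_le_left : C ≤ H) hx)) h.2
        simpa [mul_assoc] using this
      simpa [Subgroup.mem_subgroupOf] using (key ⟨x, hxH⟩).mpr (by simpa [Subgroup.mem_subgroupOf] using hx)
  apply hhC
  rw [Subgroup.mem_subgroupOf]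
  refine ⟨h.2, mem_centralizer_of_commute fun a ha => ?_⟩
  have haC : a ∈ Subgroup.centralizer (C : Set G) := Subgroup.le_centralizer_iff.mp inf_le_right ha
  have hzH : (h : G)⁻¹ * (a * h * a⁻¹) ∈ H := mul_mem (inv_mem h.2) (conj_mem_of_normalizes (hA ha) h.2)
  have hzC := hC (Subgroup.mem_inf.mpr ⟨hzH, shift_mem_centralizer haC hhN⟩)
  have hca : Commute a ((h : G)⁻¹ * (a * h * a⁻¹)) :=
    Subgroup.mem_centralizer_iff.mp (Subgroup.mem_inf.mp hzC).2 a ha
  have h1 := shift_eq_one (h := (h : G)) (z := (h : G)⁻¹ * (a * h * a⁻¹)) (by group) hca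
    (pow_card_eq_one_of_mem ha) (pow_card_eq_one_of_mem hzH) hcop
  rw [inv_mul_eq_one] at h1
  conv_lhs => rw [h1]
  group

theorem exists_normal_index_prime {p : ℕ} [hp : Fact p.Prime] {H : Type*} [Group H] [Finite H] [Nontrivial H]
    (hH : IsPGroup p H) : ∃ M : Subgroup H, M.Normal ∧ M.index = p ∧ M ≠ ⊤ := by
  obtain ⟨n, hn⟩ := IsPGroup.iff_card.mp hH
  have h1 : 1 < Nat.card H := Finite.one_lt_card
  obtain ⟨n, rfl⟩ : ∃ m, n = m + 1 := ⟨n - 1, by
    rcases n with _ | n
    · simp [hn] at h1
    · omega⟩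
  obtain ⟨M, hM⟩ := Sylow.exists_subgroup_card_pow_prime p (G := H) (n := n) (by rw [hn]; exact pow_dvd_pow p (by omega))
  have hidx : M.index = p := by
    have := M.card_mul_index
    rw [hM, hn, pow_succ] at this
    exact Nat.eq_of_mul_eq_mul_left (pow_pos hp.out.pos _) this
  refine ⟨M, ?_, hidx, fun h => ?_⟩
  · apply Subgroup.normal_of_index_eq_minFac_card
    rw [hidx, hn, Nat.pow_minFac (by omega), hp.out.minFac_eq]
  · rw [h, Subgroup.index_top] at hidx
    exact hp.out.one_lt.ne hidx

theorem mul_pow_of_central_commutator {x c d : G} (hd : c * x = d * x * c) (hdx : Commute d x)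
    (hdc : Commute d c) (k : ℕ) : (x * c) ^ k = x ^ k * c ^ k * d ^ k.choose 2 := by
  have hck : ∀ i : ℕ, c ^ i * x = d ^ i * x * c ^ i := by
    intro i
    induction i with
    | zero => simp
    | succ i ih =>
      calc c ^ (i + 1) * x = c ^ i * (c * x) := by rw [pow_succ, mul_assoc]
        _ = c ^ i * d * (x * c) := by rw [hd]; group
        _ = d * (c ^ i * x) * c := by rw [(hdc.pow_right i).symm.eq]; group
        _ = d ^ (i + 1) * x * c ^ (i + 1) := by rw [ih, pow_succ' d, pow_succ c]; group
  induction k with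
  | zero => simp
  | succ k ih =>
    have hd1 : ∀ j : ℕ, Commute (d ^ j) (x * c) := fun j => (hdx.mul_right hdc).pow_left j
    have h2 : x ^ k * (d ^ k * x) = x ^ (k + 1) * d ^ k := by
      rw [((hdx.pow_left k)).eq, ← mul_assoc, pow_succ]
    calc (x * c) ^ (k + 1) = x ^ k * c ^ k * d ^ k.choose 2 * (x * c) := by rw [pow_succ, ih]
      _ = x ^ k * (c ^ k * x) * c * d ^ k.choose 2 := by
          rw [mul_assoc _ (d ^ k.choose 2), (hd1 _).eq]; group
      _ = x ^ k * (d ^ k * x) * (c ^ k * c) * d ^ k.choose 2 := by rw [hck k]; group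
      _ = x ^ (k + 1) * d ^ k * c ^ (k + 1) * d ^ k.choose 2 := by rw [h2, pow_succ c]
      _ = x ^ (k + 1) * c ^ (k + 1) * (d ^ k * d ^ k.choose 2) := by
          rw [mul_assoc (x ^ (k + 1)) (d ^ k), ((hdc.pow_left k).pow_right (k + 1)).eq]; group
      _ = x ^ (k + 1) * c ^ (k + 1) * d ^ (k + 1).choose 2 := by
          rw [← pow_add, Nat.choose_succ_succ' k 1, Nat.choose_one_right]

theorem centralizes_of_fixes_order_p_aux [Finite G] {p : ℕ} [hp : Fact p.Prime] (hp2 : p ≠ 2) {a : G} {n : ℕ}
    (hn : a ^ n = 1) (hcop : n.Coprime p) :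
    ∀ (N : ℕ) (H : Subgroup G), Nat.card H = N → IsPGroup p H → a ∈ Subgroup.normalizer (H : Set G) →
      (∀ x ∈ H, orderOf x = p → Commute a x) → ∀ x ∈ H, Commute a x := by
  intro N
  induction N using Nat.strong_induction_on with
  | _ N ih =>
    intro H hN hH haH hfix
    subst hN
    by_contra hne
    simp only [not_forall] at hne
    obtain ⟨h₀, hh₀, hne⟩ := hne
    have hfixlt : ∀ K : Subgroup G, K < H → a ∈ Subgroup.normalizer (K : Set G) →
        ∀ x ∈ K, Commute a x := by
      intro K hK haK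
      refine ih _ ?_ K rfl (hH.to_le hK.le) haK fun x hx => hfix x (hK.le hx)
      by_contra hle
      exact hK.ne (Subgroup.eq_of_le_of_card_ge hK.le (not_lt.mp hle))
    have hcop' : ∀ x ∈ H, ∃ m : ℕ, x ^ m = 1 ∧ n.Coprime m := fun x hx => by
      obtain ⟨k, hk⟩ := hH ⟨x, hx⟩
      exact ⟨p ^ k, by simpa using congrArg Subtype.val hk, hcop.pow_right k⟩
    have hZ : Subgroup.zpowers a ≤ Subgroup.normalizer (H : Set G) := Subgroup.zpowers_le.mpr haH
    have hzH : ∀ h ∈ H, h⁻¹ * (a * h * a⁻¹) ∈ H := fun h hh =>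
      mul_mem (inv_mem hh) (conj_mem_of_normalizes haH hh)
    -- the subgroup generated by the shifts is all of `H`
    have hK : ⁅H, Subgroup.zpowers a⁆ = H := by
      have hle : ⁅H, Subgroup.zpowers a⁆ ≤ H := Subgroup.le_normalizer_iff_commutator_le_left.mp hZ
      by_contra hlt
      have hfixK := hfixlt _ (lt_of_le_of_ne hle hlt)
        (Subgroup.normalizer_commutator_ge_right H _ (Subgroup.mem_zpowers a))
      apply hne
      have hz : h₀⁻¹ * (a * h₀ * a⁻¹) ∈ ⁅H, Subgroup.zpowers a⁆ := by
        have := Subgroup.commutator_mem_commutator (inv_mem hh₀) (Subgroup.mem_zpowers a)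
        simpa [commutatorElement_def, mul_assoc] using this
      obtain ⟨m, hm, hnm⟩ := hcop' _ (hzH h₀ hh₀)
      have h1 := shift_eq_one (h := h₀) (by group) (hfixK _ hz) hn hm hnm
      rw [inv_mul_eq_one] at h1
      show a * h₀ = h₀ * a
      conv_rhs => rw [h1]
      group
    -- a normal subgroup centralised by `a` is central
    have hcentral : ∀ C : Subgroup G, H ≤ Subgroup.normalizer (C : Set G) → (∀ x ∈ C, Commute a x) →
        H ≤ Subgroup.centralizer (C : Set G) := by
      intro C hC hfixC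
      rw [← hK, Subgroup.commutator_le]
      intro h hh b hb
      have hb' : b ∈ Subgroup.centralizer (C : Set G) :=
        Subgroup.zpowers_le.mpr (mem_centralizer_of_commute fun x hx => (hfixC x hx).eq) hb
      have := shift_mem_centralizer (inv_mem hb') (hC hh)
      have h2 : h * b * h⁻¹ * b⁻¹ = ((h⁻¹)⁻¹ * (b * h⁻¹ * b⁻¹)) := by group
      rw [commutatorElement_def, h2]
      exact shift_mem_centralizer hb' (inv_mem (hC hh))
    -- the derived subgroup is proper, hence central
    have hHne : Nontrivial H := by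
      rw [Subgroup.nontrivial_iff_ne_bot]
      intro h
      rw [h, Subgroup.mem_bot] at hh₀
      exact hne (hh₀ ▸ Commute.one_right a)
    have hnorm_comm : a ∈ Subgroup.normalizer ((⁅H, H⁆ : Subgroup G) : Set G) := by
      have : Subgroup.map (MulAut.conj a).toMonoidHom ⁅H, H⁆ = ⁅H, H⁆ := by
        have hm : Subgroup.map (MulAut.conj a).toMonoidHom H = H := by
          ext x
          rw [Subgroup.mem_map_equiv, MulAut.conj_symm_apply, Subgroup.mem_normalizer_iff.mp haH]
          simp [mul_assoc]
        rw [Subgroup.map_commutator, hm]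
      rw [Subgroup.mem_normalizer_iff]
      intro x
      constructor
      · intro hx
        exact this ▸ Subgroup.mem_map_of_mem _ hx
      · intro hx
        rw [← this] at hx
        obtain ⟨y, hy, hyx⟩ := hx
        simp only [MulEquiv.coe_toMonoidHom, MulAut.conj_apply, mul_left_inj, mul_right_inj] at hyx
        exact hyx ▸ hy
    have hcomm_lt : ⁅H, H⁆ < H := by
      have : Group.IsNilpotent H := hH.isNilpotent
      have h1 := Group.IsSolvable.commutator_lt_top_of_nontrivial H
      rwa [← Subgroup.map_subtype_lt_map_subtype, ← MonoidHom.range_eq_map, Subgroup.range_subtype,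
        commutator_def, Subgroup.map_commutator, ← MonoidHom.range_eq_map, Subgroup.range_subtype] at h1
    have hZc : H ≤ Subgroup.centralizer ((⁅H, H⁆ : Subgroup G) : Set G) := by
      refine hcentral _ ?_ (hfixlt _ hcomm_lt hnorm_comm)
      exact Subgroup.normalizer_commutator_ge_left H H
    -- the subgroup of p-th powers is proper, hence central
    obtain ⟨M, hMn, hMi, hMt⟩ : ∃ M : Subgroup H, M.Normal ∧ M.index = p ∧ M ≠ ⊤ := exists_normal_index_prime (p := p) hH
    set P := Subgroup.closure ((fun x : G => x ^ p) '' (H : Set G)) with hPdef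
    have hPle : P ≤ M.map H.subtype := by
      rw [hPdef, Subgroup.closure_le]
      rintro _ ⟨x, hx, rfl⟩
      refine ⟨(⟨x, hx⟩ : H) ^ p, ?_, by simp⟩
      have := Subgroup.pow_index_mem M (⟨x, hx⟩ : H)
      rwa [hMi] at this
    have hPlt : P < H := by
      refine lt_of_le_of_ne (hPle.trans (Subgroup.map_subtype_le M)) fun h => hMt ?_
      apply Subgroup.map_injective H.subtype_injective
      rw [← MonoidHom.range_eq_map, Subgroup.range_subtype]
      exact le_antisymm (Subgroup.map_subtype_le M) (le_of_eq_of_le h.symm hPle)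
    have hnormP : Subgroup.normalizer (H : Set G) ≤ Subgroup.normalizer (P : Set G) := by
      intro b hb
      have hmap : ∀ b ∈ Subgroup.normalizer (H : Set G), ∀ x ∈ P, b * x * b⁻¹ ∈ P := by
        intro b hb x hx
        induction hx using Subgroup.closure_induction with
        | mem x hx =>
          obtain ⟨y, hy, rfl⟩ := hx
          exact Subgroup.subset_closure ⟨b * y * b⁻¹, conj_mem_of_normalizes hb hy, by simp [conj_pow]⟩
        | one => simp
        | mul x y _ _ ihx ihy => simpa [mul_assoc] using mul_mem ihx ihy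
        | inv x _ ihx => simpa [mul_assoc] using inv_mem ihx
      rw [Subgroup.mem_normalizer_iff]
      intro x
      refine ⟨hmap b hb x, fun hx => ?_⟩
      simpa [mul_assoc] using hmap b⁻¹ (inv_mem hb) _ hx
    have hZp : H ≤ Subgroup.centralizer (P : Set G) :=
      hcentral P (Subgroup.le_normalizer.trans hnormP) (hfixlt P hPlt (hnormP haH))
    -- every shift has order `p`
    apply hne
    set z := h₀⁻¹ * (a * h₀ * a⁻¹) with hzdef
    have hzmem : z ∈ H := hzH h₀ hh₀
    have hdmem : ∀ x ∈ H, ∀ y ∈ H, ⁅y, x⁆ ∈ ⁅H, H⁆ := fun x hx y hy =>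
      Subgroup.commutator_mem_commutator hy hx
    have hd : z * h₀ = ⁅z, h₀⁆ * h₀ * z := by rw [commutatorElement_def]; group
    have hdc : ∀ y ∈ H, Commute ⁅z, h₀⁆ y := fun y hy =>
      Subgroup.mem_centralizer_iff.mp (hZc hy) _ (hdmem _ hh₀ _ hzmem)
    have hxp : ∀ x ∈ H, ∀ y ∈ H, Commute (x ^ p) y := fun x hx y hy =>
      Subgroup.mem_centralizer_iff.mp (hZp hy) _ (Subgroup.subset_closure ⟨x, hx, rfl⟩)
    have hdp : ⁅z, h₀⁆ ^ p = 1 := by
      have h1 : ∀ i : ℕ, z ^ i * h₀ * (z ^ i)⁻¹ = ⁅z, h₀⁆ ^ i * h₀ := by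
        intro i
        induction i with
        | zero => simp
        | succ i ihi =>
          calc z ^ (i + 1) * h₀ * (z ^ (i + 1))⁻¹ = z * (z ^ i * h₀ * (z ^ i)⁻¹) * z⁻¹ := by
                rw [pow_succ']; group
            _ = ⁅z, h₀⁆ ^ i * (z * h₀ * z⁻¹) := by
                rw [ihi, ← mul_assoc z, (((hdc z hzmem).pow_left i)).symm.eq]; group
            _ = ⁅z, h₀⁆ ^ (i + 1) * h₀ := by rw [pow_succ, commutatorElement_def]; group
      have := h1 p
      rw [(hxp z hzmem h₀ hh₀).eq, mul_inv_cancel_right] at this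
      exact mul_right_cancel (b := h₀) (by rw [one_mul]; exact this.symm)
    have hzp : z ^ p = 1 := by
      have h1 := mul_pow_of_central_commutator hd (hdc h₀ hh₀) (hdc z hzmem) p
      obtain ⟨j, hj⟩ := hp.out.dvd_choose_self (k := 2) (by omega) (lt_of_le_of_ne hp.out.two_le hp2.symm)
      rw [hj, pow_mul, hdp, one_pow, mul_one] at h1
      have h2 : (h₀ * z) ^ p = h₀ ^ p := by
        have h3 : h₀ * z = a * h₀ * a⁻¹ := by rw [hzdef]; group
        rw [h3, conj_pow, (hfixlt P hPlt (hnormP haH) (h₀ ^ p) (Subgroup.subset_closure ⟨h₀, hh₀, rfl⟩)).eq,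
          mul_inv_cancel_right]
      rw [h2] at h1
      exact mul_left_cancel (a := h₀ ^ p) (by rw [mul_one]; exact h1.symm)
    have hzc : Commute a z := by
      by_cases h : z = 1
      · rw [h]; exact Commute.one_right a
      · exact hfix z hzmem (orderOf_eq_prime hzp h)
    have h1 := shift_eq_one (h := h₀) (z := z) (by rw [hzdef]; group) hzc hn hzp hcop
    rw [hzdef, inv_mul_eq_one] at h1
    show a * h₀ = h₀ * a
    conv_rhs => rw [h1]
    group

/-- A `p'`-element fixing all elements of order `p` of a `p`-group, `p` odd, centralises it. -/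
theorem centralizes_of_fixes_order_p [Finite G] {p : ℕ} [Fact p.Prime] (hp2 : p ≠ 2) {H : Subgroup G}
    {a : G} {n : ℕ} (hn : a ^ n = 1) (hcop : n.Coprime p) (hH : IsPGroup p H)
    (ha : a ∈ Subgroup.normalizer (H : Set G)) (hfix : ∀ x ∈ H, orderOf x = p → Commute a x) :
    a ∈ Subgroup.centralizer (H : Set G) :=
  mem_centralizer_of_commute fun x hx =>
    (centralizes_of_fixes_order_p_aux hp2 hn hcop _ H rfl hH ha hfix x hx).eq

end CfsgLib.OddLocal
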