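import Mathlib.GroupTheory.Nilpotent
import Mathlib.GroupTheory.Solvable
import Mathlib.GroupTheory.Abelianization.Defs
import Mathlib.GroupTheory.SpecificGroups.Cyclic
import Mathlib.Algebra.BigOperators.Group.Finset.Basic
import Cfsg.Agent.Lib.OddLocal.Coprime

/-!
A normal Hall subgroup contained in the derived group, and nilpotent derived groups of prime index.
-/

set_option autoImplicit false

namespace CfsgLib.OddLocal

open Subgroup
open scoped commutatorElement

variable {G : Type*} [Group G]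

/-- In the quotient by a normal subgroup, `G' ≤ H' K'` when `G = H K` with `H`, `K` commuting. -/
theorem derived_le_of_commuting {H K : Subgroup G} (hHK : ∀ g : G, ∃ h ∈ H, ∃ k ∈ K, g = h * k)
    (hc : ∀ h ∈ H, ∀ k ∈ K, Commute h k) : commutator G ≤ ⁅H, H⁆ ⊔ ⁅K, K⁆ := by
  rw [commutator_def, Subgroup.commutator_le]
  intro a _ b _
  obtain ⟨h, hh, k, hk, rfl⟩ := hHK a
  obtain ⟨h', hh', k', hk', rfl⟩ := hHK b
  have h1 : ⁅h * k, h' * k'⁆ = ⁅h, h'⁆ * ⁅k, k'⁆ := by
    simp only [commutatorElement_def]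
    calc h * k * (h' * k') * (h * k)⁻¹ * (h' * k')⁻¹
        = h * (k * h') * k' * (k⁻¹ * h⁻¹) * (k'⁻¹ * h'⁻¹) := by group
      _ = h * h' * (k * k' * k⁻¹ * h⁻¹) * (k'⁻¹ * h'⁻¹) := by rw [((hc h' hh' k hk).symm).eq]; group
      _ = h * h' * h⁻¹ * (k * k' * k⁻¹ * k'⁻¹ * h'⁻¹) := by
          rw [((hc h⁻¹ (inv_mem hh) _ (mul_mem (mul_mem hk hk') (inv_mem hk))).symm).eq]; group
      _ = h * h' * h⁻¹ * h'⁻¹ * (k * k' * k⁻¹ * k'⁻¹) := by
          rw [((hc h'⁻¹ (inv_mem hh') _ (mul_mem (mul_mem (mul_mem hk hk') (inv_mem hk)) (inv_mem hk'))).symm).eq]; group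
  rw [h1]
  exact mul_mem (Subgroup.mem_sup_left (Subgroup.commutator_mem_commutator hh hh'))
    (Subgroup.mem_sup_right (Subgroup.commutator_mem_commutator hk hk'))

theorem disjoint_of_coprime_card {H K : Subgroup G} (h : (Nat.card H).Coprime (Nat.card K)) {x : G}
    (hxH : x ∈ H) (hxK : x ∈ K) : x = 1 :=
  eq_one_of_pow_eq_one_coprime (pow_card_eq_one_of_mem hxH) (pow_card_eq_one_of_mem hxK) h

theorem commutator_le_of_normal_left {H K : Subgroup G} [H.Normal] : ⁅H, K⁆ ≤ H :=
  Subgroup.commutator_le_left H K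

theorem hall_eq_commutator [Finite G] {H K : Subgroup G} [hH : H.Normal] (hsol : Group.IsSolvable H)
    (hcop : (Nat.card H).Coprime (Nat.card K)) (hc : Subgroup.IsComplement' H K) (hle : H ≤ commutator G) :
    H = ⁅H, K⁆ := by
  refine le_antisymm ?_ commutator_le_of_normal_left
  set N := ⁅H, K⁆ with hN
  have hNn : N.Normal := by
    refine ⟨fun x hx g => ?_⟩
    have hg : g ∈ H ⊔ K := hc.sup_eq_top ▸ Subgroup.mem_top g
    have : g ∈ Subgroup.normalizer (N : Set G) :=
      sup_le (Subgroup.normalizer_commutator_ge_left H K) (Subgroup.normalizer_commutator_ge_right H K) hg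
    exact conj_mem_of_normalizes this hx
  let f := QuotientGroup.mk' N
  have hs : Function.Surjective f := QuotientGroup.mk'_surjective N
  have hker : ∀ x, f x = 1 ↔ x ∈ N := fun x => QuotientGroup.eq_one_iff x
  have hcom : ∀ h ∈ H.map f, ∀ k ∈ K.map f, Commute h k := by
    rintro _ ⟨h, hh, rfl⟩ _ ⟨k, hk, rfl⟩
    rw [← commutatorElement_eq_one_iff_commute, ← map_commutatorElement]
    exact (hker _).mpr (Subgroup.commutator_mem_commutator hh hk)
  have hgen : ∀ g, ∃ h ∈ H.map f, ∃ k ∈ K.map f, g = h * k := by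
    intro g
    obtain ⟨g, rfl⟩ := hs g
    obtain ⟨⟨⟨h, hh⟩, ⟨k, hk⟩⟩, rfl⟩ := hc.2 g
    exact ⟨f h, mem_map_of_mem f hh, f k, mem_map_of_mem f hk, map_mul f h k⟩
  have hperf : H.map f ≤ ⁅H.map f, H.map f⁆ := by
    intro x hx
    have hx' : x ∈ ⁅H.map f, H.map f⁆ ⊔ ⁅K.map f, K.map f⁆ := by
      apply derived_le_of_commuting hgen hcom
      have := Subgroup.map_mono (f := f) hle hx
      rw [commutator_def, Subgroup.map_commutator, Subgroup.map_top_of_surjective f hs] at this
      exact this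
    have hnorm : ⁅K.map f, K.map f⁆ ≤ Subgroup.normalizer ((⁅H.map f, H.map f⁆ : Subgroup (G ⧸ N)) : Set (G ⧸ N)) := by
      have : (H.map f).Normal := hH.map f hs
      have : (⁅H.map f, H.map f⁆).Normal := Subgroup.commutator_normal _ _
      rw [Subgroup.normalizer_eq_top]; exact le_top
    obtain ⟨a, ha, b, hb, hab⟩ := (mem_sup_of_le_normalizer hnorm).mp hx'
    have hHle : ⁅H.map f, H.map f⁆ ≤ H.map f := by
      rw [← Subgroup.map_commutator]; exact Subgroup.map_mono commutator_le_of_normal_left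
    have hKle : ⁅K.map f, K.map f⁆ ≤ K.map f := by
      rw [Subgroup.commutator_le]
      intro a ha b hb
      exact mul_mem (mul_mem (mul_mem ha hb) (inv_mem ha)) (inv_mem hb)
    have hbH : b ∈ H.map f := by
      have := mul_mem (inv_mem (hHle ha)) hx
      rwa [hab, inv_mul_cancel_left] at this
    have hb1 : b = 1 := disjoint_of_coprime_card
      ((hcop.coprime_dvd_left (Subgroup.card_map_dvd H f)).coprime_dvd_right (Subgroup.card_map_dvd K f)) hbH (hKle hb)
    rw [hab, hb1, mul_one]; exact ha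
  have : Group.IsSolvable ↥(H.map f) := Group.isSolvable_of_surjective (f.subgroupMap_surjective H)
  have hbot : H.map f = ⊥ := by
    by_contra h
    have hnt : Nontrivial ↥(H.map f) := (Subgroup.nontrivial_iff_ne_bot _).mpr h
    have h1 := Group.IsSolvable.commutator_lt_top_of_nontrivial ↥(H.map f)
    rw [← Subgroup.map_subtype_lt_map_subtype, ← MonoidHom.range_eq_map, Subgroup.range_subtype,
      commutator_def, Subgroup.map_commutator, ← MonoidHom.range_eq_map, Subgroup.range_subtype] at h1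
    exact h1.not_ge hperf
  rwa [Subgroup.map_eq_bot_iff, QuotientGroup.ker_mk'] at hbot

/-- If `H` is abelian, coprime to `K`, normalised by `K` and `H = [H,K]`, then `C_H(K) = 1`. -/
theorem fixed_eq_one_of_abelian [Finite G] {H K : Subgroup G} [hH : H.Normal] (hab : IsMulCommutative H)
    (hcop : (Nat.card H).Coprime (Nat.card K)) (heq : H ≤ ⁅H, K⁆) {x : G} (hx : x ∈ H)
    (hfix : x ∈ Subgroup.centralizer (K : Set G)) : x = 1 := by
  classical
  let hH' : CommGroup H := { (inferInstance : Group H) with mul_comm := mul_comm' }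
  have := Fintype.ofFinite K
  let φ : H →* H :=
    { toFun := fun h => ∏ k : K, (MulAut.conjNormal (k : G) h : H)
      map_one' := by simp
      map_mul' := fun a b => by simp [Finset.prod_mul_distrib] }
  have hφ : ∀ (h : H) (k : K), φ (MulAut.conjNormal (k : G) h) = φ h := by
    intro h k
    show ∏ l : K, _ = ∏ l : K, _
    refine (Finset.prod_congr rfl fun l _ => ?_).trans (Equiv.prod_comp (Equiv.mulRight k) fun l : K => (MulAut.conjNormal (l : G) h : H))
    simp
  have hkill : ⁅H, K⁆ ≤ φ.ker.map H.subtype := by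
    rw [Subgroup.commutator_le]
    intro h hh k hk
    refine ⟨⟨h, hh⟩ * MulAut.conjNormal k ⟨h, hh⟩⁻¹, ?_, ?_⟩
    · rw [SetLike.mem_coe, MonoidHom.mem_ker, map_mul, hφ _ ⟨k, hk⟩, ← map_mul, mul_inv_cancel, map_one]
    · simp [commutatorElement_def, mul_assoc]
  obtain ⟨y, hy, hyx⟩ := hkill (heq hx)
  have hyx' : y = ⟨x, hx⟩ := Subtype.ext hyx
  subst hyx'
  have h1 : φ ⟨x, hx⟩ = (⟨x, hx⟩ : H) ^ Nat.card K := by
    show ∏ l : K, _ = _
    rw [Finset.prod_congr rfl (g := fun _ => (⟨x, hx⟩ : H)) fun l _ => ?_, Finset.prod_const, Finset.card_univ,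
      Nat.card_eq_fintype_card]
    refine Subtype.ext ?_
    rw [MulAut.conjNormal_apply, Subgroup.mem_centralizer_iff.mp hfix l l.2, mul_inv_cancel_right]
  rw [SetLike.mem_coe, MonoidHom.mem_ker, h1] at hy
  exact eq_one_of_pow_eq_one_coprime (pow_card_eq_one_of_mem hx) (by simpa using congrArg Subtype.val hy) hcop

theorem hall_fixed_le_derived [Finite G] {H K : Subgroup G} [hH : H.Normal]
    (hcop : (Nat.card H).Coprime (Nat.card K)) (heq : H = ⁅H, K⁆) :
    H ⊓ Subgroup.centralizer (K : Set G) ≤ ⁅H, H⁆ := by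
  rintro x ⟨hxH, hxC⟩
  let f := QuotientGroup.mk' ⁅H, H⁆
  have hs : Function.Surjective f := QuotientGroup.mk'_surjective _
  have : (H.map f).Normal := hH.map f hs
  have hab : IsMulCommutative ↥(H.map f) := by
    rw [← Subgroup.commutator_self_eq_bot_iff, ← Subgroup.map_commutator, Subgroup.map_eq_bot_iff,
      QuotientGroup.ker_mk']
  have h1 := fixed_eq_one_of_abelian hab
    ((hcop.coprime_dvd_left (Subgroup.card_map_dvd H f)).coprime_dvd_right (Subgroup.card_map_dvd K f))
    (K := K.map f) (by rw [← Subgroup.map_commutator, ← heq]) (mem_map_of_mem f hxH) ?_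
  · exact (QuotientGroup.eq_one_iff x).mp h1
  · rw [Subgroup.mem_centralizer_iff]
    rintro _ ⟨k, hk, rfl⟩
    rw [← map_mul, ← map_mul, Subgroup.mem_centralizer_iff.mp hxC k hk]

theorem coprime_of_nilpotent_derived_prime_index [Finite G] (hnil : Group.IsNilpotent ↥(commutator G))
    (hq : (commutator G).index.Prime) : (Nat.card ↥(commutator G)).Coprime (commutator G).index := by
  set q := (commutator G).index with hqdef
  have : Fact q.Prime := ⟨hq⟩
  rw [Nat.coprime_comm, hq.coprime_iff_not_dvd]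
  intro hdvd
  set D := commutator G
  set R := Subgroup.closure {x : G | x ∈ D ∧ (orderOf x).Coprime q} with hR
  have hRD : R ≤ D := by rw [hR, Subgroup.closure_le]; exact fun x hx => hx.1
  have hRn : R.Normal := by
    refine ⟨fun x hx g => ?_⟩
    induction hx using Subgroup.closure_induction with
    | mem x hx =>
      refine Subgroup.subset_closure ⟨Subgroup.Normal.conj_mem inferInstance x hx.1 g, ?_⟩
      rw [← MulAut.conj_apply, MulEquiv.orderOf_eq]; exact hx.2
    | one => simp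
    | mul x y _ _ ihx ihy => simpa [mul_assoc] using mul_mem ihx ihy
    | inv x _ ihx => simpa [mul_assoc] using inv_mem ihx
  -- every element has a power `q ^ n` in `R`
  have hQp : IsPGroup q (G ⧸ R) := by
    intro y
    obtain ⟨g, rfl⟩ := QuotientGroup.mk'_surjective R y
    obtain ⟨n, m, hm, hn⟩ := Nat.exists_eq_pow_mul_and_not_dvd (orderOf_pos g).ne' q hq.ne_one
    refine ⟨n + 1, ?_⟩
    rw [← map_pow, QuotientGroup.mk'_apply, QuotientGroup.eq_one_iff]
    refine Subgroup.subset_closure ⟨?_, ?_⟩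
    · rw [pow_succ', pow_mul]
      exact pow_mem (Subgroup.pow_index_mem D g) _
    · apply Nat.Coprime.coprime_dvd_left (k := m) ?_ (hq.coprime_iff_not_dvd.mpr hm).symm
      apply orderOf_dvd_of_pow_eq_one
      rw [← pow_mul, pow_succ, mul_assoc, mul_comm q m, ← mul_assoc, ← hn, pow_mul, pow_orderOf_eq_one, one_pow]
  -- hence `G ⧸ R` is abelian and `D = R`
  have : Group.IsNilpotent (G ⧸ R) := hQp.isNilpotent
  have hidx : (commutator (G ⧸ R)).index = q := by
    rw [commutator_def, ← Subgroup.map_top_of_surjective (QuotientGroup.mk' R) (QuotientGroup.mk'_surjective R),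
      ← Subgroup.map_commutator, Subgroup.index_map_eq _ (QuotientGroup.mk'_surjective R)
        (by rw [QuotientGroup.ker_mk']; exact hRD)]
    exact hqdef.symm
  have hcomm : IsMulCommutative (G ⧸ R) := by
    have hcy : IsCyclic ((G ⧸ R) ⧸ commutator (G ⧸ R)) :=
      isCyclic_of_prime_card (p := q) (by rw [← Subgroup.index_eq_card]; exact hidx)
    obtain ⟨gb, hg⟩ := hcy.exists_generator
    obtain ⟨g, rfl⟩ := QuotientGroup.mk_surjective gb
    have htop : Subgroup.zpowers g = ⊤ := by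
      by_contra hne
      obtain ⟨M, hM, hgM⟩ := (IsCoatomic.eq_top_or_exists_le_coatom (Subgroup.zpowers g)).resolve_left hne
      have hMn : M.Normal := NormalizerCondition.normal_of_coatom M Group.normalizerCondition_of_isNilpotent hM
      have hdM : commutator (G ⧸ R) ≤ M := by
        obtain ⟨k, hk, hkne⟩ : ∃ k, k ∈ (⊤ : Subgroup (G ⧸ R)) ∧ k ∉ M :=
          SetLike.exists_of_lt (lt_top_iff_ne_top.mpr hM.1)
        have hk' : M ⊔ Subgroup.zpowers k = ⊤ :=
          hM.2 _ (lt_of_le_of_ne le_sup_left fun h => hkne (h ▸ Subgroup.mem_sup_right (Subgroup.mem_zpowers k)))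
        rw [← Subgroup.Normal.quotient_commutative_iff_commutator_le]
        have : IsCyclic ((G ⧸ R) ⧸ M) := by
          refine ⟨⟨QuotientGroup.mk k, fun y => ?_⟩⟩
          obtain ⟨y, rfl⟩ := QuotientGroup.mk_surjective y
          have hy : y ∈ M ⊔ Subgroup.zpowers k := hk' ▸ Subgroup.mem_top y
          obtain ⟨a, ha, b, ⟨i, rfl⟩, rfl⟩ := (Subgroup.mem_sup_of_normal_left).mp hy
          exact ⟨i, by simp [(QuotientGroup.eq_one_iff a).mpr ha]⟩
        exact ⟨⟨fun a b => IsCyclic.commGroup.mul_comm a b⟩⟩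
      apply hM.1
      rw [eq_top_iff]
      intro y _
      obtain ⟨i, hi⟩ := hg (QuotientGroup.mk y)
      have : (g ^ i)⁻¹ * y ∈ M := hdM (by
        rw [← QuotientGroup.eq]; exact hi)
      simpa using mul_mem (hgM ⟨i, rfl⟩) this
    refine ⟨⟨fun a b => ?_⟩⟩
    obtain ⟨i, rfl⟩ := (htop ▸ Subgroup.mem_top a : a ∈ Subgroup.zpowers g)
    obtain ⟨j, rfl⟩ := (htop ▸ Subgroup.mem_top b : b ∈ Subgroup.zpowers g)
    exact (Commute.zpow_zpow_self g i j).eq
  have hDR : D ≤ R := (Subgroup.Normal.quotient_commutative_iff_commutator_le).mp hcomm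
  -- so the projection of `D` to its Sylow `q`-subgroup is trivial
  obtain ⟨e⟩ := (Group.isNilpotent_of_finite_tfae (G := ↥D)).out 0 4 |>.mp hnil
  obtain ⟨Q⟩ : Nonempty (Sylow q D) := inferInstance
  have hmem : q ∈ (Nat.card ↥D).primeFactors := Nat.mem_primeFactors.mpr ⟨hq, hdvd, Nat.card_pos.ne'⟩
  let ev := (Pi.evalMonoidHom (fun P : Sylow q ↥D => ↥(P : Subgroup ↥D)) Q).comp
    (Pi.evalMonoidHom (fun p : (Nat.card ↥D).primeFactors => ∀ P : Sylow p ↥D, ↥(P : Subgroup ↥D)) ⟨q, hmem⟩)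
  let φ := ev.comp e.symm.toMonoidHom
  have hker : R ≤ φ.ker.map D.subtype := by
    rw [hR, Subgroup.closure_le]
    rintro x ⟨hxD, hx⟩
    refine ⟨⟨x, hxD⟩, ?_, rfl⟩
    rw [SetLike.mem_coe, MonoidHom.mem_ker]
    obtain ⟨k, hk⟩ := Q.isPGroup' (φ ⟨x, hxD⟩)
    refine eq_one_of_pow_eq_one_coprime (m := orderOf x) ?_ hk (hx.pow_right k)
    rw [← map_pow]
    have : (⟨x, hxD⟩ : D) ^ orderOf x = 1 := Subtype.ext (by simp [pow_orderOf_eq_one])
    rw [this, map_one]
  have htriv : ∀ y, φ y = 1 := fun y => by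
    obtain ⟨z, hz, hzy⟩ := hker (hDR y.2)
    obtain rfl : z = y := Subtype.ext hzy
    exact hz
  have hQ1 : ∀ y : (Q : Subgroup ↥D), y = 1 := fun y => by
    classical
    have h1 := htriv (e (Pi.mulSingle (⟨q, hmem⟩ : (Nat.card ↥D).primeFactors) (Pi.mulSingle Q y)))
    simpa [φ, ev] using h1
  have : (Q : Subgroup ↥D) = ⊥ := by
    rw [Subgroup.eq_bot_iff_forall]
    exact fun y hy => congrArg Subtype.val (hQ1 ⟨y, hy⟩)
  exact Q.ne_bot_of_dvd_card hdvd this

end CfsgLib.OddLocal
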