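import Cfsg.Agent.Lib.Transfer.NormalAbelian
import Cfsg.Agent.Lib.Transfer.RankTwo
import Cfsg.Agent.Lib.PGroups.MaxAbelian
import Cfsg.Agent.Lib.PGroups.Omega
import Cfsg.Agent.Lib.PGroups.ClassTwo
import Cfsg.Agent.Lib.PLocal.Offender

/-!
`p`-groups of rank at least three with small maximal elementary abelian subgroups.
-/

set_option autoImplicit false

namespace CfsgLib.OddLocal.RankThree

open Subgroup
open scoped commutatorElement

variable {R : Type*} [Group R] [Finite R] {p : ℕ} [hp : Fact p.Prime]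

omit [Finite R] hp in
theorem elementary_zpowers {x : R} (hx : x ^ p = 1) : Cfsg.IsElementaryAbelian p (zpowers x) := by
  refine ⟨inferInstance, ?_⟩
  rintro _ ⟨k, rfl⟩
  show (x ^ k) ^ p = 1
  rw [← zpow_natCast, ← zpow_mul, mul_comm, zpow_mul, zpow_natCast, hx, one_zpow]

omit hp in
theorem not_prankLE_of_subgroup {A B : Subgroup R} (hB : Cfsg.IsElementaryAbelian p B) (hBA : B ≤ A)
    (hc : p ^ 2 < Nat.card B) : ¬ Cfsg.PRankLE p 2 A := fun h => by
  have hB' := hB.1
  have h1 := h (B.subgroupOf A) inferInstance fun b hb => Subtype.ext (hB.2 _ hb)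
  rw [Nat.card_congr (subgroupOfEquivOfLe hBA).toEquiv] at h1
  omega

theorem exists_normal_cube (hp2 : p ≠ 2) (hR : IsPGroup p R) (hr : ¬ Cfsg.PRankLE p 2 R) :
    ∃ B : Subgroup R, B.Normal ∧ Cfsg.IsElementaryAbelian p B ∧ Nat.card B = p ^ 3 := by
  by_contra hne
  push Not at hne
  exact hr fun A hA hAe => CfsgLib.Transfer.card_le_sq_of_no_normal_cube hp2 hR
    (fun B h1 h2 h3 => hne B h1 ⟨h2, h3⟩) A hA hAe

theorem index_centralizer_le (hR : IsPGroup p R) {E : Subgroup R} [E.Normal]
    (hE2 : Nat.card E = p ^ 2) : (centralizer (E : Set R)).index ≤ p := by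
  obtain ⟨B, -, hBE, hBc, hBi⟩ := CfsgLib.Transfer.exists_normal_card hR E 2 hE2.ge
  rw [eq_of_le_of_card_ge hBE (by omega)] at hBi
  simpa using hBi

/-- A normal `E_{p^2}` lies in a self-centralising normal abelian subgroup of rank at least three. -/
theorem exists_large_normal_abelian (hp2 : p ≠ 2) (hR : IsPGroup p R) (hr : ¬ Cfsg.PRankLE p 2 R)
    (E : Subgroup R) [E.Normal] (hE : Cfsg.IsElementaryAbelian p E) (hE2 : Nat.card E = p ^ 2) :
    ∃ A : Subgroup R, E ≤ A ∧ A.Normal ∧ IsMulCommutative A ∧ centralizer (A : Set R) = A ∧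
      ¬ Cfsg.PRankLE p 2 A := by
  obtain ⟨B, hBn, hB, hB3⟩ := exists_normal_cube hp2 hR hr
  set D := B ⊓ centralizer (E : Set R)
  have hDn : D.Normal := normal_inf_normal B _
  obtain ⟨A₀, hA₀n, hA₀, hEA₀, hA₀c⟩ : ∃ A₀ : Subgroup R, A₀.Normal ∧
      Cfsg.IsElementaryAbelian p A₀ ∧ E ≤ A₀ ∧ p ^ 2 < Nat.card A₀ := by
    have hel := CfsgLib.PLocal.elementary_sup (CfsgLib.PLocal.elementary_mono hB inf_le_left) hE
      (inf_le_right : D ≤ _)
    by_cases hDE : D ≤ E
    · refine ⟨B, hBn, hB, ?_, by rw [hB3]; exact Nat.pow_lt_pow_right hp.out.one_lt (by norm_num)⟩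
      have h1 : p ^ 2 ≤ Nat.card D := by
        have h2 : (centralizer (E : Set R)).relIndex B ≤ p :=
          (Nat.le_of_dvd (Nat.pos_of_ne_zero index_ne_zero_of_finite)
            (relIndex_dvd_index_of_normal _ _)).trans (index_centralizer_le hR hE2)
        have h3 : Nat.card D * (centralizer (E : Set R)).relIndex B = Nat.card B := by
          have := ((centralizer (E : Set R)).subgroupOf B).card_mul_index
          rwa [← Nat.card_congr (subgroupOfEquivOfLe (inf_le_left : D ≤ B)).toEquiv, inf_subgroupOf_left]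
        rw [hB3] at h3
        by_contra h4
        push Not at h4
        have : p ^ 3 < p ^ 3 := calc
          p ^ 3 = Nat.card D * _ := h3.symm
          _ ≤ Nat.card D * p := Nat.mul_le_mul_left _ h2
          _ < p ^ 2 * p := (Nat.mul_lt_mul_right hp.out.pos).2 h4
          _ = p ^ 3 := (pow_succ p 2).symm
        omega
      rw [← eq_of_le_of_card_ge hDE (hE2 ▸ h1)]
      exact inf_le_left
    · refine ⟨D ⊔ E, inferInstance, hel, le_sup_right, ?_⟩
      have hlt : E < D ⊔ E := lt_of_le_of_ne le_sup_right fun h => hDE (h ▸ le_sup_left)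
      exact hE2 ▸ (Nat.lt_of_le_of_ne (card_le_of_le hlt.le)
        fun h => hlt.ne (eq_of_le_of_card_ge hlt.le h.ge))
  obtain ⟨A, hA₀A, hAn, hAc, hAC⟩ := CfsgLib.PGroups.exists_selfCentralizing hR hA₀n hA₀.1
  exact ⟨A, hEA₀.trans hA₀A, hAn, hAc, hAC, not_prankLE_of_subgroup hA₀ hA₀A hA₀c⟩

section Narrow

variable {E : Subgroup R} (hp2 : p ≠ 2) (hR : IsPGroup p R) (hr : ¬ Cfsg.PRankLE p 2 R)
  (hE : Cfsg.IsElementaryAbelian p E) (hE2 : Nat.card E = p ^ 2)
  (hEmax : ∀ B : Subgroup R, Cfsg.IsElementaryAbelian p B → E ≤ B → B = E)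

include hp2 hR hr hE hE2 hEmax

omit hp2 hR hr hE2 hp [Finite R] in
theorem mem_of_centralizes {x : R} (hx : x ∈ centralizer (E : Set R)) (hxp : x ^ p = 1) : x ∈ E := by
  have h := hEmax _ (CfsgLib.PLocal.elementary_sup (elementary_zpowers hxp) hE (zpowers_le.2 hx)) le_sup_right
  exact h ▸ mem_sup_left (mem_zpowers x)

theorem facts :
    ¬ E ≤ centralizer ((closure {x : R | x ∈ Subgroup.upperCentralSeries R 2 ∧ x ^ p = 1} : Subgroup R) : Set R) ∧
      Nat.card ↥(closure {x : R | x ∈ center R ∧ x ^ p = 1}) = p ∧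
      (Cfsg.IsElementaryAbelian p (closure {x : R | x ∈ Subgroup.upperCentralSeries R 2 ∧ x ^ p = 1}) ∧
        Nat.card ↥(closure {x : R | x ∈ Subgroup.upperCentralSeries R 2 ∧ x ^ p = 1}) = p ^ 2) ∧
      (centralizer ((closure {x : R | x ∈ Subgroup.upperCentralSeries R 2 ∧ x ^ p = 1} : Subgroup R) : Set R)).Characteristic ∧
      (centralizer ((closure {x : R | x ∈ Subgroup.upperCentralSeries R 2 ∧ x ^ p = 1} : Subgroup R) : Set R)).index = p := by
  have hpp := hp.out
  have hEnb : E ≠ ⊥ := fun h => by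
    rw [h, card_bot] at hE2
    exact absurd hE2.symm (Nat.one_lt_pow two_ne_zero hpp.one_lt).ne'
  have : Nontrivial R := by
    obtain ⟨⟨x, hxE⟩, hx⟩ := ne_bot_iff_exists_ne_one.1 hEnb
    exact ⟨⟨x, 1, fun h => hx (Subtype.ext h)⟩⟩
  have hEc : ∀ x ∈ E, x ^ p = 1 := hE.2
  -- the centre
  set Z₁ := closure {x : R | x ∈ center R ∧ x ^ p = 1} with hZ₁
  have hZcen : Z₁ ≤ center R := (closure_le _).2 fun x hx => hx.1
  have hZE : Z₁ ≤ E := (closure_le _).2 fun x hx => mem_of_centralizes hE hEmax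
    (center_le_centralizer _ hx.1) hx.2
  have hZne : Z₁ ≠ E := fun h => by
    obtain ⟨B, hBn, hB, hB3⟩ := exists_normal_cube hp2 hR hr
    have hel := CfsgLib.PLocal.elementary_sup hB hE
      (fun b _ => mem_centralizer_iff.2 fun e he =>
        (mem_center_iff.1 (hZcen (h ▸ he)) b).symm)
    have := card_le_of_le (le_sup_left : B ≤ B ⊔ E)
    rw [hEmax _ hel le_sup_right, hB3, hE2] at this
    exact absurd ((Nat.pow_le_pow_iff_right hpp.one_lt).1 this) (by norm_num)
  have hZcard : Nat.card Z₁ = p := by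
    obtain ⟨⟨z, hz⟩, hz1⟩ := exists_prime_orderOf_dvd_card' (G := center R) p (by
      obtain ⟨n, hn⟩ := IsPGroup.iff_card.1 (hR.to_subgroup (center R))
      have : Nontrivial (center R) := hR.center_nontrivial
      rcases n with _ | n
      · exact absurd (hn.trans (pow_zero p)) (Finite.one_lt_card).ne'
      · exact hn ▸ dvd_pow_self p n.succ_ne_zero)
    rw [orderOf_mk] at hz1
    obtain ⟨j, hj, hjc⟩ := (Nat.dvd_prime_pow hpp).1 (hE2 ▸ card_dvd_of_le hZE)
    have hge : p ≤ Nat.card Z₁ := hz1 ▸ Nat.le_of_dvd Nat.card_pos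
      (Z₁.orderOf_dvd_natCard (subset_closure ⟨hz, hz1 ▸ pow_orderOf_eq_one z⟩))
    have : j ≠ 2 := fun h => hZne (eq_of_le_of_card_ge hZE (by rw [hjc, h, hE2]))
    rcases (by omega : j = 0 ∨ j = 1) with rfl | rfl
    · rw [pow_zero] at hjc; have := hpp.one_lt; omega
    · rw [hjc, pow_one]
  -- the second centre
  set W := closure {x : R | x ∈ Subgroup.upperCentralSeries R 2 ∧ x ^ p = 1} with hW
  have hZ2 : ∀ x ∈ Subgroup.upperCentralSeries R 2, ∀ y : R, ⁅x, y⁆ ∈ center R := fun x hx y => by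
    have := Subgroup.mem_upperCentralSeries_succ_iff.1 hx y
    rwa [Subgroup.upperCentralSeries_one] at this
  have hWle : W ≤ Subgroup.upperCentralSeries R 2 := (closure_le _).2 fun x hx => hx.1
  have hWexp : ∀ x ∈ W, x ^ p = 1 := fun x hx => by
    have : ∀ {a b : R}, a ∈ Subgroup.upperCentralSeries R 2 → b ∈ Subgroup.upperCentralSeries R 2 → a ^ p = 1 →
        b ^ p = 1 → (a * b) ^ p = 1 := by
      intro a b _ hb hap hbp
      rw [CfsgLib.PGroups.mul_pow_of_central_odd (hZ2 b hb a) (hpp.odd_of_ne_two hp2) ?_, hap, hbp,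
        one_mul]
      rw [← CfsgLib.PGroups.comm_pow_left_of_central (hZ2 b hb a), hbp, commutatorElement_one_left]
    induction hx using Subgroup.closure_induction with
    | mem x hx => exact hx.2
    | one => exact one_pow p
    | mul a b ha hb iha ihb => exact this (hWle ha) (hWle hb) iha ihb
    | inv a _ iha => rw [inv_pow, iha, inv_one]
  have hWc : ∀ w ∈ W, ∀ y : R, ⁅w, y⁆ ∈ Z₁ := fun w hw y => subset_closure
    ⟨hZ2 w (hWle hw) y, by
      rw [← CfsgLib.PGroups.comm_pow_left_of_central (hZ2 w (hWle hw) y), hWexp w hw,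
        commutatorElement_one_left]⟩
  have hWn : W.Normal := ⟨fun w hw g => by
    have h1 := hWc w hw g
    have h2 : ⁅g, w⁆ ∈ W := by
      rw [← commutatorElement_inv]
      refine inv_mem ((closure_le _).2 (fun x hx => ?_) h1)
      exact subset_closure ⟨Subgroup.upperCentralSeries_mono R (show 1 ≤ 2 by omega)
        (by rw [Subgroup.upperCentralSeries_one]; exact hx.1), hx.2⟩
    rw [show g * w * g⁻¹ = ⁅g, w⁆ * w by rw [commutatorElement_def]; group]
    exact mul_mem h2 hw⟩
  have hZW : Z₁ ≤ W := (closure_le _).2 fun x hx => subset_closure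
    ⟨Subgroup.upperCentralSeries_mono R (show 1 ≤ 2 by omega) (by rw [Subgroup.upperCentralSeries_one]; exact hx.1), hx.2⟩
  have hnotEW : ¬ E ≤ W := fun hle => by
    have hEn : E.Normal := ⟨fun e he g => by
      rw [show g * e * g⁻¹ = ⁅g, e⁆ * e by rw [commutatorElement_def]; group]
      refine mul_mem ?_ he
      rw [← commutatorElement_inv]
      exact inv_mem (hZE (hWc e (hle he) g))⟩
    obtain ⟨A, hEA, -, hAc, -, hA3⟩ := exists_large_normal_abelian hp2 hR hr E hE hE2
    refine hA3 fun B hB hBe => ?_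
    have hB' : Cfsg.IsElementaryAbelian p (B.map A.subtype) :=
      ⟨inferInstance, by rintro _ ⟨b, hb, rfl⟩; rw [← map_pow, hBe b hb, map_one]⟩
    rw [← card_map_of_injective (K := B) A.subtype_injective]
    refine (card_le_of_le (fun x hx => mem_of_centralizes hE hEmax ?_ (hB'.2 x hx))).trans hE2.le
    exact mem_centralizer_iff.2 fun e he =>
      congrArg Subtype.val (hAc.is_comm.comm (⟨e, hEA he⟩ : A) ⟨x, map_subtype_le _ hx⟩)
  have hWE : W ⊓ E = Z₁ := by
    refine (eq_of_le_of_card_ge (le_inf hZW hZE) ?_).symm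
    obtain ⟨j, hj, hjc⟩ := (Nat.dvd_prime_pow hpp).1 (hE2 ▸ card_dvd_of_le (inf_le_right : W ⊓ E ≤ E))
    rw [hZcard, hjc]
    refine (Nat.pow_le_pow_right hpp.pos (?_ : j ≤ 1)).trans (pow_one p).le
    by_contra h
    exact hnotEW (inf_eq_right.1 (eq_of_le_of_card_ge inf_le_right (by
      rw [hjc, hE2, show j = 2 by omega])))
  obtain ⟨e, he, heZ⟩ : ∃ e ∈ E, e ∉ Z₁ := SetLike.exists_of_lt (hZE.lt_of_ne hZne)
  have hEgen : E ≤ Z₁ ⊔ zpowers e := by
    refine (eq_of_le_of_card_ge (sup_le hZE (zpowers_le.2 he)) ?_).ge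
    have hlt : Z₁ < Z₁ ⊔ zpowers e :=
      left_lt_sup.2 fun h => heZ (h (mem_zpowers e))
    have := CfsgLib.PGroups.mul_card_le_of_lt (hR.to_subgroup _) hlt
    rw [hZcard] at this
    rw [hE2, pow_two]
    exact this
  have hWcard : Nat.card W = p ^ 2 := by
    apply le_antisymm
    · let f : W → Z₁ := fun w => ⟨⁅(w : R), e⁆, hWc w w.2 e⟩
      have hker : ∀ v w : W, f v = f w → (v : R)⁻¹ * w ∈ Z₁ := fun v w hvw => by
        have h1 : ⁅(v : R), e⁆ = ⁅(w : R), e⁆ := congrArg Subtype.val hvw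
        rw [← hWE]
        refine mem_inf.2 ⟨mul_mem (inv_mem v.2) w.2, mem_of_centralizes hE hEmax ?_
          (hWexp _ (mul_mem (inv_mem v.2) w.2))⟩
        have hcomm : ⁅(v : R)⁻¹ * w, e⁆ = 1 := by
          rw [CfsgLib.PGroups.comm_mul_left_of_central (hZ2 _ (hWle w.2) e),
            CfsgLib.PGroups.comm_inv_left_of_central (hZ2 _ (hWle v.2) e), h1, inv_mul_cancel]
        have hle : E ≤ centralizer ({(v : R)⁻¹ * w} : Set R) := hEgen.trans (sup_le
          (hZcen.trans (center_le_centralizer _)) (zpowers_le.2 (mem_centralizer_singleton_iff.2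
            (commutatorElement_eq_one_iff_mul_comm.1 hcomm).symm)))
        exact mem_centralizer_iff.2 fun y hy => mem_centralizer_singleton_iff.1 (hle hy)
      let g : W → Z₁ × Z₁ := fun w => (f w, ⟨_, hker (Function.invFun f (f w)) w (Function.invFun_eq ⟨w, rfl⟩)⟩)
      have hg : Function.Injective g := fun v w hvw => by
        have h1 : f v = f w := congrArg Prod.fst hvw
        have h2 := congrArg (fun q : Z₁ × Z₁ => ((q.2 : Z₁) : R)) hvw
        simp only [g, h1] at h2
        exact Subtype.ext (mul_left_cancel h2)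
      have := Nat.card_le_card_of_injective g hg
      rwa [Nat.card_prod, hZcard, ← pow_two] at this
    · have hnc : ¬ IsCyclic R := fun hcyc => by
        have : IsCyclic E := inferInstance
        obtain ⟨⟨g, hg⟩, hgen⟩ := IsCyclic.exists_generator (α := E)
        have h1 : orderOf (⟨g, hg⟩ : E) = Nat.card E := orderOf_eq_card_of_forall_mem_zpowers hgen
        rw [orderOf_mk, hE2] at h1
        have h2 := Nat.le_of_dvd hpp.pos (h1 ▸ orderOf_dvd_of_pow_eq_one (hE.2 g hg))
        have := hpp.two_le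
        nlinarith
      obtain ⟨N, hNn, hN, hN2⟩ := CfsgLib.Transfer.exists_normal_elementary_card_sq hp2 hR hnc
      have := hNn
      refine hN2.ge.trans (card_le_of_le fun n hn => subset_closure ⟨?_, hN.2 n hn⟩)
      refine Subgroup.mem_upperCentralSeries_succ_iff.2 fun y => ?_
      rw [Subgroup.upperCentralSeries_one]
      set V := N ⊓ center R with hV
      by_cases hNV : N ≤ center R
      · rw [commutatorElement_eq_one_iff_mul_comm.2 (mem_center_iff.1 (hNV hn) y).symm]
        exact one_mem _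
      have hVc : Nat.card V = p := by
        obtain ⟨j, hj, hjc⟩ := (Nat.dvd_prime_pow hpp).1 (hN2 ▸ card_dvd_of_le (inf_le_left : V ≤ N))
        have hb := CfsgLib.PGroups.inf_center_ne_bot hR (N := N) (fun h => hNV (by rw [h]; exact bot_le))
        have h0 : j ≠ 0 := fun h => hb (card_eq_one.1 (by rw [hjc, h, pow_zero]))
        have h2 : j ≠ 2 := fun h => hNV (inf_eq_left.1
          (eq_of_le_of_card_ge (inf_le_left : V ≤ N) (by rw [hjc, h, hN2])))
        rw [hjc, show j = 1 by omega, pow_one]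
      have hVn : V.Normal := normal_inf_normal N _
      have hq : Nat.card (N.map (QuotientGroup.mk' V)) = p := by
        have h1 := CfsgLib.Core.card_mul_card_map_mk' V N inf_le_left
        rw [hVc, hN2, pow_two] at h1
        exact Nat.eq_of_mul_eq_mul_left hpp.pos h1
      have : (N.map (QuotientGroup.mk' V)).Normal := hNn.map _ (QuotientGroup.mk'_surjective V)
      have hc := CfsgLib.PGroups.le_center_of_card_prime (hR.to_quotient V) hq (mem_map_of_mem _ hn)
      have h1 : ⁅n, y⁆ ∈ V := by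
        refine (QuotientGroup.eq_one_iff _).1 ?_
        show QuotientGroup.mk' V ⁅n, y⁆ = 1
        rw [map_commutatorElement, commutatorElement_eq_one_iff_mul_comm]
        exact (mem_center_iff.1 hc _).symm
      exact h1.2
  have hWab : IsMulCommutative W := IsPGroup.isMulCommutative_of_card_eq_prime_sq hWcard
  have hWel : Cfsg.IsElementaryAbelian p W := ⟨hWab, hWexp⟩
  have hnET : ¬ E ≤ centralizer (W : Set R) := fun hle => by
    have h1 : W ≤ E := fun w hw => mem_of_centralizes hE hEmax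
      (le_centralizer_iff.1 hle hw) (hWexp w hw)
    exact hnotEW (eq_of_le_of_card_ge h1 (by rw [hWcard, hE2])).ge
  have hWchar : W.Characteristic := characteristic_iff_map_le.2 fun φ => by
    rw [hW, MonoidHom.map_closure]
    refine closure_mono ?_
    rintro _ ⟨x, ⟨hx, hxp⟩, rfl⟩
    refine ⟨?_, by rw [← map_pow, hxp, map_one]⟩
    exact (characteristic_iff_map_le.1 inferInstance φ) (mem_map_of_mem _ hx)
  refine ⟨hnET, hZcard, ⟨hWel, hWcard⟩, inferInstance, ?_⟩
  obtain ⟨j, hj⟩ := IsPGroup.index hR (centralizer (W : Set R))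
  have h1 := index_centralizer_le hR (E := W) hWcard
  rw [hj] at h1 ⊢
  have hj1 : j ≤ 1 := (Nat.pow_le_pow_iff_right hpp.one_lt).1 (h1.trans (pow_one p).ge)
  rcases (by omega : j = 0 ∨ j = 1) with rfl | rfl
  · exact absurd (by rw [index_eq_one.1 (hj.trans (pow_zero p))]; exact le_top) hnET
  · exact pow_one p

end Narrow

end CfsgLib.OddLocal.RankThree
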