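import Cfsg.Agent.Lib.OddLocal.RankTwoAut
import Cfsg.Agent.Lib.OddLocal.RankThree

/-!
Groups of odd order acting on `p`-groups with an elementary abelian subgroup whose centraliser has
rank at most two.
-/

set_option autoImplicit false

namespace CfsgLib.OddLocal.NarrowAut

open Subgroup
open scoped commutatorElement

universe u

variable {p : ℕ} [hp : Fact p.Prime] {R : Type u} [Group R] [Finite R]

/-- A characteristic subgroup of exponent `p` detecting automorphisms of order prime to `p`. -/
theorem exists_omega_critical (hp2 : p ≠ 2) (hR : IsPGroup p R) :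
    ∃ S : Subgroup R, S.Characteristic ∧ (∀ x ∈ S, x ^ p = 1) ∧
      ∀ a : MulAut R, (orderOf a).Coprime p → (∀ x ∈ S, a x = x) → a = 1 := by
  obtain ⟨C, hCc, -, hcl, hself⟩ := CfsgLib.Transfer.exists_critical (G := R) hR
  have hcentral : ∀ x y : C, ⁅x, y⁆ ∈ center C := fun x y => mem_center_iff.2 fun z => Subtype.ext
    (mem_centralizer_iff.1 (hcl (commutator_mem_commutator x.2 (mem_top (y : R)))).2 z z.2)
  have hmul : ∀ x y : C, x ^ p = 1 → y ^ p = 1 → (x * y) ^ p = 1 := fun x y hx hy => by
    rw [CfsgLib.PGroups.mul_pow_of_central_odd (hcentral y x) (hp.out.odd_of_ne_two hp2)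
      (by rw [← CfsgLib.PGroups.comm_pow_left_of_central (hcentral y x), hy, commutatorElement_one_left]),
      hx, hy, one_mul]
  let S : Subgroup R :=
    { carrier := {x | x ∈ C ∧ x ^ p = 1}
      one_mem' := ⟨one_mem _, one_pow p⟩
      mul_mem' := fun {a b} ha hb => ⟨mul_mem ha.1 hb.1, congrArg Subtype.val
        (hmul ⟨a, ha.1⟩ ⟨b, hb.1⟩ (Subtype.ext ha.2) (Subtype.ext hb.2))⟩
      inv_mem' := fun {a} ha => ⟨inv_mem ha.1, by rw [inv_pow, ha.2, inv_one]⟩ }
  refine ⟨S, ?_, fun x hx => hx.2, ?_⟩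
  · refine characteristic_iff_map_le.2 fun φ => ?_
    rintro _ ⟨x, hx, rfl⟩
    exact ⟨characteristic_iff_map_le.1 hCc φ ⟨x, hx.1, rfl⟩, by rw [← map_pow, hx.2, map_one]⟩
  intro a ha hfix
  refine CfsgLib.Transfer.eq_one_of_fixes_centralizer_le hR a ha (pow_orderOf_eq_one a)
    (H := C) hself fun x hx => ?_
  let b : MulAut C := ((a : R ≃* R).subgroupMap C).trans
    (MulEquiv.subgroupCongr (characteristic_iff_map_eq.1 hCc a))
  have hb : ∀ y : C, ((b y : C) : R) = a y := fun y => rfl
  have hbk : ∀ (k : ℕ) (y : C), (((b ^ k) y : C) : R) = (a ^ k) y := by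
    intro k
    induction k with
    | zero => intro y; simp
    | succ k ih => intro y; rw [pow_succ, pow_succ, MulAut.mul_apply, MulAut.mul_apply, ih, hb]
  have hb1 := CfsgLib.Transfer.eq_one_of_fixes_order_p (p := p) hp2 (Nat.card C) C le_rfl
    (hR.to_subgroup C) b (orderOf a) ha
    (MulEquiv.ext fun y => Subtype.ext (by rw [hbk, pow_orderOf_eq_one]; rfl))
    (fun y hy => Subtype.ext ((hb y).trans (hfix _ ⟨y.2, congrArg Subtype.val hy⟩)))
  have := hb ⟨x, hx⟩
  rw [hb1] at this
  exact this.symm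

/-- The action on an invariant section. -/
theorem exists_section_hom {A : Type*} [Group A] (ψ : A →* MulAut R) (N : Subgroup R) (M : Subgroup N)
    [M.Normal] (hN : ∀ a x, x ∈ N → ψ a x ∈ N)
    (hM : ∀ a (x : N), x ∈ M → (⟨ψ a x, hN a x x.2⟩ : N) ∈ M) :
    ∃ χ : A →* MulAut (N ⧸ M), ∀ a (x : N), χ a (QuotientGroup.mk x) = QuotientGroup.mk ⟨ψ a x, hN a x x.2⟩ := by
  let res : A → MulAut N := fun a =>
    { toFun := fun x => ⟨ψ a x, hN a x x.2⟩
      invFun := fun x => ⟨ψ a⁻¹ x, hN _ x x.2⟩
      left_inv := fun x => Subtype.ext (by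
        show ψ a⁻¹ (ψ a x) = x
        rw [← MulAut.mul_apply, ← map_mul, inv_mul_cancel, map_one, MulAut.one_apply])
      right_inv := fun x => Subtype.ext (by
        show ψ a (ψ a⁻¹ x) = x
        rw [← MulAut.mul_apply, ← map_mul, mul_inv_cancel, map_one, MulAut.one_apply])
      map_mul' := fun x y => Subtype.ext (map_mul (ψ a) (x : R) y) }
  have hres : ∀ a, M.map (res a).toMonoidHom = M := fun a => by
    refine le_antisymm ?_ fun x hx => ?_
    · rintro _ ⟨x, hx, rfl⟩
      exact hM a x hx
    · exact ⟨⟨ψ a⁻¹ x, hN _ x x.2⟩, hM _ x hx, (res a).apply_symm_apply x⟩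
  refine ⟨{ toFun := fun a => QuotientGroup.congr M M (res a) (hres a), map_one' := ?_, map_mul' := ?_ },
    fun a x => rfl⟩
  · ext v
    obtain ⟨x, rfl⟩ := QuotientGroup.mk_surjective v
    show (QuotientGroup.mk (res 1 x) : N ⧸ M) = QuotientGroup.mk x
    congr 1
    exact Subtype.ext (by show ψ 1 (x : R) = x; rw [map_one, MulAut.one_apply])
  · intro a b
    ext v
    obtain ⟨x, rfl⟩ := QuotientGroup.mk_surjective v
    show (QuotientGroup.mk (res (a * b) x) : N ⧸ M) = QuotientGroup.mk (res a (res b x))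
    congr 1
    exact Subtype.ext (by show ψ (a * b) (x : R) = ψ a (ψ b x); rw [map_mul, MulAut.mul_apply])

/-- If an elementary abelian `E` of order `p²` is maximal in a group of rank at least three, an
element acting trivially on all invariant sections of order `p` acts trivially. -/
theorem fixes_of_maximal_sq {A : Type*} [Group A] (hp2 : p ≠ 2) (hR : IsPGroup p R)
    (hr : ¬ Cfsg.PRankLE p 2 R) {E : Subgroup R} (hE : Cfsg.IsElementaryAbelian p E)
    (hE2 : Nat.card E = p ^ 2) (hEmax : ∀ B : Subgroup R, Cfsg.IsElementaryAbelian p B → E ≤ B → B = E)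
    (ψ : A →* MulAut R) (a : A) (ha : (orderOf (ψ a)).Coprime p)
    (hone : ∀ (V : Type u) [Group V], Nat.card V = p → ∀ χ : A →* MulAut V, χ a = 1) : ψ a = 1 := by
  obtain ⟨hET, hZ₁, ⟨hWel, hWcard⟩, hTc, hTi⟩ := CfsgLib.OddLocal.RankThree.facts hp2 hR hr hE hE2 hEmax
  set W := closure {x : R | x ∈ Subgroup.upperCentralSeries R 2 ∧ x ^ p = 1}
  set T := centralizer (W : Set R) with hT
  obtain ⟨e, he, heT⟩ := SetLike.not_le_iff_exists.1 hET
  have hTn : T.Normal := inferInstance
  have hTinv : ∀ b x, x ∈ T → ψ b x ∈ T := fun b x hx =>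
    (characteristic_iff_map_le.1 hTc (ψ b)) (mem_map_of_mem _ hx)
  have hTW : W ≤ T := (le_centralizer_iff_isMulCommutative.2 hWel.1)
  have hcard2 : 1 < p ^ 2 := Nat.one_lt_pow two_ne_zero hp.out.one_lt
  have hET2 : Nat.card ↥(E ⊓ T : Subgroup R) ≤ p := by
    obtain ⟨j, hj, hjc⟩ := (Nat.dvd_prime_pow hp.out).1 (hE2 ▸ card_dvd_of_le (inf_le_left : E ⊓ T ≤ E))
    rw [hjc]
    refine (Nat.pow_le_pow_right hp.out.pos (?_ : j ≤ 1)).trans (pow_one p).le
    by_contra h
    exact hET (inf_eq_left.1 (eq_of_le_of_card_ge inf_le_left (by rw [hjc, hE2, show j = 2 by omega])))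
  -- elements of order `p` in `C_T(e)`
  have hCe : ∀ x ∈ T, x ^ p = 1 → x * e = e * x → x ∈ E ⊓ T := fun x hx hxp hxe => by
    refine ⟨?_, hx⟩
    have hcE : x ∈ centralizer (E : Set R) := by
      have hZE : E ⊓ T ≤ centralizer ({x} : Set R) := fun y hy => by
        have h1 : Nat.card ↥(closure {x : R | x ∈ center R ∧ x ^ p = 1}) = p := hZ₁
        have hZET : closure {x : R | x ∈ center R ∧ x ^ p = 1} ≤ E ⊓ T := (closure_le _).2 fun z hz =>
          ⟨CfsgLib.OddLocal.RankThree.mem_of_centralizes hE hEmax (center_le_centralizer _ hz.1) hz.2,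
            center_le_centralizer _ hz.1⟩
        have heq := eq_of_le_of_card_ge hZET (hET2.trans h1.ge)
        rw [← heq] at hy
        exact mem_centralizer_singleton_iff.2 (mem_center_iff.1
          ((closure_le (center R)).2 (fun z hz => hz.1) hy) x).symm
      have hgen : E ≤ (E ⊓ T) ⊔ zpowers e := by
        refine (eq_of_le_of_card_ge (sup_le inf_le_left (zpowers_le.2 he)) ?_).ge
        have hlt : E ⊓ T < (E ⊓ T) ⊔ zpowers e :=
          left_lt_sup.2 fun h => heT (h (mem_zpowers e)).2
        have := CfsgLib.PGroups.mul_card_le_of_lt (hR.to_subgroup _) hlt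
        have hge : p ≤ Nat.card ↥(E ⊓ T : Subgroup R) := by
          rw [← hZ₁]
          exact card_le_of_le ((closure_le _).2 fun z hz =>
            ⟨CfsgLib.OddLocal.RankThree.mem_of_centralizes hE hEmax (center_le_centralizer _ hz.1) hz.2,
              center_le_centralizer _ hz.1⟩)
        rw [hE2, pow_two]
        exact le_trans (Nat.mul_le_mul_left p hge) this
      have hle : E ≤ centralizer ({x} : Set R) := hgen.trans (sup_le hZE
        (zpowers_le.2 (mem_centralizer_singleton_iff.2 hxe.symm)))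
      exact mem_centralizer_iff.2 fun y hy => mem_centralizer_singleton_iff.1 (hle hy)
    exact CfsgLib.OddLocal.RankThree.mem_of_centralizes hE hEmax hcE hxp
  have hord := pow_orderOf_eq_one (ψ a)
  -- invariant normal subgroups of exponent `p` inside `T` are fixed pointwise
  have key : ∀ n : ℕ, ∀ N : Subgroup R, Nat.card N ≤ n → N.Normal → N ≤ T → (∀ x ∈ N, x ^ p = 1) →
      (∀ b x, x ∈ N → ψ b x ∈ N) → ∀ x ∈ N, ψ a x = x := by
    intro n
    induction n with
    | zero => exact fun N hn => absurd hn (Nat.card_pos (α := N)).not_ge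
    | succ n ih =>
      intro N hn hNn hNT hNe hNi x hx
      set M := ⁅N, (⊤ : Subgroup R)⁆ with hM
      have hMn : M.Normal := commutator_normal N ⊤
      have hMN : M ≤ N := commutator_le_left N ⊤
      have hMi : ∀ b y, y ∈ M → ψ b y ∈ M := fun b y hy => by
        have h1 : M.map (ψ b).toMonoidHom ≤ M := by
          rw [hM, map_commutator]
          refine commutator_mono ?_ le_top
          rintro _ ⟨z, hz, rfl⟩
          exact hNi b z hz
        exact h1 (mem_map_of_mem _ hy)
      rcases hMN.lt_or_eq with hlt | heq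
      swap
      · have : N = ⊥ := by
          by_contra hb
          have := hR.isNilpotent
          have : ∀ k, N ≤ (⊤ : Subgroup R).lowerCentralSeries k := by
            intro k
            induction k with
            | zero => rw [Subgroup.lowerCentralSeries_zero]; exact le_top
            | succ k ihk =>
              rw [← heq, hM, Subgroup.lowerCentralSeries_succ]
              exact commutator_mono ihk le_rfl
          obtain ⟨k, hk⟩ := Subgroup.nilpotent_iff_lowerCentralSeries.1 (inferInstance : Group.IsNilpotent R)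
          exact hb (le_bot_iff.1 ((this k).trans hk.le))
        rw [this, mem_bot] at hx
        rw [hx, map_one]
      have hcardM : Nat.card M < Nat.card N := lt_of_le_of_ne (card_le_of_le hMN)
        fun h => hlt.ne (eq_of_le_of_card_ge hMN h.ge)
      have hfixM := ih M (by omega) hMn (hMN.trans hNT) (fun y hy => hNe y (hMN hy)) hMi
      -- `|N : M| = p`
      have hcard : Nat.card N ≤ p * Nat.card M := by
        let f : N → M := fun y => ⟨⁅(y : R), e⁆, commutator_mem_commutator y.2 (mem_top e)⟩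
        have hker : ∀ v w : N, f v = f w → (v : R)⁻¹ * w ∈ E ⊓ T := fun v w hvw => by
          have h1 : ⁅(v : R), e⁆ = ⁅(w : R), e⁆ := congrArg Subtype.val hvw
          refine hCe _ (hNT (mul_mem (inv_mem v.2) w.2)) (hNe _ (mul_mem (inv_mem v.2) w.2)) ?_
          have h2 : (v : R) * e * (v : R)⁻¹ = w * e * (w : R)⁻¹ := by
            simpa [commutatorElement_def] using h1
          calc (v : R)⁻¹ * w * e = (v : R)⁻¹ * (w * e * (w : R)⁻¹) * w := by group
            _ = (v : R)⁻¹ * (v * e * (v : R)⁻¹) * w := by rw [h2]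
            _ = e * ((v : R)⁻¹ * w) := by group
        let g : N → M × ↥(E ⊓ T : Subgroup R) := fun w =>
          (f w, ⟨_, hker (Function.invFun f (f w)) w (Function.invFun_eq ⟨w, rfl⟩)⟩)
        have hg : Function.Injective g := fun v w hvw => by
          have h1 : f v = f w := congrArg Prod.fst hvw
          have h2 := congrArg (fun q : M × ↥(E ⊓ T : Subgroup R) => ((q.2 : ↥(E ⊓ T : Subgroup R)) : R)) hvw
          simp only [g, h1] at h2
          exact Subtype.ext (mul_left_cancel h2)
        have := Nat.card_le_card_of_injective g hg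
        rw [Nat.card_prod] at this
        exact this.trans (by rw [mul_comm p]; exact Nat.mul_le_mul_left _ hET2)
      have hq : Nat.card (N ⧸ M.subgroupOf N) = p := by
        have h1 := (M.subgroupOf N).card_eq_card_quotient_mul_card_subgroup
        rw [Nat.card_congr (subgroupOfEquivOfLe hMN).toEquiv] at h1
        obtain ⟨j, hj⟩ := IsPGroup.iff_card.1 ((hR.to_subgroup N).to_quotient (M.subgroupOf N))
        rw [hj] at h1 ⊢
        rcases j with _ | _ | j
        · rw [pow_zero, one_mul] at h1; omega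
        · exact pow_one p
        · exfalso
          have h2 : p ^ (j + 2) * Nat.card M ≤ p * Nat.card M := h1 ▸ hcard
          have h3 := Nat.le_of_mul_le_mul_right h2 Nat.card_pos
          have h4 := (Nat.pow_le_pow_iff_right hp.out.one_lt).1 (h3.trans (pow_one p).ge)
          omega
      obtain ⟨χ, hχ⟩ := exists_section_hom ψ N (M.subgroupOf N) hNi fun b y hy => hMi b y hy
      have h1 := hχ a ⟨x, hx⟩
      rw [hone _ hq χ, MulAut.one_apply] at h1
      exact CfsgLib.Transfer.eq_of_fixed_diff hR (ψ a) ha hord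
        (hfixM _ (mem_subgroupOf.1 (QuotientGroup.eq.1 h1)))
  -- on `T`
  obtain ⟨S, hSc, hSe, hSf⟩ := exists_omega_critical hp2 (hR.to_subgroup T)
  let b : MulAut T := ((ψ a : R ≃* R).subgroupMap T).trans
    (MulEquiv.subgroupCongr (characteristic_iff_map_eq.1 hTc (ψ a)))
  have hb : ∀ y : T, ((b y : T) : R) = ψ a y := fun y => rfl
  have hbk : ∀ (k : ℕ) (y : T), (((b ^ k) y : T) : R) = (ψ a ^ k) y := by
    intro k
    induction k with
    | zero => intro y; simp
    | succ k ih => intro y; rw [pow_succ, pow_succ, MulAut.mul_apply, MulAut.mul_apply, ih, hb]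
  have hbord : (orderOf b).Coprime p := ha.coprime_dvd_left (orderOf_dvd_of_pow_eq_one
    (MulEquiv.ext fun y => Subtype.ext (by rw [hbk, hord]; rfl)))
  have hS' : (S.map T.subtype).Normal := inferInstance
  have hTfix : ∀ x ∈ T, ψ a x = x := by
    have hb1 := hSf b hbord fun y hy => Subtype.ext ((hb y).trans (key _ (S.map T.subtype) le_rfl hS'
      (map_subtype_le S) (by rintro _ ⟨z, hz, rfl⟩; rw [← map_pow, hSe z hz, map_one]) (fun c z hz => by
        obtain ⟨w, hw, rfl⟩ := hz
        let c' : MulAut T := ((ψ c : R ≃* R).subgroupMap T).trans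
          (MulEquiv.subgroupCongr (characteristic_iff_map_eq.1 hTc (ψ c)))
        exact ⟨c' w, (characteristic_iff_map_le.1 hSc c') (mem_map_of_mem _ hw), rfl⟩) y ⟨y, hy, rfl⟩))
    intro x hx
    have := hb ⟨x, hx⟩
    rw [hb1] at this
    exact this.symm
  -- on `R ⧸ T`
  refine MulEquiv.ext fun x => ?_
  rw [MulAut.one_apply]
  obtain ⟨χ, hχ⟩ := exists_section_hom ψ ⊤ (T.subgroupOf ⊤) (fun _ _ _ => mem_top _)
    fun c y hy => hTinv c y hy
  have hq : Nat.card ((⊤ : Subgroup R) ⧸ T.subgroupOf ⊤) = p := by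
    rw [← index_eq_card]
    exact (relIndex_top_right T).trans hTi
  have h1 := hχ a ⟨x, mem_top x⟩
  rw [hone _ hq χ, MulAut.one_apply] at h1
  exact CfsgLib.Transfer.eq_of_fixed_diff hR (ψ a) ha hord
    (hTfix _ (mem_subgroupOf.1 (QuotientGroup.eq.1 h1)))

/-- A `p`-group with an elementary abelian subgroup whose centraliser has rank at most two. -/
theorem exists_maximal_sq (hp2 : p ≠ 2) (hR : IsPGroup p R) (hr : ¬ Cfsg.PRankLE p 2 R) {B : Subgroup R}
    (hB : Cfsg.IsElementaryAbelian p B) (hBr : Cfsg.PRankLE p 2 (centralizer (B : Set R))) :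
    ∃ E : Subgroup R, Cfsg.IsElementaryAbelian p E ∧ Nat.card E = p ^ 2 ∧
      ∀ D : Subgroup R, Cfsg.IsElementaryAbelian p D → E ≤ D → D = E := by
  have hbound : ∀ D : Subgroup R, Cfsg.IsElementaryAbelian p D → B ≤ D → Nat.card D ≤ p ^ 2 := by
    intro D hD hBD
    have hDC : D ≤ centralizer (B : Set R) :=
      (le_centralizer_iff_isMulCommutative.2 hD.1).trans (centralizer_le hBD)
    by_contra h
    exact CfsgLib.OddLocal.RankThree.not_prankLE_of_subgroup hD hDC (by omega) hBr
  obtain ⟨z, hz, hzp⟩ : ∃ z ∈ center R, orderOf z = p := by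
    have : Nontrivial R := by
      by_contra hn
      rw [not_nontrivial_iff_subsingleton] at hn
      exact hr fun D _ _ => le_trans (le_of_eq (Nat.card_eq_one_iff_unique.2 ⟨inferInstance, inferInstance⟩))
        (Nat.one_le_pow _ _ hp.out.pos)
    have : Nontrivial (center R) := hR.center_nontrivial
    obtain ⟨n, hn⟩ := IsPGroup.iff_card.1 (hR.to_subgroup (center R))
    obtain ⟨z, hz⟩ := exists_prime_orderOf_dvd_card' (G := center R) p (by
      rcases n with _ | n
      · exact absurd (hn.trans (pow_zero p)) (Finite.one_lt_card).ne'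
      · exact hn ▸ dvd_pow_self p n.succ_ne_zero)
    exact ⟨z, z.2, by rw [Subgroup.orderOf_coe]; exact hz⟩
  have hzel := CfsgLib.OddLocal.RankThree.elementary_zpowers (p := p) (hzp ▸ pow_orderOf_eq_one z)
  have hzc : zpowers z ≤ centralizer (B : Set R) := zpowers_le.2 (center_le_centralizer _ hz)
  set E := zpowers z ⊔ B with hE
  have hEel : Cfsg.IsElementaryAbelian p E := CfsgLib.PLocal.elementary_sup hzel hB hzc
  refine ⟨E, hEel, ?_, fun D hD hED => ?_⟩
  · refine le_antisymm (hbound E hEel le_sup_right) ?_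
    have hnB : ¬ B ≤ center R := fun h => hr (by
      have : centralizer (B : Set R) = ⊤ := centralizer_eq_top_iff_subset.2 h
      rw [this] at hBr
      intro D hD hDp
      refine le_trans (le_of_eq ?_) (hBr (D.subgroupOf ⊤) inferInstance fun d hd => Subtype.ext (hDp _ hd))
      exact (Nat.card_congr (subgroupOfEquivOfLe (le_top : D ≤ ⊤)).toEquiv).symm)
    have hzlt : zpowers z < E := lt_of_le_of_ne le_sup_left fun h =>
      hnB ((le_sup_right.trans h.ge).trans (zpowers_le.2 hz))
    have := CfsgLib.PGroups.mul_card_le_of_lt (hR.to_subgroup E) hzlt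
    rw [Nat.card_zpowers, hzp] at this
    rwa [pow_two]
  · refine (eq_of_le_of_card_ge hED ((hbound D hD (le_sup_right.trans hED)).trans ?_)).symm
    have hnB : ¬ B ≤ center R := fun h => hr (by
      have : centralizer (B : Set R) = ⊤ := centralizer_eq_top_iff_subset.2 h
      rw [this] at hBr
      intro D hD hDp
      refine le_trans (le_of_eq ?_) (hBr (D.subgroupOf ⊤) inferInstance fun d hd => Subtype.ext (hDp _ hd))
      exact (Nat.card_congr (subgroupOfEquivOfLe (le_top : D ≤ ⊤)).toEquiv).symm)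
    have hzlt : zpowers z < E := lt_of_le_of_ne le_sup_left fun h =>
      hnB ((le_sup_right.trans h.ge).trans (zpowers_le.2 hz))
    have := CfsgLib.PGroups.mul_card_le_of_lt (hR.to_subgroup E) hzlt
    rw [Nat.card_zpowers, hzp] at this
    rwa [pow_two]

/-- Automorphism groups of such groups. -/
theorem derived_isPGroup {A : Type*} [Group A] [Finite A] [Group.IsSolvable A] (hodd : Odd (Nat.card A))
    (hp2 : p ≠ 2) (hR : IsPGroup p R) {B : Subgroup R} (hB : Cfsg.IsElementaryAbelian p B)
    (hBr : Cfsg.PRankLE p 2 (centralizer (B : Set R)))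
    (ψ : A →* MulAut R) (hψ : ∀ a, ψ a = 1 → (orderOf a).Coprime p → a = 1) :
    IsPGroup p (_root_.commutator A) := by
  by_cases hr : Cfsg.PRankLE p 2 R
  · exact (CfsgLib.OddLocal.RankTwoAut.rankTwo_aut hodd hp2 hR hr ψ hψ).1
  obtain ⟨E, hE, hE2, hEmax⟩ := exists_maximal_sq hp2 hR hr hB hBr
  rintro ⟨a, ha⟩
  obtain ⟨k, hk⟩ := CfsgLib.Transfer.exists_pow_prime_pow_coprime (p := p) a
  refine ⟨k, Subtype.ext ?_⟩
  show a ^ p ^ k = 1
  refine hψ _ ?_ hk
  refine fixes_of_maximal_sq hp2 hR hr hE hE2 hEmax ψ _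
    (hk.coprime_dvd_left (orderOf_map_dvd ψ _)) fun V _ hV χ => ?_
  have : IsCyclic V := isCyclic_of_prime_card (p := p) hV
  let e := IsCyclic.mulAutMulEquiv V
  have hle : _root_.commutator A ≤ χ.ker := by
    refine commutator_le.2 fun x _ y _ => MonoidHom.mem_ker.2 (e.injective ?_)
    rw [map_commutatorElement, map_commutatorElement, map_one, commutatorElement_eq_one_iff_mul_comm]
    exact mul_comm _ _
  exact MonoidHom.mem_ker.1 (hle (pow_mem ha _))

end CfsgLib.OddLocal.NarrowAut
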