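import Cfsg.Agent.Lib.OddLocal.RankTwoAut
import Cfsg.Agent.Lib.OddLocal.NarrowAut
import Cfsg.Agent.Lib.PGroups.Extraspecial

/-!
An automorphism of prime order not dividing `p(p-1)` of a `p`-group of rank at most two.
-/

set_option autoImplicit false

namespace CfsgLib.OddLocal.PrimeActionRankTwo

open Subgroup
open scoped commutatorElement

universe u

variable {p : ℕ} [hp : Fact p.Prime]

/-- If all elements of order `p` are central, commutators with elements killed by `p²` have
exponent `p`. -/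
theorem comm_pow_eq_one (hp2 : p ≠ 2) {R : Type*} [Group R] [Finite R] (hR : IsPGroup p R)
    (hZ : ∀ x : R, x ^ p = 1 → x ∈ center R) :
    ∀ x y : R, (x ^ p) ^ p = 1 → ⁅x, y⁆ ^ p = 1 := by
  suffices key : ∀ n : ℕ, ∀ H : Subgroup R, Nat.card H ≤ n → ∀ x y : H, (x ^ p) ^ p = 1 → ⁅x, y⁆ ^ p = 1 by
    intro x y hx
    exact congrArg Subtype.val (key _ ⊤ le_rfl ⟨x, mem_top x⟩ ⟨y, mem_top y⟩ (Subtype.ext hx))
  intro n
  induction n with
  | zero => exact fun H hH => absurd hH (Nat.card_pos (α := H)).not_ge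
  | succ n ih =>
    intro H hH x y hx
    have hHp := hR.to_subgroup H
    have hc : ∀ z : H, z ^ p = 1 → z ∈ center H := fun z hz => mem_center_iff.2 fun w => Subtype.ext
      (mem_center_iff.1 (hZ z (congrArg Subtype.val hz)) w)
    by_cases htop : closure {x} ⊔ frattini H = ⊤
    · have h := CfsgLib.PGroups.closure_eq_top_of_sup_frattini htop
      rw [← zpowers_eq_closure] at h
      obtain ⟨k, rfl⟩ := mem_zpowers_iff.1 (h ▸ mem_top y)
      rw [commutatorElement_eq_one_iff_mul_comm.2 ((Commute.refl x).zpow_right k).eq, one_pow]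
    set M := closure {x} ⊔ frattini H with hM
    have hlt : Nat.card (M.map H.subtype) < Nat.card H := by
      refine (CfsgLib.Transfer.card_lt_of_lt (lt_of_le_of_ne (map_subtype_le _) fun he => htop ?_))
      exact Subgroup.map_injective H.subtype_injective
        (by rw [← MonoidHom.range_eq_map, range_subtype]; exact he)
    have hxM : x ∈ M := le_sup_left (α := Subgroup H) (subset_closure rfl)
    have hx' : y * x * y⁻¹ ∈ M := by
      rw [show y * x * y⁻¹ = ⁅y, x⁆ * x by rw [commutatorElement_def]; group]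
      exact mul_mem (le_sup_right (α := Subgroup H) (CfsgLib.PGroups.commutator_le_frattini' hHp
        (commutator_mem_commutator (mem_top y) (mem_top x)))) hxM
    have h1 : ⁅y * x * y⁻¹, x⁆ ^ p = 1 := by
      have hcp : ((y * x * y⁻¹) ^ p) ^ p = 1 := by
        rw [conj_pow, conj_pow, hx, mul_one, mul_inv_cancel]
      have h := ih (M.map H.subtype) (by omega) ⟨_, _, hx', rfl⟩ ⟨_, x, hxM, rfl⟩
        (Subtype.ext (congrArg Subtype.val hcp :))
      exact Subtype.ext (congrArg Subtype.val h :)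
    have hcz := hc _ h1
    have h2 : ⁅(y * x * y⁻¹)⁻¹, x⁆ = ⁅y * x * y⁻¹, x⁆⁻¹ := CfsgLib.PGroups.comm_inv_left_of_central hcz
    rw [show ⁅x, y⁆ = x * (y * x * y⁻¹)⁻¹ by rw [commutatorElement_def]; group,
      CfsgLib.PGroups.mul_pow_of_central_odd (h2 ▸ inv_mem hcz) (hp.out.odd_of_ne_two hp2)
        (by rw [h2, inv_pow, h1, inv_one]),
      inv_pow, conj_pow, mem_center_iff.1 (hc _ hx) y, mul_inv_cancel_right, mul_inv_cancel]

theorem totient_coprime {q : ℕ} (hq : q.Prime) (hqd : ¬ q ∣ p * (p - 1)) (k : ℕ) :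
    Nat.Coprime q (Nat.totient (p ^ k)) := by
  refine hq.coprime_iff_not_dvd.2 fun h => ?_
  rcases k with _ | k
  · rw [pow_zero, Nat.totient_one] at h
    exact hq.ne_one (Nat.dvd_one.1 h)
  · rw [Nat.totient_prime_pow_succ hp.out] at h
    rcases (Nat.Prime.dvd_mul hq).1 h with h | h
    · exact hqd (dvd_mul_of_dvd_left (hq.dvd_of_dvd_pow h) _)
    · exact hqd (dvd_mul_of_dvd_right h _)

/-- A cyclic invariant section is centralised. -/
theorem diff_mem_of_cyclic {R : Type*} [Group R] [Finite R] (hR : IsPGroup p R) {q : ℕ} (hq : q.Prime)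
    (hqd : ¬ q ∣ p * (p - 1)) (a : MulAut R) (ha : a ^ q = 1) (M N : Subgroup R) [hMn : M.Normal]
    (hN : ∀ x ∈ N, a x ∈ N) (hM : ∀ x ∈ M, a x ∈ M) (hcyc : IsCyclic (N ⧸ M.subgroupOf N)) :
    ∀ x ∈ N, x⁻¹ * a x ∈ M := by
  intro x hx
  have hz : ∀ (L : Subgroup R), (∀ y ∈ L, a y ∈ L) → ∀ b : zpowers a, ∀ y, y ∈ L → (b : MulAut R) y ∈ L := by
    rintro L hL ⟨b, hb⟩
    obtain ⟨k, rfl⟩ := mem_powers_iff_mem_zpowers.2 hb
    show ∀ y, y ∈ L → (a ^ k) y ∈ L
    clear hb
    induction k with
    | zero => exact fun y hy => by simpa using hy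
    | succ k ih => exact fun y hy => ih (a y) (hL y hy)
  obtain ⟨χ, hχ⟩ := NarrowAut.exists_section_hom (zpowers a).subtype N (M.subgroupOf N) (hz N hN)
    fun b y hy => hz M hM b y hy
  have hone : χ ⟨a, mem_zpowers a⟩ = 1 := by
    rw [← orderOf_eq_one_iff]
    obtain ⟨k, hk⟩ := IsPGroup.iff_card.1 ((hR.to_subgroup N).to_quotient (M.subgroupOf N))
    refine Nat.eq_one_of_dvd_coprimes (totient_coprime hq hqd k) ?_ ?_
    · refine orderOf_dvd_of_pow_eq_one ?_
      rw [← map_pow, ← map_one χ]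
      exact congrArg χ (Subtype.ext ha)
    · rw [← hk, ← IsCyclic.card_mulAut]
      exact orderOf_dvd_natCard _
  have h1 := hχ ⟨a, mem_zpowers a⟩ ⟨x, hx⟩
  rw [hone, MulAut.one_apply] at h1
  exact mem_subgroupOf.1 (QuotientGroup.eq.1 h1)

/-- Fixed points extend over invariant sections of order at most `p`. -/
theorem fix_of_relIndex_le {R : Type*} [Group R] [Finite R] (hR : IsPGroup p R) {q : ℕ} (hq : q.Prime)
    (hqd : ¬ q ∣ p * (p - 1)) (a : MulAut R) (ha : a ^ q = 1) (M N : Subgroup R) [M.Normal]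
    (hN : ∀ x ∈ N, a x ∈ N) (hfix : ∀ x ∈ M, a x = x) (hidx : M.relIndex N ≤ p) :
    ∀ x ∈ N, a x = x := by
  intro x hx
  have hqp : Nat.Coprime q p := hq.coprime_iff_not_dvd.2 fun h => hqd (dvd_mul_of_dvd_left h _)
  have hcyc : IsCyclic (N ⧸ M.subgroupOf N) := by
    obtain ⟨k, hk⟩ := IsPGroup.iff_card.1 ((hR.to_subgroup N).to_quotient (M.subgroupOf N))
    have hk1 : k ≤ 1 := (Nat.pow_le_pow_iff_right hp.out.one_lt).1 (by rw [← hk, pow_one]; exact hidx)
    rcases (show k = 0 ∨ k = 1 by omega) with rfl | rfl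
    · have := (Nat.card_eq_one_iff_unique.1 (by simpa using hk)).1
      exact isCyclic_of_subsingleton
    · exact isCyclic_of_prime_card (p := p) (by simpa using hk)
  exact CfsgLib.Transfer.eq_of_fixed_diff hR a hqp ha (hfix _ (diff_mem_of_cyclic hR hq hqd a ha M N hN
    (fun y hy => (hfix y hy).symm ▸ hy) hcyc x hx))

/-- An automorphism of order prime to `p` fixing an `Ω₁` pointwise is trivial; with no trivial
quotient the group is then trivial. -/
theorem false_of_fix_omega {R : Type u} [Group R] [Finite R] (hp2 : p ≠ 2) (hR : IsPGroup p R) {q : ℕ}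
    (hq : q.Prime) (hqd : ¬ q ∣ p * (p - 1)) (a : MulAut R) (ha : a ^ q = 1)
    (hres : ∀ N : Subgroup R, N.Normal → (∀ x ∈ N, a x ∈ N) → (∀ x, x⁻¹ * a x ∈ N) → N = ⊤)
    (hnc : ¬ IsMulCommutative R) {S : Subgroup R} (hS : ∀ x : R, x ^ p = 1 → x ∈ S)
    (hfix : ∀ x ∈ S, a x = x) : False := by
  have h1 := CfsgLib.Transfer.eq_one_of_fixes_order_p hp2 _ R le_rfl hR a q
    (hq.coprime_iff_not_dvd.2 fun h => hqd (dvd_mul_of_dvd_left h _)) ha fun x hx => hfix x (hS x hx)
  have h2 := hres ⊥ inferInstance (fun x hx => by rw [mem_bot] at hx ⊢; rw [hx, map_one])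
    fun x => by rw [h1, MulAut.one_apply, inv_mul_cancel]; exact one_mem _
  exact hnc ⟨⟨fun x y => by
    rw [mem_bot.1 (h2 ▸ mem_top x : x ∈ (⊥ : Subgroup R)), one_mul, mul_one]⟩⟩

/-- Small `Ω₁` inside the centre and no trivial quotient: the group is abelian. -/
theorem isMulCommutative_of_omega_central (hp2 : p ≠ 2) {q : ℕ} (hq : q.Prime)
    (hqd : ¬ q ∣ p * (p - 1)) :
    ∀ (n : ℕ) (R : Type u) [Group R] [Finite R], Nat.card R ≤ n → IsPGroup p R →
      (∀ x : R, x ^ p = 1 → x ∈ center R) → Nat.card {x : R // x ^ p = 1} ≤ p ^ 2 →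
      ∀ a : MulAut R, a ^ q = 1 →
        (∀ N : Subgroup R, N.Normal → (∀ x ∈ N, a x ∈ N) → (∀ x, x⁻¹ * a x ∈ N) → N = ⊤) →
        IsMulCommutative R := by
  intro n
  induction n with
  | zero => exact fun R _ _ h => absurd h (Nat.card_pos (α := R)).not_ge
  | succ n ih =>
    intro R _ _ hn hR hZ hcard a ha hres
    by_contra hnc
    have hodd := hp.out.odd_of_ne_two hp2
    let S : Subgroup R :=
      { carrier := {x | x ^ p = 1}
        one_mem' := one_pow p
        mul_mem' := fun {u v} (hu : u ^ p = 1) (hv : v ^ p = 1) => show (u * v) ^ p = 1 by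
          rw [Commute.mul_pow (mem_center_iff.1 (hZ v hv) u), hu, hv, one_mul]
        inv_mem' := fun {u} (hu : u ^ p = 1) => show u⁻¹ ^ p = 1 by rw [inv_pow, hu, inv_one] }
    have hSc : S ≤ center R := hZ
    have hSn : S.Normal := ⟨fun u hu g => by
      rw [mem_center_iff.1 (hSc hu) g, mul_inv_cancel_right]; exact hu⟩
    have hSa : ∀ x ∈ S, a x ∈ S := fun x (hx : x ^ p = 1) => show (a x) ^ p = 1 by
      rw [← map_pow, hx, map_one]
    have hcomm := comm_pow_eq_one hp2 hR hZ
    -- `R` is not trivial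
    have : Nontrivial R := by
      by_contra h
      rw [not_nontrivial_iff_subsingleton] at h
      exact hnc ⟨⟨fun _ _ => Subsingleton.elim _ _⟩⟩
    have hlt : Nat.card (R ⧸ S) ≤ n := by
      obtain ⟨x, hx⟩ := exists_prime_orderOf_dvd_card' (G := R) p (by
        obtain ⟨k, hk⟩ := IsPGroup.iff_card.1 hR
        rcases k with _ | k
        · exact absurd (hk.trans (pow_zero p)) Finite.one_lt_card.ne'
        · exact hk ▸ dvd_pow_self p k.succ_ne_zero)
      have h1 := S.card_eq_card_quotient_mul_card_subgroup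
      have h2 : 2 ≤ Nat.card S := by
        have : Nontrivial S := ⟨⟨⟨x, show x ^ p = 1 from hx ▸ pow_orderOf_eq_one x⟩, 1, fun h =>
          hp.out.ne_one (hx ▸ orderOf_eq_one_iff.2 (congrArg Subtype.val h :))⟩⟩
        exact Finite.one_lt_card
      have h3 := Nat.card_pos (α := R ⧸ S)
      nlinarith
    have hiff : ∀ x : R, (x : R ⧸ S) ^ p = 1 ↔ (x ^ p) ^ p = 1 := fun x => by
      rw [← QuotientGroup.mk_pow, QuotientGroup.eq_one_iff]
      rfl
    have hab : IsMulCommutative (R ⧸ S) := by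
      refine ih (R ⧸ S) hlt (hR.to_quotient S) ?_ ?_ (QuotientGroup.congr S S a ?_) ?_ ?_
      · intro v
        refine QuotientGroup.induction_on v fun x hx => mem_center_iff.2 fun w => ?_
        refine QuotientGroup.induction_on w fun y => ?_
        show QuotientGroup.mk' S y * QuotientGroup.mk' S x = QuotientGroup.mk' S x * QuotientGroup.mk' S y
        refine (commutatorElement_eq_one_iff_mul_comm.1 ?_).symm
        rw [← map_commutatorElement]
        exact (QuotientGroup.eq_one_iff _).2 (hcomm x y ((hiff x).1 hx))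
      · refine le_trans ?_ hcard
        refine Nat.card_le_card_of_injective (fun v => ⟨Quotient.out v.1 ^ p, ?_⟩) ?_
        · exact (hiff _).1 (by rw [QuotientGroup.out_eq']; exact v.2)
        · rintro ⟨v, hv⟩ ⟨w, hw⟩ he
          have h1 : Quotient.out v ^ p = Quotient.out w ^ p := congrArg Subtype.val he
          have h2 : (Quotient.out w ^ p) ^ p = 1 := (hiff _).1 (by rw [QuotientGroup.out_eq']; exact hw)
          refine Subtype.ext ((QuotientGroup.out_eq' v).symm.trans ((QuotientGroup.eq.2 ?_).trans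
            (QuotientGroup.out_eq' w)))
          show ((Quotient.out v)⁻¹ * Quotient.out w) ^ p = 1
          have h3 : ⁅Quotient.out w, (Quotient.out v)⁻¹⁆ ^ p = 1 := hcomm _ _ h2
          rw [CfsgLib.PGroups.mul_pow_of_central_odd (hZ _ h3) hodd h3, inv_pow, h1, inv_mul_cancel]
      · refine eq_of_le_of_card_ge ?_ (le_of_eq (card_map_of_injective a.injective).symm)
        rintro _ ⟨x, hx, rfl⟩
        exact hSa x hx
      · refine MulEquiv.ext fun v => ?_
        refine QuotientGroup.induction_on v fun x => ?_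
        have : ∀ (φ : MulAut (R ⧸ S)), (∀ y : R, φ y = ((a y : R) : R ⧸ S)) → ∀ (k : ℕ) (y : R),
            (φ ^ k) (y : R ⧸ S) = (((a ^ k) y : R) : R ⧸ S) := by
          intro φ hφ k
          induction k with
          | zero => intro y; rfl
          | succ k ihk => intro y; rw [pow_succ, pow_succ, MulAut.mul_apply, MulAut.mul_apply, hφ, ihk]
        rw [this _ (fun y => rfl), ha]
        rfl
      · intro N hNn hNa hNd
        have h := hres (N.comap (QuotientGroup.mk' S)) inferInstance (fun x hx => hNa _ hx)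
          fun x => hNd (x : R ⧸ S)
        rw [← map_comap_eq_self_of_surjective (QuotientGroup.mk'_surjective S) N, h,
          ← MonoidHom.range_eq_map, QuotientGroup.range_mk']
    have hcS : ∀ x y : R, ⁅x, y⁆ ∈ S := fun x y => by
      refine (QuotientGroup.eq_one_iff _).1 ?_
      show QuotientGroup.mk' S ⁅x, y⁆ = 1
      rw [map_commutatorElement, commutatorElement_eq_one_iff_mul_comm]
      exact hab.is_comm.comm _ _
    -- the power homomorphism
    let f : R →* R := MonoidHom.mk' (fun x => x ^ p) fun x y =>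
      CfsgLib.PGroups.mul_pow_of_central_odd (hSc (hcS y x)) hodd (hcS y x)
    have hPc : f.range ≤ center R := by
      rintro _ ⟨x, rfl⟩
      refine mem_center_iff.2 fun y => (commutatorElement_eq_one_iff_mul_comm.1 ?_).symm
      show ⁅x ^ p, y⁆ = 1
      rw [CfsgLib.PGroups.comm_pow_left_of_central (hSc (hcS x y))]
      exact hcS x y
    have hPi : f.range.index ≤ p ^ 2 := by
      have h1 := f.range.card_mul_index
      have h2 : f.ker = S := by ext x; exact Iff.rfl
      have h3 := f.ker.card_mul_index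
      rw [index_ker, h2] at h3
      have hS2 : Nat.card S ≤ p ^ 2 := hcard
      have h4 := Nat.card_pos (α := f.range)
      rw [← h3, mul_comm (Nat.card S)] at h1
      rw [Nat.eq_of_mul_eq_mul_left h4 h1]
      exact hS2
    set P := f.range
    have hmul : ∀ A B : Subgroup R, A < B → p * Nat.card A ≤ Nat.card B := fun A B h => by
      exact CfsgLib.PGroups.mul_card_le_of_lt (hR.to_subgroup B) h
    have hnot : ∀ (A : Subgroup R) (x : R), A ≤ center R → zpowers x ⊔ A ≠ ⊤ := by
      intro A x hA h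
      refine hnc ?_
      have hAn : A.Normal := ⟨fun u hu g => by rw [mem_center_iff.1 (hA hu) g, mul_inv_cancel_right]; exact hu⟩
      have : IsCyclic (R ⧸ A) := isCyclic_iff_exists_zpowers_eq_top.2 ⟨QuotientGroup.mk' A x, by
        have := congrArg (Subgroup.map (QuotientGroup.mk' A)) h
        rwa [Subgroup.map_sup, MonoidHom.map_zpowers, QuotientGroup.map_mk'_self, sup_bot_eq,
          ← MonoidHom.range_eq_map, QuotientGroup.range_mk'] at this⟩
      exact CfsgLib.PGroups.isMulCommutative_of_cyclic_quotient hA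
    obtain ⟨x, hx⟩ : ∃ x, x ∉ P := by
      by_contra! h
      exact hnot P 1 hPc (eq_top_iff.2 fun z _ => le_sup_right (α := Subgroup R) (h z))
    obtain ⟨y, hy⟩ : ∃ y, y ∉ zpowers x ⊔ P := by
      by_contra! h
      exact hnot P x hPc (eq_top_iff.2 fun z _ => h z)
    have hgen : zpowers y ⊔ (zpowers x ⊔ P) = ⊤ := by
      by_contra hne
      have h1 := hmul _ _ (right_lt_sup.2 fun h => hx (h (mem_zpowers x)) : P < zpowers x ⊔ P)
      have h2 := hmul _ _ (right_lt_sup.2 fun h => hy (h (mem_zpowers y)) :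
        zpowers x ⊔ P < zpowers y ⊔ (zpowers x ⊔ P))
      have h3 := hmul _ _ (lt_top_iff_ne_top.2 hne)
      rw [card_top, ← P.card_mul_index] at h3
      have h4 := (Nat.mul_le_mul_left p (Nat.mul_le_mul_left p h1)).trans
        ((Nat.mul_le_mul_left p h2).trans h3)
      have h5 := Nat.mul_le_mul_left (Nat.card P) hPi
      have h6 := Nat.card_pos (α := P)
      have h7 := hp.out.two_le
      nlinarith
    set D := zpowers ⁅x, y⁆ with hD
    have hDc : D ≤ center R := zpowers_le.2 (hSc (hcS x y))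
    have hDn : D.Normal := ⟨fun u hu g => by
      rw [mem_center_iff.1 (hDc hu) g, mul_inv_cancel_right]; exact hu⟩
    have hRD : ∀ u v : R, ⁅u, v⁆ ∈ D := by
      intro u v
      refine (QuotientGroup.eq_one_iff _).1 ?_
      show QuotientGroup.mk' D ⁅u, v⁆ = 1
      rw [map_commutatorElement, commutatorElement_eq_one_iff_mul_comm]
      set π := QuotientGroup.mk' D
      have hxy : π x * π y = π y * π x := by
        rw [← commutatorElement_eq_one_iff_mul_comm, ← map_commutatorElement]
        exact (QuotientGroup.eq_one_iff _).2 (mem_zpowers _)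
      have hP' : P ≤ (center (R ⧸ D)).comap π := fun z hz => mem_center_iff.2 fun w => by
        obtain ⟨w, rfl⟩ := QuotientGroup.mk'_surjective D w
        rw [← map_mul, ← map_mul, mem_center_iff.1 (hPc hz) w]
      have hxc : π x ∈ center (R ⧸ D) := mem_center_iff.2 fun w => by
        obtain ⟨w, rfl⟩ := QuotientGroup.mk'_surjective D w
        have hle : zpowers y ⊔ (zpowers x ⊔ P) ≤ (centralizer {π x}).comap π :=
          sup_le (zpowers_le.2 (mem_centralizer_singleton_iff.2 hxy.symm))
            (sup_le (zpowers_le.2 (mem_centralizer_singleton_iff.2 rfl))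
              fun z hz => mem_centralizer_singleton_iff.2 (mem_center_iff.1 (hP' hz) _).symm)
        exact mem_centralizer_singleton_iff.1 (hle (hgen ▸ mem_top w))
      have hyc : π y ∈ center (R ⧸ D) := mem_center_iff.2 fun w => by
        obtain ⟨w, rfl⟩ := QuotientGroup.mk'_surjective D w
        have hle : zpowers y ⊔ (zpowers x ⊔ P) ≤ (centralizer {π y}).comap π :=
          sup_le (zpowers_le.2 (mem_centralizer_singleton_iff.2 rfl))
            (sup_le (zpowers_le.2 (mem_centralizer_singleton_iff.2 hxy))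
              fun z hz => mem_centralizer_singleton_iff.2 (mem_center_iff.1 (hP' hz) _).symm)
        exact mem_centralizer_singleton_iff.1 (hle (hgen ▸ mem_top w))
      have hall : zpowers y ⊔ (zpowers x ⊔ P) ≤ (center (R ⧸ D)).comap π :=
        sup_le (zpowers_le.2 hyc) (sup_le (zpowers_le.2 hxc) hP')
      exact mem_center_iff.1 (hall (hgen ▸ mem_top v)) _
    set C := _root_.commutator R with hC
    have hCD : C ≤ D := commutator_le.2 fun u _ v _ => hRD u v
    have hDp : Nat.card D ≤ p := by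
      rw [Nat.card_zpowers]
      exact orderOf_le_of_pow_eq_one hp.out.pos (hcS x y)
    have hCa : ∀ z ∈ C, a z ∈ C := fun z hz =>
      (characteristic_iff_map_le.1 (inferInstance : C.Characteristic) a) (mem_map_of_mem _ hz)
    have hfixC : ∀ z ∈ C, a z = z := fix_of_relIndex_le hR hq hqd a ha ⊥ C hCa
      (fun z hz => by rw [mem_bot.1 hz, map_one]) (by rw [relIndex_bot_left]; exact (card_le_of_le hCD).trans hDp)
    have hCS : C ≤ S := commutator_le.2 fun u _ v _ => hcS u v
    have hC1 : p ≤ Nat.card C := by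
      obtain ⟨k, hk⟩ := IsPGroup.iff_card.1 (hR.to_subgroup C)
      rcases k with _ | k
      · exact absurd (⟨⟨fun u v => commutatorElement_eq_one_iff_mul_comm.1 (mem_bot.1
          (card_eq_one.1 (hk.trans (pow_zero p)) ▸ commutator_mem_commutator (mem_top u) (mem_top v)))⟩⟩)
          hnc
      · exact hk ▸ Nat.le_of_dvd (pow_pos hp.out.pos _) (dvd_pow_self p k.succ_ne_zero)
    have hidx : C.relIndex S ≤ p := by
      have h1 : Nat.card C * C.relIndex S = Nat.card S := by
        rw [relIndex, ← Nat.card_congr (subgroupOfEquivOfLe hCS).toEquiv, card_mul_index]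
      have h2 : Nat.card C * C.relIndex S ≤ p * p := h1 ▸ (pow_two p ▸ hcard)
      exact Nat.le_of_mul_le_mul_left ((Nat.mul_le_mul_right _ hC1).trans h2) hp.out.pos
    exact false_of_fix_omega hp2 hR hq hqd a ha hres hnc (S := S) (fun z hz => hz)
      (fix_of_relIndex_le hR hq hqd a ha C S hSa hfixC hidx)

/-- An extraspecial group of order `p³`, unless abelian. -/
theorem card_eq_cube (hp3 : 3 < p) {R : Type u} [Group R] [Finite R] (hR : IsPGroup p R)
    (hr : Cfsg.PRankLE p 2 R) {q : ℕ} (hq : q.Prime) (hqd : ¬ q ∣ p * (p - 1))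
    (a : MulAut R) (ha : a ^ q = 1)
    (hres : ∀ N : Subgroup R, N.Normal → (∀ x ∈ N, a x ∈ N) → (∀ x, x⁻¹ * a x ∈ N) → N = ⊤)
    (hnc : ¬ IsMulCommutative R) : Nat.card R = p ^ 3 := by
  have hp2 : p ≠ 2 := by omega
  have hrk : ∀ E : Subgroup R, Cfsg.IsElementaryAbelian p E → Nat.card E ≤ p ^ 2 :=
    fun E hE => hr E hE.1 hE.2
  set S := closure {x : R | x ^ p = 1} with hS
  have hSe : ∀ x ∈ S, x ^ p = 1 := fun x hx => CfsgLib.Transfer.pow_eq_one_of_rank_two hp3 hR hrk hx
  have hSc : S.Characteristic := characteristic_iff_map_le.2 fun φ => by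
    rw [hS, MonoidHom.map_closure, closure_le]
    rintro _ ⟨x, hx, rfl⟩
    exact subset_closure (show φ x ^ p = 1 by rw [← map_pow, hx, map_one])
  have hSn : S.Normal := inferInstance
  have hSm : ∀ x : R, x ^ p = 1 → x ∈ S := fun x hx => subset_closure hx
  have hSa : ∀ x ∈ S, a x ∈ S := fun x hx => (characteristic_iff_map_le.1 hSc a) (mem_map_of_mem _ hx)
  have hff : ¬ ∀ x ∈ S, a x = x := fun h => false_of_fix_omega hp2 hR hq hqd a ha hres hnc hSm h
  have hexp : ∀ x : S, x ^ p = 1 := fun x => Subtype.ext (hSe x x.2)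
  have hrS : Cfsg.PRankLE p 2 S := fun A hA hAp => by
    rw [← card_map_of_injective (K := A) S.subtype_injective]
    refine hr _ inferInstance ?_
    rintro _ ⟨b, hb, rfl⟩
    rw [← map_pow, hAp b hb, map_one]
  have hS3 : Nat.card S ≤ p ^ 3 := Cfsg.Agent.S3771.result (hR.to_subgroup S) (hrS) hexp
  have hSb : S ≠ ⊥ := fun h => hff fun x hx => by rw [h, mem_bot] at hx; rw [hx, map_one]
  have hrel : ∀ A B : Subgroup R, A ≤ B → Nat.card A * A.relIndex B = Nat.card B := fun A B h => by
    rw [relIndex, ← Nat.card_congr (subgroupOfEquivOfLe h).toEquiv, card_mul_index]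
  by_cases hSab : IsMulCommutative S
  · exfalso
    have hS2 : Nat.card S ≤ p ^ 2 := hr S hSab hSe
    have hcen : S ≤ center R := by
      by_contra hcon
      set T := S ⊓ center R with hT
      have hTc : T.Characteristic := characteristic_iff_map_le.2 fun φ => by
        rintro _ ⟨x, hx, rfl⟩
        exact ⟨(characteristic_iff_map_le.1 hSc φ) (mem_map_of_mem _ hx.1),
          (characteristic_iff_map_le.1 centerCharacteristic φ) (mem_map_of_mem _ hx.2)⟩
      have hT1 : p ≤ Nat.card T := by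
        obtain ⟨k, hk⟩ := IsPGroup.iff_card.1 (hR.to_subgroup T)
        rcases k with _ | k
        · exact absurd (card_eq_one.1 (hk.trans (pow_zero p))) (CfsgLib.PGroups.inf_center_ne_bot hR hSb)
        · exact hk ▸ Nat.le_of_dvd (pow_pos hp.out.pos _) (dvd_pow_self p k.succ_ne_zero)
      have hTlt : T < S := lt_of_le_of_ne inf_le_left fun h => hcon (h ▸ inf_le_right)
      have h1 := CfsgLib.PGroups.mul_card_le_of_lt (hR.to_subgroup S) hTlt
      have h2 : Nat.card T ≤ p := Nat.le_of_mul_le_mul_right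
        ((le_of_eq (mul_comm _ _)).trans (h1.trans (pow_two p ▸ hS2))) hp.out.pos
      have hTa : ∀ x ∈ T, a x ∈ T := fun x hx => (characteristic_iff_map_le.1 hTc a) (mem_map_of_mem _ hx)
      refine hff (fix_of_relIndex_le hR hq hqd a ha T S hSa ?_ ?_)
      · exact fix_of_relIndex_le hR hq hqd a ha ⊥ T hTa (fun z hz => by rw [mem_bot.1 hz, map_one])
          (by rw [relIndex_bot_left]; exact h2)
      · have h3 := hrel T S inf_le_left
        exact Nat.le_of_mul_le_mul_left (((Nat.mul_le_mul_right _ hT1).trans h3.le).trans (pow_two p ▸ hS2))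
          hp.out.pos
    refine hnc (isMulCommutative_of_omega_central hp2 hq hqd _ R le_rfl hR (fun x hx => hcen (hSm x hx))
      ?_ a ha hres)
    exact le_trans (Nat.card_le_card_of_injective (fun x : {x : R // x ^ p = 1} => (⟨x, hSm x x.2⟩ : S))
      fun u v h => Subtype.ext (congrArg (fun w : S => (w : R)) h)) hS2
  -- `S` is non-abelian of order `p³`
  have hsmall : ∀ H : Subgroup R, Nat.card H ≤ p ^ 2 → IsMulCommutative H := fun H hH => by
    obtain ⟨k, hk⟩ := IsPGroup.iff_card.1 (hR.to_subgroup H)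
    have hk2 : k ≤ 2 := (Nat.pow_le_pow_iff_right hp.out.one_lt).1 (hk ▸ hH)
    rcases (show k = 0 ∨ k = 1 ∨ k = 2 by omega) with rfl | rfl | rfl
    · have := (Nat.card_eq_one_iff_unique.1 (hk.trans (pow_zero p))).1
      exact ⟨⟨fun _ _ => Subsingleton.elim _ _⟩⟩
    · have := isCyclic_of_prime_card (p := p) (by simpa using hk)
      exact ⟨⟨IsCyclic.commGroup.mul_comm⟩⟩
    · exact ⟨⟨(IsPGroup.isMulCommutative_of_card_eq_prime_sq hk).is_comm.comm⟩⟩
  have hScard : Nat.card S = p ^ 3 := by
    obtain ⟨k, hk⟩ := IsPGroup.iff_card.1 (hR.to_subgroup S)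
    have hk3 : k ≤ 3 := (Nat.pow_le_pow_iff_right hp.out.one_lt).1 (hk ▸ hS3)
    rcases (show k ≤ 2 ∨ k = 3 by omega) with h | rfl
    · exact absurd (hsmall S (hk ▸ Nat.pow_le_pow_right hp.out.pos h)) hSab
    · exact hk
  set Z := (center S).map S.subtype with hZ
  have hZn : Z.Normal := inferInstance
  have hZS : Z ≤ S := map_subtype_le _
  have hZcard : Nat.card Z = p := by
    rw [hZ, card_map_of_injective S.subtype_injective]
    have hEx := CfsgLib.PGroups.isExtraspecial_of_card_cube (E := S) (p := p) hSab hScard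
    exact hEx.2
  have hZc : Z ≤ center R := CfsgLib.PGroups.le_center_of_card_prime hR hZcard
  have hZa : ∀ x ∈ Z, a x ∈ Z := by
    rintro _ ⟨z, hz, rfl⟩
    refine ⟨⟨a z, hSa _ z.2⟩, mem_center_iff.2 fun w => Subtype.ext ?_, rfl⟩
    have h1 := congrArg (fun v : S => a (v : R)) (mem_center_iff.1 hz ⟨a.symm w, by
      have := characteristic_iff_map_le.1 hSc a.symm (mem_map_of_mem _ w.2); exact this⟩)
    simpa using h1
  have hfixZ : ∀ z ∈ Z, a z = z := fix_of_relIndex_le hR hq hqd a ha ⊥ Z hZa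
    (fun z hz => by rw [mem_bot.1 hz, map_one]) (by rw [relIndex_bot_left, hZcard])
  -- `R` centralises `S ⧸ Z`
  set L := ⁅S, (⊤ : Subgroup R)⁆ ⊔ Z with hL
  have hLS : L ≤ S := sup_le (commutator_le_left S ⊤) hZS
  have hLne : L ≠ S := by
    intro h
    have hind : ∀ k, S ≤ (⊤ : Subgroup R).lowerCentralSeries k ⊔ Z := by
      intro k
      induction k with
      | zero => rw [Subgroup.lowerCentralSeries_zero]; exact le_top.trans le_sup_left
      | succ k ihk =>
        rw [Subgroup.lowerCentralSeries_succ]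
        calc S = L := h.symm
          _ ≤ ⁅(⊤ : Subgroup R).lowerCentralSeries k, (⊤ : Subgroup R)⁆ ⊔ Z := by
            refine sup_le (commutator_le.2 fun u hu g _ => ?_) le_sup_right
            obtain ⟨c, hc, z, hz, rfl⟩ := mem_sup_of_normal_right.1 (ihk hu)
            have hzg := commutatorElement_eq_one_iff_mul_comm.2 (mem_center_iff.1 (hZc hz) g).symm
            rw [show ⁅c * z, g⁆ = c * ⁅z, g⁆ * c⁻¹ * ⁅c, g⁆ by
              simp only [commutatorElement_def]; group, hzg]
            simpa using le_sup_left (α := Subgroup R) (commutator_mem_commutator hc (mem_top g))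
    have := hR.isNilpotent
    obtain ⟨k, hk⟩ := Subgroup.nilpotent_iff_lowerCentralSeries.1 (inferInstance : Group.IsNilpotent R)
    have h1 := card_le_of_le ((hind k).trans (sup_le (hk.le.trans bot_le) le_rfl))
    rw [hZcard, hScard] at h1
    exact absurd ((Nat.pow_le_pow_iff_right hp.out.one_lt).1 (h1.trans_eq (pow_one p).symm)) (by omega)
  have hLZ : L = Z := by
    by_contra hne
    have hZL : Z < L := lt_of_le_of_ne le_sup_right (Ne.symm hne)
    have h1 := CfsgLib.PGroups.mul_card_le_of_lt (hR.to_subgroup L) hZL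
    have h2 := CfsgLib.PGroups.mul_card_le_of_lt (hR.to_subgroup S) (lt_of_le_of_ne hLS hLne)
    rw [hZcard] at h1
    rw [hScard] at h2
    have h3 := hrel Z L le_sup_right
    have h4 := hrel L S hLS
    rw [hZcard] at h3
    rw [hScard] at h4
    have hL2 : Nat.card L = p * p := by nlinarith [hp.out.two_le]
    rw [hL2] at h3 h4
    have e1 : Z.relIndex L = p := Nat.eq_of_mul_eq_mul_left hp.out.pos h3
    have e2 : L.relIndex S = p := Nat.eq_of_mul_eq_mul_left (Nat.mul_pos hp.out.pos hp.out.pos)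
      (h4.trans (by ring))
    have hLn : L.Normal := inferInstance
    have hLa : ∀ x ∈ L, a x ∈ L := by
      have h5 : L.map a.toMonoidHom ≤ L := by
        rw [hL, Subgroup.map_sup, map_commutator]
        refine sup_le_sup (commutator_mono ?_ le_top) ?_
        · rintro _ ⟨z, hz, rfl⟩; exact hSa z hz
        · rintro _ ⟨z, hz, rfl⟩; exact hZa z hz
      exact fun x hx => h5 (mem_map_of_mem _ hx)
    exact hff (fix_of_relIndex_le hR hq hqd a ha L S hSa
      (fix_of_relIndex_le hR hq hqd a ha Z L hLa hfixZ e1.le) e2.le)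
  obtain ⟨s₁, s₂, hs⟩ : ∃ s t : S, ⁅s, t⁆ ≠ 1 := by
    by_contra! h
    exact hSab ⟨⟨fun u v => commutatorElement_eq_one_iff_mul_comm.1 (h u v)⟩⟩
  have hW : closure {(s₁ : R), (s₂ : R)} = S := by
    have hle : closure {(s₁ : R), (s₂ : R)} ≤ S := (closure_le _).2 (by
      rintro _ (rfl | rfl) <;> simp)
    refine eq_of_le_of_card_ge hle ?_
    obtain ⟨k, hk⟩ := IsPGroup.iff_card.1 (hR.to_subgroup (closure {(s₁ : R), (s₂ : R)}))
    rcases le_or_gt k 2 with h | h
    · exfalso
      have hc := hsmall (closure {(s₁ : R), (s₂ : R)}) (hk ▸ Nat.pow_le_pow_right hp.out.pos h)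
      refine hs (Subtype.ext (commutatorElement_eq_one_iff_mul_comm.2 ?_))
      exact congrArg Subtype.val (hc.is_comm.comm ⟨(s₁ : R), subset_closure (by simp)⟩
        ⟨(s₂ : R), subset_closure (by simp)⟩)
    · rw [hk, hScard]
      exact Nat.pow_le_pow_right hp.out.pos h
  set C := centralizer (S : Set R) with hC
  have hCi : C.index ≤ p ^ 2 := by
    let g : R → Z × Z := fun r =>
      (⟨⁅(s₁ : R), r⁆, hLZ ▸ le_sup_left (α := Subgroup R) (commutator_mem_commutator s₁.2 (mem_top r))⟩,
        ⟨⁅(s₂ : R), r⁆, hLZ ▸ le_sup_left (α := Subgroup R) (commutator_mem_commutator s₂.2 (mem_top r))⟩)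
    have hg : ∀ r r' : R, g r = g r' → r⁻¹ * r' ∈ C := by
      intro r r' h
      have key : ∀ s : R, ⁅s, r⁆ = ⁅s, r'⁆ → s ∈ centralizer ({r⁻¹ * r'} : Set R) := by
        intro s hs
        rw [mem_centralizer_singleton_iff]
        have hs' : r * s⁻¹ * r⁻¹ = r' * s⁻¹ * r'⁻¹ := by
          simpa [commutatorElement_def, mul_assoc] using hs
        have hs'' := congrArg Inv.inv hs'
        simp only [mul_inv_rev, inv_inv] at hs''
        calc s * (r⁻¹ * r') = r⁻¹ * (r * (s * r⁻¹)) * r' := by group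
          _ = r⁻¹ * (r' * (s * r'⁻¹)) * r' := by rw [hs'']
          _ = r⁻¹ * r' * s := by group
      refine mem_centralizer_iff.2 fun s hs => mem_centralizer_singleton_iff.1 ?_
      refine (show S ≤ centralizer ({r⁻¹ * r'} : Set R) from hW ▸ (closure_le _).2 ?_) hs
      rintro _ (rfl | rfl)
      · exact key _ (congrArg (fun v : Z × Z => (v.1 : R)) h)
      · exact key _ (congrArg (fun v : Z × Z => (v.2 : R)) h)
    rw [index_eq_card]
    refine (Nat.card_le_card_of_injective (fun v : R ⧸ C => g (Quotient.out v)) ?_).trans ?_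
    · intro v w h
      rw [← QuotientGroup.out_eq' v, ← QuotientGroup.out_eq' w, QuotientGroup.eq]
      exact hg _ _ h
    · rw [Nat.card_prod, hZcard, pow_two]
  have hCS : S ⊓ C ≤ Z := fun x hx => ⟨⟨x, hx.1⟩, mem_center_iff.2 fun w => Subtype.ext
    (mem_centralizer_iff.1 hx.2 w w.2), rfl⟩
  have hCcyc : IsCyclic C := by
    refine CfsgLib.Transfer.isCyclic_of_unique_order_p hp2 (hR.to_subgroup C) fun x y hx hx1 hy => ?_
    have hmem : ∀ z : C, z ^ p = 1 → (z : R) ∈ Z := fun z hz =>
      hCS ⟨hSm _ (congrArg Subtype.val hz), z.2⟩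
    have hZx : zpowers (x : R) = Z := by
      refine eq_of_le_of_card_ge (zpowers_le.2 (hmem x hx)) ?_
      rw [hZcard, Nat.card_zpowers, orderOf_eq_prime (congrArg Subtype.val hx :)
        (fun h => hx1 (Subtype.ext h))]
    obtain ⟨k, hk⟩ := mem_zpowers_iff.1 (hZx ▸ hmem y hy : (y : R) ∈ zpowers (x : R))
    exact mem_zpowers_iff.2 ⟨k, Subtype.ext (by simpa using hk)⟩
  have htop : S ⊔ C = ⊤ := by
    rw [← index_eq_one]
    have h1 : C.relIndex S * Nat.card (S ⊓ C : Subgroup R) = Nat.card S := by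
      rw [← inf_relIndex_right, mul_comm, inf_comm C]
      exact hrel _ _ inf_le_left
    have h2 : p ^ 2 ≤ C.relIndex S := by
      refine Nat.le_of_mul_le_mul_right ?_ hp.out.pos
      calc p ^ 2 * p = Nat.card S := by rw [hScard]; ring
        _ = C.relIndex S * Nat.card (S ⊓ C : Subgroup R) := h1.symm
        _ ≤ C.relIndex S * p := Nat.mul_le_mul_left _ ((card_le_of_le hCS).trans hZcard.le)
    have h3 := relIndex_mul_index (le_sup_right : C ≤ S ⊔ C)
    have h4 : C.relIndex S ≤ C.relIndex (S ⊔ C) :=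
      relIndex_le_of_le_right le_sup_left (index_ne_zero_of_finite (H := C.subgroupOf (S ⊔ C)))
    have h5 : C.relIndex (S ⊔ C) * (S ⊔ C).index ≤ C.relIndex (S ⊔ C) * 1 := by
      rw [h3, mul_one]; exact hCi.trans (h2.trans h4)
    have h6 : 0 < C.relIndex (S ⊔ C) := lt_of_lt_of_le (pow_pos hp.out.pos 2) (h2.trans h4)
    have h7 := Nat.le_of_mul_le_mul_left h5 h6
    have h8 : (S ⊔ C).index ≠ 0 := index_ne_zero_of_finite
    omega
  have hcycq : IsCyclic ((⊤ : Subgroup R) ⧸ S.subgroupOf ⊤) := by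
    refine isCyclic_of_surjective ((QuotientGroup.mk' (S.subgroupOf ⊤)).comp (inclusion (le_top : C ≤ ⊤))) ?_
    intro v
    obtain ⟨⟨r, hr⟩, rfl⟩ := QuotientGroup.mk_surjective v
    obtain ⟨s, hs, c, hc, rfl⟩ := mem_sup_of_normal_left.1 (htop ▸ hr : r ∈ S ⊔ C)
    refine ⟨⟨c, hc⟩, QuotientGroup.eq.2 ?_⟩
    rw [mem_subgroupOf]
    show c⁻¹ * (s * c) ∈ S
    simpa [mul_assoc] using hSn.conj_mem s hs c⁻¹
  have := hres S hSn hSa fun x => diff_mem_of_cyclic hR hq hqd a ha S ⊤ (fun y _ => mem_top _) hSa hcycq x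
    (mem_top x)
  rw [← hScard, this, card_top]

end CfsgLib.OddLocal.PrimeActionRankTwo
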