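import Cfsg.Agent.Lib.OddLocal.NarrowAut
import Cfsg.Agent.Lib.OddLocal.PrimeActionRankTwo
import Cfsg.Agent.Lib.OddLocal.RankTwoSolvable
import Cfsg.Agent.Lib.PGroups.Omega

/-!
Consequences for narrow `p`-groups.
-/

set_option autoImplicit false

namespace CfsgLib.OddLocal.NarrowCases

open Subgroup
open scoped commutatorElement

universe u

variable {p : ℕ} [hp : Fact p.Prime]

/-- A narrow group has an elementary abelian subgroup whose centraliser has rank at most two. -/
theorem exists_of_isNarrow {R : Type*} [Group R] [Finite R] (h : Cfsg.IsNarrow p R) :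
    ∃ B : Subgroup R, Cfsg.IsElementaryAbelian p B ∧ Cfsg.PRankLE p 2 (centralizer (B : Set R)) := by
  rcases h with h | ⟨R₀, R₁, h0, hcyc, -, hcomm, hsup⟩
  · exact ⟨⊥, ⟨inferInstance, fun g hg => by rw [mem_bot.1 hg, one_pow]⟩,
      CfsgLib.PGroups.prankLE_of_injective h (f := (centralizer _).subtype) (subtype_injective _)⟩
  have hR0 : IsCyclic R₀ := isCyclic_of_prime_card (p := p) h0
  refine ⟨R₀, ⟨⟨⟨IsCyclic.commGroup.mul_comm⟩⟩, fun g hg => congrArg Subtype.val
    (show (⟨g, hg⟩ : R₀) ^ p = 1 from orderOf_dvd_iff_pow_eq_one.1 (h0 ▸ orderOf_dvd_natCard _))⟩, ?_⟩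
  intro D hD hDp
  let μ : R₀ × R₁ →* R := MonoidHom.noncommCoprod R₀.subtype R₁.subtype fun a b => hcomm a a.2 b b.2
  have hμ : ∀ x : centralizer (R₀ : Set R), ∃ w, μ w = (x : R) := fun x => by
    have : (x : R) ∈ μ.range := by
      rw [show μ.range = R₀.subtype.range ⊔ R₁.subtype.range from MonoidHom.noncommCoprod_range ..,
        range_subtype, range_subtype, hsup]
      exact x.2
    exact this
  choose w hw using hμ
  have hinj : ∀ x y, w x = w y → x = y := fun x y h => Subtype.ext (by rw [← hw x, h, hw y])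
  have hkill : ∀ x ∈ D, (w x).2 ^ p = 1 := fun x hx => by
    have h1 : μ (w x ^ p) = 1 := by rw [map_pow, hw]; exact congrArg Subtype.val (hDp x hx)
    have h2 : (w x).1 ^ p = 1 := orderOf_dvd_iff_pow_eq_one.1 (h0 ▸ orderOf_dvd_natCard _)
    change (((w x).1 ^ p : R₀) : R) * (((w x).2 ^ p : R₁) : R) = 1 at h1
    rw [h2, OneMemClass.coe_one, one_mul] at h1
    exact Subtype.ext h1
  have hK : Nat.card {b : R₁ // b ^ p = 1} ≤ p := by
    classical
    let := Fintype.ofFinite R₁
    rw [Nat.card_eq_fintype_card, Fintype.card_subtype]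
    exact IsCyclic.card_pow_eq_one_le hp.out.pos
  refine (Nat.card_le_card_of_injective
    (fun x : D => ((w x).1, (⟨(w x).2, hkill x x.2⟩ : {b : R₁ // b ^ p = 1}))) ?_).trans ?_
  · intro x y h
    refine Subtype.ext (hinj _ _ (Prod.ext (congrArg Prod.fst h :) ?_))
    exact congrArg (fun q : R₀ × {b : R₁ // b ^ p = 1} => (q.2 : R₁)) h
  · rw [Nat.card_prod, h0, pow_two]
    exact Nat.mul_le_mul_left p hK

/-- The same along an isomorphism. -/
theorem exists_of_equiv {R R' : Type*} [Group R] [Group R'] (e : R ≃* R')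
    (h : ∃ B : Subgroup R, Cfsg.IsElementaryAbelian p B ∧ Cfsg.PRankLE p 2 (centralizer (B : Set R))) :
    ∃ B : Subgroup R', Cfsg.IsElementaryAbelian p B ∧ Cfsg.PRankLE p 2 (centralizer (B : Set R')) := by
  obtain ⟨B, hB, hBr⟩ := h
  refine ⟨B.map e.toMonoidHom, ⟨by have := hB.1; exact map_isMulCommutative B _, ?_⟩, ?_⟩
  · rintro _ ⟨b, hb, rfl⟩
    rw [← map_pow, hB.2 b hb, map_one]
  · refine CfsgLib.PGroups.prankLE_of_injective hBr (f := (e.symm.toMonoidHom.comp
      (centralizer (B.map e.toMonoidHom : Set R')).subtype).codRestrict _ ?_) ?_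
    · intro x
      refine mem_centralizer_iff.2 fun b hb => e.injective ?_
      simp only [MonoidHom.coe_comp, MulEquiv.coe_toMonoidHom, Function.comp_apply, map_mul,
        MulEquiv.apply_symm_apply]
      exact mem_centralizer_iff.1 x.2 (e b) ⟨b, hb, rfl⟩
    · exact fun x y h => Subtype.ext (e.symm.injective (congrArg Subtype.val h))

/-- A normal `p`-subgroup containing the derived group. -/
theorem pCore_of_derived {A : Type*} [Group A] [Finite A] (h : IsPGroup p (_root_.commutator A)) :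
    _root_.commutator A ≤ Cfsg.pCore p A ∧ ((Cfsg.pCore p A).index).Coprime p := by
  have hle : _root_.commutator A ≤ Cfsg.pCore p A := CfsgLib.Core.le_pCore h
  refine ⟨hle, (hp.out.coprime_iff_not_dvd.2 fun hd => ?_).symm⟩
  set R := Cfsg.pCore p A
  obtain ⟨x, hx⟩ := exists_prime_orderOf_dvd_card' (G := A ⧸ R) p (by rwa [← index_eq_card])
  have hcomm : IsMulCommutative (A ⧸ R) := Subgroup.Normal.quotient_commutative_iff_commutator_le.mpr hle
  have hn : (zpowers x).Normal := ⟨fun y hy g => by rw [hcomm.is_comm.comm g y, mul_inv_cancel_right]; exact hy⟩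
  have hb := CfsgLib.Core.le_pCore (p := p) (IsPGroup.of_card (G := zpowers x) (n := 1)
    (by rw [Nat.card_zpowers, hx, pow_one]))
  have hq0 : Cfsg.pCore p (A ⧸ R) = ⊥ := CfsgLib.Core.pCore_quotient_pCore p A
  rw [hq0, le_bot_iff, zpowers_eq_bot] at hb
  rw [hb, orderOf_one] at hx
  exact hp.out.ne_one hx.symm

/-- In rank at least three, elements of order prime to `p` have order dividing `p - 1`. -/
theorem orderOf_dvd {R : Type u} [Group R] [Finite R] {A : Type*} [Group A] [Finite A] (hp2 : p ≠ 2)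
    (hR : IsPGroup p R) (hr : ¬ Cfsg.PRankLE p 2 R) {B : Subgroup R} (hB : Cfsg.IsElementaryAbelian p B)
    (hBr : Cfsg.PRankLE p 2 (centralizer (B : Set R)))
    (ψ : A →* MulAut R) (hψ : ∀ a, ψ a = 1 → (orderOf a).Coprime p → a = 1)
    (a : A) (ha : (orderOf a).Coprime p) : orderOf a ∣ p - 1 := by
  obtain ⟨E, hE, hE2, hEmax⟩ := NarrowAut.exists_maximal_sq hp2 hR hr hB hBr
  have hco : (orderOf (a ^ (p - 1))).Coprime p := ha.coprime_dvd_left (orderOf_pow_dvd _)
  refine orderOf_dvd_of_pow_eq_one (hψ _ ?_ hco)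
  refine NarrowAut.fixes_of_maximal_sq hp2 hR hr hE hE2 hEmax ψ _
    (hco.coprime_dvd_left (orderOf_map_dvd ψ _)) fun V _ hV χ => ?_
  have : IsCyclic V := isCyclic_of_prime_card (p := p) hV
  have : Finite V := Nat.finite_of_card_ne_zero (hV ▸ hp.out.ne_zero)
  have h1 := orderOf_dvd_natCard (χ a)
  rw [IsCyclic.card_mulAut, hV, Nat.totient_prime hp.out] at h1
  rw [map_pow, ← orderOf_dvd_iff_pow_eq_one]
  exact h1

/-- Prime order operators not dividing `p(p-1)` in rank two. -/
theorem two_mul_dvd {R : Type u} [Group R] [Finite R] (hp2 : p ≠ 2) (hR : IsPGroup p R)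
    (hr : Cfsg.PRankLE p 2 R) {q : ℕ} (hq : q.Prime) (hq2 : q ≠ 2) (hqd : ¬ q ∣ p * (p - 1))
    (a : MulAut R) (ha : orderOf a = q) : 2 * q ∣ p + 1 := by
  have hqp : q ≠ p := fun h => hqd (dvd_mul_of_dvd_left (h ▸ dvd_rfl) _)
  obtain ⟨S, Z, hZn, hSc, hZc, hcm, hexp, hcard, hfaith⟩ := RankTwoAut.exists_small_section hp2 hR hr
  let ρ : MulAut R →* MulAut S :=
    { toFun := fun φ => ((φ : R ≃* R).subgroupMap S).trans
        (MulEquiv.subgroupCongr (characteristic_iff_map_eq.1 hSc φ))
      map_one' := rfl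
      map_mul' := fun φ φ' => rfl }
  let σ : MulAut S →* MulAut (S ⧸ Z) :=
    { toFun := fun φ => QuotientGroup.congr Z Z φ (characteristic_iff_map_eq.1 hZc φ)
      map_one' := by ext v; obtain ⟨x, rfl⟩ := QuotientGroup.mk_surjective v; rfl
      map_mul' := fun φ φ' => by ext v; obtain ⟨x, rfl⟩ := QuotientGroup.mk_surjective v; rfl }
  have hord : orderOf (σ (ρ a)) = q := by
    rcases (Nat.dvd_prime hq).1 (ha ▸ (orderOf_map_dvd σ (ρ a)).trans (orderOf_map_dvd ρ a)) with h | h
    · exfalso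
      rw [orderOf_eq_one_iff] at h
      have h1 := hfaith a (by rw [ha]; exact (Nat.coprime_primes hq hp.out).2 hqp) fun x => by
        have h2 : (QuotientGroup.mk (ρ a x) : S ⧸ Z) = QuotientGroup.mk x :=
          DFunLike.congr_fun h (QuotientGroup.mk x)
        refine ⟨x⁻¹ * ρ a x, QuotientGroup.eq.1 h2.symm, ?_⟩
        show a (x : R) = (x : R) * ((x : R)⁻¹ * a (x : R))
        rw [mul_inv_cancel_left]
      rw [h1, orderOf_one] at ha
      exact hq.ne_one ha.symm
    · exact h
  let : CommGroup (S ⧸ Z) := { (inferInstance : Group (S ⧸ Z)) with mul_comm := hcm.is_comm.comm }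
  obtain ⟨k, hk⟩ := IsPGroup.iff_card.1 ((hR.to_subgroup S).to_quotient Z)
  have hk2 : k ≤ 2 := (Nat.pow_le_pow_iff_right hp.out.one_lt).1 (hk ▸ hcard)
  rcases (show k ≤ 1 ∨ k = 2 by omega) with hk1 | rfl
  · exfalso
    have : IsCyclic (S ⧸ Z) := by
      rcases (show k = 0 ∨ k = 1 by omega) with rfl | rfl
      · have := (Nat.card_eq_one_iff_unique.1 (by simpa using hk)).1
        exact isCyclic_of_subsingleton
      · exact isCyclic_of_prime_card (p := p) (by simpa using hk)
    have h1 := orderOf_dvd_natCard (σ (ρ a))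
    rw [hord, IsCyclic.card_mulAut, hk] at h1
    exact hq.ne_one ((PrimeActionRankTwo.totient_coprime hq hqd k).eq_one_of_dvd h1)
  · obtain ⟨χ, hχ⟩ := RankTwoAut.exists_hom_GL hexp hk
    have hd := orderOf_dvd_natCard (χ (σ (ρ a)))
    rw [orderOf_injective χ hχ, hord, Matrix.card_GL_field, ZMod.card, Fin.prod_univ_two] at hd
    simp only [Fin.val_zero, pow_zero, Fin.val_one, pow_one] at hd
    have h3 := hp.out.two_le
    have e1 : p ^ 2 - 1 = (p + 1) * (p - 1) := by rw [← Nat.sq_sub_sq, one_pow]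
    have e2 : p ^ 2 - p = p * (p - 1) := by rw [pow_two, Nat.mul_sub, mul_one]
    rw [e1, e2] at hd
    have hq1 : q ∣ p + 1 := by
      rcases (Nat.Prime.dvd_mul hq).1 hd with h | h
      · rcases (Nat.Prime.dvd_mul hq).1 h with h | h
        · exact h
        · exact absurd (dvd_mul_of_dvd_right h _) hqd
      · exact absurd h hqd
    exact ((Nat.coprime_primes Nat.prime_two hq).2 (Ne.symm hq2)).mul_dvd_of_dvd_of_dvd
      (Nat.dvd_of_mod_eq_zero (by have := Nat.odd_iff.1 (hp.out.odd_of_ne_two hp2); omega)) hq1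

end CfsgLib.OddLocal.NarrowCases
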