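import Mathlib.GroupTheory.Abelianization.Defs
import Cfsg.Prelude.Def_Local
import Cfsg.Agent.Lib.Core.Cores
import Cfsg.Agent.Lib.Core.Basic
import Cfsg.Agent.Lib.Core.SchurZassenhaus
import Cfsg.Agent.Lib.OddLocal.Coprime

/-!
Supplements of coprime normal subgroups, and groups of `p`-length at most one.
-/

set_option autoImplicit false

namespace CfsgLib.OddLocal

open Subgroup
open scoped Pointwise commutatorElement

variable {G : Type*} [Group G]

theorem exists_decomp_of_sup_eq_top {K U : Subgroup G} [K.Normal] (h : K ⊔ U = ⊤) (g : G) :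
    ∃ k ∈ K, ∃ u ∈ U, g = k * u := by
  obtain ⟨k, hk, u, hu, h'⟩ := (Subgroup.mem_sup_of_normal_left).mp (h ▸ Subgroup.mem_top g : g ∈ K ⊔ U)
  exact ⟨k, hk, u, hu, h'.symm⟩

theorem centralizes_of_normal_disjoint {K H : Subgroup G} [K.Normal] (hd : K ⊓ H = ⊥) {c : G} (hc : c ∈ K)
    (hN : c ∈ Subgroup.normalizer (H : Set G)) : c ∈ Subgroup.centralizer (H : Set G) := by
  rw [Subgroup.mem_centralizer_iff]
  intro h hh
  have h1 : ⁅h, c⁆ ∈ K ⊓ H := by
    refine Subgroup.mem_inf.mpr ⟨?_, ?_⟩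
    · rw [commutatorElement_def]
      exact mul_mem (Subgroup.Normal.conj_mem inferInstance c hc h) (inv_mem hc)
    · rw [commutatorElement_def, mul_assoc, mul_assoc, ← mul_assoc c]
      exact mul_mem hh (conj_mem_of_normalizes hN (inv_mem hh))
  rw [hd, Subgroup.mem_bot, commutatorElement_eq_one_iff_mul_comm] at h1
  exact h1

theorem mem_normalizer_inf {H L : Subgroup G} {g : G} (h1 : g ∈ Subgroup.normalizer (H : Set G))
    (h2 : g ∈ Subgroup.normalizer (L : Set G)) : g ∈ Subgroup.normalizer ((H ⊓ L : Subgroup G) : Set G) := by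
  rw [Subgroup.mem_normalizer_iff]
  intro x
  simp only [Subgroup.mem_inf]
  exact and_congr (Subgroup.mem_normalizer_iff.mp h1 x) (Subgroup.mem_normalizer_iff.mp h2 x)

theorem inf_eq_bot_of_coprime_card {H K : Subgroup G} (h : (Nat.card H).Coprime (Nat.card K)) :
    H ⊓ K = ⊥ := by
  rw [Subgroup.eq_bot_iff_forall]
  exact fun x hx => eq_one_of_pow_eq_one_coprime (pow_card_eq_one_of_mem (Subgroup.mem_inf.mp hx).1)
    (pow_card_eq_one_of_mem (Subgroup.mem_inf.mp hx).2) h

/-- Conjugation inside a supplement of a coprime normal subgroup. -/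
theorem supplement_fusion [Finite G] [Group.IsSolvable G] {K U H : Subgroup G} [K.Normal] (hKU : K ⊔ U = ⊤)
    (hH : H ≤ U) (hcop : (Nat.card H).Coprime (Nat.card K)) {g : G}
    (hg : ∀ h ∈ H, g * h * g⁻¹ ∈ U) :
    ∃ u ∈ U, ∃ c ∈ K ⊓ Subgroup.centralizer (H : Set G), g = u * c := by
  obtain ⟨k, hk, u, hu, hgk⟩ := exists_decomp_of_sup_eq_top hKU g⁻¹
  have hg' : g = u⁻¹ * k⁻¹ := by rw [← mul_inv_rev, ← hgk, inv_inv]
  set K0 := K ⊓ U
  have hK0U : U ≤ Subgroup.normalizer (K0 : Set G) := fun v hv =>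
    mem_normalizer_inf (by rw [Subgroup.normalizer_eq_top]; exact Subgroup.mem_top v) (Subgroup.le_normalizer hv)
  have hcop0 : (Nat.card H).Coprime (Nat.card K0) := hcop.coprime_dvd_right (Subgroup.card_dvd_of_le inf_le_left)
  -- the conjugate of `H` by `k⁻¹` is a complement in `K0 ⊔ H`
  have hle : H.map (MulAut.conj k⁻¹).toMonoidHom ≤ H ⊔ K0 := by
    rintro _ ⟨h, hh, rfl⟩
    have h1 : k⁻¹ * h * k⁻¹⁻¹ ∈ U := by
      have := mul_mem (mul_mem hu (hg h hh)) (inv_mem hu)
      rw [hg'] at this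
      simpa [mul_assoc] using this
    have h2 : h⁻¹ * (k⁻¹ * h * k⁻¹⁻¹) ∈ K0 := by
      refine Subgroup.mem_inf.mpr ⟨?_, mul_mem (inv_mem (hH hh)) h1⟩
      have := mul_mem (Subgroup.Normal.conj_mem inferInstance k⁻¹ (inv_mem hk) h⁻¹) hk
      simpa [mul_assoc] using this
    have := mul_mem (Subgroup.mem_sup_left (T := K0) hh) (Subgroup.mem_sup_right (S := H) h2)
    simpa using this
  obtain ⟨n, hn, hnH⟩ := CfsgLib.Core.exists_conj_eq_of_coprime (N := K0) (hH.trans hK0U) hle
    (by rw [← CfsgLib.Core.conj_smul_eq_map, CfsgLib.Core.card_conj_smul]) hcop0 (Or.inl inferInstance)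
  have hnorm : n⁻¹ * k⁻¹ ∈ Subgroup.normalizer (H : Set G) := by
    rw [CfsgLib.Core.mem_normalizer_iff_conj_smul_eq, ← CfsgLib.Core.conj_smul_conj_smul,
      CfsgLib.Core.conj_inv_smul_eq_iff, hnH, CfsgLib.Core.conj_smul_eq_map]
  have hnk : n⁻¹ * k⁻¹ ∈ K := mul_mem (inv_mem (Subgroup.mem_inf.mp hn).1) (inv_mem hk)
  refine ⟨u⁻¹ * n, mul_mem (inv_mem hu) (Subgroup.mem_inf.mp hn).2, n⁻¹ * k⁻¹,
    Subgroup.mem_inf.mpr ⟨hnk, centralizes_of_normal_disjoint (by rw [inf_comm]; exact inf_eq_bot_of_coprime_card hcop) hnk hnorm⟩, ?_⟩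
  rw [hg']; group

theorem supplement_normalizer [Finite G] [Group.IsSolvable G] {K U H : Subgroup G} [K.Normal] (hKU : K ⊔ U = ⊤)
    (hH : H ≤ U) (hcop : (Nat.card H).Coprime (Nat.card K)) :
    Subgroup.normalizer (H : Set G) = (K ⊓ Subgroup.centralizer (H : Set G)) ⊔ (U ⊓ Subgroup.normalizer (H : Set G)) := by
  refine le_antisymm (fun g hg => ?_) (sup_le (inf_le_right.trans (Subgroup.centralizer_le_normalizer _)) inf_le_right)
  obtain ⟨u, hu, c, hc, rfl⟩ := supplement_fusion hKU hH hcop (g := g) fun h hh => hH (conj_mem_of_normalizes hg hh)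
  have hc' : c ∈ Subgroup.normalizer (H : Set G) := Subgroup.centralizer_le_normalizer _ (Subgroup.mem_inf.mp hc).2
  exact mul_mem (Subgroup.mem_sup_right (Subgroup.mem_inf.mpr ⟨hu, by simpa using mul_mem hg (inv_mem hc')⟩))
    (Subgroup.mem_sup_left hc)

theorem supplement_focal {K U H : Subgroup G} [K.Normal] (hKU : K ⊔ U = ⊤)
    (hH : H ≤ U) (hcop : (Nat.card H).Coprime (Nat.card K)) :
    H ⊓ commutator G = H ⊓ ⁅U, U⁆ := by
  refine le_antisymm ?_ (inf_le_inf_left _ (by rw [_root_.commutator_def]; exact Subgroup.commutator_mono le_top le_top))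
  intro h hh
  obtain ⟨hhH, hhG⟩ := Subgroup.mem_inf.mp hh
  refine Subgroup.mem_inf.mpr ⟨hhH, ?_⟩
  -- `G' ≤ U' K`
  have hmap : U.map (QuotientGroup.mk' K) = ⊤ := by
    rw [← (Subgroup.comap_injective (QuotientGroup.mk'_surjective K)).eq_iff, Subgroup.comap_map_eq,
      QuotientGroup.ker_mk', Subgroup.comap_top, sup_comm, hKU]
  have h1 : QuotientGroup.mk' K h ∈ (⁅U, U⁆).map (QuotientGroup.mk' K) := by
    rw [Subgroup.map_commutator, hmap]
    have := Subgroup.mem_map_of_mem (QuotientGroup.mk' K) hhG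
    rw [_root_.commutator_def, Subgroup.map_commutator] at this
    exact Subgroup.commutator_mono le_top le_top this
  obtain ⟨a, ha, hah⟩ := h1
  set A := (⁅U, U⁆.subgroupOf U)
  have hUle : ⁅U, U⁆ ≤ U := by
    rw [Subgroup.commutator_le]
    intro x hx y hy
    exact mul_mem (mul_mem (mul_mem hx hy) (inv_mem hx)) (inv_mem hy)
  have : A.Normal := Subgroup.normal_subgroupOf_of_le_normalizer (Subgroup.normalizer_commutator_ge_left U U)
  have hw : a⁻¹ * h ∈ K := (QuotientGroup.eq).mp hah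
  have hwU : a⁻¹ * h ∈ U := mul_mem (inv_mem (hUle ha)) (hH hhH)
  have hq : (QuotientGroup.mk' A) ⟨h, hH hhH⟩ = (QuotientGroup.mk' A) ⟨a⁻¹ * h, hwU⟩ := by
    refine QuotientGroup.eq.mpr ?_
    rw [Subgroup.mem_subgroupOf]
    show h⁻¹ * (a⁻¹ * h) ∈ ⁅U, U⁆
    have := conj_mem_of_normalizes (Subgroup.normalizer_commutator_ge_left U U (inv_mem (hH hhH))) (inv_mem ha)
    simpa [mul_assoc] using this
  have e1 : (QuotientGroup.mk' A ⟨h, hH hhH⟩) ^ Nat.card H = 1 := by
    rw [← map_pow]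
    have : (⟨h, hH hhH⟩ : U) ^ Nat.card H = 1 := Subtype.ext (by simpa using pow_card_eq_one_of_mem hhH)
    rw [this, map_one]
  have e2 : (QuotientGroup.mk' A ⟨h, hH hhH⟩) ^ Nat.card K = 1 := by
    rw [hq, ← map_pow]
    have : (⟨a⁻¹ * h, hwU⟩ : U) ^ Nat.card K = 1 := Subtype.ext (by simpa using pow_card_eq_one_of_mem hw)
    rw [this, map_one]
  have := (QuotientGroup.eq_one_iff _).mp (eq_one_of_pow_eq_one_coprime e1 e2 hcop)
  exact this

theorem upperPSeries_one (p : ℕ) [Finite G] :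
    (Cfsg.upperPSeries p G (0 + 1)).1 = Cfsg.pPrimeCore p G := by
  have h0 : Function.Bijective (QuotientGroup.mk' (⊥ : Subgroup G)) := by
    refine ⟨?_, QuotientGroup.mk'_surjective _⟩
    rw [← MonoidHom.ker_eq_bot_iff, QuotientGroup.ker_mk']
  have he : (Cfsg.pPrimeCore p G).map (MulEquiv.ofBijective _ h0).toMonoidHom = Cfsg.pPrimeCore p (G ⧸ (⊥ : Subgroup G)) :=
    CfsgLib.Core.map_equiv_pPrimeCore _
  show (Cfsg.pPrimeCore p (G ⧸ (⊥ : Subgroup G))).comap (QuotientGroup.mk' (⊥ : Subgroup G)) = _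
  rw [← he]
  exact Subgroup.comap_map_eq_self_of_injective h0.1 _

/-- In a group of `p`-length at most one the image of a Sylow subgroup in `G / O_{p'}(G)` is normal, and so
`G = O_{p'}(G) N_G(S)`. -/
theorem pLengthOne_sylow [Finite G] {p : ℕ} [hp : Fact p.Prime] (hpl : Cfsg.PLengthLE p 1 G) (S : Sylow p G) :
    (Cfsg.pPrimeCore p G ⊔ (S : Subgroup G)).Normal ∧
      Cfsg.pPrimeCore p G ⊔ Subgroup.normalizer ((S : Subgroup G) : Set G) = ⊤ := by
  set U1 := (Cfsg.upperPSeries p G (0 + 1)).1 with hU1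
  set V : Subgroup G := (Cfsg.pCore p (G ⧸ U1)).comap (QuotientGroup.mk' U1) with hV
  have hVn : V.Normal := inferInstance
  have hV' : (Cfsg.pPrimeCore p (G ⧸ V)).comap (QuotientGroup.mk' V) = ⊤ := hpl
  have hidx : ¬ p ∣ V.index := by
    have h1 : Cfsg.pPrimeCore p (G ⧸ V) = ⊤ :=
      Subgroup.comap_injective (QuotientGroup.mk'_surjective V) (by rw [hV', Subgroup.comap_top])
    have h2 := CfsgLib.Core.coprime_card_pPrimeCore p (G ⧸ V)
    rw [h1, Subgroup.card_top, ← Subgroup.index_eq_card] at h2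
    exact (hp.out.coprime_iff_not_dvd).mp h2.symm
  have hSV : (S : Subgroup G) ≤ V := by
    intro x hx
    rw [← QuotientGroup.eq_one_iff (N := V)]
    obtain ⟨k, hk⟩ := S.isPGroup' ⟨x, hx⟩
    apply eq_one_of_pow_eq_one_coprime (m := p ^ k) (n := V.index) ?_ ?_
      ((hp.out.coprime_iff_not_dvd.mpr hidx).pow_left k)
    · rw [← QuotientGroup.mk_pow]
      have : x ^ p ^ k = 1 := by simpa using congrArg Subtype.val hk
      rw [this, QuotientGroup.mk_one]
    · rw [Subgroup.index_eq_card]; exact pow_card_eq_one'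
  have hmap : (S : Subgroup G).map (QuotientGroup.mk' U1) = Cfsg.pCore p (G ⧸ U1) := by
    let S' : Sylow p (G ⧸ U1) := S.mapSurjective (QuotientGroup.mk'_surjective U1)
    have h1 : (S : Subgroup G).map (QuotientGroup.mk' U1) ≤ Cfsg.pCore p (G ⧸ U1) := by
      rw [Subgroup.map_le_iff_le_comap]; exact hSV
    exact (S'.is_maximal' (CfsgLib.Core.isPGroup_pCore p _) h1).symm
  have hN : (Cfsg.pPrimeCore p G ⊔ (S : Subgroup G)) = V := by
    rw [hV, ← hmap, Subgroup.comap_map_eq, QuotientGroup.ker_mk', hU1, upperPSeries_one, sup_comm]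
  refine ⟨hN ▸ hVn, ?_⟩
  have h3 := Sylow.normalizer_sup_eq_top' (N := V) S hSV
  rw [← hN] at h3
  rw [eq_top_iff, ← h3]
  exact sup_le le_sup_right (sup_le le_sup_left (Subgroup.le_normalizer.trans le_sup_right))

theorem coprime_card_sylow_pPrimeCore [Finite G] {p : ℕ} [hp : Fact p.Prime] {H : Subgroup G} (hH : IsPGroup p H) :
    (Nat.card H).Coprime (Nat.card (Cfsg.pPrimeCore p G)) := by
  obtain ⟨k, hk⟩ := IsPGroup.iff_card.mp hH
  rw [hk]
  exact (CfsgLib.Core.coprime_card_pPrimeCore p G).symm.pow_left k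

/-- With `T` the image of a Sylow subgroup in `G / O_{p'}(G)` (normal there), `C(T) ≤ T`: stated for
`p'`-elements. -/
theorem eq_one_of_centralizes_pCore_complement [Finite G] {p : ℕ} [hp : Fact p.Prime]
    (hpl : Cfsg.PLengthLE p 1 G) (S : Sylow p G) {x : G ⧸ Cfsg.pPrimeCore p G}
    (hx : x ∈ Subgroup.centralizer
      (((S : Subgroup G).map (QuotientGroup.mk' (Cfsg.pPrimeCore p G)) : Subgroup _) : Set (G ⧸ Cfsg.pPrimeCore p G)))
    {n : ℕ} (hn : x ^ n = 1) (hcop : n.Coprime p) : x = 1 := by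
  let T : Sylow p (G ⧸ Cfsg.pPrimeCore p G) := S.mapSurjective (QuotientGroup.mk'_surjective (Cfsg.pPrimeCore p G))
  have hTc : (T : Subgroup (G ⧸ Cfsg.pPrimeCore p G)) = (S : Subgroup G).map (QuotientGroup.mk' (Cfsg.pPrimeCore p G)) := rfl
  have hTn : (T : Subgroup (G ⧸ Cfsg.pPrimeCore p G)).Normal := by
    have h1 := (pLengthOne_sylow hpl S).1.map (QuotientGroup.mk' (Cfsg.pPrimeCore p G)) (QuotientGroup.mk'_surjective (Cfsg.pPrimeCore p G))
    rwa [Subgroup.map_sup, (Subgroup.map_eq_bot_iff (Cfsg.pPrimeCore p G)).mpr (QuotientGroup.ker_mk' (Cfsg.pPrimeCore p G)).ge, bot_sup_eq] at h1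
  set C := Subgroup.centralizer ((T : Subgroup (G ⧸ Cfsg.pPrimeCore p G)) : Set (G ⧸ Cfsg.pPrimeCore p G)) with hC
  have hxC : x ∈ C := hx
  set Z := (T : Subgroup (G ⧸ Cfsg.pPrimeCore p G)).subgroupOf C with hZ
  have hZn : Z.Normal := inferInstance
  have hZcop : (Nat.card Z).Coprime Z.index := by
    obtain ⟨k, hk⟩ := IsPGroup.iff_card.mp (T.isPGroup'.comap_subtype (K := C))
    refine (show Nat.card Z = p ^ k from hk) ▸ Nat.Coprime.pow_left k ((hp.out.coprime_iff_not_dvd).mpr fun h => ?_)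
    exact T.not_dvd_index (h.trans (Subgroup.relIndex_dvd_index_of_normal (T : Subgroup (G ⧸ Cfsg.pPrimeCore p G)) C))
  obtain ⟨R, hR⟩ := Subgroup.exists_right_complement'_of_coprime hZcop
  have hcent : ∀ z ∈ Z, ∀ c : C, z * c = c * z := fun z hz c =>
    Subtype.ext (Subgroup.mem_centralizer_iff.mp c.2 z hz)
  have hRchar : ∀ y : C, y ^ Nat.card R = 1 ↔ y ∈ R := by
    intro y
    refine ⟨fun hy => ?_, fun hy => pow_card_eq_one_of_mem hy⟩
    obtain ⟨⟨⟨z, hz⟩, ⟨r, hr⟩⟩, rfl⟩ := hR.2 y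
    rw [(show Commute z r from hcent z hz r).mul_pow, pow_card_eq_one_of_mem hr, mul_one] at hy
    have hz1 := eq_one_of_pow_eq_one_coprime (pow_card_eq_one_of_mem hz) hy (by rwa [← hR.symm.index_eq_card])
    simpa [hz1] using hr
  have hRn : (R.map C.subtype).Normal := by
    refine ⟨fun y hy g => ?_⟩
    obtain ⟨r, hr, rfl⟩ := hy
    have hmem : g * (r : (G ⧸ Cfsg.pPrimeCore p G)) * g⁻¹ ∈ C := Subgroup.Normal.conj_mem inferInstance _ r.2 g
    refine ⟨⟨_, hmem⟩, (hRchar _).mp (Subtype.ext ?_), rfl⟩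
    have := congrArg Subtype.val ((hRchar r).mpr hr)
    simp only [SubmonoidClass.coe_pow, OneMemClass.coe_one] at this ⊢
    rw [conj_pow, this]; group
  have hRcard : (Nat.card (R.map C.subtype)).Coprime p := by
    rw [← Nat.card_congr (R.equivMapOfInjective _ C.subtype_injective).toEquiv, ← hR.symm.index_eq_card,
      Nat.coprime_comm, hp.out.coprime_iff_not_dvd]
    exact fun h => T.not_dvd_index (h.trans (Subgroup.relIndex_dvd_index_of_normal (T : Subgroup (G ⧸ Cfsg.pPrimeCore p G)) C))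
  have hRle := CfsgLib.Core.le_pPrimeCore (p := p) hRcard
  rw [CfsgLib.Core.pPrimeCore_quotient_pPrimeCore] at hRle
  obtain ⟨⟨⟨z, hz⟩, ⟨r, hr⟩⟩, hzr⟩ := hR.2 ⟨x, hxC⟩
  have hr1 : r = 1 := Subtype.ext (Subgroup.mem_bot.mp (hRle (Subgroup.mem_map_of_mem C.subtype hr)))
  have hxT : x ∈ (T : Subgroup (G ⧸ Cfsg.pPrimeCore p G)) := by
    have := congrArg Subtype.val hzr
    simp only [hr1, mul_one] at this
    exact this ▸ hz
  obtain ⟨k, hk⟩ := T.isPGroup' ⟨x, hxT⟩
  exact eq_one_of_pow_eq_one_coprime hn (by simpa using congrArg Subtype.val hk) (hcop.pow_right k)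

/-- `E` maximal elementary abelian, `p` odd, `p`-length one: `E`-invariant `p'`-subgroups lie in `O_{p'}`. -/
theorem maximal_elementary_controls [Finite G] {p : ℕ} [hp : Fact p.Prime] (hp2 : p ≠ 2)
    (hpl : Cfsg.PLengthLE p 1 G) {E L : Subgroup G} (hE : Cfsg.IsElementaryAbelian p E)
    (hEmax : ∀ B : Subgroup G, Cfsg.IsElementaryAbelian p B → E ≤ B → B = E) (hL : (Nat.card L).Coprime p)
    (hEL : E ≤ Subgroup.normalizer (L : Set G)) : L ≤ Cfsg.pPrimeCore p G := by
  have hEp : IsPGroup p E := fun x => ⟨1, by simpa using Subtype.ext (hE.2 x x.2)⟩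
  obtain ⟨S, hES⟩ := hEp.exists_le_sylow
  obtain ⟨hSn, -⟩ := pLengthOne_sylow hpl S
  set K := Cfsg.pPrimeCore p G
  set f := QuotientGroup.mk' K with hf
  have hs : Function.Surjective f := QuotientGroup.mk'_surjective K
  have hker : f.ker = K := QuotientGroup.ker_mk' K
  have hSK : ∀ x ∈ (S : Subgroup G), f x = 1 → x = 1 := by
    intro x hx hfx
    have hxK : x ∈ K := by rw [← hker]; exact hfx
    exact eq_one_of_pow_eq_one_coprime (pow_card_eq_one_of_mem hx) (pow_card_eq_one_of_mem hxK)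
      (coprime_card_sylow_pPrimeCore S.isPGroup')
  set T := (S : Subgroup G).map f with hT
  have hTp : IsPGroup p T := S.isPGroup'.map f
  have hTn : T.Normal := by
    have : T = (K ⊔ (S : Subgroup G)).map f := by
      rw [hT, Subgroup.map_sup, (Subgroup.map_eq_bot_iff K).mpr hker.ge, bot_sup_eq]
    rw [this]; exact hSn.map f hs
  set L' := L.map f with hL'
  have hL'cop : (Nat.card L').Coprime p := hL.coprime_dvd_left (Subgroup.card_map_dvd L f)
  have hL'T : L' ⊓ T = ⊥ := by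
    apply inf_eq_bot_of_coprime_card
    obtain ⟨k, hk⟩ := IsPGroup.iff_card.mp hTp
    rw [hk]; exact hL'cop.pow_right k
  have hEcent : ∀ e ∈ E, ∀ l ∈ L, Commute (f l) (f e) := by
    intro e he l hl
    rw [← commutatorElement_eq_one_iff_commute, ← Subgroup.mem_bot, ← hL'T, Subgroup.mem_inf]
    constructor
    · rw [← map_commutatorElement, commutatorElement_def]
      refine Subgroup.mem_map_of_mem f ?_
      rw [mul_assoc, mul_assoc, ← mul_assoc e]
      exact mul_mem hl (conj_mem_of_normalizes (hEL he) (inv_mem hl))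
    · rw [commutatorElement_def]
      have h1 : f e ∈ T := Subgroup.mem_map_of_mem f (hES he)
      exact mul_mem (Subgroup.Normal.conj_mem inferInstance _ h1 (f l)) (inv_mem h1)
  have hcent : L' ≤ Subgroup.centralizer (T : Set (G ⧸ K)) := by
    have hTcop : (Nat.card L').Coprime (Nat.card T) := by
      obtain ⟨k, hk⟩ := IsPGroup.iff_card.mp hTp
      rw [hk]; exact hL'cop.pow_right k
    have hEL' : E.map f ≤ T ⊓ Subgroup.centralizer (L' : Set (G ⧸ K)) := by
      rintro _ ⟨e, he, rfl⟩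
      refine Subgroup.mem_inf.mpr ⟨Subgroup.mem_map_of_mem f (hES he), Subgroup.mem_centralizer_iff.mpr ?_⟩
      rintro _ ⟨l, hl, rfl⟩
      exact (hEcent e he l hl).eq
    refine centralizes_of_selfcentralizing_fixed hTp.isNilpotent
      (by rw [Subgroup.normalizer_eq_top]; exact le_top) hTcop ?_
    refine le_inf inf_le_left ((inf_le_inf_left _ (Subgroup.centralizer_le hEL')).trans ?_)
    -- `L'` centralises every element of order `p` of `C_T(E)`, hence all of `C_T(E)`
    rw [Subgroup.le_centralizer_iff]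
    intro l hl
    have hlE : l ∈ Subgroup.centralizer ((E.map f : Subgroup (G ⧸ K)) : Set (G ⧸ K)) :=
      Subgroup.le_centralizer_iff.mp (hEL'.trans inf_le_right) hl
    refine centralizes_of_fixes_order_p hp2 (pow_card_eq_one_of_mem hl) hL'cop (hTp.to_le inf_le_left) ?_ ?_
    · exact mem_normalizer_inf (by rw [Subgroup.normalizer_eq_top]; exact Subgroup.mem_top l)
        (Subgroup.le_normalizer hlE)
    · intro x hx hxp
      obtain ⟨hxT, hxC⟩ := Subgroup.mem_inf.mp hx
      obtain ⟨s, hs', rfl⟩ := hxT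
      have hsE : s ∈ E := by
        have hsp : s ^ p = 1 := hSK _ (pow_mem hs' p) (by rw [map_pow]; exact orderOf_dvd_iff_pow_eq_one.mp hxp.dvd)
        have hsc : ∀ e ∈ E, s * e = e * s := by
          intro e he
          have h1 : f ⁅s, e⁆ = 1 := by
            rw [map_commutatorElement, commutatorElement_eq_one_iff_mul_comm]
            exact (Subgroup.mem_centralizer_iff.mp hxC (f e) (Subgroup.mem_map_of_mem f he)).symm
          have h2 := hSK _ (mul_mem (mul_mem (mul_mem hs' (hES he)) (inv_mem hs')) (inv_mem (hES he))) h1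
          exact mul_inv_eq_iff_eq_mul.mp (mul_inv_eq_one.mp h2)
        have hB : Cfsg.IsElementaryAbelian p (E ⊔ Subgroup.zpowers s) := by
          have h1 : Subgroup.zpowers s ≤ Subgroup.centralizer (E : Set G) :=
            Subgroup.zpowers_le.mpr (mem_centralizer_of_commute hsc)
          refine ⟨?_, fun b hb => ?_⟩
          · rw [← Subgroup.le_centralizer_iff_isMulCommutative]
            have : IsMulCommutative E := hE.1
            refine sup_le ?_ ?_
            · rw [Subgroup.le_centralizer_iff]; exact sup_le (Subgroup.le_centralizer E) h1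
            · rw [Subgroup.le_centralizer_iff]
              exact sup_le (Subgroup.le_centralizer_iff.mp h1) (Subgroup.le_centralizer _)
          · obtain ⟨e, he, _, ⟨i, rfl⟩, rfl⟩ := (mem_sup_of_le_normalizer
              (h1.trans (Subgroup.centralizer_le_normalizer _))).mp hb
            show (e * s ^ i) ^ p = 1
            rw [(show Commute e s from (hsc e he).symm).zpow_right i |>.mul_pow, hE.2 e he, one_mul, ← zpow_natCast,
              ← zpow_mul, mul_comm, zpow_mul, zpow_natCast, hsp, one_zpow]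
        exact (hEmax _ hB le_sup_left).le (Subgroup.mem_sup_right (Subgroup.mem_zpowers s))
      exact (Subgroup.mem_centralizer_iff.mp hlE (f s) (Subgroup.mem_map_of_mem f hsE)).symm
  -- the centraliser of `T` has trivial `p'`-part
  intro l hl
  have hlC := hcent (Subgroup.mem_map_of_mem f hl)
  rw [← hker, MonoidHom.mem_ker]
  exact eq_one_of_centralizes_pCore_complement hpl S hlC (pow_card_eq_one_of_mem (Subgroup.mem_map_of_mem f hl)) hL'cop

end CfsgLib.OddLocal
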