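import Cfsg.Agent.Lib.OddLocal.SigmaCore
import Cfsg.Agent.Lib.OddLocal.CommutatorPLength
import Cfsg.Agent.Lib.OddLocal.NarrowOfMaximal
import Cfsg.Agent.Lib.TwoGroups.ProperPLength
import Cfsg.Agent.Lib.Transfer.PResidual
import Cfsg.Agent.Lib.Core.Hall
import Cfsg.Agent.S1455
import Mathlib.GroupTheory.Nilpotent

/-!
`M_β` and normal `p`-complements.
-/

set_option autoImplicit false

namespace CfsgLib.OddLocal.BetaCore

open Subgroup
open CfsgLib.TwoGroups

universe u

/-- The prime action lemma holds. -/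
theorem primeAction : ProperPLength.PrimeAction.{u} := by
  intro X _ _ hs hodd H R R₀ hn hHall hR hR₀ hR₀p hZ p hp
  have := Fact.mk hp
  have hcop : (Nat.card R).Coprime (Nat.card H) := by
    rw [← hR.symm.index_eq_card]; exact hHall.symm
  have hRH : R ≤ normalizer (H : Set X) := normalizer_eq_top H ▸ le_top
  have h : CommutatorPLength.Hyp H R R₀ := ⟨hs, hodd, hRH, hcop, hR₀, hR₀p, hZ⟩
  have hle : ⁅H, R⁆ ≤ H := CfsgLib.Core.commutator_le_of_normalizes hRH
  exact CommutatorPLength.main _ X ⁅H, R⁆ R R₀ le_rfl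
    (CommutatorPLength.hyp_of_le h hle (normalizer_commutator_ge_right H R))
    (CfsgLib.Core.commutator_commutator_eq hRH hcop (Or.inl inferInstance))

/-- With a normal `p`-complement the `p'`-subgroups lie in `O_{p'}`. -/
theorem le_pPrimeCore_of_complement {H : Type*} [Group H] [Finite H] {p : ℕ} [Fact p.Prime]
    (h : Cfsg.HasNormalPComplement p H) {L : Subgroup H} (hL : (Nat.card L).Coprime p) :
    L ≤ Cfsg.pPrimeCore p H := fun x hx =>
  CfsgLib.Core.le_pPrimeCore (Transfer.hasNormalPComplement_iff_coprime.mp h)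
    (Transfer.mem_pResidual_of_coprime (hL.coprime_dvd_left (orderOf_dvd_natCard L hx)))

/-- A group with all normal `p`-complements is nilpotent. -/
theorem isNilpotent_of_complements {H : Type*} [Group H] [Finite H]
    (h : ∀ q : ℕ, q.Prime → q ∣ Nat.card H → Cfsg.HasNormalPComplement q H) : Group.IsNilpotent H := by
  refine ((Group.isNilpotent_of_finite_tfae (G := H)).out 0 3).mpr fun p hp P => ?_
  have : Fact p.Prime := hp
  set N := ⨅ q : {q : ℕ // q.Prime ∧ q ∣ Nat.card H ∧ q ≠ p}, Cfsg.pPrimeCore q.1 H with hN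
  have hn : N.Normal := by
    refine normal_iInf_normal fun q => ?_
    infer_instance
  have hPN : (P : Subgroup H) ≤ N := le_iInf fun q => by
    have := Fact.mk q.2.1
    refine le_pPrimeCore_of_complement (h q.1 q.2.1 q.2.2.1) ?_
    obtain ⟨k, hk⟩ := IsPGroup.iff_card.1 P.2
    rw [hk]
    exact ((Nat.coprime_primes hp.out q.2.1).2 (Ne.symm q.2.2.2)).pow_left k
  have hNp : IsPGroup p N := by
    refine IsPGroup.of_card (n := (Nat.card N).primeFactorsList.length)
      (Nat.eq_prime_pow_of_unique_prime_dvd Nat.card_pos.ne' fun {d} hd hdN => ?_)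
    by_contra hne
    have hdH := hdN.trans (card_subgroup_dvd_card N)
    have := hdN.trans (card_dvd_of_le (iInf_le (fun q : {q : ℕ // q.Prime ∧ q ∣ Nat.card H ∧ q ≠ p} =>
      Cfsg.pPrimeCore q.1 H) ⟨d, hd, hdH, hne⟩))
    exact (hd.coprime_iff_not_dvd.1 (CfsgLib.Core.coprime_card_pPrimeCore d H).symm) this
  exact (P.3 hNp hPN) ▸ hn

variable {G : Type u} [Group G] [Finite G] {p : ℕ} [hp : Fact p.Prime] {M : Subgroup G}

theorem isNarrow_congr {R R' : Type*} [Group R] [Group R'] [Finite R] (e : R ≃* R') (hp2 : p ≠ 2)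
    (hR : IsPGroup p R) {E : Subgroup R} (hE : Cfsg.IsElementaryAbelian p E) (hE2 : Nat.card E = p ^ 2)
    (hEmax : ∀ B : Subgroup R, Cfsg.IsElementaryAbelian p B → E ≤ B → B = E) : Cfsg.IsNarrow p R' := by
  have : Finite R' := Finite.of_equiv R e.toEquiv
  refine NarrowOfMaximal.isNarrow_of_maximal_sq hp2 (hR.of_equiv e) (E := E.map e.toMonoidHom)
    ⟨by have := hE.1; exact map_isMulCommutative E _, ?_⟩
    (by rw [card_map_of_injective (K := E) (f := e.toMonoidHom) e.injective, hE2]) fun B hB hle => ?_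
  · rintro _ ⟨b, hb, rfl⟩
    rw [← map_pow, hE.2 b hb, map_one]
  · have h1 := hEmax (B.map e.symm.toMonoidHom) ⟨by have := hB.1; exact map_isMulCommutative B _, by
      rintro _ ⟨b, hb, rfl⟩
      rw [← map_pow, hB.2 b hb, map_one]⟩ fun x hx => ⟨e x, hle ⟨x, hx, rfl⟩, e.symm_apply_apply x⟩
    refine le_antisymm (fun x hx => ?_) hle
    exact ⟨e.symm x, h1 ▸ mem_map_of_mem _ hx, e.apply_symm_apply x⟩

/-- Primes outside `β(M)` have narrow Sylow subgroups. -/
theorem narrow_sylow (hG : Cfsg.IsMinSimpleOddOrder G) (hM : IsCoatom M)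
    (hp2 : p ≠ 2) (hpβ : p ∉ Cfsg.beta M) (P : Sylow p M) : Cfsg.IsNarrow p (P : Subgroup M) := by
  by_cases hr : Cfsg.PRankLE p 2 M
  · exact Or.inl (CfsgLib.PGroups.prankLE_of_injective hr (f := (P : Subgroup M).subtype) (subtype_injective _))
  have hα : p ∈ Cfsg.alpha M := ⟨hp.out, hr⟩
  have hnid : ¬ Cfsg.IsIdealPrime p G := fun h => hpβ ⟨hα, h⟩
  have hGr : ¬ Cfsg.PRankLE p 2 G := fun h =>
    hr (CfsgLib.PGroups.prankLE_of_injective h (f := M.subtype) M.subtype_injective)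
  simp only [Cfsg.IsIdealPrime, hp.out, hGr, not_false_eq_true, true_and] at hnid
  push Not at hnid
  obtain ⟨S, A, hAS, hA, hA2, hmax⟩ := hnid
  obtain ⟨S', hS'⟩ := SigmaTrans.sigma_sylow (SigmaTrans.alpha_subset_sigma hG hM hα) P
  let e : (S : Subgroup G) ≃* (P : Subgroup M) :=
    ((S.equiv S').trans (MulEquiv.subgroupCongr hS')).trans
      ((P : Subgroup M).equivMapOfInjective M.subtype M.subtype_injective).symm
  refine isNarrow_congr e hp2 S.2 (E := A.subgroupOf (S : Subgroup G))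
    ⟨?_, fun a ha => Subtype.ext (hA.2 _ ha)⟩ ?_ fun B hB hle => ?_
  · have := hA.1
    refine ⟨⟨fun a b => Subtype.ext (Subtype.ext ?_)⟩⟩
    have h := congrArg (fun x : A => (x : G))
      (this.is_comm.comm (⟨((a : (S : Subgroup G)) : G), a.2⟩ : A) ⟨((b : (S : Subgroup G)) : G), b.2⟩)
    exact h
  · rw [Nat.card_congr (subgroupOfEquivOfLe hAS).toEquiv, hA2]
  · by_contra hne
    refine hmax (B.map (S : Subgroup G).subtype) (map_subtype_le _) ⟨by have := hB.1; exact map_isMulCommutative B _, ?_⟩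
      (lt_of_le_of_ne (fun a ha => ⟨⟨a, hAS ha⟩, hle ha, rfl⟩) fun h => hne ?_)
    · rintro _ ⟨b, hb, rfl⟩
      rw [← map_pow, hB.2 b hb, map_one]
    · rw [h, subgroupOf, comap_map_eq_self_of_injective (subtype_injective _)]

/-- The consequences of a narrow Sylow subgroup for a prime outside `β(M)`. -/
theorem narrow_facts (hG : Cfsg.IsMinSimpleOddOrder G) (hM : IsCoatom M)
    (hpM : p ∣ Nat.card M) (hpβ : p ∉ Cfsg.beta M) :
    (∀ q : ℕ, q.Prime → q ∣ (Cfsg.pPrimeCore p ↥M).index → q ≤ p) ∧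
      Cfsg.HasNormalPComplement p ↥(_root_.commutator ↥M) ∧
      (∀ L : Subgroup ↥(_root_.commutator ↥M), (Nat.card L).Coprime p →
        L ≤ Cfsg.pPrimeCore p ↥(_root_.commutator ↥M)) := by
  have := hG.2.2.2 M hM.1
  have hodd : Odd (Nat.card M) := hG.1.of_dvd_nat M.card_subgroup_dvd_card
  have hp2 : p ≠ 2 := fun e => Nat.not_even_iff_odd.2 hodd (even_iff_two_dvd.2 (e ▸ hpM))
  obtain ⟨P⟩ : Nonempty (Sylow p M) := inferInstance
  obtain ⟨h1, -, h3, h4, -, -⟩ := Cfsg.Agent.S1455.result (G := ↥M) hodd p hpM P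
    (narrow_sylow hG hM hp2 hpβ P) fun _ => ProperPLength.maximal hG primeAction hM p
  exact ⟨h1, h3, h4⟩

theorem complement_derived (hG : Cfsg.IsMinSimpleOddOrder G) (hM : IsCoatom M)
    (hpβ : p ∉ Cfsg.beta M) : Cfsg.HasNormalPComplement p ↥⁅M, M⁆ := by
  have e : ↥(_root_.commutator ↥M) ≃* ↥⁅M, M⁆ :=
    ((_root_.commutator ↥M).equivMapOfInjective M.subtype M.subtype_injective).trans
      (MulEquiv.subgroupCongr (map_subtype_commutator M))
  refine Transfer.hasNormalPComplement_of_surjective e.toMonoidHom e.surjective ?_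
  by_cases hpM : p ∣ Nat.card M
  · exact (narrow_facts hG hM hpM hpβ).2.1
  · refine Transfer.hasNormalPComplement_of_coprime_pResidual (Nat.Coprime.coprime_dvd_left
      (card_subgroup_dvd_card _) (Nat.Coprime.coprime_dvd_left (card_subgroup_dvd_card _) ?_))
    exact ((Nat.Prime.coprime_iff_not_dvd hp.out).2 hpM).symm

theorem sigmaCore_le_derived (hG : Cfsg.IsMinSimpleOddOrder G) (hM : IsCoatom M) :
    Cfsg.sigmaCore M ≤ ⁅M, M⁆ := by
  rw [← map_subtype_commutator]
  refine map_mono ?_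
  suffices hi : ((_root_.commutator ↥M).subgroupOf (Cfsg.piCore (Cfsg.sigma M) ↥M)).index = 1 by
    rw [index_eq_one, subgroupOf_eq_top] at hi
    exact hi
  by_contra hne
  obtain ⟨q, hq, hd⟩ := Nat.exists_prime_and_dvd hne
  have := Fact.mk hq
  obtain ⟨T⟩ : Nonempty (Sylow q M) := inferInstance
  have hqσ := Components.piCore_isPiSubgroup (G := ↥M) (Cfsg.sigma M) q hq (hd.trans (index_dvd_card _))
  refine T.not_dvd_index ((hd.trans (relIndex_dvd_index_of_normal (_root_.commutator ↥M) _)).trans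
    (index_dvd_of_le fun y hy => ?_))
  have h2 := AlphaCore.sylow_le_derived hG hM hqσ T ⟨y, hy, rfl⟩
  rw [← map_subtype_commutator] at h2
  obtain ⟨z, hz, e⟩ := h2
  exact M.subtype_injective e ▸ hz

/-- Sylow subgroups for the primes in `β(M)` lie in `M_β`. -/
theorem sylow_le_betaCore (hG : Cfsg.IsMinSimpleOddOrder G) (hM : IsCoatom M)
    (hpβ : p ∈ Cfsg.beta M) (P : Sylow p M) : (P : Subgroup M) ≤ Cfsg.piCore (Cfsg.beta M) M := by
  set D := _root_.commutator ↥M with hD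
  set N := ⨅ q : {q : ℕ // q.Prime ∧ q ∣ Nat.card M ∧ q ∉ Cfsg.beta M}, (Cfsg.pPrimeCore q.1 D).map D.subtype
  have hPD : (P : Subgroup M) ≤ D := fun y hy => by
    have h2 := AlphaCore.sylow_le_derived hG hM (SigmaTrans.alpha_subset_sigma hG hM hpβ.1) P ⟨y, hy, rfl⟩
    rw [← map_subtype_commutator] at h2
    obtain ⟨z, hz, e⟩ := h2
    exact M.subtype_injective e ▸ hz
  have hn : N.Normal := normal_iInf_normal fun q =>
    inferInstance
  refine le_trans (le_iInf fun q => ?_) (Components.le_piCore hn fun r hr hd => ?_)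
  · have := Fact.mk q.2.1
    have h := (narrow_facts hG hM q.2.2.1 q.2.2.2).2.2 ((P : Subgroup M).subgroupOf D) ?_
    · rw [← map_subgroupOf_eq_of_le hPD]; exact map_mono h
    · rw [Nat.card_congr (subgroupOfEquivOfLe hPD).toEquiv]
      obtain ⟨k, hk⟩ := IsPGroup.iff_card.1 P.2
      rw [hk]
      exact ((Nat.coprime_primes hp.out q.2.1).2 fun e : p = q.1 => q.2.2.2 (e ▸ hpβ)).pow_left k
  · by_contra hrβ
    have hrM : r ∣ Nat.card M := hd.trans (card_subgroup_dvd_card N)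
    have h1 := hd.trans (card_dvd_of_le (iInf_le (fun q : {q : ℕ // q.Prime ∧ q ∣ Nat.card M ∧ q ∉ Cfsg.beta M} =>
      (Cfsg.pPrimeCore q.1 D).map D.subtype) ⟨r, hr, hrM, hrβ⟩))
    rw [card_map_of_injective D.subtype_injective] at h1
    exact hr.coprime_iff_not_dvd.1 (CfsgLib.Core.coprime_card_pPrimeCore r D).symm h1

/-- A nilpotent Hall `β(M)'`-subgroup in a subgroup with all the normal complements. -/
theorem exists_nilpotent_hall (hG : Cfsg.IsMinSimpleOddOrder G) (hM : IsCoatom M) (X : Subgroup G) (hX : X ≤ M)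
    (h : ∀ q : ℕ, q.Prime → q ∉ Cfsg.beta M → Cfsg.HasNormalPComplement q X) :
    ∃ H : Subgroup G, Cfsg.IsPiHallOf {q | q.Prime ∧ q ∉ Cfsg.beta M} H X ∧ Group.IsNilpotent H := by
  have := hG.2.2.2 M hM.1
  have : Group.IsSolvable X := CfsgLib.Core.isSolvable_of_le ‹_› hX
  obtain ⟨H, hH1, hH2⟩ := CfsgLib.Core.exists_piHall (G := X) {q | q.Prime ∧ q ∉ Cfsg.beta M}
  refine ⟨H.map X.subtype, ⟨map_subtype_le _, fun q hq hd => hH1 q hq ?_, fun q hq hqπ hd => hH2 q hq hqπ ?_⟩, ?_⟩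
  · rwa [card_map_of_injective X.subtype_injective] at hd
  · rwa [relIndex, subgroupOf, comap_map_eq_self_of_injective X.subtype_injective] at hd
  · have hnil : Group.IsNilpotent H := isNilpotent_of_complements fun q hq hd => by
      have := Fact.mk hq
      exact Transfer.hasNormalPComplement_subgroup (h q hq (hH1 q hq hd).2) H
    exact Group.nilpotent_of_mulEquiv (H.equivMapOfInjective X.subtype X.subtype_injective)

omit hp in
/-- S1414. -/
theorem betaCore_facts (hG : Cfsg.IsMinSimpleOddOrder G) (hM : IsCoatom M) :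
    Cfsg.IsPiHallOf (Cfsg.beta M) (Cfsg.piCoreOf (Cfsg.beta M) M) M ∧
      Cfsg.IsPiHall (Cfsg.beta M) (Cfsg.piCoreOf (Cfsg.beta M) M) ∧
      (∃ H : Subgroup G, Cfsg.IsPiHallOf {q | q.Prime ∧ q ∉ Cfsg.beta M} H ⁅M, M⁆ ∧ Group.IsNilpotent H) ∧
      (∃ H : Subgroup G, Cfsg.IsPiHallOf {q | q.Prime ∧ q ∉ Cfsg.beta M} H (Cfsg.sigmaCore M) ∧
        Group.IsNilpotent H) ∧
      ∀ p : ℕ, p.Prime → p ∣ Nat.card M → p ∉ Cfsg.beta M →
        Cfsg.HasNormalPComplement p ↥⁅M, M⁆ ∧ Cfsg.HasNormalPComplement p ↥(Cfsg.sigmaCore M) ∧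
        ∀ q : ℕ, q.Prime → q ∣ (Cfsg.pPrimeCore p ↥M).index → q ≤ p := by
  have hpi := Components.piCore_isPiSubgroup (G := ↥M) (Cfsg.beta M)
  have h1 : ∀ q : ℕ, q.Prime → q ∣ Nat.card (Cfsg.piCoreOf (Cfsg.beta M) M) → q ∈ Cfsg.beta M :=
    fun q hq hd => hpi q hq (by rwa [Cfsg.piCoreOf, card_map_of_injective M.subtype_injective] at hd)
  have hderM : ⁅M, M⁆ ≤ M := commutator_le_self M
  have hσ : ∀ q : ℕ, q.Prime → q ∉ Cfsg.beta M → Cfsg.HasNormalPComplement q ↥(Cfsg.sigmaCore M) := by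
    intro q hq hqβ
    have := Fact.mk hq
    exact Transfer.hasNormalPComplement_of_injective (inclusion (sigmaCore_le_derived hG hM))
      (inclusion_injective _) (complement_derived hG hM hqβ)
  refine ⟨⟨map_subtype_le _, h1, fun q hq hqβ hd => ?_⟩, ⟨h1, fun q hq hqβ hd => ?_⟩,
    exists_nilpotent_hall hG hM _ hderM fun q hq hqβ => ?_,
    exists_nilpotent_hall hG hM _ (map_subtype_le _) hσ, fun q hq hqM hqβ => ?_⟩
  · have := Fact.mk hq
    obtain ⟨P⟩ : Nonempty (Sylow q M) := inferInstance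
    rw [relIndex, Cfsg.piCoreOf, subgroupOf, comap_map_eq_self_of_injective M.subtype_injective] at hd
    exact P.not_dvd_index (hd.trans (index_dvd_of_le (sylow_le_betaCore hG hM hqβ P)))
  · have := Fact.mk hq
    obtain ⟨P⟩ : Nonempty (Sylow q M) := inferInstance
    obtain ⟨S, hS⟩ := SigmaTrans.sigma_sylow (SigmaTrans.alpha_subset_sigma hG hM hqβ.1) P
    refine S.not_dvd_index (hd.trans (index_dvd_of_le ?_))
    rw [hS]
    exact map_mono (sylow_le_betaCore hG hM hqβ P)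
  · have := Fact.mk hq
    exact complement_derived hG hM hqβ
  · have := Fact.mk hq
    exact ⟨complement_derived hG hM hqβ, hσ q hq hqβ, (narrow_facts hG hM hqM hqβ).1⟩

end CfsgLib.OddLocal.BetaCore
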