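import Mathlib.LinearAlgebra.Matrix.SpecialLinearGroup
import Cfsg.Agent.Lib.PLocal.SLTwo.PStableCrit
import Cfsg.Agent.Lib.PLocal.ZJ
import Cfsg.Agent.Lib.Core.SolvableStruct
import Cfsg.Prelude.Def_OddOrderLocal

/-!
`p`-stability and `p`-constraint of solvable groups of odd order.
-/

set_option autoImplicit false

namespace CfsgLib.OddLocal

open Subgroup

variable {G : Type*} [Group G] [Finite G]

/-- A group of odd order has no section `SL(2, p)`. -/
theorem noSL_of_odd (hodd : Odd (Nat.card G)) (p : ℕ) [hp : Fact p.Prime] :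
    CfsgLib.PLocal.SLTwo.NoSL p G := by
  intro h
  obtain ⟨K, π, -, hπ⟩ := CfsgLib.PLocal.SLTwo.exists_hom_of_hasSLTwo h
  have hd : Nat.card (Matrix.SpecialLinearGroup (Fin 2) (ZMod p)) ∣ Nat.card G :=
    (Subgroup.card_dvd_of_surjective π hπ).trans K.card_subgroup_dvd_card
  obtain ⟨w, hw⟩ : ∃ w : Matrix.SpecialLinearGroup (Fin 2) (ZMod p), orderOf w = 2 ∨ orderOf w = 4 := by
    refine ⟨⟨!![0, 1; -1, 0], by simp [Matrix.det_fin_two]⟩, ?_⟩
    set w : Matrix.SpecialLinearGroup (Fin 2) (ZMod p) := ⟨!![0, 1; -1, 0], by simp [Matrix.det_fin_two]⟩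
    have h4 : w ^ 4 = 1 := by
      apply Matrix.SpecialLinearGroup.ext
      intro i j
      rw [Matrix.SpecialLinearGroup.coe_pow]
      fin_cases i <;> fin_cases j <;> simp [w, pow_succ, Matrix.mul_apply, Fin.sum_univ_two]
    have h1 : w ≠ 1 := fun h => by
      have h00 := congrArg (fun x : Matrix.SpecialLinearGroup (Fin 2) (ZMod p) => x.1 0 1) h
      simp [w] at h00
    obtain ⟨k, hk, hko⟩ := (Nat.dvd_prime_pow Nat.prime_two).mp (orderOf_dvd_of_pow_eq_one
      (show w ^ 2 ^ 2 = 1 by norm_num [h4]))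
    interval_cases k
    · rw [pow_zero, orderOf_eq_one_iff] at hko; exact absurd hko h1
    · exact Or.inl hko
    · exact Or.inr hko
  have h2 : 2 ∣ Nat.card G := by
    refine (show 2 ∣ orderOf w by rcases hw with h | h <;> omega).trans
      ((orderOf_dvd_natCard w).trans hd)
  obtain ⟨t, ht⟩ := hodd
  omega

theorem stableAt_of_odd (hodd : Odd (Nat.card G)) {p : ℕ} [Fact p.Prime] (hp : p ≠ 2)
    (S : Subgroup G) : CfsgLib.PLocal.StableAt p S := fun P _ hP _ _ hq =>
  CfsgLib.PLocal.SLTwo.mem_pCore_of_noSL hp (noSL_of_odd hodd p) P hP hq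

theorem centralizer_pCore_le_of_core_bot [Group.IsSolvable G] {p : ℕ} [Fact p.Prime]
    (h : Cfsg.pPrimeCore p G = ⊥) : centralizer (Cfsg.pCore p G : Set G) ≤ Cfsg.pCore p G :=
  CfsgLib.Core.centralizer_pCore_le_of_pPrimeCore_eq_bot h

/-- An element of a Sylow subgroup acting quadratically on `O_p(G)` lies in it, when `O_{p'}(G) = 1`. -/
theorem mem_pCore_of_quadratic [Group.IsSolvable G] (hodd : Odd (Nat.card G)) {p : ℕ} [Fact p.Prime]
    (hp : p ≠ 2) (h : Cfsg.pPrimeCore p G = ⊥) {a : G}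
    (hq : ⁅⁅Cfsg.pCore p G, zpowers a⁆, zpowers a⁆ = ⊥) : a ∈ Cfsg.pCore p G := by
  set P := Cfsg.pCore p G with hP
  have hm := CfsgLib.PLocal.SLTwo.mem_pCore_of_noSL hp (noSL_of_odd hodd p) P
    (CfsgLib.Core.isPGroup_pCore p G) hq
  have hK : IsPGroup p ((Cfsg.pCore p (G ⧸ centralizer (P : Set G))).comap
      (QuotientGroup.mk' (centralizer (P : Set G)))) :=
    (CfsgLib.Core.isPGroup_pCore p _).comap_of_ker_isPGroup _ (by
      rw [QuotientGroup.ker_mk']
      exact (CfsgLib.Core.isPGroup_pCore p G).to_le (centralizer_pCore_le_of_core_bot h))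
  exact CfsgLib.Core.le_pCore hK hm

/-- An abelian subgroup normalised by `O_p(G)` and consisting of `p`-elements lies in `O_p(G)`. -/
theorem le_pCore_of_abelian [Group.IsSolvable G] (hodd : Odd (Nat.card G)) {p : ℕ} [Fact p.Prime]
    (hp : p ≠ 2) (h : Cfsg.pPrimeCore p G = ⊥) {A : Subgroup G} (hA : IsMulCommutative A)
    (hn : Cfsg.pCore p G ≤ normalizer (A : Set G)) : A ≤ Cfsg.pCore p G := fun a ha => by
  refine mem_pCore_of_quadratic hodd hp h (eq_bot_iff.2 ?_)
  refine (commutator_mono (commutator_mono le_rfl (zpowers_le.2 ha)) (zpowers_le.2 ha)).trans ?_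
  refine (commutator_mono (le_normalizer_iff_commutator_le_right.1 hn) le_rfl).trans ?_
  rw [le_bot_iff, commutator_self_eq_bot_iff]
  exact hA

end CfsgLib.OddLocal
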