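import Mathlib.GroupTheory.SpecificGroups.Cyclic
import Cfsg.Prelude.Def_OddOrderLocal
import Cfsg.Agent.Lib.OddLocal.Basic
import Cfsg.Agent.Lib.OddLocal.FittingHall
import Cfsg.Agent.Lib.Core.Nilpotent
import Cfsg.Agent.Lib.Core.Cores
import Cfsg.Agent.Lib.Core.Basic

/-!
Basic structure of three-step groups.
-/

set_option autoImplicit false

namespace CfsgLib.OddLocal.ThreeStep

open Subgroup
open scoped commutatorElement

variable {X : Type*} [Group X] [Finite X] {p : ℕ}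

/-- The derived subgroup of a three-step group (no primality needed). -/
theorem derived (h : Cfsg.IsThreeStepGroup p X) :
    ∃ A : Subgroup X, A ≠ ⊥ ∧ (Nat.card A).Coprime p ∧
      (Cfsg.pCore p X ⊔ A).Normal ∧ Cfsg.pCore p X ⊔ A ≠ ⊤ ∧ (∃ n : ℕ, (Cfsg.pCore p X ⊔ A).index = p ^ n) ∧
      (∀ a ∈ A, a ≠ 1 → Cfsg.pCore p X ⊓ centralizer ({a} : Set X) = ⊥) ∧
      (∀ x : X, x ∉ Cfsg.pCore p X ⊔ A → ∀ a ∈ A, a ≠ 1 → x * a * x⁻¹ * a⁻¹ ∉ Cfsg.pCore p X) ∧
      ⁅(⊤ : Subgroup X), (⊤ : Subgroup X)⁆ = Cfsg.pCore p X ⊔ A ∧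
      ¬ Group.IsNilpotent (⁅(⊤ : Subgroup X), (⊤ : Subgroup X)⁆ : Subgroup X) := by
  obtain ⟨hT, A, hA, hcyc, -, hcop, hDn, hDt, ⟨n, hn⟩, hfree, hfree2⟩ := h
  set T := Cfsg.pCore p X with hTdef
  set D := T ⊔ A with hDdef
  have hTp : IsPGroup p T := CfsgLib.Core.isPGroup_pCore p X
  have hTA : (Nat.card T).Coprime (Nat.card A) := Nat.coprime_of_dvd fun r hr hrT hrA => by
    have := Fact.mk hr
    obtain ⟨x, hx⟩ := exists_prime_orderOf_dvd_card' r hrT
    obtain ⟨j, hj⟩ := hTp x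
    exact hr.not_dvd_one
      (hcop ▸ Nat.dvd_gcd hrA (hr.dvd_of_dvd_pow (hx ▸ orderOf_dvd_of_pow_eq_one hj)))
  have hbotTA : T ⊓ A = ⊥ := inf_eq_bot_of_coprime hTA
  have hmemD : ∀ d ∈ D, ∃ t ∈ T, ∃ a ∈ A, d = t * a := fun d hd => by
    obtain ⟨t, ht, a, ha, h⟩ := mem_sup_of_normal_left.1 hd
    exact ⟨t, ht, a, ha, h.symm⟩
  obtain ⟨a₀, ha₀, ha₀1⟩ : ∃ a ∈ A, a ≠ 1 := by
    by_contra! hall
    exact hA ((eq_bot_iff_forall A).2 hall)
  obtain ⟨t₀, ht₀, ht₀1⟩ : ∃ t ∈ T, t ≠ 1 := by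
    by_contra! hall
    exact hT ((eq_bot_iff_forall T).2 hall)
  have hAD : A ≤ D := le_sup_right
  have hTD : T ≤ D := le_sup_left
  have hfix : ∀ a ∈ A, a ≠ 1 → ∀ t ∈ T, t * a = a * t → t = 1 := fun a ha ha1 t ht hc =>
    mem_bot.1 ((hfree a ha ha1).le ⟨ht, mem_centralizer_singleton_iff.2 hc⟩)
  -- `T` consists of commutators with `a₀`
  have hTD' : T ≤ ⁅D, D⁆ := by
    let θ : T → T := fun t => ⟨⁅a₀, (t : X)⁆, by
      rw [commutatorElement_def]
      exact mul_mem ((inferInstance : T.Normal).conj_mem _ t.2 a₀) (inv_mem t.2)⟩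
    have hθ : Function.Injective θ := fun s t hst => by
      have h1 : ⁅a₀, (s : X)⁆ = ⁅a₀, (t : X)⁆ := congrArg Subtype.val hst
      have h2 : ((t : X)⁻¹ * s) * a₀⁻¹ = a₀⁻¹ * ((t : X)⁻¹ * s) := by
        have := congrArg (fun v => (t : X)⁻¹ * a₀⁻¹ * v * s) h1
        simpa [commutatorElement_def, mul_assoc] using this
      exact Subtype.ext (inv_mul_eq_one.1
        (hfix a₀ ha₀ ha₀1 _ (mul_mem (inv_mem t.2) s.2) (Commute.inv_right_iff.1 h2).eq)).symm
    intro t ht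
    obtain ⟨s, hs⟩ := Finite.surjective_of_injective hθ ⟨t, ht⟩
    have : ⁅a₀, (s : X)⁆ = t := congrArg Subtype.val hs
    exact this ▸ commutator_mem_commutator (hAD ha₀) (hTD s.2)
  set X' := ⁅(⊤ : Subgroup X), (⊤ : Subgroup X)⁆ with hX'
  have hTX' : T ≤ X' := hTD'.trans (commutator_mono le_top le_top)
  set π := QuotientGroup.mk' T with hπ
  have hπT : ∀ t ∈ T, π t = 1 := fun t ht => (QuotientGroup.eq_one_iff t).2 ht
  have hAmap : D.map π = A.map π := by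
    rw [hDdef, Subgroup.map_sup, hπ, QuotientGroup.map_mk'_self, bot_sup_eq]
  have hAab : ∀ a ∈ A, ∀ b ∈ A, a * b = b * a := fun a ha b hb =>
    congrArg Subtype.val (IsCyclic.commGroup.mul_comm (⟨a, ha⟩ : A) ⟨b, hb⟩)
  -- `D` lies in the derived subgroup
  have hDX' : D ≤ X' := by
    refine sup_le hTX' ?_
    obtain ⟨x, hx⟩ : ∃ x, x ∉ D := by
      by_contra! hall
      exact hDt (eq_top_iff.2 fun x _ => hall x)
    have hx' : x⁻¹ ∉ D := fun h => hx (inv_mem_iff.1 h)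
    have hch : ∀ a : A, ∃ b : A, ⁅x, (a : X)⁆ * (b : X)⁻¹ ∈ T := fun a => by
      have hd : ⁅x, (a : X)⁆ ∈ D := by
        rw [commutatorElement_def]
        exact mul_mem (hDn.conj_mem _ (hAD a.2) x) (inv_mem (hAD a.2))
      obtain ⟨t, ht, b, hb, he⟩ := hmemD _ hd
      exact ⟨⟨b, hb⟩, by rw [he, mul_inv_cancel_right]; exact ht⟩
    choose θ hθ using hch
    have hinj : Function.Injective θ := fun a b hab => by
      by_contra hne
      have hc : (a : X)⁻¹ * b ∈ A := mul_mem (inv_mem a.2) b.2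
      have hc1 : (a : X)⁻¹ * b ≠ 1 := fun h => hne (Subtype.ext (inv_mul_eq_one.1 h))
      apply hfree2 x⁻¹ hx' _ hc hc1
      have h1 : π ⁅x, (a : X)⁆ = π ⁅x, (b : X)⁆ := by
        have ha := hπT _ (hθ a)
        have hb := hπT _ (hθ b)
        rw [map_mul, map_inv, mul_inv_eq_one] at ha hb
        rw [ha, hb, hab]
      have h2 : π (x⁻¹ * ((a : X)⁻¹ * b) * x⁻¹⁻¹ * ((a : X)⁻¹ * b)⁻¹) = 1 := by
        simp only [commutatorElement_def, map_mul, map_inv] at h1 ⊢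
        have hcomm : π (a : X) * π (b : X) = π (b : X) * π (a : X) := by
          rw [← map_mul, ← map_mul, hAab _ a.2 _ b.2]
        have h3 := congrArg (fun v => (π (a : X))⁻¹ * (π x)⁻¹ * v * π (b : X) * π x * (π (b : X))⁻¹ * π (a : X)) h1
        generalize π (a : X) = α at *
        generalize π (b : X) = β at *
        generalize π x = ξ at *
        simp only [mul_assoc, inv_mul_cancel_left, mul_inv_cancel_left, mul_inv_rev] at h3 ⊢
        rw [inv_inv, inv_inv]; simpa [mul_assoc] using h3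
      exact (QuotientGroup.eq_one_iff _).1 h2
    intro a ha
    obtain ⟨b, hb⟩ := Finite.surjective_of_injective hinj ⟨a, ha⟩
    have h1 := hTX' (hθ b)
    rw [hb] at h1
    have h2 : ⁅x, (b : X)⁆ ∈ X' := commutator_mem_commutator (mem_top _) (mem_top _)
    exact inv_mem_iff.1 ((mul_mem_cancel_left h2).1 h1)
  -- the derived subgroup lies in `D`
  have hX'D : X' ≤ D := by
    refine commutator_le.2 fun x _ y _ => ?_
    by_contra hw
    have : (D.map π).Normal := hDn.map _ (QuotientGroup.mk'_surjective T)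
    have : IsCyclic (D.map π) := by
      rw [hAmap]; exact isCyclic_of_surjective (π.subgroupMap A) (π.subgroupMap_surjective A)
    let e := IsCyclic.mulAutMulEquiv (D.map π)
    let φ : X ⧸ T →* MulAut (D.map π) := MulAut.conjNormal
    have hφ : φ (π ⁅x, y⁆) = 1 := by
      apply e.injective
      rw [map_commutatorElement, map_commutatorElement, map_commutatorElement, map_one,
        commutatorElement_eq_one_iff_mul_comm]
      exact mul_comm _ _
    refine hfree2 _ hw a₀ ha₀ ha₀1 ((QuotientGroup.eq_one_iff _).1 ?_)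
    have h1 := congrArg Subtype.val (DFunLike.congr_fun hφ ⟨π a₀, a₀, hAD ha₀, rfl⟩)
    rw [MulAut.conjNormal_apply] at h1
    show π (⁅x, y⁆ * a₀ * ⁅x, y⁆⁻¹ * a₀⁻¹) = 1
    rw [map_mul, map_mul, map_mul, map_inv, map_inv]
    rw [show π ⁅x, y⁆ * π a₀ * (π ⁅x, y⁆)⁻¹ = π a₀ from h1, mul_inv_cancel]
  have hXD : X' = D := le_antisymm hX'D hDX'
  refine ⟨A, hA, hcop, hDn, hDt, ⟨n, hn⟩, hfree, hfree2, hXD, fun hnil => ?_⟩
  rw [hXD] at hnil
  refine ht₀1 (hfix a₀ ha₀ ha₀1 t₀ ht₀ (CfsgLib.OddLocal.commute_of_mem_nilpotent hnil (hTD ht₀) (hAD ha₀) ?_))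
  exact (hTA.coprime_dvd_left (T.orderOf_dvd_natCard ht₀)).coprime_dvd_right (A.orderOf_dvd_natCard ha₀)

/-- Index and self-centralisation of `O_p` in a three-step group. -/
theorem facts [hp : Fact p.Prime] (h : Cfsg.IsThreeStepGroup p X) :
    p ∣ (⁅(⊤ : Subgroup X), (⊤ : Subgroup X)⁆ : Subgroup X).index ∧
    centralizer (Cfsg.pCore p X : Set X) ≤ Cfsg.pCore p X := by
  have hT : Cfsg.pCore p X ≠ ⊥ := h.1
  obtain ⟨A, hA, hcop, hDn, hDt, ⟨n, hn⟩, hfree, hfree2, hXD, -⟩ := derived h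
  set T := Cfsg.pCore p X with hTdef
  set D := T ⊔ A with hDdef
  have hTp : IsPGroup p T := CfsgLib.Core.isPGroup_pCore p X
  have hmemD : ∀ d ∈ D, ∃ t ∈ T, ∃ a ∈ A, d = t * a := fun d hd => by
    obtain ⟨t, ht, a, ha, h⟩ := mem_sup_of_normal_left.1 hd
    exact ⟨t, ht, a, ha, h.symm⟩
  obtain ⟨a₀, ha₀, ha₀1⟩ : ∃ a ∈ A, a ≠ 1 := by
    by_contra! hall
    exact hA ((eq_bot_iff_forall A).2 hall)
  have hAD : A ≤ D := le_sup_right
  have hfix : ∀ a ∈ A, a ≠ 1 → ∀ t ∈ T, t * a = a * t → t = 1 := fun a ha ha1 t ht hc =>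
    mem_bot.1 ((hfree a ha ha1).le ⟨ht, mem_centralizer_singleton_iff.2 hc⟩)
  rw [hXD]
  refine ⟨?_, ?_⟩
  · rcases n with _ | n
    · exact absurd (index_eq_one.1 (by rw [hn, pow_zero])) hDt
    · rw [hn]; exact dvd_pow_self p n.succ_ne_zero
  · intro c hc
    have hCn : (centralizer (T : Set X)).Normal := inferInstance
    have hstep : ∀ d, d ∈ D → d ∈ centralizer (T : Set X) → d ∈ T := by
      intro d hd hdc
      obtain ⟨s, hs, a, ha, rfl⟩ := hmemD d hd
      by_cases ha1 : a = 1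
      · rw [ha1, mul_one]; exact hs
      exfalso
      -- a central element of `T` commutes with `a`
      have := (CfsgLib.Core.isPGroup_pCore p X).isNilpotent
      have : Nontrivial T := (nontrivial_iff_ne_bot T).2 hT
      obtain ⟨⟨⟨z, hzT⟩, hzc⟩, hz1⟩ := ne_bot_iff_exists_ne_one.1 (show center T ≠ ⊥ by
        have := hTp.center_nontrivial
        exact (nontrivial_iff_ne_bot _).1 this)
      replace hz1 : (⟨z, hzT⟩ : T) ≠ 1 := fun h => hz1 (Subtype.ext h)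
      refine hz1 (Subtype.ext (hfix a ha ha1 z hzT ?_))
      have h1 : z * s = s * z := (congrArg Subtype.val (mem_center_iff.1 hzc ⟨s, hs⟩)).symm
      have h2 : z * (s * a) = s * a * z := mem_centralizer_iff.1 hdc z hzT
      have := congrArg (fun v => s⁻¹ * v) h2
      simpa [← mul_assoc, h1] using this
    by_cases hcD : c ∈ D
    · exact hstep c hcD hc
    exfalso
    have hd : c * a₀ * c⁻¹ * a₀⁻¹ ∈ D := mul_mem (hDn.conj_mem _ (hAD ha₀) c) (inv_mem (hAD ha₀))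
    refine hfree2 c hcD a₀ ha₀ ha₀1 (hstep _ hd ?_)
    rw [show c * a₀ * c⁻¹ * a₀⁻¹ = c * (a₀ * c⁻¹ * a₀⁻¹) by group]
    exact mul_mem hc (hCn.conj_mem _ (inv_mem hc) a₀)

end CfsgLib.OddLocal.ThreeStep
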