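import Mathlib.GroupTheory.QuotientGroup.Basic
import Cfsg.Agent.Lib.OddLocal.CNGroup
import Cfsg.Agent.Lib.Core.Coprime
import Cfsg.Agent.Lib.Core.MinNormal

/-!
Quotients of CN-groups by solvable normal subgroups are CN-groups.
-/

set_option autoImplicit false

namespace CfsgLib.OddLocal.CN

open Subgroup

universe u v

/-- A CN-group with a nontrivial normal `p`-subgroup: a quotient by it with nontrivial centre is
nilpotent. -/
theorem nilpotent_image_of_central {K : Type u} {Q : Type v} [Group K] [Finite K] [Group Q] {p : ℕ}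
    [hp : Fact p.Prime] (hCN : Cfsg.IsCNGroup K) (f : K →* Q) (hf : Function.Surjective f)
    (hker : IsPGroup p f.ker) (hne : f.ker ≠ ⊥) {g : K} (hg : f g ≠ 1) (hc : ∀ x : Q, f g * x = x * f g) :
    Group.IsNilpotent Q := by
  -- an element of prime power order with central nontrivial image
  obtain ⟨g, r, k, hr, hgo, hg, hc, hr'⟩ : ∃ (g : K) (r k : ℕ), r.Prime ∧ orderOf g = r ^ k ∧ f g ≠ 1 ∧
      (∀ x : Q, f g * x = x * f g) ∧ (r = p ∨ g ^ r = 1) := by
    obtain ⟨r, hr, hrd⟩ := Nat.exists_prime_and_dvd (n := orderOf (f g))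
      fun h => hg (orderOf_eq_one_iff.mp h)
    have hfin : Finite Q := Finite.of_surjective f hf
    have := Fact.mk hr
    set g₁ := g ^ (orderOf (f g) / r) with hg₁
    have ho : orderOf (f g₁) = r := by
      rw [hg₁, map_pow]; exact orderOf_pow_orderOf_div (orderOf_pos _).ne' hrd
    have hc₁ : ∀ x : Q, f g₁ * x = x * f g₁ := fun x => by
      rw [hg₁, map_pow]; exact (Commute.pow_left (show Commute (f g) x from hc x) _).eq
    obtain ⟨k, hk⟩ := hker ⟨g₁ ^ r, by rw [MonoidHom.mem_ker, map_pow, ← ho, pow_orderOf_eq_one]⟩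
    have hk' : (g₁ ^ r) ^ p ^ k = 1 := congrArg Subtype.val hk
    rcases eq_or_ne r p with rfl | hne
    · have h2 : g₁ ^ r ^ (k + 1) = 1 := by rw [pow_succ', pow_mul]; exact hk'
      obtain ⟨j, -, hj⟩ := (Nat.dvd_prime_pow hr).mp (orderOf_dvd_of_pow_eq_one h2)
      exact ⟨g₁, r, j, hr, hj, fun h => hr.ne_one (by rw [← ho, h, orderOf_one]), hc₁, Or.inl rfl⟩
    · have h2 : (g₁ ^ p ^ k) ^ r = 1 := by rw [← pow_mul, mul_comm, pow_mul]; exact hk'
      have h3 : f (g₁ ^ p ^ k) ≠ 1 := fun h => by
        rw [map_pow] at h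
        have := orderOf_dvd_of_pow_eq_one h
        rw [ho] at this
        exact hne ((Nat.prime_dvd_prime_iff_eq hr hp.out).mp (hr.dvd_of_dvd_pow this))
      obtain ⟨j, -, hj⟩ := (Nat.dvd_prime_pow hr).mp (orderOf_dvd_of_pow_eq_one (h2.trans rfl) |>.trans
        (dvd_of_eq (pow_one r).symm))
      exact ⟨g₁ ^ p ^ k, r, j, hr, hj, h3, fun x => by
        rw [map_pow]; exact (Commute.pow_left (show Commute (f g₁) x from hc₁ x) _).eq, Or.inr h2⟩
  have hg1 : g ≠ 1 := fun h => hg (by rw [h, map_one])
  have hfix : ∀ a x : K, f a * f x = f x * f a → x⁻¹ * (a * x * a⁻¹) ∈ f.ker := fun a x h => by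
    rw [MonoidHom.mem_ker, map_mul, map_inv, map_mul, map_mul, map_inv, h, mul_inv_cancel_right,
      inv_mul_cancel]
  have hkn : ∀ A : Subgroup K, A ≤ normalizer (f.ker : Set K) := fun A => by
    rw [Subgroup.normalizer_eq_top]; exact le_top
  have hsolv : Group.IsSolvable f.ker := by
    have := hker.isNilpotent; infer_instance
  rcases eq_or_ne r p with rfl | hrp
  · -- `g` is a `p`-element: the whole group is nilpotent
    have hL : IsPGroup r (zpowers g) := IsPGroup.of_card (n := k) (by rw [Nat.card_zpowers, hgo])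
    set L := f.ker ⊔ zpowers g with hLdef
    have hLp : IsPGroup r L := hker.to_sup_of_normal_left hL
    have hLn : L.Normal := ⟨fun l hl x => by
      have hlf : f l ∈ (zpowers g).map f := by
        have := mem_map_of_mem f hl
        rwa [hLdef, Subgroup.map_sup, (Subgroup.map_eq_bot_iff _).mpr le_rfl, bot_sup_eq] at this
      obtain ⟨m, hm, hml⟩ := hlf
      obtain ⟨i, rfl⟩ := mem_zpowers_iff.mp hm
      have hcl : f x * f l * (f x)⁻¹ = f l := by
        rw [← hml, map_zpow, mul_inv_eq_iff_eq_mul]
        exact ((Commute.zpow_left (show Commute (f g) (f x) from hc (f x)) i).eq).symm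
      have : (x * l * x⁻¹) * l⁻¹ ∈ f.ker := by
        rw [MonoidHom.mem_ker, map_mul, map_mul, map_mul, map_inv, map_inv, hcl, mul_inv_cancel]
      have h2 := L.mul_mem (mem_sup_left this) hl
      rwa [inv_mul_cancel_right] at h2⟩
    obtain ⟨P⟩ : Nonempty (Sylow r K) := inferInstance
    have hLP : L ≤ P := hLp.le_sylow_of_normal P
    have hPd : r ∣ Nat.card (P : Subgroup K) := by
      rcases P.isPGroup'.card_eq_or_dvd with h | h
      · exact absurd (mem_bot.mp ((card_eq_one.mp h) ▸ hLP (mem_sup_right (mem_zpowers g)))) hg1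
      · exact h
    obtain ⟨z, hzP, hzo, hzc⟩ := exists_central_orderOf P.isPGroup'.isNilpotent hPd
    have hz1 : z ≠ 1 := fun h => hp.out.ne_one (by rw [← hzo, h, orderOf_one])
    have htop : centralizer ({z} : Set K) = ⊤ := by
      rw [← index_eq_one]
      by_contra hi
      obtain ⟨q, hq, hqd⟩ := Nat.exists_prime_and_dvd hi
      have := Fact.mk hq
      rcases eq_or_ne q r with rfl | hqr
      · exact P.not_dvd_index (hqd.trans (index_dvd_of_le fun a ha =>
          mem_centralizer_singleton_iff.mpr (hzc a ha)))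
      · obtain ⟨R⟩ : Nonempty (Sylow q K) := inferInstance
        refine R.not_dvd_index (hqd.trans (index_dvd_of_le ?_))
        have hcop : (Nat.card (R : Subgroup K)).Coprime (Nat.card f.ker) := by
          obtain ⟨a, ha⟩ := R.isPGroup'.exists_card_eq
          obtain ⟨b, hb⟩ := hker.exists_card_eq
          rw [ha, hb]
          exact Nat.Coprime.pow _ _ ((Nat.coprime_primes hq hp.out).mpr hqr)
        obtain ⟨n, hn, hgn⟩ := CfsgLib.Core.exists_centralizing_in_coset (A := (R : Subgroup K))
          (N := f.ker) (hkn _) hcop (Or.inr hsolv) (k := g) fun a _ => hfix a g (hc (f a)).symm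
        have hx1 : g * n ≠ 1 := fun h => hg (by
          have := congrArg f h
          rwa [map_mul, MonoidHom.mem_ker.mp hn, mul_one, map_one] at this)
        have hxP : g * n ∈ (P : Subgroup K) :=
          hLP (L.mul_mem (mem_sup_right (mem_zpowers g)) (mem_sup_left hn))
        intro a ha
        refine mem_centralizer_singleton_iff.mpr (commute_cn hCN hx1
          (mem_centralizer_iff.mp hgn a ha) (hzc _ hxP).symm ?_)
        obtain ⟨j, hj⟩ := IsPGroup.iff_orderOf.mp R.isPGroup' ⟨a, ha⟩
        rw [Subgroup.orderOf_mk] at hj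
        exact coprime_orderOf hq hj hp.out hzo hqr
    have hK := hCN z hz1
    rw [htop] at hK
    have : Group.IsNilpotent K := Group.nilpotent_of_mulEquiv Subgroup.topEquiv
    exact Group.nilpotent_of_surjective f hf
  · -- `g` has prime order different from `p`: its centralizer covers the quotient
    have hgr : g ^ r = 1 := hr'.resolve_left hrp
    have := hCN g hg1
    refine Group.nilpotent_of_surjective (f.comp (centralizer ({g} : Set K)).subtype) fun w => ?_
    obtain ⟨x, rfl⟩ := hf w
    have hcop : (Nat.card (zpowers g)).Coprime (Nat.card f.ker) := by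
      have := Fact.mk hr
      obtain ⟨b, hb⟩ := hker.exists_card_eq
      rw [Nat.card_zpowers, orderOf_eq_prime hgr hg1, hb]
      exact Nat.Coprime.pow_right _ ((Nat.coprime_primes hr hp.out).mpr hrp)
    obtain ⟨n, hn, hxn⟩ := CfsgLib.Core.exists_centralizing_in_coset (A := zpowers g) (N := f.ker)
      (hkn _) hcop (Or.inr hsolv) (k := x) fun a ha => by
        obtain ⟨i, rfl⟩ := mem_zpowers_iff.mp ha
        refine hfix _ x ?_
        rw [map_zpow]
        exact (Commute.zpow_left (show Commute (f g) (f x) from hc (f x)) i).eq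
    refine ⟨⟨x * n, mem_centralizer_singleton_iff.mpr
      (mem_centralizer_iff.mp hxn g (mem_zpowers g)).symm⟩, ?_⟩
    show f (x * n) = f x
    rw [map_mul, MonoidHom.mem_ker.mp hn, mul_one]

/-- The quotient of a CN-group by a normal `p`-subgroup is a CN-group. -/
theorem cn_quotient_pgroup {G : Type u} [Group G] [Finite G] (hCN : Cfsg.IsCNGroup G) (M : Subgroup G)
    [M.Normal] {p : ℕ} [Fact p.Prime] (hM : IsPGroup p M) : Cfsg.IsCNGroup (G ⧸ M) := by
  rcases eq_or_ne M ⊥ with rfl | hMb
  · exact cn_congr QuotientGroup.quotientBot.symm hCN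
  intro w hw
  obtain ⟨g, rfl⟩ := QuotientGroup.mk'_surjective M w
  set π := QuotientGroup.mk' M
  set K := (centralizer ({π g} : Set (G ⧸ M))).comap π
  let f : K →* centralizer ({π g} : Set (G ⧸ M)) := π.subgroupComap _
  have hf : Function.Surjective f :=
    MonoidHom.subgroupComap_surjective_of_surjective _ _ (QuotientGroup.mk'_surjective M)
  have hker : f.ker = M.subgroupOf K := by
    ext x
    rw [MonoidHom.mem_ker, mem_subgroupOf, ← QuotientGroup.eq_one_iff, Subtype.ext_iff]
    rfl
  have hMK : M ≤ K := fun m hm => by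
    show π m ∈ centralizer ({π g} : Set (G ⧸ M))
    rw [show π m = 1 from (QuotientGroup.eq_one_iff m).mpr hm]
    exact one_mem _
  refine nilpotent_image_of_central (p := p) (cn_subgroup hCN K) f hf ?_ ?_ (g := ⟨g, ?_⟩) ?_ ?_
  · rw [hker]
    exact hM.comap_subtype
  · rw [hker, Ne, Subgroup.subgroupOf_eq_bot, disjoint_iff, inf_eq_left.mpr hMK]
    exact hMb
  · exact mem_centralizer_singleton_iff.mpr rfl
  · exact fun h => hw (congrArg Subtype.val h)
  · exact fun x => Subtype.ext (mem_centralizer_singleton_iff.mp x.2).symm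

/-- The quotient of a CN-group by a solvable normal subgroup is a CN-group. -/
theorem cn_quotient {G : Type u} [Group G] [Finite G] (hCN : Cfsg.IsCNGroup G) (H : Subgroup G)
    [H.Normal] (hH : Group.IsSolvable H) : Cfsg.IsCNGroup (G ⧸ H) := by
  suffices ∀ n, ∀ (G : Type u) [Group G] [Finite G], Cfsg.IsCNGroup G → ∀ (H : Subgroup G) [H.Normal],
      Group.IsSolvable H → Nat.card H = n → Cfsg.IsCNGroup (G ⧸ H) from this _ G hCN H hH rfl
  intro n
  induction n using Nat.strong_induction_on with
  | _ n ih =>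
    intro G _ _ hCN H _ hH hn
    rcases eq_or_ne H ⊥ with rfl | hHb
    · exact cn_congr QuotientGroup.quotientBot.symm hCN
    obtain ⟨M, hMn, hMb, hMH, hmin⟩ := CfsgLib.Core.exists_minimal_normal_le' H hHb
    have hMs : Group.IsSolvable M :=
      Group.isSolvable_of_isSolvable_injective (Subgroup.inclusion_injective hMH)
    obtain ⟨p, hp, hMp, -, -⟩ := CfsgLib.Core.isPGroup_of_minimal_normal M hMs hMb hmin
    have := Fact.mk hp
    have hQ := cn_quotient_pgroup hCN M hMp
    have hHs : Group.IsSolvable (H.map (QuotientGroup.mk' M)) :=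
      Group.isSolvable_of_surjective ((QuotientGroup.mk' M).subgroupMap_surjective H)
    have hlt : Nat.card (H.map (QuotientGroup.mk' M)) < n := by
      have h1 : Nat.card (H.map (QuotientGroup.mk' M)) = M.relIndex H := by
        show _ = (M.subgroupOf H).index
        rw [Subgroup.index]
        refine Nat.card_congr ?_
        refine ((QuotientGroup.quotientKerEquivOfSurjective _
          ((QuotientGroup.mk' M).subgroupMap_surjective H)).symm.trans
          (QuotientGroup.quotientMulEquivOfEq ?_)).toEquiv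
        ext x
        rw [MonoidHom.mem_ker, mem_subgroupOf, ← QuotientGroup.eq_one_iff, Subtype.ext_iff]
        rfl
      have h2 : Nat.card M * M.relIndex H = n := by
        rw [← hn, ← relIndex_bot_left, ← relIndex_bot_left, relIndex_mul_relIndex _ _ _ bot_le hMH]
      have h3 : 1 < Nat.card M := by
        have := Nat.card_pos (α := M)
        have := mt Subgroup.card_eq_one.mp hMb
        omega
      have h4 : 0 < Nat.card (H.map (QuotientGroup.mk' M)) := Nat.card_pos
      rw [h1] at h4 ⊢
      rw [← h2]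
      exact lt_mul_of_one_lt_left h4 h3
    exact cn_congr (QuotientGroup.quotientQuotientEquivQuotient M H hMH)
      (ih _ hlt (G ⧸ M) hQ (H.map (QuotientGroup.mk' M)) hHs rfl)

end CfsgLib.OddLocal.CN
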