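import Mathlib.GroupTheory.SpecificGroups.ZGroup
import Mathlib.GroupTheory.SchurZassenhaus
import Cfsg.Agent.Lib.OddLocal.CNQuotient
import Cfsg.Agent.Lib.OddLocal.Coprime
import Cfsg.Agent.Lib.Core.FPFComplement
import Cfsg.Agent.Lib.Core.SolvableStruct
import Cfsg.Agent.Lib.Core.SchurZassenhaus
import Cfsg.Agent.Lib.Components.FStar

/-!
Structure of solvable CN-groups.
-/

set_option autoImplicit false

namespace CfsgLib.OddLocal.CN

open Subgroup

open scoped Pointwise

variable {G : Type*} [Group G]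

/-- A complement of a normal subgroup acting fixed point freely on it is a Frobenius complement. -/
theorem isFrobeniusComplement_of_fpf {K E : Subgroup G} [K.Normal] (hE : Subgroup.IsComplement' K E)
    (hEb : E ≠ ⊥) (hEt : E ≠ ⊤) (hfree : ∀ e ∈ E, e ≠ 1 → K ⊓ centralizer ({e} : Set G) = ⊥) :
    Cfsg.IsFrobeniusComplement E := by
  refine ⟨hEb, hEt, fun g hg => ?_⟩
  rw [eq_bot_iff]
  rintro x ⟨hxE, hxg⟩
  replace hxg : g⁻¹ * x * g ∈ E := CfsgLib.Core.mem_conj_smul_iff.mp hxg
  rw [mem_bot]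
  by_contra hx1
  obtain ⟨⟨⟨h, hh⟩, ⟨e, he⟩⟩, rfl⟩ := hE.surjective g
  apply hg
  have hy : h⁻¹ * x * h ∈ E := by
    have := E.mul_mem (E.mul_mem he hxg) (E.inv_mem he)
    simpa [mul_assoc] using this
  have hxy : h⁻¹ * x * h * x⁻¹ = 1 := by
    refine mem_bot.mp (hE.disjoint.le_bot ⟨?_, E.mul_mem hy (E.inv_mem hxE)⟩)
    have h3 := K.mul_mem (K.inv_mem hh) ((inferInstance : K.Normal).conj_mem h hh x)
    simpa [mul_assoc] using h3
  have hc : h * x = x * h := by
    have := congrArg (fun w => h * w * x) hxy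
    simpa [mul_assoc] using this.symm
  have := (hfree x hxE hx1).le ⟨hh, mem_centralizer_singleton_iff.mpr hc⟩
  rw [mem_bot] at this
  show h * e ∈ E
  rw [this, one_mul]
  exact he

/-- Structure of a nilpotent group acting fixed point freely. -/
theorem nilpotent_fpf_structure [Finite G] {K E : Subgroup G} (hEK : E ≤ normalizer (K : Set G))
    (hfree : ∀ e ∈ E, e ≠ 1 → K ⊓ centralizer ({e} : Set G) = ⊥) (hK : K ≠ ⊥)
    (hEn : Group.IsNilpotent E) :
    IsCyclic E ∨ ∃ C Q : Subgroup G, C ⊔ Q = E ∧ (∀ a ∈ C, ∀ b ∈ Q, a * b = b * a) ∧ IsCyclic C ∧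
      Odd (Nat.card C) ∧ ∃ n : ℕ, Nonempty (↥Q ≃* QuaternionGroup (2 ^ n)) := by
  have : Fact (Nat.Prime 2) := ⟨Nat.prime_two⟩
  by_cases hall : ∀ (q : ℕ) (_ : Fact q.Prime) (P : Sylow q E), IsCyclic P
  · have : IsZGroup E := ⟨fun q hq P => hall q ⟨hq⟩ P⟩
    exact Or.inl inferInstance
  push Not at hall
  obtain ⟨q, hq, P, hP⟩ := hall
  rcases CfsgLib.Core.FPF.sylow_cyclic_or_quaternion hEK hfree hK P with h | ⟨rfl, n, ⟨e⟩⟩
  · exact absurd h hP
  right
  have hPn : (P : Subgroup E).Normal := inferInstance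
  obtain ⟨C, hC⟩ := Subgroup.exists_right_complement'_of_coprime P.card_coprime_index
  have hCodd : ¬ 2 ∣ Nat.card C := by
    rw [← hC.symm.index_eq_card]; exact P.not_dvd_index
  have hCle : C.map E.subtype ≤ E := map_subtype_le C
  have hcard : Nat.card (C.map E.subtype) = Nat.card C :=
    (Nat.card_congr (equivMapOfInjective _ _ E.subtype_injective).toEquiv).symm
  refine ⟨C.map E.subtype, (P : Subgroup E).map E.subtype, ?_, ?_, ?_, ?_, n,
    ⟨(equivMapOfInjective _ _ E.subtype_injective).symm.trans e⟩⟩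
  · rw [← Subgroup.map_sup, hC.symm.sup_eq_top, ← MonoidHom.range_eq_map, E.range_subtype]
  · rintro _ ⟨a, ha, rfl⟩ _ ⟨b, hb, rfl⟩
    obtain ⟨k, hk⟩ := IsPGroup.iff_orderOf.mp P.isPGroup' ⟨b, hb⟩
    rw [Subgroup.orderOf_mk] at hk
    refine congrArg Subtype.val (commute_of_coprime_orderOf hEn (x := a) (y := b) ?_).eq
    rw [hk]
    exact Nat.Coprime.pow_right _ ((Nat.prime_two.coprime_iff_not_dvd.mpr fun hd =>
      hCodd (hd.trans (C.orderOf_dvd_natCard ha))).symm)
  · have hCK : C.map E.subtype ≤ normalizer (K : Set G) := hCle.trans hEK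
    have : IsZGroup (C.map E.subtype) := CfsgLib.Core.FPF.isZGroup_of_odd hCK
      (CfsgLib.Core.FPF.fpf_mono hfree hCle le_rfl) hK (by rwa [hcard])
    have : Group.IsNilpotent (C.map E.subtype) := CfsgLib.Core.isNilpotent_of_le hCle
    infer_instance
  · rw [hcard, Nat.odd_iff]
    omega

/-- An element of prime order `≠ p` acting on a `p`-group of a CN-group either centralises it or fixes
only the identity. -/
theorem centralizes_or_fixes_none [Finite G] (hCN : Cfsg.IsCNGroup G) {F B : Subgroup G}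
    (hF : Group.IsNilpotent F) (hB : B ≤ normalizer (F : Set G))
    (hcop : (Nat.card B).Coprime (Nat.card F)) {x : G} (hx : x ∈ F ⊓ centralizer (B : Set G))
    (hx1 : x ≠ 1) : B ≤ centralizer (F : Set G) := by
  refine centralizes_of_selfcentralizing_fixed hF hB hcop ?_
  rintro w ⟨hwF, hw⟩
  refine ⟨hwF, mem_centralizer_iff.mpr fun b hb => ?_⟩
  refine commute_cn hCN hx1 (mem_centralizer_iff.mp hx.2 b hb) ?_ ?_
  · exact (mem_centralizer_iff.mp hw x hx).symm
  · exact (hcop.coprime_dvd_left (B.orderOf_dvd_natCard hb)).coprime_dvd_right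
      (F.orderOf_dvd_natCard hwF)

/-- With two primes in the Fitting subgroup some Sylow subgroup is normal. -/
theorem exists_normal_sylow_of_two_primes [Finite G] (hCN : Cfsg.IsCNGroup G) {p q : ℕ}
    [hp : Fact p.Prime] [hq : Fact q.Prime] (hne : p ≠ q)
    (hpd : p ∣ Nat.card (Cfsg.fittingSubgroup G)) (hqd : q ∣ Nat.card (Cfsg.fittingSubgroup G)) :
    ∃ P : Sylow p G, (P : Subgroup G).Normal ∧ (P : Subgroup G) ≠ ⊥ := by
  set F := Cfsg.fittingSubgroup G with hFdef
  have hFn : Group.IsNilpotent F := CfsgLib.Core.isNilpotent_fittingSubgroup G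
  obtain ⟨H, ⟨hH, hFH⟩, hmax⟩ := WellFounded.has_min (wellFounded_gt (α := Subgroup G))
    {L : Subgroup G | Group.IsNilpotent L ∧ F ≤ L} ⟨F, hFn, le_rfl⟩
  have hmax' : ∀ L : Subgroup G, Group.IsNilpotent L → H ≤ L → L = H := fun L hL hle => by
    by_contra hne'
    exact hmax L ⟨hL, hFH.trans hle⟩ (lt_of_le_of_ne hle (Ne.symm hne'))
  have hpH : p ∣ Nat.card H := hpd.trans (card_dvd_of_le hFH)
  have hqH : q ∣ Nat.card H := hqd.trans (card_dvd_of_le hFH)
  obtain ⟨x, hx⟩ := exists_prime_orderOf_dvd_card' (G := F) p hpd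
  have hx1 : (x : G) ≠ 1 := fun h => hp.out.ne_one (by rw [← hx, ← orderOf_coe, h, orderOf_one])
  have hHn : H.Normal := ⟨fun h hh g => by
    set L := H.map (MulAut.conj g).toMonoidHom with hL
    have hLn : Group.IsNilpotent L := CfsgLib.Core.isNilpotent_map _ _
    have hcard : Nat.card L = Nat.card H :=
      (Nat.card_congr (equivMapOfInjective H _ (MulAut.conj g).injective).toEquiv).symm
    have hLmax : ∀ K : Subgroup G, Group.IsNilpotent K → L ≤ K → K = L := by
      intro K hK hLK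
      have h2 := hmax' _ (CfsgLib.Core.isNilpotent_map (MulAut.conj g⁻¹).toMonoidHom K) fun h hh =>
        ⟨g * h * g⁻¹, hLK ⟨h, hh, by simp⟩, by simp [mul_assoc]⟩
      rw [hL, ← h2, Subgroup.map_map]
      ext k
      simp [mul_assoc]
    have hxL : (x : G) ∈ L := ⟨g⁻¹ * x * g, hFH (by
      have := (inferInstance : F.Normal).conj_mem (x : G) x.2 g⁻¹; simpa using this), by simp [mul_assoc]⟩
    have hle : L ≤ H := eq_of_mem_two_primes hCN hH hmax' hne hpH hqH hLn (fun a ha ha1 =>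
      centralizer_le_of_two_primes hCN hLn hLmax hne (hcard ▸ hpH) (hcard ▸ hqH) ha.2 ha1)
      (hFH x.2) hxL hx1
    exact hle ⟨h, hh, by simp⟩⟩
  obtain ⟨P, hP⟩ := sylow_le hCN hH hmax' hpH
  refine ⟨P, ?_, P.ne_bot_of_dvd_card (hpH.trans (card_subgroup_dvd_card H))⟩
  have hn : (P.subtype hP : Subgroup H).Normal := inferInstance
  have hc := (P.subtype hP).characteristic_of_normal hn
  have h2 : ((P.subtype hP : Subgroup H).map H.subtype).Normal := inferInstance
  rwa [Sylow.coe_subtype, subgroupOf_map_subtype, inf_eq_left.mpr hP] at h2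

end CfsgLib.OddLocal.CN
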