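import Cfsg.Prelude.Def_OddOrder
import Cfsg.Prelude.Def_OddOrderLocal
import Cfsg.Agent.S1476
import Cfsg.Agent.S0118
import Cfsg.Agent.Lib.OddLocal.ThreeStep
import Cfsg.Agent.Lib.OddLocal.OddStable
import Cfsg.Agent.Lib.Transfer.ZJControl
import Cfsg.Agent.Lib.Transfer.Fusion
import Cfsg.Agent.Lib.Core.FPFAutomorphism
import Cfsg.Agent.Lib.Char.FrobeniusGroup
import Cfsg.Agent.Lib.PLocal.NormalPComplementThms

/-!
CN-groups of odd order that are minimal simple: maximal subgroups are Frobenius groups.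
-/

set_option autoImplicit false

namespace CfsgLib.OddLocal.CNSimple

open Subgroup
open scoped commutatorElement

universe u

variable {G : Type u} [Group G] [Finite G]

/-- The kernel of a Frobenius group given by a complement. -/
theorem frobenius_facts {X : Type u} [Group X] [Finite X] {N E : Subgroup X} [N.Normal]
    (hE : Subgroup.IsComplement' N E) (hF : Cfsg.IsFrobeniusComplement E) :
    Group.IsNilpotent N ∧ N ≠ ⊥ ∧ (Nat.card N).Coprime (Nat.card E) ∧
      (∀ e ∈ E, e ≠ 1 → N ⊓ centralizer ({e} : Set X) = ⊥) ∧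
      ∀ k ∈ N, k ≠ 1 → ∀ g : X, g * k = k * g → g ∈ N := by
  have hd : N ⊓ E = ⊥ := disjoint_iff.1 hE.disjoint
  have hfree : ∀ x ∈ E, x ≠ 1 → ∀ v ∈ N, x * v = v * x → v = 1 := by
    intro x hx hx1 v hv hvx
    by_contra hv1
    have hvE : v ∉ E := fun h => hv1 (mem_bot.1 (hd ▸ (⟨hv, h⟩ : v ∈ N ⊓ E)))
    refine hx1 (mem_bot.1 ((hF.2.2 v hvE).le ⟨hx, ?_⟩))
    refine CfsgLib.Core.mem_conj_smul_iff.2 ?_
    have : v⁻¹ * x * v = x := by rw [mul_assoc, hvx, inv_mul_cancel_left]
    simpa [this] using hx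
  have hfix : ∀ e ∈ E, e ≠ 1 → N ⊓ centralizer ({e} : Set X) = ⊥ := fun e he he1 =>
    eq_bot_iff.2 fun v hv => mem_bot.2
      (hfree e he he1 v hv.1 (mem_centralizer_singleton_iff.1 hv.2).symm)
  obtain ⟨r, hr, hrd⟩ := Nat.exists_prime_and_dvd (n := Nat.card E)
    fun h => hF.1 (card_eq_one.1 h)
  have := Fact.mk hr
  obtain ⟨a, ha⟩ := exists_prime_orderOf_dvd_card' (G := E) r hrd
  have ha1 : (a : X) ≠ 1 := fun e => hr.ne_one (by rw [← ha, ← Subgroup.orderOf_coe, e, orderOf_one])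
  let φ : MulAut N := MulAut.conjNormal (a : X)
  refine ⟨CfsgLib.Core.FPFAut.isNilpotent_of_fpf
    (fun K _ _ q _ hq P hP => CfsgLib.PLocal.hasNormalPComplement_glauberman hq P hP) φ
    (fun v hv => Subtype.ext (hfree a a.2 ha1 v v.2 (by
      have h1 := congrArg Subtype.val hv
      rw [MulAut.conjNormal_apply] at h1
      exact mul_inv_eq_iff_eq_mul.mp h1))) hr (by
      show (MulAut.conjNormal (a : X)) ^ r = 1
      rw [← map_pow, ← SubgroupClass.coe_pow, ← ha, pow_orderOf_eq_one, OneMemClass.coe_one, map_one]),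
    ?_, (CfsgLib.Core.FPF.coprime_card (CfsgLib.Core.le_normalizer_of_normal E N) hfix).symm, hfix, ?_⟩
  · rintro rfl
    exact hF.2.1 (isComplement'_bot_left.mp hE)
  · intro k hk hk1 g hg
    have := Fintype.ofFinite X
    exact CfsgLib.Frobenius.mem_of_commute inferInstance hd hE.sup_eq_top hfree hk hk1 hg

section MinSimple

variable (hG : Cfsg.IsMinSimpleOddOrder G)

include hG

omit [Finite G] in
theorem commutator_top : ⁅(⊤ : Subgroup G), (⊤ : Subgroup G)⁆ = ⊤ := by
  have := hG.2.1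
  refine (IsSimpleGroup.eq_bot_or_eq_top_of_normal _ inferInstance).resolve_left fun h => hG.2.2.1 ?_
  rw [commutator_eq_bot_iff_le_centralizer] at h
  exact ⟨⟨fun a b => mem_centralizer_iff.1 (h (mem_top b)) a (mem_top a)⟩⟩

omit [Finite G] in
theorem ne_top_of_solvable {H : Subgroup G} (hH : Group.IsSolvable H) : H ≠ ⊤ := by
  intro he
  subst he
  have := hG.2.1
  have : Group.IsSolvable G :=
    Group.isSolvable_of_surjective (f := (Subgroup.topEquiv (G := G)).toMonoidHom) (Subgroup.topEquiv (G := G)).surjective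
  exact hG.2.2.1 ⟨⟨fun a b => (IsSimpleGroup.comm_iff_isSolvable.2 inferInstance) a b⟩⟩

omit [Finite G] in
theorem eq_bot_or_top {H : Subgroup G} [H.Normal] : H = ⊥ ∨ H = ⊤ :=
  have := hG.2.1
  IsSimpleGroup.eq_bot_or_eq_top_of_normal _ inferInstance

omit [Finite G] in
theorem normalizer_ne_top {H : Subgroup G} (hb : H ≠ ⊥) (ht : H ≠ ⊤) :
    normalizer (H : Set G) ≠ ⊤ := fun h => by
  have := normalizer_eq_top_iff.1 h
  exact (eq_bot_or_top hG).elim hb ht

omit [Finite G] in
theorem odd_subgroup (H : Subgroup G) : Odd (Nat.card H) := hG.1.of_dvd_nat H.card_subgroup_dvd_card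

/-- A maximal subgroup is the normaliser of each of its nontrivial normal subgroups. -/
theorem normalizer_eq_of_isCoatom {M N : Subgroup G} (hM : IsCoatom M) (hN : M ≤ normalizer (N : Set G))
    (hb : N ≠ ⊥) (hNM : N ≤ M) : normalizer (N : Set G) = M := by
  rcases hN.lt_or_eq with h | h
  · exact absurd (hM.2 _ h) (normalizer_ne_top hG hb fun ht => hM.1 (top_le_iff.1 (ht ▸ hNM)))
  · exact h.symm

variable (hCN : Cfsg.IsCNGroup G)

include hCN

/-- The trichotomy for proper subgroups. -/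
theorem trichotomy {K : Subgroup G} (hK : K ≠ ⊤) :
    Group.IsNilpotent K ∨
      (∃ N E : Subgroup K, N.Normal ∧ Subgroup.IsComplement' N E ∧ Cfsg.IsFrobeniusComplement E ∧ IsCyclic E) ∨
      ∃ p : ℕ, p.Prime ∧ Cfsg.IsThreeStepGroup p K := by
  have := hG.2.2.2 K hK
  rcases Cfsg.Agent.S1476.result (CfsgLib.OddLocal.CN.cn_subgroup hCN K) with h | h | h
  · exact Or.inl h
  · refine Or.inr (Or.inl ?_)
    obtain ⟨N, E, hN, hE, hF, hc⟩ := h
    refine ⟨N, E, hN, hE, hF, hc.resolve_right ?_⟩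
    rintro ⟨C, Q, hCQ, -, -, -, m, ⟨e⟩⟩
    have h2 : 2 ∣ Nat.card Q := by
      have : NeZero (2 ^ m) := ⟨pow_ne_zero _ two_ne_zero⟩
      rw [Nat.card_congr e.toEquiv, Nat.card_eq_fintype_card, QuaternionGroup.card]
      exact dvd_mul_of_dvd_left (by norm_num) _
    obtain ⟨w, hw⟩ := odd_subgroup hG K
    have := h2.trans Q.card_subgroup_dvd_card
    omega
  · exact Or.inr (Or.inr h)

/-- Focal subgroup argument: a Sylow subgroup of a maximal subgroup in which `Z(J)` is normal
lies in the derived subgroup. -/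
theorem sylow_le_derived {M : Subgroup G} (hM : IsCoatom M) {p : ℕ} [hp : Fact p.Prime] (hp2 : p ≠ 2)
    (P₀ : Sylow p M) (hpM : p ∣ Nat.card M)
    (hMZ : M ≤ normalizer (Cfsg.centerThompsonOf p ((P₀ : Subgroup M).map M.subtype) : Set G)) :
    (P₀ : Subgroup M) ≤ ⁅(⊤ : Subgroup M), (⊤ : Subgroup M)⁆ := by
  set Q := (P₀ : Subgroup M).map M.subtype with hQ
  have hQM : Q ≤ M := map_subtype_le _
  have hQp : IsPGroup p Q := P₀.2.map _
  have hQb : Q ≠ ⊥ := by
    rw [hQ, ne_eq, map_eq_bot_iff_of_injective _ M.subtype_injective]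
    exact P₀.ne_bot_of_dvd_card hpM
  set Z := Cfsg.centerThompsonOf p Q with hZ
  have hNZ : normalizer (Z : Set G) = M := normalizer_eq_of_isCoatom hG hM hMZ
    (CfsgLib.Transfer.centerThompsonOf_ne_bot hQp hQb)
    ((CfsgLib.Transfer.centerThompsonOf_le Q).trans hQM)
  have hNQ : normalizer (Q : Set G) ≤ M :=
    hNZ ▸ CfsgLib.Transfer.normalizer_le_normalizer_centerThompson Q
  obtain ⟨P, hP⟩ := hQp.exists_le_sylow
  have hPQ : (P : Subgroup G) = Q := by
    by_contra hne
    have hlt := CfsgLib.Transfer.lt_inf_normalizer P.2 (lt_of_le_of_ne hP (Ne.symm hne))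
    set R := (P : Subgroup G) ⊓ normalizer (Q : Set G)
    have hRM : R ≤ M := inf_le_right.trans hNQ
    have hRp : IsPGroup p (R.subgroupOf M) :=
      (P.2.to_le inf_le_left).comap_of_injective M.subtype M.subtype_injective
    have := P₀.3 hRp fun x hx => mem_subgroupOf.2 (hlt.le ⟨x, hx, rfl⟩)
    exact hlt.ne (by
      rw [hQ, ← this, subgroupOf_map_subtype, inf_of_le_left hRM])
  have hfree : ¬ ∃ (H K : Subgroup G) (hK : (K.subgroupOf H).Normal),
      Nonempty ((H ⧸ K.subgroupOf H) ≃* Matrix.SpecialLinearGroup (Fin 2) (ZMod p)) := fun ⟨H, K, hK, e⟩ =>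
    CfsgLib.OddLocal.noSL_of_odd hG.1 p ⟨H, K, hK, le_top, e⟩
  have hfoc := CfsgLib.Transfer.commutator_inf_eq_of_controls P (H := M) (hPQ ▸ hQM) fun x hx g hg => by
    obtain ⟨n, hn, he⟩ := Cfsg.Agent.S0118.result hp2 hfree P {x} (Set.singleton_subset_iff.2 hx) g
      (by rintro _ ⟨a, rfl, rfl⟩; exact hg)
    exact ⟨n, hNZ ▸ (by rwa [hPQ] at hn), he x rfl⟩
  rw [_root_.commutator_def, commutator_top hG, top_inf_eq] at hfoc
  intro x hx
  have h1 : (x : G) ∈ ⁅M, M⁆ := (hfoc ▸ (hPQ ▸ ⟨x, hx, rfl⟩ : (x : G) ∈ (P : Subgroup G))).1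
  have h2 : ⁅M, M⁆ = (⁅(⊤ : Subgroup M), (⊤ : Subgroup M)⁆).map M.subtype := by
    rw [map_commutator, ← MonoidHom.range_eq_map, range_subtype]
  rw [h2] at h1
  obtain ⟨y, hy, hyx⟩ := h1
  rwa [show x = y from Subtype.ext hyx.symm]

/-- No maximal subgroup is a three-step group for a prime. -/
theorem not_threeStep_coatom {M : Subgroup G} (hM : IsCoatom M) {p : ℕ} [hp : Fact p.Prime] :
    ¬ Cfsg.IsThreeStepGroup p M := by
  intro h
  obtain ⟨hidx, hc⟩ := CfsgLib.OddLocal.ThreeStep.facts h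
  have hpM : p ∣ Nat.card M := by
    rcases (CfsgLib.Core.isPGroup_pCore p M).card_eq_or_dvd with h1 | h1
    · exact absurd (card_eq_one.1 h1) h.1
    · exact h1.trans (Cfsg.pCore p M).card_subgroup_dvd_card
  have hp2 : p ≠ 2 := by
    rintro rfl
    obtain ⟨w, hw⟩ := hG.1
    have := hpM.trans M.card_subgroup_dvd_card
    omega
  obtain ⟨P₀⟩ : Nonempty (Sylow p M) := inferInstance
  have hn := CfsgLib.Transfer.centerThompson_normal hp2 hc P₀
    (CfsgLib.OddLocal.stableAt_of_odd (odd_subgroup hG M) hp2 _)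
  refine P₀.not_dvd_index (hidx.trans (index_dvd_of_le (sylow_le_derived hG hCN hM hp2 P₀ hpM ?_)))
  rw [← CfsgLib.Transfer.centerThompsonOf_map M.subtype _ (by
    rw [(MonoidHom.ker_eq_bot_iff _).2 M.subtype_injective]; exact disjoint_bot_right)]
  intro m hm
  exact (le_normalizer_map M.subtype) ⟨⟨m, hm⟩, by rw [normalizer_eq_top_iff.2 hn]; trivial, rfl⟩

/-- Derived subgroups of proper subgroups are nilpotent. -/
theorem derived_nilpotent {H : Subgroup G} (hH : H ≠ ⊤) :
    Group.IsNilpotent (⁅H, H⁆ : Subgroup G) := by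
  obtain ⟨M, hM, hHM⟩ := (eq_top_or_exists_le_coatom H).resolve_left hH
  suffices Group.IsNilpotent (⁅M, M⁆ : Subgroup G) from
    CfsgLib.Core.isNilpotent_of_le (commutator_mono hHM hHM)
  have h2 : ⁅M, M⁆ = (⁅(⊤ : Subgroup M), (⊤ : Subgroup M)⁆).map M.subtype := by
    rw [map_commutator, ← MonoidHom.range_eq_map, range_subtype]
  rcases trichotomy hG hCN hM.1 with h | ⟨N, E, hN, hE, hF, hc⟩ | ⟨r, hr, h⟩
  · exact CfsgLib.Core.isNilpotent_of_le (commutator_le_self M)
  · have hNn : Group.IsNilpotent N := (frobenius_facts hE hF).1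
    have hle : ⁅(⊤ : Subgroup M), (⊤ : Subgroup M)⁆ ≤ N := by
      have e := hE.symm.QuotientMulEquiv
      refine commutator_le.2 fun x _ y _ => (QuotientGroup.eq_one_iff _).1 ?_
      show QuotientGroup.mk' N ⁅x, y⁆ = 1
      rw [map_commutatorElement, commutatorElement_eq_one_iff_mul_comm]
      refine e.injective ?_
      rw [map_mul, map_mul]
      exact IsCyclic.commGroup.mul_comm _ _
    rw [h2]
    have := CfsgLib.Core.isNilpotent_of_le hle
    exact CfsgLib.Core.isNilpotent_map _ _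
  · have := Fact.mk hr
    exact absurd h (not_threeStep_coatom hG hCN hM)

/-- A minimal simple CN-group of odd order has no three-step subgroup. -/
theorem not_threeStep (H : Subgroup G) (p : ℕ) : ¬ Cfsg.IsThreeStepGroup p ↥H := by
  intro h
  obtain ⟨A, hA, -, hDn, hDt, -, -, -, -, hnil⟩ := CfsgLib.OddLocal.ThreeStep.derived h
  have hH : H ≠ ⊤ := by
    intro he
    subst he
    have := hG.2.1
    have : IsSimpleGroup (⊤ : Subgroup G) := IsSimpleGroup.isSimpleGroup_of_surjective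
      (Subgroup.topEquiv (G := G)).symm.toMonoidHom (Subgroup.topEquiv (G := G)).symm.surjective
    rcases IsSimpleGroup.eq_bot_or_eq_top_of_normal (Cfsg.pCore p (⊤ : Subgroup G)) inferInstance with h1 | h1
    · exact h.1 h1
    · exact hDt (by rw [h1, top_sup_eq])
  have hn := derived_nilpotent hG hCN hH
  rw [show ⁅H, H⁆ = (⁅(⊤ : Subgroup H), (⊤ : Subgroup H)⁆).map H.subtype by
    rw [map_commutator, ← MonoidHom.range_eq_map, range_subtype]] at hn
  exact hnil (Group.nilpotent_of_mulEquiv (equivMapOfInjective _ _ H.subtype_injective).symm)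

/-- Proper subgroups are nilpotent or Frobenius groups with cyclic complement. -/
theorem dichotomy {K : Subgroup G} (hK : K ≠ ⊤) :
    Group.IsNilpotent K ∨
      ∃ N E : Subgroup K, N.Normal ∧ Subgroup.IsComplement' N E ∧ Cfsg.IsFrobeniusComplement E ∧ IsCyclic E := by
  rcases trichotomy hG hCN hK with h | h | ⟨p, -, h⟩
  · exact Or.inl h
  · exact Or.inr h
  · exact absurd h (not_threeStep hG hCN K p)

omit hCN in
theorem coatom_ne_bot {M : Subgroup G} (hM : IsCoatom M) : M ≠ ⊥ := by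
  rintro rfl
  have := hG.2.1
  obtain ⟨x, hx⟩ := exists_ne (1 : G)
  exact ne_top_of_solvable hG (H := zpowers x) inferInstance
    (hM.2 (zpowers x) (bot_lt_iff_ne_bot.2 (zpowers_ne_bot.2 hx)))

/-- A maximal subgroup is not nilpotent. -/
theorem not_nilpotent_coatom {M : Subgroup G} (hM : IsCoatom M) : ¬ Group.IsNilpotent M := by
  intro hn
  have htop : ⁅(⊤ : Subgroup M), (⊤ : Subgroup M)⁆ = ⊤ := by
    refine CfsgLib.Core.eq_top_of_forall_exists_sylow_le _ fun p hp hpM => ?_
    have := Fact.mk hp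
    obtain ⟨P₀⟩ : Nonempty (Sylow p M) := inferInstance
    have hp2 : p ≠ 2 := by
      rintro rfl
      obtain ⟨w, hw⟩ := hG.1
      have := hpM.trans M.card_subgroup_dvd_card
      omega
    refine ⟨P₀, sylow_le_derived hG hCN hM hp2 P₀ hpM (le_trans ?_
      (CfsgLib.Transfer.normalizer_le_normalizer_centerThompson _))⟩
    intro m hm
    have hPn : (P₀ : Subgroup M).Normal := inferInstance
    exact (le_normalizer_map M.subtype) ⟨⟨m, hm⟩, by rw [normalizer_eq_top_iff.2 hPn]; trivial, rfl⟩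
  have : Nontrivial M := (nontrivial_iff_ne_bot M).2 (coatom_ne_bot hG hM)
  exact (Group.IsSolvable.commutator_lt_top_of_nontrivial M).ne htop

end MinSimple

end CfsgLib.OddLocal.CNSimple
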