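import Cfsg.Agent.Lib.OddLocal.SupportOvergroup

/-!
# The sets `M̃` (BG 14.5, first part)

The cosets `x R(x)` for `x ≠ 1` in some `M_σ` are pairwise disjoint, the conjugates of `M` containing `x`
are permuted regularly by `R(x)`, and `|M̃| = (|M_σ| - 1) |G : M|`.
-/

namespace CfsgLib.OddLocal.Support

open Subgroup
open CfsgLib.TwoGroups
open SigmaOrderP (sigmaCore_le le_normalizer_sigmaCore)

variable {G : Type*} [Group G] [Finite G] {M N H : Subgroup G} {x y r s g : G}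

theorem normalizer_eq_self (hG : Cfsg.IsMinSimpleOddOrder G) (hM : IsCoatom M) :
    normalizer (M : Set G) = M := by
  rcases hM.le_iff.mp (le_normalizer : M ≤ normalizer (M : Set G)) with h | h
  · exact absurd h (TransitivityHyp.normalizer_ne_top hG (ProperPLength.maximal_ne_bot hG hM) hM.1)
  · exact h

theorem map_conj_mul (a b : G) (K : Subgroup G) :
    (K.map (MulAut.conj b).toMonoidHom).map (MulAut.conj a).toMonoidHom =
      K.map (MulAut.conj (a * b)).toMonoidHom := by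
  rw [map_map]
  congr 1
  ext z
  simp [mul_assoc]

theorem map_conj_of_mem {a : G} {K : Subgroup G} (ha : a ∈ K) : K.map (MulAut.conj a).toMonoidHom = K :=
  Transfer.map_conj_eq_self_iff.mpr (le_normalizer ha)

theorem eq_of_map_conj_eq (hG : Cfsg.IsMinSimpleOddOrder G) (hM : IsCoatom M) {a b : G}
    (h : M.map (MulAut.conj a).toMonoidHom = M.map (MulAut.conj b).toMonoidHom) : b⁻¹ * a ∈ M := by
  rw [← normalizer_eq_self hG hM]
  apply Transfer.map_conj_eq_self_iff.mp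
  rw [← map_conj_mul, h, map_conj_mul, inv_mul_cancel]
  exact map_conj_of_mem (one_mem M)

theorem sigmaCore_map_conj (hG : Cfsg.IsMinSimpleOddOrder G) (hM : IsCoatom M) (g : G) :
    Cfsg.sigmaCore (M.map (MulAut.conj g).toMonoidHom) =
      (Cfsg.sigmaCore M).map (MulAut.conj g).toMonoidHom := by
  have key : ∀ (K : Subgroup G), IsCoatom K → ∀ a : G, (Cfsg.sigmaCore K).map (MulAut.conj a).toMonoidHom ≤
      Cfsg.sigmaCore (K.map (MulAut.conj a).toMonoidHom) := fun K hK a =>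
    SigmaEmbedding.le_sigmaCore_of_pi hG (SylowUnique.isCoatom_conj hK a) (map_mono (sigmaCore_le K))
      fun t ht hd => by
        have := Fact.mk ht
        rw [Transfer.card_map_conj] at hd
        exact (SigmaDisjoint.sigma_conj a).mpr (TauTwo.mem_sigma_of_dvd ht hd hG hK)
  refine le_antisymm ?_ (key M hM g)
  have h := map_mono (f := (MulAut.conj g).toMonoidHom) (key _ (SylowUnique.isCoatom_conj hM g) g⁻¹)
  rwa [map_conj_mul, mul_inv_cancel, map_conj_of_mem (one_mem _), map_conj_mul, inv_mul_cancel,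
    map_conj_of_mem (one_mem _)] at h

theorem map_conj_centralizer (g x : G) :
    (centralizer ({x} : Set G)).map (MulAut.conj g).toMonoidHom = centralizer ({g * x * g⁻¹} : Set G) := by
  ext z
  rw [Transfer.mem_map_conj, mem_centralizer_singleton_iff, mem_centralizer_singleton_iff]
  constructor <;> intro h
  · calc z * (g * x * g⁻¹) = g * (g⁻¹ * z * g * x) * g⁻¹ := by group
      _ = g * (x * (g⁻¹ * z * g)) * g⁻¹ := by rw [h]
      _ = _ := by group
  · calc g⁻¹ * z * g * x = g⁻¹ * (z * (g * x * g⁻¹)) * g := by group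
      _ = g⁻¹ * ((g * x * g⁻¹) * z) * g := by rw [h]
      _ = _ := by group

theorem map_conj_le_iff (g : G) {K L : Subgroup G} :
    K.map (MulAut.conj g).toMonoidHom ≤ L.map (MulAut.conj g).toMonoidHom ↔ K ≤ L :=
  map_le_map_iff_of_injective (MulAut.conj g).injective

theorem mem_core_conj (hG : Cfsg.IsMinSimpleOddOrder G) (hM : IsCoatom M) (hx : x ∈ Cfsg.sigmaCore M) (g : G) :
    g * x * g⁻¹ ∈ Cfsg.sigmaCore (M.map (MulAut.conj g).toMonoidHom) :=
  sigmaCore_map_conj hG hM g ▸ Transfer.conj_mem_map_conj hx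

theorem mem_core_centralizing (hG : Cfsg.IsMinSimpleOddOrder G) (hM : IsCoatom M) (hx : x ∈ Cfsg.sigmaCore M)
    {k : G} (hk : k ∈ centralizer ({x} : Set G)) :
    x ∈ Cfsg.sigmaCore (M.map (MulAut.conj k).toMonoidHom) := by
  have h := mem_core_conj hG hM hx k
  rwa [mem_centralizer_singleton_iff.mp hk, mul_inv_cancel_right] at h

/-- Everything about `R(x)` used below. -/
theorem supportR_cases (hG : Cfsg.IsMinSimpleOddOrder G) (hM : IsCoatom M) (hx : x ∈ Cfsg.sigmaCore M)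
    (hx1 : x ≠ 1) :
    (centralizer ({x} : Set G) ≤ M ∧ Cfsg.supportR M x = ⊥) ∨
      (¬ centralizer ({x} : Set G) ≤ M ∧ ∃ H, Overgroup M H x ∧
        Cfsg.supportR M x = Cfsg.sigmaCore H ⊓ centralizer ({x} : Set G)) := by
  by_cases h : centralizer ({x} : Set G) ≤ M
  · exact Or.inl ⟨h, supportR_of_le h⟩
  · obtain ⟨H, o⟩ := exists_overgroup hG hM hx hx1 h
    exact Or.inr ⟨h, H, o, o.supportR_eq h⟩

theorem supportR_le_centralizer (hG : Cfsg.IsMinSimpleOddOrder G) (hM : IsCoatom M)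
    (hx : x ∈ Cfsg.sigmaCore M) (hx1 : x ≠ 1) : Cfsg.supportR M x ≤ centralizer ({x} : Set G) := by
  rcases supportR_cases hG hM hx hx1 with ⟨-, h⟩ | ⟨-, H, -, h⟩ <;> rw [h]
  · exact bot_le
  · exact inf_le_right

theorem supportR_inf_eq_bot (hG : Cfsg.IsMinSimpleOddOrder G) (hM : IsCoatom M)
    (hx : x ∈ Cfsg.sigmaCore M) (hx1 : x ≠ 1) : Cfsg.supportR M x ⊓ M = ⊥ := by
  rcases supportR_cases hG hM hx hx1 with ⟨-, h⟩ | ⟨-, H, o, h⟩ <;> rw [h]
  · exact bot_inf_eq _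
  · exact eq_bot_iff.mpr ((inf_le_inf_right _ inf_le_left).trans o.inf_eq.le)

theorem supportR_primes (hG : Cfsg.IsMinSimpleOddOrder G) (hM : IsCoatom M)
    (hx : x ∈ Cfsg.sigmaCore M) (hx1 : x ≠ 1) (hr : r ∈ Cfsg.supportR M x) {t : ℕ} (ht : t.Prime)
    (hd : t ∣ orderOf r) : t ∉ Cfsg.sigma M := by
  rcases supportR_cases hG hM hx hx1 with ⟨-, h⟩ | ⟨-, H, o, h⟩ <;> rw [h] at hr
  · rw [mem_bot.mp hr, orderOf_one] at hd
    exact absurd (Nat.dvd_one.mp hd) ht.ne_one
  · intro htM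
    have := Fact.mk ht
    obtain ⟨g, hg⟩ := SigmaDisjoint.sigma_disjoint hG hM o.max htM
      (TauTwo.mem_sigma_of_dvd ht (hd.trans ((Cfsg.sigmaCore H).orderOf_dvd_natCard hr.1)) hG o.max)
    exact o.nconj g hg

omit [Finite G] in
/-- The `π`-part of a product of commuting elements is unique. -/
theorem part_unique {π : Set ℕ} {a b a' b' : G} (hfin : IsOfFinOrder a ∧ IsOfFinOrder b ∧ IsOfFinOrder a' ∧ IsOfFinOrder b')
    (hab : Commute a b) (hab' : Commute a' b') (h : a * b = a' * b')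
    (ha : ∀ t : ℕ, t.Prime → t ∣ orderOf a → t ∈ π) (hb : ∀ t : ℕ, t.Prime → t ∣ orderOf b → t ∉ π)
    (ha' : ∀ t : ℕ, t.Prime → t ∣ orderOf a' → t ∈ π) (hb' : ∀ t : ℕ, t.Prime → t ∣ orderOf b' → t ∉ π) :
    a = a' := by
  have hcop : (orderOf a * orderOf a').Coprime (orderOf b * orderOf b') := Nat.coprime_of_dvd fun t ht h1 h2 => by
    rcases ht.dvd_mul.mp h1 with h1 | h1 <;> rcases ht.dvd_mul.mp h2 with h2 | h2
    · exact hb t ht h2 (ha t ht h1)
    · exact hb' t ht h2 (ha t ht h1)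
    · exact hb t ht h2 (ha' t ht h1)
    · exact hb' t ht h2 (ha' t ht h1)
  obtain ⟨e, he1, he0⟩ := Nat.chineseRemainder hcop 1 0
  have key : ∀ {u v : G}, Commute u v → orderOf u ∣ orderOf a * orderOf a' →
      orderOf v ∣ orderOf b * orderOf b' → (u * v) ^ e = u := fun {u v} huv hu hv => by
    rw [huv.mul_pow, orderOf_dvd_iff_pow_eq_one.mp (hv.trans (Nat.modEq_zero_iff_dvd.mp he0)), mul_one]
    conv_rhs => rw [← pow_one u]
    exact pow_eq_pow_iff_modEq.mpr (he1.of_dvd hu)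
  have h1 := key hab (dvd_mul_right _ _) (dvd_mul_right _ _)
  have h2 := key hab' (dvd_mul_left _ _) (dvd_mul_left _ _)
  rw [← h1, ← h2, h]

theorem finOrder (a b c d : G) : IsOfFinOrder a ∧ IsOfFinOrder b ∧ IsOfFinOrder c ∧ IsOfFinOrder d :=
  ⟨isOfFinOrder_of_finite a, isOfFinOrder_of_finite b, isOfFinOrder_of_finite c, isOfFinOrder_of_finite d⟩

theorem commute_supportR (hG : Cfsg.IsMinSimpleOddOrder G) (hM : IsCoatom M)
    (hx : x ∈ Cfsg.sigmaCore M) (hx1 : x ≠ 1) (hr : r ∈ Cfsg.supportR M x) : Commute x r :=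
  (mem_centralizer_singleton_iff.mp (supportR_le_centralizer hG hM hx hx1 hr)).symm

theorem sigma_of_mem (hG : Cfsg.IsMinSimpleOddOrder G) (hM : IsCoatom M)
    (hx : x ∈ Cfsg.sigmaCore M) {t : ℕ} (ht : t.Prime) (hd : t ∣ orderOf x) : t ∈ Cfsg.sigma M :=
  TauTwo.mem_sigma_of_dvd ht (hd.trans ((Cfsg.sigmaCore M).orderOf_dvd_natCard hx)) hG hM

/-- For `M` and `N` conjugate, `x` is determined by `x r`. -/
theorem eq_of_conj (hG : Cfsg.IsMinSimpleOddOrder G) (hM : IsCoatom M) (hN : IsCoatom N)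
    (hMN : ∃ g : G, N = M.map (MulAut.conj g).toMonoidHom)
    (hx : x ∈ Cfsg.sigmaCore M) (hx1 : x ≠ 1) (hy : y ∈ Cfsg.sigmaCore N) (hy1 : y ≠ 1)
    (hr : r ∈ Cfsg.supportR M x) (hs : s ∈ Cfsg.supportR N y) (h : x * r = y * s) : x = y := by
  obtain ⟨g, hg⟩ := hMN
  have hiff : ∀ t : ℕ, t.Prime → (t ∈ Cfsg.sigma N ↔ t ∈ Cfsg.sigma M) := fun t ht => by
    have := Fact.mk ht
    rw [hg]
    exact SigmaDisjoint.sigma_conj g
  exact part_unique (π := Cfsg.sigma M) (finOrder x r y s) (commute_supportR hG hM hx hx1 hr)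
    (commute_supportR hG hN hy hy1 hs) h (fun t ht hd => sigma_of_mem hG hM hx ht hd)
    (fun t ht hd => supportR_primes hG hM hx hx1 hr ht hd)
    (fun t ht hd => (hiff t ht).mp (sigma_of_mem hG hN hy ht hd))
    (fun t ht hd h' => supportR_primes hG hN hy hy1 hs ht hd ((hiff t ht).mpr h'))

/-- For nonconjugate `M`, `N`, equal products force `y ∈ R(x)`. -/
theorem swap_of_nconj (hG : Cfsg.IsMinSimpleOddOrder G) (hM : IsCoatom M) (hN : IsCoatom N)
    (hMN : ∀ g : G, N ≠ M.map (MulAut.conj g).toMonoidHom)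
    (hx : x ∈ Cfsg.sigmaCore M) (hx1 : x ≠ 1) (hy : y ∈ Cfsg.sigmaCore N) (hy1 : y ≠ 1)
    (hr : r ∈ Cfsg.supportR M x) (hs : s ∈ Cfsg.supportR N y) (h : x * r = y * s) :
    y = r ∧ ∃ H, ¬ centralizer ({x} : Set G) ≤ M ∧ Overgroup M H x ∧ r ∈ Cfsg.sigmaCore H ∧
      ∃ g : G, H = N.map (MulAut.conj g).toMonoidHom := by
  have hxN : ∀ t : ℕ, t.Prime → t ∣ orderOf x → t ∉ Cfsg.sigma N := fun t ht hd h' => by
    have := Fact.mk ht
    obtain ⟨g, hg⟩ := SigmaDisjoint.sigma_disjoint hG hM hN (sigma_of_mem hG hM hx ht hd) h'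
    exact hMN g hg
  have hcr := commute_supportR hG hM hx hx1 hr
  have hy' : ∀ t : ℕ, t.Prime → t ∣ orderOf y → t ∈ Cfsg.sigma N := fun t ht hd => sigma_of_mem hG hN hy ht hd
  have hs' : ∀ t : ℕ, t.Prime → t ∣ orderOf s → t ∉ Cfsg.sigma N := fun t ht hd =>
    supportR_primes hG hN hy hy1 hs ht hd
  by_cases hall : ∀ t : ℕ, t.Prime → t ∣ orderOf r → t ∉ Cfsg.sigma N
  · have hprod : ∀ t : ℕ, t.Prime → t ∣ orderOf (x * r) → t ∉ Cfsg.sigma N := fun t ht hd => by
      rcases ht.dvd_mul.mp ((hd.trans hcr.orderOf_mul_dvd_lcm).trans (Nat.lcm_dvd_mul _ _)) with h' | h'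
      · exact hxN t ht h'
      · exact hall t ht h'
    refine absurd (part_unique (π := Cfsg.sigma N) (finOrder y s 1 (x * r)) (commute_supportR hG hN hy hy1 hs)
      (Commute.one_left _) (by rw [one_mul, h]) hy' hs' (fun t ht hd => ?_) hprod) hy1
    rw [orderOf_one] at hd
    exact absurd (Nat.dvd_one.mp hd) ht.ne_one
  · push Not at hall
    obtain ⟨t, ht, hd, htN⟩ := hall
    rcases supportR_cases hG hM hx hx1 with ⟨-, hR⟩ | ⟨hxM, H, o, hR⟩ <;> rw [hR] at hr
    · rw [mem_bot.mp hr, orderOf_one] at hd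
      exact absurd (Nat.dvd_one.mp hd) ht.ne_one
    have := Fact.mk ht
    obtain ⟨g, hg⟩ := SigmaDisjoint.sigma_disjoint hG hN o.max htN (sigma_of_mem hG o.max hr.1 ht hd)
    refine ⟨?_, H, hxM, o, hr.1, g, hg⟩
    refine part_unique (π := Cfsg.sigma N) (finOrder y s r x) (commute_supportR hG hN hy hy1 hs) hcr.symm
      (by rw [← h]; exact hcr.eq) hy' hs' (fun u hu hd' => ?_) hxN
    have := Fact.mk hu
    have h' := sigma_of_mem hG o.max hr.1 hu hd'
    rw [hg] at h'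
    exact (SigmaDisjoint.sigma_conj g).mp h'

/-- BG 14.5: the cosets are disjoint. -/
theorem eq_of_mul_eq (hG : Cfsg.IsMinSimpleOddOrder G) (hM : IsCoatom M) (hN : IsCoatom N)
    (hx : x ∈ Cfsg.sigmaCore M) (hx1 : x ≠ 1) (hy : y ∈ Cfsg.sigmaCore N) (hy1 : y ≠ 1)
    (hr : r ∈ Cfsg.supportR M x) (hs : s ∈ Cfsg.supportR N y) (h : x * r = y * s) :
    x = y ∧ ∃ g : G, N = M.map (MulAut.conj g).toMonoidHom := by
  by_cases hMN : ∃ g : G, N = M.map (MulAut.conj g).toMonoidHom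
  · exact ⟨eq_of_conj hG hM hN hMN hx hx1 hy hy1 hr hs h, hMN⟩
  exfalso
  push Not at hMN
  have hMN' : ∀ g : G, M ≠ N.map (MulAut.conj g).toMonoidHom := fun g e =>
    hMN g⁻¹ (by rw [e, map_conj_mul, inv_mul_cancel, map_conj_of_mem (one_mem _)])
  obtain ⟨hyr, H, hxM, o, hrH, g, hg⟩ := swap_of_nconj hG hM hN hMN hx hx1 hy hy1 hr hs h
  obtain ⟨hxs, H', hyN, o', hsH, g', hg'⟩ := swap_of_nconj hG hN hM hMN' hy hy1 hx hx1 hs hr h.symm
  have hxH' : x ∈ Cfsg.sigmaCore H' := hxs ▸ hsH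
  have hyH' : y ∈ H' := o'.le (mem_centralizer_singleton_iff.mpr rfl)
  by_cases hC : centralizer ({x} : Set G) ≤ H'
  · have hH := o.unique H' o'.max hC
    rw [hg'] at hH
    exact o.nconj g' hH.symm
  · obtain ⟨H₁, o₁⟩ := exists_overgroup hG o'.max hxH' hx1 hC
    rw [o.unique H₁ o₁.max o₁.le] at o₁
    exact hy1 (mem_bot.mp (o₁.inf_eq ▸ mem_inf.mpr ⟨hyr ▸ hrH, hyH'⟩))

/-- The conjugates of `M` containing `x` are the conjugates by elements of `R(x)`. -/
theorem exists_eq_conj_supportR (hG : Cfsg.IsMinSimpleOddOrder G) (hM : IsCoatom M)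
    (hx : x ∈ Cfsg.sigmaCore M) (hx1 : x ≠ 1) (hg : x ∈ M.map (MulAut.conj g).toMonoidHom) :
    ∃ k ∈ Cfsg.supportR M x, M.map (MulAut.conj g).toMonoidHom = M.map (MulAut.conj k).toMonoidHom := by
  obtain ⟨q, Y, hq, hY, hYx⟩ := FixedTauOne.exists_prime_sub (fun e => hx1 (zpowers_eq_bot.mp e) : zpowers x ≠ ⊥)
  have := Fact.mk hq
  have hYO : Y ≤ Cfsg.sigmaCore M := hYx.trans (zpowers_le.mpr hx)
  obtain ⟨y, hyY, hy1⟩ : ∃ y ∈ Y, y ≠ 1 := Y.bot_or_exists_ne_one.resolve_left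
    (FixedTauOne.ne_bot_of_card_eq hY)
  have hYz : Y ≤ zpowers y := by
    refine (eq_of_le_of_card_ge (zpowers_le.mpr hyY) ?_).ge
    rw [hY, Nat.card_zpowers, orderOf_eq_prime (orderOf_dvd_iff_pow_eq_one.mp (hY ▸ Y.orderOf_dvd_natCard hyY)) hy1]
  obtain ⟨n, rfl⟩ := mem_zpowers_iff.mp (hYx hyY)
  -- `M ^ g = M ^ c` with `c` centralizing `y`
  obtain ⟨m, hm, c, hc, hgc⟩ := (SigmaTrans.factor_conj hG hM (TauTwo.mem_sigma_of_dvd hq
      (hY ▸ card_dvd_of_le hYO) hG hM) (FixedTauOne.isPGroup_of_card_eq hY) (FixedTauOne.ne_bot_of_card_eq hY)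
      (hYO.trans (sigmaCore_le M))).1 g⁻¹ (by
    rintro _ ⟨z, hz, rfl⟩
    obtain ⟨j, rfl⟩ := mem_zpowers_iff.mp (hYx hz)
    simpa using Transfer.mem_map_conj.mp (zpow_mem hg j))
  have hcy : c ∈ centralizer ({x ^ n} : Set G) :=
    Subgroup.centralizer_le (Set.singleton_subset_iff.mpr hyY) hc
  have hgM : M.map (MulAut.conj g).toMonoidHom = M.map (MulAut.conj c⁻¹).toMonoidHom := by
    rw [show g = c⁻¹ * m⁻¹ by rw [← inv_inv g, hgc, mul_inv_rev], ← map_conj_mul, map_conj_of_mem (inv_mem hm)]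
  have hyM : x ^ n ∈ Cfsg.sigmaCore M := zpow_mem hx n
  have hxy : centralizer ({x} : Set G) ≤ centralizer ({x ^ n} : Set G) := fun w hw =>
    mem_centralizer_singleton_iff.mpr ((show Commute w x from mem_centralizer_singleton_iff.mp hw).zpow_right n).eq
  by_cases hC : centralizer ({x ^ n} : Set G) ≤ M
  · exact ⟨1, one_mem _, by rw [hgM, map_conj_of_mem (inv_mem (hC hcy)), map_conj_of_mem (one_mem _)]⟩
  obtain ⟨H, o⟩ := exists_overgroup hG hM hyM hy1 hC
  obtain ⟨a, ha, k, hk, hak⟩ := o.factor.2.2.2 c hcy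
  have hgk : M.map (MulAut.conj g).toMonoidHom = M.map (MulAut.conj k⁻¹).toMonoidHom := by
    rw [hgM, hak, mul_inv_rev, ← map_conj_mul, map_conj_of_mem (inv_mem (mem_inf.mp ha).1)]
  have hxH : x ∈ H := o.le (mem_centralizer_singleton_iff.mpr
    ((Commute.refl x).zpow_right n).eq)
  have hxM := sigmaCore_le M hx
  -- `k` centralizes `x`
  have hkx : k * x * k⁻¹ = x := by
    have h1 : k * x * k⁻¹ ∈ M := by
      rw [hgk, Transfer.mem_map_conj, inv_inv] at hg
      exact hg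
    have h2 : k * x * k⁻¹ * x⁻¹ ∈ Cfsg.sigmaCore H ⊓ M := by
      refine mem_inf.mpr ⟨?_, mul_mem h1 (inv_mem hxM)⟩
      rw [show k * x * k⁻¹ * x⁻¹ = k * (x * k⁻¹ * x⁻¹) by group]
      exact mul_mem (mem_inf.mp hk).1
        ((mem_normalizer_iff.mp (le_normalizer_sigmaCore H hxH) k⁻¹).mp (inv_mem (mem_inf.mp hk).1))
    rw [o.inf_eq, mem_bot, mul_inv_eq_one] at h2
    exact h2
  have hkC : k ∈ centralizer ({x} : Set G) := mem_centralizer_singleton_iff.mpr (mul_inv_eq_iff_eq_mul.mp hkx)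
  rcases supportR_cases hG hM hx hx1 with ⟨hle, -⟩ | ⟨hle, H', o', hR⟩
  · exact ⟨1, one_mem _, by rw [hgk, map_conj_of_mem (inv_mem (hle hkC)), map_conj_of_mem (one_mem _)]⟩
  · have hH : H = H' := o'.unique H o.max (hxy.trans o.le)
    exact ⟨k⁻¹, hR ▸ mem_inf.mpr ⟨hH ▸ inv_mem (mem_inf.mp hk).1, inv_mem hkC⟩, hgk⟩

/-- `R(x)` does not depend on the conjugate of `M` used. -/
theorem supportR_eq_of_mem (hG : Cfsg.IsMinSimpleOddOrder G) (hM : IsCoatom M)
    (hx : x ∈ Cfsg.sigmaCore M) (hx1 : x ≠ 1)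
    (hg : x ∈ Cfsg.sigmaCore (M.map (MulAut.conj g).toMonoidHom)) :
    Cfsg.supportR (M.map (MulAut.conj g).toMonoidHom) x = Cfsg.supportR M x := by
  have hM' := SylowUnique.isCoatom_conj hM g
  obtain ⟨k, hk, hgk⟩ := exists_eq_conj_supportR hG hM hx hx1 (sigmaCore_le _ hg)
  rcases supportR_cases hG hM hx hx1 with ⟨-, hR⟩ | ⟨hle, H, o, hR⟩
  · rw [hR, mem_bot] at hk
    rw [hgk, hk, map_conj_of_mem (one_mem _)]
  · have hkC := supportR_le_centralizer hG hM hx hx1 hk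
    have hne : ¬ centralizer ({x} : Set G) ≤ M.map (MulAut.conj g).toMonoidHom := by
      rw [hgk, ← map_conj_of_mem hkC, map_conj_le_iff]
      exact hle
    obtain ⟨H', o'⟩ := exists_overgroup hG hM' hg hx1 hne
    rw [o'.supportR_eq hne, hR, o.unique H' o'.max o'.le]

/-- `R` commutes with conjugation. -/
theorem supportR_map_conj (hG : Cfsg.IsMinSimpleOddOrder G) (hM : IsCoatom M)
    (hx : x ∈ Cfsg.sigmaCore M) (hx1 : x ≠ 1) (g : G) :
    Cfsg.supportR (M.map (MulAut.conj g).toMonoidHom) (g * x * g⁻¹) =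
      (Cfsg.supportR M x).map (MulAut.conj g).toMonoidHom := by
  rcases supportR_cases hG hM hx hx1 with ⟨hle, hR⟩ | ⟨hle, H, o, hR⟩
  · rw [hR, Subgroup.map_bot]
    exact supportR_of_le (map_conj_centralizer g x ▸ map_mono hle)
  · have hne : ¬ centralizer ({g * x * g⁻¹} : Set G) ≤ M.map (MulAut.conj g).toMonoidHom := fun h => by
      rw [← map_conj_centralizer, map_conj_le_iff] at h
      exact hle h
    obtain ⟨H', o'⟩ := exists_overgroup hG (SylowUnique.isCoatom_conj hM g) (mem_core_conj hG hM hx g)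
      (fun e => hx1 (by simpa [conj_eq_one_iff] using e)) hne
    rw [o'.supportR_eq hne, hR, map_inf_eq _ _ _ (MulAut.conj g).injective, map_conj_centralizer,
      ← sigmaCore_map_conj hG o.max g]
    rw [o'.unique _ (SylowUnique.isCoatom_conj o.max g) (map_conj_centralizer g x ▸ map_mono o.le)]

open scoped Classical in
/-- BG 14.5: the number of elements of `M̃`. -/
theorem ncard_tildeOf (hG : Cfsg.IsMinSimpleOddOrder G) (hM : IsCoatom M) :
    Set.ncard (Cfsg.tildeOf M ((Cfsg.sigmaCore M : Set G) \ {1})) =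
      (Nat.card (Cfsg.sigmaCore M) - 1) * M.index := by
  set A : Set G := (Cfsg.sigmaCore M : Set G) \ {1} with hA
  -- a chosen conjugate of `M` containing a given element
  set P : G → Prop := fun a => ∃ h : G, a ∈ Cfsg.sigmaCore (M.map (MulAut.conj h).toMonoidHom) with hP
  set base : G → Subgroup G := fun a =>
    if h : P a then M.map (MulAut.conj h.choose).toMonoidHom else M with hbase
  have hbaseM : ∀ a, IsCoatom (base a) ∧ ∃ h : G, base a = M.map (MulAut.conj h).toMonoidHom := fun a => by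
    by_cases h : P a
    · simp only [hbase, dif_pos h]
      exact ⟨SylowUnique.isCoatom_conj hM _, _, rfl⟩
    · simp only [hbase, dif_neg h]
      exact ⟨hM, 1, (map_conj_of_mem (one_mem _)).symm⟩
  have hbmem : ∀ (a h : G), a ∈ Cfsg.sigmaCore (M.map (MulAut.conj h).toMonoidHom) →
      a ∈ Cfsg.sigmaCore (base a) := fun a h hh => by
    have hp : P a := ⟨h, hh⟩
    simp only [hbase, dif_pos hp]
    exact hp.choose_spec
  have hchoice : ∀ (h a : G), a ∈ Cfsg.sigmaCore (M.map (MulAut.conj h).toMonoidHom) → a ≠ 1 →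
      ∃ k ∈ Cfsg.supportR (base a) a,
        M.map (MulAut.conj h).toMonoidHom = (base a).map (MulAut.conj k).toMonoidHom := fun h a hh ha => by
    obtain ⟨hbM, b, hb⟩ := hbaseM a
    have e : M.map (MulAut.conj h).toMonoidHom = (base a).map (MulAut.conj (h * b⁻¹)).toMonoidHom := by
      rw [hb, map_conj_mul, inv_mul_cancel_right]
    obtain ⟨k, hk, hke⟩ := exists_eq_conj_supportR hG hbM (hbmem a h hh) ha (g := h * b⁻¹)
      (e ▸ sigmaCore_le _ hh)
    exact ⟨k, hk, e.trans hke⟩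
  set pt : (G ⧸ M) × A → G := fun w => w.1.out * w.2.1 * w.1.out⁻¹ with hpt
  have hptm : ∀ w, pt w ∈ Cfsg.sigmaCore (M.map (MulAut.conj w.1.out).toMonoidHom) := fun w =>
    mem_core_conj hG hM w.2.2.1 _
  have hpt1 : ∀ w, pt w ≠ 1 := fun w e => w.2.2.2 (by simpa [hpt, conj_eq_one_iff] using e)
  choose k hk hke using fun w : (G ⧸ M) × A => hchoice _ _ (hptm w) (hpt1 w)
  set Φ : (G ⧸ M) × A → G := fun w => pt w * k w with hΦ
  have hinj : Function.Injective Φ := fun w w' e => by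
    have h1 := eq_of_conj hG (hbaseM _).1 (hbaseM _).1 (by
      obtain ⟨-, b, hb⟩ := hbaseM (pt w)
      obtain ⟨-, b', hb'⟩ := hbaseM (pt w')
      exact ⟨b' * b⁻¹, by rw [hb, hb', map_conj_mul, inv_mul_cancel_right]⟩)
      (hbmem _ _ (hptm w)) (hpt1 w) (hbmem _ _ (hptm w')) (hpt1 w') (hk w) (hk w') e
    have h2 : k w = k w' := by
      simp only [hΦ, h1] at e
      exact mul_left_cancel e
    have h3 : M.map (MulAut.conj w.1.out).toMonoidHom = M.map (MulAut.conj w'.1.out).toMonoidHom := by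
      rw [hke w, hke w', h2, h1]
    have h4 : w.1 = w'.1 := by
      rw [← QuotientGroup.out_eq' w.1, ← QuotientGroup.out_eq' w'.1]
      exact (QuotientGroup.eq.mpr (eq_of_map_conj_eq hG hM h3)).symm
    refine Prod.ext h4 (Subtype.ext ?_)
    have h5 := h1
    simp only [hpt, h4] at h5
    simpa using h5
  have hrange : Set.range Φ = Cfsg.tildeOf M A := by
    ext t
    constructor
    · rintro ⟨w, rfl⟩
      set g := w.1.out
      obtain ⟨hbM, b, hb⟩ := hbaseM (pt w)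
      have hR : Cfsg.supportR (M.map (MulAut.conj g).toMonoidHom) (pt w) = Cfsg.supportR (base (pt w)) (pt w) := by
        have e : M.map (MulAut.conj g).toMonoidHom = (base (pt w)).map (MulAut.conj (g * b⁻¹)).toMonoidHom := by
          rw [hb, map_conj_mul, inv_mul_cancel_right]
        rw [e]
        exact supportR_eq_of_mem hG hbM (hbmem _ _ (hptm w)) (hpt1 w) (e ▸ hptm w)
      have h := hk w
      rw [← hR] at h
      change k w ∈ Cfsg.supportR (M.map (MulAut.conj g).toMonoidHom) (g * w.2.1 * g⁻¹) at h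
      rw [supportR_map_conj hG hM w.2.2.1 w.2.2.2 g, Transfer.mem_map_conj] at h
      refine ⟨w.2.1, w.2.2, g⁻¹ * k w * g, h, g, ?_⟩
      show g * w.2.1 * g⁻¹ * k w = _
      group
    · rintro ⟨x, hx, r, hr, y, rfl⟩
      set a := y * x * y⁻¹ with ha
      have ha1 : a ≠ 1 := fun e => hx.2 (by simpa [ha, conj_eq_one_iff] using e)
      have hay := mem_core_conj hG hM hx.1 y
      obtain ⟨hbM, b, hb⟩ := hbaseM a
      have e : M.map (MulAut.conj y).toMonoidHom = (base a).map (MulAut.conj (y * b⁻¹)).toMonoidHom := by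
        rw [hb, map_conj_mul, inv_mul_cancel_right]
      have hr' : y * r * y⁻¹ ∈ Cfsg.supportR (base a) a := by
        rw [← supportR_eq_of_mem hG hbM (hbmem a y hay) ha1 (e ▸ hay), ← e,
          supportR_map_conj hG hM hx.1 hx.2 y]
        exact Transfer.conj_mem_map_conj hr
      set k' := y * r * y⁻¹ with hk'
      set h := k' * b with hh
      have hb' : (base a).map (MulAut.conj k').toMonoidHom = M.map (MulAut.conj h).toMonoidHom := by
        rw [hb, map_conj_mul]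
      set c : G ⧸ M := QuotientGroup.mk h
      have hcM : M.map (MulAut.conj c.out).toMonoidHom = M.map (MulAut.conj h).toMonoidHom := by
        have hm : h⁻¹ * c.out ∈ M := QuotientGroup.eq.mp (QuotientGroup.out_eq' c).symm
        have h1 := congrArg (Subgroup.map (MulAut.conj h).toMonoidHom) (map_conj_of_mem hm)
        rwa [map_conj_mul, mul_inv_cancel_left] at h1
      have hmem : c.out⁻¹ * a * c.out ∈ A := by
        refine ⟨?_, fun e => ha1 (by simpa [mul_assoc, inv_mul_eq_one] using e)⟩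
        have h1 := mem_core_centralizing hG hbM (hbmem a y hay)
          (supportR_le_centralizer hG hbM (hbmem a y hay) ha1 hr')
        rw [hb', ← hcM, sigmaCore_map_conj hG hM] at h1
        exact Transfer.mem_map_conj.mp h1
      refine ⟨⟨c, ⟨_, hmem⟩⟩, ?_⟩
      have hpa : pt ⟨c, ⟨_, hmem⟩⟩ = a := by simp [hpt, mul_assoc]
      have h1 := hk ⟨c, ⟨_, hmem⟩⟩
      have h2 := hke ⟨c, ⟨_, hmem⟩⟩
      rw [hpa] at h1 h2
      have h3 : k ⟨c, ⟨_, hmem⟩⟩ = k' := by
        have h4 := eq_of_map_conj_eq hG hbM (h2.symm.trans (hcM.trans hb'.symm))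
        have h5 : k'⁻¹ * k ⟨c, ⟨_, hmem⟩⟩ ∈ Cfsg.supportR (base a) a ⊓ base a :=
          mem_inf.mpr ⟨mul_mem (inv_mem hr') h1, h4⟩
        rw [supportR_inf_eq_bot hG hbM (hbmem a y hay) ha1, mem_bot, inv_mul_eq_one] at h5
        exact h5.symm
      show pt ⟨c, ⟨_, hmem⟩⟩ * k ⟨c, ⟨_, hmem⟩⟩ = _
      rw [hpa, h3, ha, hk']
      group
  rw [← hrange, ← Nat.card_coe_set_eq, Nat.card_range_of_injective hinj, Nat.card_prod, Nat.card_coe_set_eq,
    hA, Set.ncard_diff_singleton_of_mem (one_mem _), ← Nat.card_coe_set_eq, mul_comm]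
  rfl

end CfsgLib.OddLocal.Support
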