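import Cfsg.Agent.Lib.OddLocal.KappaNormal

/-!
Sigma decompositions `M = K U M_σ`.
-/

set_option autoImplicit false
set_option linter.unusedSectionVars false

namespace CfsgLib.OddLocal.Kappa

open Subgroup
open CfsgLib.TwoGroups
open PrimeActionTools FixedTauOne TauThree
open SylowUnique (Only)
open TauTwoFacts (rankTwo structure_tau2)
open SigmaOrderP (sigmaCore_le le_normalizer_sigmaCore le_sigmaCore)
open scoped commutatorElement

variable {G : Type*} [Group G] [Finite G] {M E K L U : Subgroup G}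

/-- The set of primes of `U`. -/
abbrev restPrimes (M : Subgroup G) : Set ℕ := {q | q.Prime ∧ q ∉ Cfsg.kappa M ∧ q ∉ Cfsg.sigma M}

/-- The primes of `K M_σ`. -/
theorem card_sup_primes (hG : Cfsg.IsMinSimpleOddOrder G) (hM : IsCoatom M)
    (hK : Cfsg.IsPiHallOf (Cfsg.kappa M) K M) {t : ℕ} (ht : t.Prime)
    (hd : t ∣ Nat.card ↥(K ⊔ Cfsg.sigmaCore M)) : t ∈ Cfsg.kappa M ∨ t ∈ Cfsg.sigma M := by
  rcases ht.dvd_mul.mp (hd.trans (Core.card_sup_dvd K (Cfsg.sigmaCore M) (hK.1.trans (le_normalizer_sigmaCore M))))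
    with h | h
  · exact Or.inl (hK.2.1 t ht h)
  · exact Or.inr (TauTwo.mem_sigma_of_dvd ht h hG hM)

theorem inf_eq_bot_of_rest (hG : Cfsg.IsMinSimpleOddOrder G) (hM : IsCoatom M)
    (hK : Cfsg.IsPiHallOf (Cfsg.kappa M) K M) {T : Subgroup G}
    (hT : ∀ t : ℕ, t.Prime → t ∣ Nat.card T → t ∈ restPrimes M) : T ⊓ (K ⊔ Cfsg.sigmaCore M) = ⊥ :=
  inf_eq_bot_of_coprime (Nat.coprime_of_dvd fun t ht h1 h2 => by
    rcases card_sup_primes hG hM hK ht h2 with h | h
    · exact (hT t ht h1).2.1 h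
    · exact (hT t ht h1).2.2 h)

/-- A complement of `K M_σ` is a Hall subgroup for the remaining primes. -/
theorem hall_of_compl (hG : Cfsg.IsMinSimpleOddOrder G) (hM : IsCoatom M)
    (hK : Cfsg.IsPiHallOf (Cfsg.kappa M) K M) (hU : Cfsg.IsComplIn U (K ⊔ Cfsg.sigmaCore M) M) :
    Cfsg.IsPiHallOf (restPrimes M) U M := by
  obtain ⟨hUM, hSM, hdis, hfac⟩ := hU
  set S := K ⊔ Cfsg.sigmaCore M with hS
  have hcard : Nat.card M = Nat.card U * Nat.card S := by
    let f : U × S → M := fun x => ⟨(x.1 : G) * x.2, M.mul_mem (hUM x.1.2) (hSM x.2.2)⟩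
    have hf : Function.Bijective f := by
      refine ⟨fun ⟨a, b⟩ ⟨c, e⟩ h => ?_, fun m => ?_⟩
      · have h' : (a : G) * b = c * e := congrArg Subtype.val h
        have h1 : (c : G)⁻¹ * a ∈ U ⊓ S := ⟨U.mul_mem (U.inv_mem c.2) a.2, by
          rw [show (c : G)⁻¹ * a = e * (b : G)⁻¹ by
            rw [eq_mul_inv_iff_mul_eq, mul_assoc, h', ← mul_assoc, inv_mul_cancel, one_mul]]
          exact S.mul_mem e.2 (S.inv_mem b.2)⟩
        rw [hdis, mem_bot, inv_mul_eq_one] at h1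
        rw [← h1] at h'
        exact Prod.ext (Subtype.ext h1.symm) (Subtype.ext (mul_left_cancel h'))
      · obtain ⟨a, ha, b, hb, e⟩ := hfac m m.2
        exact ⟨(⟨a, ha⟩, ⟨b, hb⟩), Subtype.ext e.symm⟩
    rw [← Nat.card_prod]
    exact (Nat.card_eq_of_bijective f hf).symm
  have hidx : U.relIndex M = Nat.card S := by
    refine Nat.eq_of_mul_eq_mul_left (Nat.card_pos (α := U)) ?_
    rw [← relIndex_bot_left U, relIndex_mul_relIndex ⊥ U M bot_le hUM, relIndex_bot_left, relIndex_bot_left]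
    exact hcard
  refine ⟨hUM, fun t ht hd => ⟨ht, fun hk => ?_, fun hs => ?_⟩, fun t ht hπ hd => ?_⟩
  · have := Fact.mk ht
    refine hK.2.2 t ht hk ?_
    have h1 : Nat.card U ∣ K.relIndex M := by
      refine Nat.dvd_of_mul_dvd_mul_left (Nat.card_pos (α := K)) ?_
      rw [← relIndex_bot_left K, relIndex_mul_relIndex ⊥ K M bot_le hK.1, relIndex_bot_left, relIndex_bot_left,
        hcard, mul_comm]
      exact Nat.mul_dvd_mul_left _ (card_dvd_of_le le_sup_left)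
    exact hd.trans h1
  · have := Fact.mk ht
    obtain ⟨⟨-, -, h⟩, -, -⟩ := SigmaCore.sigmaCore_hall hG hM
    refine h t ht hs ?_
    have h1 : Nat.card U ∣ (Cfsg.sigmaCore M).relIndex M := by
      refine Nat.dvd_of_mul_dvd_mul_left (Nat.card_pos (α := Cfsg.sigmaCore M)) ?_
      rw [← relIndex_bot_left (Cfsg.sigmaCore M), relIndex_mul_relIndex ⊥ _ M bot_le (sigmaCore_le M),
        relIndex_bot_left, relIndex_bot_left, hcard, mul_comm]
      exact Nat.mul_dvd_mul_left _ (card_dvd_of_le le_sup_right)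
    exact hd.trans h1
  · rw [hidx] at hd
    rcases card_sup_primes hG hM hK ht hd with h | h
    · exact hπ.2.1 h
    · exact hπ.2.2 h

/-- A Hall subgroup for the remaining primes is a complement of `K M_σ`. -/
theorem compl_of_hall (hG : Cfsg.IsMinSimpleOddOrder G) (hM : IsCoatom M)
    (hE : Cfsg.IsComplIn E (Cfsg.sigmaCore M) M) (hKE : K ≤ E) (hUE : U ≤ E) (hn : K ≤ normalizer (U : Set G))
    (hK : Cfsg.IsPiHallOf (Cfsg.kappa M) K M) (hU : Cfsg.IsPiHallOf (restPrimes M) U M) :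
    Cfsg.IsComplIn U (K ⊔ Cfsg.sigmaCore M) M := by
  refine ⟨hU.1, sup_le hK.1 (sigmaCore_le M), inf_eq_bot_of_rest hG hM hK hU.2.1, fun m hm => ?_⟩
  have hsup : K ⊔ U = E := by
    refine le_antisymm (sup_le hKE hUE) (relIndex_eq_one.mp ?_)
    by_contra hne
    obtain ⟨t, ht, hd⟩ := Nat.exists_prime_and_dvd hne
    have := Fact.mk ht
    have hdE : t ∣ Nat.card E := hd.trans (index_dvd_card _)
    have hdM : t ∣ (K ⊔ U).relIndex M := by
      rw [← relIndex_mul_relIndex (K ⊔ U) E M (sup_le hKE hUE) hE.1]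
      exact hd.mul_right _
    by_cases hk : t ∈ Cfsg.kappa M
    · refine hK.2.2 t ht hk ?_
      rw [← relIndex_mul_relIndex K (K ⊔ U) M le_sup_left (sup_le hK.1 hU.1)]
      exact hdM.mul_left _
    · refine hU.2.2 t ht ⟨ht, hk, SigmaComplement.not_mem_sigma hG hM hE hdE⟩ ?_
      rw [← relIndex_mul_relIndex U (K ⊔ U) M le_sup_right (sup_le hK.1 hU.1)]
      exact hdM.mul_left _
  obtain ⟨e, he, b, hb, rfl⟩ := hE.2.2.2 m hm
  rw [← hsup] at he
  obtain ⟨u, hu, k, hk, rfl⟩ := (Core.mem_sup_iff_mul' hn).mp he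
  exact ⟨u, hu, k * b, mul_mem (mem_sup_left hk) (mem_sup_right hb), by rw [mul_assoc]⟩

/-- Existence of a decomposition and normality of `U M_σ`. -/
theorem exists_decomp (hG : Cfsg.IsMinSimpleOddOrder G) (hM : IsCoatom M)
    (hK : Cfsg.IsPiHallOf (Cfsg.kappa M) K M) :
    ∃ U₀ : Subgroup G, U₀ ≤ M ∧ Cfsg.IsComplIn U₀ (K ⊔ Cfsg.sigmaCore M) M ∧ K ≤ normalizer (U₀ : Set G) ∧
      M ≤ normalizer ((U₀ ⊔ Cfsg.sigmaCore M : Subgroup G) : Set G) := by
  by_cases hK1 : K = ⊥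
  · obtain ⟨E, hE, -⟩ := TauTwo.exists_complement_ge hG hM (bot_le : (⊥ : Subgroup G) ≤ M) fun t ht hd => by
      rw [card_bot] at hd; exact absurd (Nat.dvd_one.mp hd) ht.ne_one
    refine ⟨E, hE.1, by rw [hK1, bot_sup_eq]; exact hE, by rw [hK1]; exact bot_le, ?_⟩
    have : E ⊔ Cfsg.sigmaCore M = M := le_antisymm (sup_le hE.1 (sigmaCore_le M)) fun m hm => by
      obtain ⟨a, ha, b, hb, rfl⟩ := hE.2.2.2 m hm
      exact mul_mem (mem_sup_left ha) (mem_sup_right hb)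
    rw [this]
    exact le_normalizer
  obtain ⟨E, d⟩ := exists_data hG hM hK hK1
  obtain ⟨U₀, hUE, -, hUhall, hEU, -⟩ := d.exists_U hG
  refine ⟨U₀, hUhall.1, compl_of_hall hG hM d.compl d.le hUE (d.le.trans hEU) hK hUhall, d.le.trans hEU, ?_⟩
  intro m hm
  obtain ⟨a, ha, b, hb, rfl⟩ := d.compl.2.2.2 m hm
  have key : ∀ x : G, x ∈ normalizer (U₀ : Set G) → x ∈ normalizer (Cfsg.sigmaCore M : Set G) →
      x ∈ normalizer ((U₀ ⊔ Cfsg.sigmaCore M : Subgroup G) : Set G) := fun x h1 h2 =>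
    Transfer.map_conj_eq_self_iff.mp (by
      rw [Subgroup.map_sup, Transfer.map_conj_eq_self_iff.mpr h1, Transfer.map_conj_eq_self_iff.mpr h2])
  exact mul_mem (key a (hEU ha) (le_normalizer_sigmaCore M (d.compl.1 ha)))
    (le_normalizer (mem_sup_right hb))

/-- `U M_σ` does not depend on the choice of `U`. -/
theorem sup_eq (hG : Cfsg.IsMinSimpleOddOrder G) (hM : IsCoatom M) {U₀ : Subgroup G}
    (hK : Cfsg.IsPiHallOf (Cfsg.kappa M) K M) (hU₀ : Cfsg.IsComplIn U₀ (K ⊔ Cfsg.sigmaCore M) M)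
    (hU : Cfsg.IsComplIn U (K ⊔ Cfsg.sigmaCore M) M)
    (hn : M ≤ normalizer ((U₀ ⊔ Cfsg.sigmaCore M : Subgroup G) : Set G)) :
    U ⊔ Cfsg.sigmaCore M = U₀ ⊔ Cfsg.sigmaCore M := by
  have h₀ := hall_of_compl hG hM hK hU₀
  have h₁ := hall_of_compl hG hM hK hU
  set N := U₀ ⊔ Cfsg.sigmaCore M with hN
  have hNM : N ≤ M := sup_le h₀.1 (sigmaCore_le M)
  have hdvd : ∀ {T : Subgroup G}, Cfsg.IsPiHallOf (restPrimes M) T M → T ≤ N := fun {T} hT => by
    refine relIndex_eq_one.mp (Nat.eq_one_of_dvd_coprimes (a := Nat.card T) (b := U₀.relIndex M) ?_ ?_ ?_)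
    · exact Nat.coprime_of_dvd fun t ht h1 h2 => h₀.2.2 t ht (hT.2.1 t ht h1) h2
    · exact (N.subgroupOf T).index_dvd_card
    · have : (N.subgroupOf M).Normal := (normal_subgroupOf_iff_le_normalizer hNM).mpr hn
      have h1 : (N.subgroupOf M).relIndex (T.subgroupOf M) ∣ (N.subgroupOf M).index :=
        relIndex_dvd_index_of_normal _ _
      have h2 : (N.subgroupOf M).relIndex (T.subgroupOf M) = N.relIndex T := relIndex_subgroupOf hT.1
      rw [h2] at h1
      refine h1.trans ?_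
      show N.relIndex M ∣ _
      rw [← relIndex_mul_relIndex U₀ N M le_sup_left hNM]
      exact dvd_mul_left _ _
  refine eq_of_le_of_card_ge (sup_le (hdvd h₁) le_sup_right) ?_
  -- both have the same order
  have hcU : Nat.card U = Nat.card U₀ := by
    refine Nat.dvd_antisymm ?_ ?_
    · refine (Nat.Coprime.dvd_of_dvd_mul_right (n := U₀.relIndex M)
        (Nat.coprime_of_dvd fun t ht a b => h₀.2.2 t ht (h₁.2.1 t ht a) b) ?_)
      rw [← relIndex_bot_left U₀, relIndex_mul_relIndex ⊥ U₀ M bot_le h₀.1, relIndex_bot_left]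
      exact card_dvd_of_le h₁.1
    · refine (Nat.Coprime.dvd_of_dvd_mul_right (n := U.relIndex M)
        (Nat.coprime_of_dvd fun t ht a b => h₁.2.2 t ht (h₀.2.1 t ht a) b) ?_)
      rw [← relIndex_bot_left U, relIndex_mul_relIndex ⊥ U M bot_le h₁.1, relIndex_bot_left]
      exact card_dvd_of_le h₀.1
  have hc : ∀ T : Subgroup G, Cfsg.IsPiHallOf (restPrimes M) T M →
      Nat.card ↥(T ⊔ Cfsg.sigmaCore M) = Nat.card T * Nat.card (Cfsg.sigmaCore M) := fun T hT =>
    Nat.dvd_antisymm (Core.card_sup_dvd T _ (hT.1.trans (le_normalizer_sigmaCore M)))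
      (Nat.Coprime.mul_dvd_of_dvd_of_dvd (Nat.coprime_of_dvd fun t ht a b =>
        (hT.2.1 t ht a).2.2 (TauTwo.mem_sigma_of_dvd ht b hG hM))
        (card_dvd_of_le le_sup_left) (card_dvd_of_le le_sup_right))
  rw [hN, hc U h₁, hc U₀ h₀, hcU]

/-- Centralizers in `M` of nontrivial elements of a cyclic `K`. -/
theorem centralizer_eq (hG : Cfsg.IsMinSimpleOddOrder G) (hM : IsCoatom M) (hKc : IsCyclic K)
    (hK : Cfsg.IsPiHallOf (Cfsg.kappa M) K M) {k : G} (hk : k ∈ K) (hk1 : k ≠ 1) :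
    M ⊓ centralizer ({k} : Set G) = K ⊔ (Cfsg.sigmaCore M ⊓ centralizer (K : Set G)) := by
  have hK1 : K ≠ ⊥ := fun e => hk1 (mem_bot.mp (e ▸ hk))
  obtain ⟨E, d⟩ := exists_data hG hM hK hK1
  refine le_antisymm ?_ (sup_le (le_inf hK.1 ?_) (le_inf (inf_le_left.trans (sigmaCore_le M))
    (inf_le_right.trans (Subgroup.centralizer_le (Set.singleton_subset_iff.mpr hk)))))
  · obtain ⟨v, Z, hv, hZ, hZk⟩ := exists_prime_sub (fun e => hk1 (zpowers_eq_bot.mp e) : zpowers k ≠ ⊥)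
    have := Fact.mk hv
    rw [SylowUnique.centralizer_singleton_eq]
    exact (inf_le_inf_left _ ((Subgroup.centralizer_le hZk).trans (Subgroup.centralizer_le_normalizer _))).trans
      (d.normalizer_eq hG (hZ.symm ▸ hv) (hZk.trans (zpowers_le.mpr hk))).le
  · intro x hx
    exact mem_centralizer_singleton_iff.mpr
      (congrArg Subtype.val (hKc.isMulCommutative.is_comm.comm ⟨x, hx⟩ ⟨k, hk⟩) :)

end CfsgLib.OddLocal.Kappa
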