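import Cfsg.Agent.Lib.OddLocal.SigmaDisjoint
import Cfsg.Agent.Lib.OddLocal.KappaDecomp
import Cfsg.Agent.Lib.OddLocal.FittingHall

/-!
# The maximal overgroup of a centralizer sticking out of `M` (BG 14.4)

For `x ≠ 1` in `M_σ` with `C(x) ⊄ M` there is exactly one maximal subgroup `H` containing `C(x)`;
all primes of `x` are in `τ₂(H)` and `M ∩ H` complements the nilpotent group `H_σ` in `H`.
-/

namespace CfsgLib.OddLocal.Support

open Subgroup
open CfsgLib.TwoGroups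
open PrimeActionTools FixedTauOne TauThree Kappa
open TauTwoFacts (rankTwo structure_tau2)
open SigmaOrderP (sigmaCore_le le_normalizer_sigmaCore)
open scoped commutatorElement

variable {G : Type*} [Group G] [Finite G] {p q r : ℕ} [Fact p.Prime] [Fact q.Prime] [Fact r.Prime]
  {M H L : Subgroup G} {x : G}

/-- The conclusions of BG 14.4. -/
structure Overgroup (M H : Subgroup G) (x : G) : Prop where
  max : IsCoatom H
  le : centralizer ({x} : Set G) ≤ H
  unique : ∀ L : Subgroup G, IsCoatom L → centralizer ({x} : Set G) ≤ L → L = H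
  nconj : ∀ g : G, H ≠ M.map (MulAut.conj g).toMonoidHom
  fitting : Cfsg.sigmaCore H = Cfsg.fittingHallOf H
  inf_eq : Cfsg.sigmaCore H ⊓ M = ⊥
  compl : Cfsg.IsComplIn (M ⊓ H) (Cfsg.sigmaCore H) H
  fixed_ne : Cfsg.sigmaCore H ⊓ centralizer ({x} : Set G) ≠ ⊥
  tau2 : ∀ r : ℕ, r.Prime → r ∣ orderOf x → r ∈ Cfsg.tau2 H
  factor : Cfsg.IsComplIn (M ⊓ centralizer ({x} : Set G)) (Cfsg.sigmaCore H ⊓ centralizer ({x} : Set G))
    (centralizer ({x} : Set G))

/-- A nilpotent `M_σ` is the Fitting Hall subgroup. -/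
theorem sigmaCore_eq_fittingHallOf (hG : Cfsg.IsMinSimpleOddOrder G) (hH : IsCoatom H)
    (hn : Group.IsNilpotent (Cfsg.sigmaCore H)) : Cfsg.sigmaCore H = Cfsg.fittingHallOf H := by
  obtain ⟨⟨-, hp, hidx⟩, -, -⟩ := SigmaCore.sigmaCore_hall hG hH
  apply le_antisymm
  · intro y hy
    refine mem_map.mpr ⟨⟨y, sigmaCore_le H hy⟩, le_fittingHall (N := (Cfsg.sigmaCore H).subgroupOf H) ?_ ?_ ?_
      (mem_subgroupOf.mpr hy), rfl⟩
    · exact (normal_subgroupOf_iff_le_normalizer (sigmaCore_le H)).mpr (le_normalizer_sigmaCore H)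
    · exact Group.nilpotent_of_mulEquiv (subgroupOfEquivOfLe (sigmaCore_le H)).symm
    · rw [Nat.card_congr (subgroupOfEquivOfLe (sigmaCore_le H)).toEquiv]
      exact Nat.coprime_of_dvd fun t ht h1 h2 => hidx t ht (hp t ht h1) h2
  · refine SigmaEmbedding.le_sigmaCore_of_pi hG hH (fittingHallOf_le H) fun t ht hd => ?_
    have := Fact.mk ht
    set F := Cfsg.fittingHallOf H with hF
    obtain ⟨P⟩ : Nonempty (Sylow t F) := inferInstance
    set P' := (P : Subgroup F).map F.subtype with hP'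
    have hP'H : P' ≤ H := (map_subtype_le _).trans (fittingHallOf_le H)
    have hFn : Group.IsNilpotent F := fittingHallOf_nilpotent H
    have hPn : (P : Subgroup F).Normal :=
      ((Group.isNilpotent_of_finite_tfae (G := F)).out 0 3 rfl rfl).mp hFn t ‹_› P
    have := P.characteristic_of_normal hPn
    have hHP : H ≤ normalizer (P' : Set G) := by
      refine le_trans ?_ (PLengthEndgame.normalizer_le_char F (P : Subgroup F))
      intro h hh
      rw [hF, Cfsg.fittingHallOf, mem_normalizer_iff]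
      intro y
      constructor
      · rintro ⟨w, hw, rfl⟩
        exact ⟨⟨h, hh⟩ * w * ⟨h, hh⟩⁻¹, (Cfsg.fittingHall_normal H).conj_mem w hw _, rfl⟩
      · rintro ⟨w, hw, e⟩
        refine ⟨⟨h, hh⟩⁻¹ * w * ⟨h, hh⟩, (Cfsg.fittingHall_normal H).conj_mem' w hw _, ?_⟩
        change ((⟨h, hh⟩⁻¹ * w * ⟨h, hh⟩ : H) : G) = y
        simp only [Subgroup.coe_mul, InvMemClass.coe_inv]
        rw [show (w : G) = h * y * h⁻¹ from e]
        group
    have hP1 : P' ≠ ⊥ := fun e => by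
      have h0 : (P : Subgroup F) = ⊥ := (map_eq_bot_iff_of_injective _ F.subtype_injective).mp e
      have := P.not_dvd_index
      rw [h0, index_bot] at this
      exact this hd
    have hnd : ¬ t ∣ P'.relIndex H := by
      rw [← relIndex_mul_relIndex P' F H (map_subtype_le _) (fittingHallOf_le H), ht.dvd_mul]
      push Not
      refine ⟨?_, fun h => ht.not_dvd_one (?_ : t ∣ 1)⟩
      · rw [relIndex, subgroupOf, hP', comap_map_eq_self_of_injective F.subtype_injective]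
        exact P.not_dvd_index
      · rw [← (fittingHallOf_coprime H).gcd_eq_one]
        exact Nat.dvd_gcd hd h
    have hT := ((P.2.map F.subtype).comap_subtype (K := H))
    refine ⟨ht, hd.trans (card_dvd_of_le (fittingHallOf_le H)), hT.toSylow hnd, ?_⟩
    have e : ((hT.toSylow hnd : Sylow t H) : Subgroup H).map H.subtype = P' := map_subgroupOf_eq_of_le hP'H
    rw [e]
    rcases hH.le_iff.mp hHP with h | h
    · exact absurd h (TransitivityHyp.normalizer_ne_top hG hP1 (Uniqueness.ne_top_of_pGroup hG (P.2.map _)))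
    · exact h.le

/-- BG 14.4. -/
theorem exists_overgroup (hG : Cfsg.IsMinSimpleOddOrder G) (hM : IsCoatom M) (hx : x ∈ Cfsg.sigmaCore M)
    (hx1 : x ≠ 1) (hxM : ¬ centralizer ({x} : Set G) ≤ M) : ∃ H : Subgroup G, Overgroup M H x := by
  have hxMm : x ∈ M := sigmaCore_le M hx
  obtain ⟨q, Y, hq, hY, hYx⟩ := exists_prime_sub (fun e => hx1 (zpowers_eq_bot.mp e) : zpowers x ≠ ⊥)
  have := Fact.mk hq
  have hYM : Y ≤ M := hYx.trans (zpowers_le.mpr hxMm)
  have hqσ : q ∈ Cfsg.sigma M :=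
    TauTwo.mem_sigma_of_dvd hq (hY ▸ card_dvd_of_le (hYx.trans (zpowers_le.mpr hx))) hG hM
  obtain ⟨H, hH, hNH⟩ := (eq_top_or_exists_le_coatom _).resolve_left
    (TransitivityHyp.normalizer_ne_top hG (ne_bot_of_card_eq hY)
      (Uniqueness.ne_top_of_pGroup hG (isPGroup_of_card_eq hY)))
  have hCY : centralizer ({x} : Set G) ≤ centralizer (Y : Set G) := fun c hc => mem_centralizer_iff.mpr fun y hy => by
    obtain ⟨n, rfl⟩ := mem_zpowers_iff.mp (hYx hy)
    exact ((show Commute x c from mem_centralizer_iff.mp hc x rfl).zpow_left n).eq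
  have hCH : centralizer ({x} : Set G) ≤ H := hCY.trans ((Subgroup.centralizer_le_normalizer _).trans hNH)
  have hxH : x ∈ H := hCH (mem_centralizer_singleton_iff.mpr rfl)
  have hne : H ≠ M := fun e => hxM (e ▸ hCH)
  have hnc := SigmaEmbedding.not_conj hG hM hqσ (isPGroup_of_card_eq hY) (ne_bot_of_card_eq hY) hYM hne hNH
  have hdis : ∀ (t : ℕ), t.Prime → t ∈ Cfsg.sigma M → t ∉ Cfsg.sigma H := fun t ht h1 h2 => by
    have := Fact.mk ht
    obtain ⟨g, hg⟩ := SigmaDisjoint.sigma_disjoint hG hM hH h1 h2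
    exact hnc g hg
  have hqH : q ∉ Cfsg.sigma H := hdis q hq hqσ
  have hr1 : ¬ Cfsg.PRankLE q 1 H := fun h => hqH (sigma_of_rank_one hG h hY hNH)
  -- a pair of `M ∩ H`
  obtain ⟨S, hS, hYS, hSM, hSH, hmax⟩ := SigmaEmbedding.exists_max (isPGroup_of_card_eq hY) hYM
    (le_normalizer.trans hNH)
  obtain ⟨-, hSnd⟩ := SigmaEmbedding.sylow_inf hG hM hqσ (ne_bot_of_card_eq hY) hNH hS hYS hSM hSH hmax
  have hSnc : ¬ IsCyclic S := fun hc => hr1 (CyclicPrimeAction.prankLE_one hSH hSnd hS hc)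
  obtain ⟨B, hBS, hB, hB2⟩ := SigmaEmbedding.exists_elementary_of_not_cyclic
    (Uniqueness.odd_prime hG (hqσ.2.1.trans M.card_subgroup_dvd_card)) hS hSnc
  have hinf : Cfsg.sigmaCore H ⊓ M = ⊥ :=
    TauTwo.sigmaCore_inf_eq_bot hG hH ⟨hB, hB2⟩ (hBS.trans hSH) hqH hM hne.symm (hBS.trans hSM)
  have hnil := TauTwo.isNilpotent_sigmaCore hG hH ⟨hB, hB2⟩ (hBS.trans hSH) hqH
  -- `M ∩ H` supplements `H_σ`
  obtain ⟨K, hKH, -, hsup, hKπ⟩ := SigmaEmbedding.exists_supplement (structure_tau2 hG) hG hM hqσ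
    (isPGroup_of_card_eq hY) (ne_bot_of_card_eq hY) hYM hH hne hNH
  have hKO : K ≤ Cfsg.sigmaCore H :=
    SigmaEmbedding.le_sigmaCore_of_pi hG hH hKH fun t ht hd => (hKπ t ht hd).1
  have hcompl : Cfsg.IsComplIn (M ⊓ H) (Cfsg.sigmaCore H) H := by
    refine ⟨inf_le_right, sigmaCore_le H, ?_, fun h hh => ?_⟩
    · rw [inf_comm, eq_bot_iff, ← hinf]
      exact le_inf inf_le_left (inf_le_right.trans inf_le_left)
    · have h1 : h ∈ (M ⊓ H) ⊔ Cfsg.sigmaCore H := sup_le_sup_left hKO _ (hsup hh)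
      rw [← SetLike.mem_coe, coe_mul_of_left_le_normalizer_right _ _
        (inf_le_right.trans (le_normalizer_sigmaCore H))] at h1
      obtain ⟨a, ha, b, hb, rfl⟩ := h1
      exact ⟨a, ha, b, hb, rfl⟩
  -- the factorization of `C(x)`
  have hfactor : Cfsg.IsComplIn (M ⊓ centralizer ({x} : Set G))
      (Cfsg.sigmaCore H ⊓ centralizer ({x} : Set G)) (centralizer ({x} : Set G)) := by
    refine ⟨inf_le_right, inf_le_right, ?_, fun c hc => ?_⟩
    · rw [eq_bot_iff, ← hinf]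
      exact le_inf (inf_le_right.trans inf_le_left) (inf_le_left.trans inf_le_left)
    obtain ⟨m, hm, k, hk, rfl⟩ := hcompl.2.2.2 c (hCH hc)
    have hcc : x * (m * k) = m * k * x := mem_centralizer_iff.mp hc x rfl
    have h1 : k * x * k⁻¹ * x⁻¹ = m⁻¹ * x * m * x⁻¹ := by
      have : k * x = m⁻¹ * x * m * k := by
        calc k * x = m⁻¹ * (m * k * x) := by group
          _ = m⁻¹ * (x * (m * k)) := by rw [hcc]
          _ = _ := by group
      rw [this]; group
    have hkx : k * x * k⁻¹ * x⁻¹ ∈ Cfsg.sigmaCore H ⊓ M := by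
      refine mem_inf.mpr ⟨?_, by rw [h1]; exact mul_mem (mul_mem (mul_mem (inv_mem (mem_inf.mp hm).1) hxMm) (mem_inf.mp hm).1) (inv_mem hxMm)⟩
      have := (mem_normalizer_iff.mp (le_normalizer_sigmaCore H hxH) k⁻¹).mp (inv_mem hk)
      rw [show k * x * k⁻¹ * x⁻¹ = k * (x * k⁻¹ * x⁻¹) by group]
      exact mul_mem hk this
    rw [hinf, mem_bot, mul_inv_eq_one, mul_inv_eq_iff_eq_mul] at hkx
    have hkC : k ∈ centralizer ({x} : Set G) := mem_centralizer_singleton_iff.mpr hkx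
    refine ⟨m, ⟨hm.1, ?_⟩, k, ⟨hk, hkC⟩, rfl⟩
    have := mul_mem hc (inv_mem hkC)
    simpa using this
  have hfix : Cfsg.sigmaCore H ⊓ centralizer ({x} : Set G) ≠ ⊥ := fun e => hxM fun c hc => by
    obtain ⟨m, hm, k, hk, rfl⟩ := hfactor.2.2.2 c hc
    rw [e, mem_bot] at hk
    rw [hk, mul_one]
    exact hm.1
  obtain ⟨E, hE, hxE⟩ := TauTwo.exists_complement_ge hG hH (zpowers_le.mpr hxH) fun t ht hd => by
    rw [Nat.card_zpowers] at hd
    exact hdis t ht (TauTwo.mem_sigma_of_dvd ht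
      (hd.trans ((Cfsg.sigmaCore M).orderOf_dvd_natCard hx)) hG hM)
  have hτ : ∀ t : ℕ, t.Prime → t ∣ orderOf x → t ∈ Cfsg.tau2 H := by
    intro t ht hd
    have := Fact.mk ht
    have htH : t ∉ Cfsg.sigma H := hdis t ht
      (TauTwo.mem_sigma_of_dvd ht (hd.trans ((Cfsg.sigmaCore M).orderOf_dvd_natCard hx)) hG hM)
    refine ⟨ht, htH, not_not.mp fun h' => htH (SigmaTrans.alpha_subset_sigma hG hH ⟨ht, h'⟩), fun hrk => ?_⟩
    obtain ⟨z, hz⟩ := exists_prime_orderOf_dvd_card' t (by rwa [← Nat.card_zpowers] at hd)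
    set Z := zpowers (z : G) with hZdef
    have hZ : Nat.card Z = t := by rw [Nat.card_zpowers, orderOf_coe, hz]
    have hZx : Z ≤ zpowers x := zpowers_le.mpr z.2
    have hZne : Cfsg.sigmaCore H ⊓ centralizer (Z : Set G) ≠ ⊥ := fun e => hfix (eq_bot_iff.mpr
      ((inf_le_inf_left _ (by
        intro c hc
        refine mem_centralizer_iff.mpr fun y hy => ?_
        obtain ⟨n, rfl⟩ := mem_zpowers_iff.mp (hZx hy)
        exact ((show Commute x c from mem_centralizer_iff.mp hc x rfl).zpow_left n).eq)).trans e.le))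
    have hYZ : Y ≤ centralizer (Z : Set G) := fun y hy => mem_centralizer_iff.mpr fun w hw => by
      obtain ⟨n, rfl⟩ := mem_zpowers_iff.mp (hYx hy)
      obtain ⟨m, rfl⟩ := mem_zpowers_iff.mp (hZx hw)
      exact ((Commute.refl x).zpow_zpow m n).eq
    rcases tau_of_rank_one (hZ ▸ card_dvd_of_le (hZx.trans (zpowers_le.mpr hxH))) htH hrk with h | h
    · exact not_tau2_of_commute hG hH hE h hZ (hZx.trans hxE) hZne hY (le_inf (hYx.trans hxE) hYZ)
        ⟨hq, hqH, not_not.mp fun h' => hqH (SigmaTrans.alpha_subset_sigma hG hH ⟨hq, h'⟩), hr1⟩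
    · exact hr1 (rank_one_of_kappa (mem_kappa_of_tau3 hG hH hE h hZ (hZx.trans hxE) hZne
        (hY ▸ card_dvd_of_le (hYx.trans hxE))))
  obtain ⟨⟨y, hy⟩, hy1⟩ := (Cfsg.sigmaCore H ⊓ centralizer ({x} : Set G)).ne_bot_iff_exists_ne_one.mp hfix
  have hu := TauTwo.centralizer_tau2_element hG hH hxH hx1 hτ
    ⟨hxH, y, hy.1, fun e => hy1 (Subtype.ext e), mem_centralizer_iff.mp hy.2 x rfl⟩
  exact ⟨H, hH, hCH, hu.2, hnc, sigmaCore_eq_fittingHallOf hG hH hnil, hinf, hcompl, hfix, hτ, hfactor⟩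

theorem supportR_of_le (h : centralizer ({x} : Set G) ≤ M) : Cfsg.supportR M x = ⊥ :=
  dif_neg fun h' => h'.1 h

theorem Overgroup.supportR_eq (o : Overgroup M H x) (hxM : ¬ centralizer ({x} : Set G) ≤ M) :
    Cfsg.supportR M x = Cfsg.sigmaCore H ⊓ centralizer ({x} : Set G) := by
  have hu : ∃! L : Subgroup G, IsCoatom L ∧ centralizer ({x} : Set G) ≤ L :=
    ⟨H, ⟨o.max, o.le⟩, fun L hL => o.unique L hL.1 hL.2⟩
  unfold Cfsg.supportR
  rw [dif_pos ⟨hxM, hu⟩]
  have hc := Classical.choose_spec (⟨hxM, hu⟩ : ¬ centralizer ({x} : Set G) ≤ M ∧ _).2.exists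
  rw [o.unique _ hc.1 hc.2, o.fitting]

theorem Overgroup.centralizer_le_normalizer (o : Overgroup M H x) :
    centralizer ({x} : Set G) ≤
      normalizer ((Cfsg.sigmaCore H ⊓ centralizer ({x} : Set G) : Subgroup G) : Set G) := fun _ hc =>
  inf_normalizer_le_normalizer_inf ⟨le_normalizer_sigmaCore H (o.le hc), le_normalizer hc⟩

theorem Overgroup.decomp (o : Overgroup M H x) (hG : Cfsg.IsMinSimpleOddOrder G) (hxM : x ∈ M) (hx1 : x ≠ 1)
    {K U : Subgroup G} (hKU : Cfsg.IsSigmaDecomposition H K U) :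
    U ≠ ⊥ ∧ x ∈ Cfsg.sigmaA H U ∧ x ∉ Cfsg.sigmaCore H := by
  have hxO : x ∉ Cfsg.sigmaCore H := fun h => hx1 (mem_bot.mp (o.inf_eq ▸ mem_inf.mpr ⟨h, hxM⟩))
  have hxH : x ∈ H := o.le (mem_centralizer_singleton_iff.mpr rfl)
  obtain ⟨U₀, hU₀H, hU₀, -, hn⟩ := exists_decomp hG o.max hKU.hall
  have heq := sup_eq hG o.max hKU.hall hU₀ hKU.compl hn
  have hU := hall_of_compl hG o.max hKU.hall hKU.compl
  rw [← heq] at hn
  set N := U ⊔ Cfsg.sigmaCore H with hN
  have hNH : N ≤ H := sup_le hU.1 (sigmaCore_le H)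
  have hxN : x ∈ N := by
    refine zpowers_le.mp (relIndex_eq_one.mp (Nat.eq_one_of_dvd_coprimes (a := Nat.card (zpowers x))
      (b := U.relIndex H) ?_ ?_ ?_))
    · refine Nat.coprime_of_dvd fun t ht h1 h2 => ?_
      rw [Nat.card_zpowers] at h1
      have := Fact.mk ht
      have hτ := o.tau2 t ht h1
      exact hU.2.2 t ht ⟨ht, fun hk => hτ.2.2.2 (rank_one_of_kappa hk), hτ.2.1⟩ h2
    · exact (N.subgroupOf (zpowers x)).index_dvd_card
    · have : (N.subgroupOf H).Normal := (normal_subgroupOf_iff_le_normalizer hNH).mpr hn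
      have h1 : (N.subgroupOf H).relIndex ((zpowers x).subgroupOf H) ∣ (N.subgroupOf H).index :=
        relIndex_dvd_index_of_normal _ _
      rw [relIndex_subgroupOf (zpowers_le.mpr hxH)] at h1
      refine h1.trans ?_
      show N.relIndex H ∣ _
      rw [← relIndex_mul_relIndex U N H le_sup_left hNH]
      exact dvd_mul_left _ _
  obtain ⟨⟨y, hy⟩, hy1⟩ := (Cfsg.sigmaCore H ⊓ centralizer ({x} : Set G)).ne_bot_iff_exists_ne_one.mp o.fixed_ne
  refine ⟨fun e => hxO ?_, ⟨⟨hxH, y, hy.1, fun e => hy1 (Subtype.ext e), mem_centralizer_iff.mp hy.2 x rfl⟩,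
    hxN⟩, hxO⟩
  rwa [hN, e, bot_sup_eq] at hxN

end CfsgLib.OddLocal.Support
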