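import Cfsg.Agent.Lib.OddLocal.KappaPartner

/-!
# The `M`-conjugates of `Ẑ` are `A₀(M) ∖ A(M)` (BG 14.7 / 15)
-/

namespace CfsgLib.OddLocal.Kappa

open Subgroup
open CfsgLib.TwoGroups
open FixedTauOne
open SigmaOrderP (sigmaCore_le le_normalizer_sigmaCore)

variable {G : Type*} [Group G] [Finite G] {M H E K U : Subgroup G} {a g z : G}

/-- Elements of `M` without a prime in `κ(M)` lie in the normal subgroup `U M_σ`. -/
theorem mem_sup_of_primes (hG : Cfsg.IsMinSimpleOddOrder G) (hM : IsCoatom M)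
    (hK : Cfsg.IsPiHallOf (Cfsg.kappa M) K M) (hU : Cfsg.IsComplIn U (K ⊔ Cfsg.sigmaCore M) M)
    (hn : M ≤ normalizer ((U ⊔ Cfsg.sigmaCore M : Subgroup G) : Set G)) (ha : a ∈ M)
    (h : ∀ t : ℕ, t.Prime → t ∣ orderOf a → t ∉ Cfsg.kappa M) : a ∈ U ⊔ Cfsg.sigmaCore M := by
  have hr := hall_of_compl hG hM hK hU
  obtain ⟨⟨-, -, hσ⟩, -, -⟩ := SigmaCore.sigmaCore_hall hG hM
  set N := U ⊔ Cfsg.sigmaCore M with hN
  have hNM : N ≤ M := sup_le hr.1 (sigmaCore_le M)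
  refine zpowers_le.mp (relIndex_eq_one.mp (Nat.eq_one_of_dvd_coprimes (a := Nat.card (zpowers a))
    (b := N.relIndex M) ?_ ?_ ?_))
  · refine Nat.coprime_of_dvd fun t ht h1 h2 => ?_
    rw [Nat.card_zpowers] at h1
    by_cases htσ : t ∈ Cfsg.sigma M
    · refine hσ t ht htσ (h2.trans ?_)
      rw [← relIndex_mul_relIndex (Cfsg.sigmaCore M) N M le_sup_right hNM]
      exact dvd_mul_left _ _
    · refine hr.2.2 t ht ⟨ht, h t ht h1, htσ⟩ (h2.trans ?_)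
      rw [← relIndex_mul_relIndex U N M le_sup_left hNM]
      exact dvd_mul_left _ _
  · exact (N.subgroupOf (zpowers a)).index_dvd_card
  · have : (N.subgroupOf M).Normal := (normal_subgroupOf_iff_le_normalizer hNM).mpr hn
    have h1 : (N.subgroupOf M).relIndex ((zpowers a).subgroupOf M) ∣ (N.subgroupOf M).index :=
      relIndex_dvd_index_of_normal _ _
    rw [relIndex_subgroupOf (zpowers_le.mpr ha)] at h1
    exact h1

/-- `K` meets `U M_σ` trivially. -/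
theorem inf_sup_eq_bot (hG : Cfsg.IsMinSimpleOddOrder G) (hM : IsCoatom M)
    (hK : Cfsg.IsPiHallOf (Cfsg.kappa M) K M) (hU : Cfsg.IsComplIn U (K ⊔ Cfsg.sigmaCore M) M) :
    K ⊓ (U ⊔ Cfsg.sigmaCore M) = ⊥ := by
  have hr := hall_of_compl hG hM hK hU
  refine inf_eq_bot_of_coprime (Nat.coprime_of_dvd fun t ht h1 h2 => ?_)
  rcases ht.dvd_mul.mp (h2.trans (Core.card_sup_dvd U _ (hr.1.trans (le_normalizer_sigmaCore M)))) with h | h
  · exact (hr.2.1 t ht h).2.1 (hK.2.1 t ht h1)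
  · exact (hK.2.1 t ht h1).2.2.1 (TauTwo.mem_sigma_of_dvd ht h hG hM)

/-- BG 14.7: `(Ẑ)^M = A₀(M) ∖ A(M)`. -/
theorem Pair.conj_zhat_eq (p : Pair M K H) (d : Data M K E) (hG : Cfsg.IsMinSimpleOddOrder G)
    (hU : Cfsg.IsComplIn U (K ⊔ Cfsg.sigmaCore M) M) :
    {a : G | ∃ m ∈ M, ∃ z ∈ Zhat (ZK M K), a = m * z * m⁻¹} = Cfsg.sigmaA0 M K \ Cfsg.sigmaA M U := by
  have hM := d.max
  obtain ⟨U₀, -, hU₀, -, hn⟩ := exists_decomp hG hM d.hall
  have heq := sup_eq hG hM d.hall hU₀ hU hn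
  rw [← heq] at hn
  ext a
  constructor
  · rintro ⟨m, hm, z, hz, rfl⟩
    obtain ⟨x, hx, y, hy, hx1, hy1, -, hzxy, hxz, -⟩ := p.zhat_parts d hG hz
    refine ⟨⟨⟨mul_mem (mul_mem hm (d.Z_le hz.1)) (inv_mem hm), m * y * m⁻¹,
      (mem_normalizer_iff.mp (le_normalizer_sigmaCore M hm) y).mp hy.1,
      fun e => hy1 (conj_eq_one_iff.mp e), ?_⟩, ?_⟩, ?_⟩
    · have hc := (p.commute_Z d hG hz.1 (mem_sup_right hy)).eq
      calc m * z * m⁻¹ * (m * y * m⁻¹) = m * (z * y) * m⁻¹ := by group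
        _ = m * (y * z) * m⁻¹ := by rw [hc]
        _ = _ := by group
    · rintro ⟨k, hk, -, m', -, e⟩
      have hord : orderOf z = orderOf k := by
        have h1 : orderOf (m * z * m⁻¹) = orderOf z := (MulAut.conj m).orderOf_eq z
        have h2 : orderOf (m' * k * m'⁻¹) = orderOf k := (MulAut.conj m').orderOf_eq k
        rw [← h1, e, h2]
      have hzK : z ∈ K := d.mem_of_primes hG hz.1 fun t ht hd =>
        d.not_sigma ht ((hord ▸ hd).trans (K.orderOf_dvd_natCard hk))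
      exact hz.2 H p.member (p.K_le_core hzK)
    · rintro ⟨-, hN⟩
      have hzN : z ∈ U ⊔ Cfsg.sigmaCore M := (mem_normalizer_iff.mp (hn hm) z).mpr hN
      have h1 : x ∈ K ⊓ (U ⊔ Cfsg.sigmaCore M) := mem_inf.mpr ⟨hx, zpowers_le.mpr hzN hxz⟩
      rw [inf_sup_eq_bot hG hM d.hall hU, mem_bot] at h1
      exact hx1 h1
  · rintro ⟨⟨haσ, hnK⟩, hnA⟩
    have haM : a ∈ M := haσ.1
    have haN : a ∉ U ⊔ Cfsg.sigmaCore M := fun h => hnA ⟨haσ, h⟩
    obtain ⟨t, ht, htd, htκ⟩ : ∃ t : ℕ, t.Prime ∧ t ∣ orderOf a ∧ t ∈ Cfsg.kappa M := by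
      by_contra h
      push Not at h
      exact haN (mem_sup_of_primes hG hM d.hall hU hn haM fun t ht hd => h t ht hd)
    have := Fact.mk ht
    obtain ⟨X, hX, hXa⟩ := exists_line_zpowers ht htd
    have hXM : X ≤ M := hXa.trans (zpowers_le.mpr haM)
    have : Group.IsSolvable M := hG.2.2.2 M hM.1
    have hK' : Cfsg.IsPiHall (Cfsg.kappa M) (K.subgroupOf M) := by
      refine ⟨fun v hv hd => ?_, d.hall.2.2⟩
      rw [Nat.card_congr (subgroupOfEquivOfLe d.hall.1).toEquiv] at hd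
      exact d.hall.2.1 v hv hd
    obtain ⟨⟨m, hmM⟩, hm⟩ := Core.exists_conj_le_piHall hK' (K := X.subgroupOf M) fun u hu hd => by
      rw [Nat.card_congr (subgroupOfEquivOfLe hXM).toEquiv, hX] at hd
      exact ((Nat.prime_dvd_prime_iff_eq hu ht).mp hd) ▸ htκ
    set a' := m * a * m⁻¹ with ha'
    have hX'K : X.map (MulAut.conj m).toMonoidHom ≤ K := by
      rintro _ ⟨x, hx, rfl⟩
      exact mem_subgroupOf.mp (hm ((Subgroup.smul_mem_pointwise_smul_iff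
        (a := MulAut.conj (⟨m, hmM⟩ : M))).mpr (show (⟨x, hXM hx⟩ : M) ∈ X.subgroupOf M from hx)))
    have ha'Z : a' ∈ ZK M K := by
      refine (d.normalizer_eq hG (by rw [Transfer.card_map_conj, hX]; exact ht) hX'K).le
        (mem_inf.mpr ⟨mul_mem (mul_mem hmM haM) (inv_mem hmM), centralizer_le_normalizer _ (mem_centralizer_iff.mpr ?_)⟩)
      rintro _ ⟨x, hx, rfl⟩
      obtain ⟨n, rfl⟩ := mem_zpowers_iff.mp (hXa hx)
      show m * a ^ n * m⁻¹ * (m * a * m⁻¹) = m * a * m⁻¹ * (m * a ^ n * m⁻¹)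
      group
    refine ⟨m⁻¹, inv_mem hmM, a', ?_, by rw [ha']; group⟩
    rw [p.zhat_eq d hG]
    refine ⟨ha'Z, ?_⟩
    rintro (h | h)
    · by_cases h1 : a' = 1
      · exact haN (by rw [show a = 1 from conj_eq_one_iff.mp h1]; exact one_mem _)
      · exact hnK ⟨a', h, h1, m⁻¹, inv_mem hmM, by rw [ha']; group⟩
    · exact haN ((mem_normalizer_iff.mp (hn hmM) a).mpr (mem_sup_right (mem_inf.mp h).1))

/-- The set is a TI-subset with `M` normalizing it. -/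
theorem Pair.conj_zhat_ti (d : Data M K E) (hG : Cfsg.IsMinSimpleOddOrder G) :
    Cfsg.IsTISubset {a : G | ∃ m ∈ M, ∃ z ∈ Zhat (ZK M K), a = m * z * m⁻¹} := by
  intro g hg w ⟨m, hm, z, hz, hw⟩ ⟨m', hm', z', hz', hw'⟩
  exfalso
  have h1 : m'⁻¹ * g * m * z * (m'⁻¹ * g * m)⁻¹ = z' := by
    calc m'⁻¹ * g * m * z * (m'⁻¹ * g * m)⁻¹ = m'⁻¹ * (g * (m * z * m⁻¹) * g⁻¹) * m' := by group
      _ = m'⁻¹ * (m' * z' * m'⁻¹) * m' := by rw [← hw, hw']
      _ = z' := by group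
  have h2 := d.Z_le (Zhat.mem_of_conj d.member hG hz (h1.symm ▸ hz'))
  have hgM : g ∈ M := by
    have := mul_mem (mul_mem hm' h2) (inv_mem hm)
    simpa [mul_assoc] using this
  refine hg (mem_set_normalizer_iff.mpr fun v => ⟨?_, ?_⟩)
  · rintro ⟨n, hn, u, hu, rfl⟩
    exact ⟨g * n, mul_mem hgM hn, u, hu, by group⟩
  · rintro ⟨n, hn, u, hu, e⟩
    refine ⟨g⁻¹ * n, mul_mem (inv_mem hgM) hn, u, hu, ?_⟩
    calc v = g⁻¹ * (g * v * g⁻¹) * g := by group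
      _ = g⁻¹ * (n * u * n⁻¹) * g := by rw [e]
      _ = _ := by group

end CfsgLib.OddLocal.Kappa
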