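import Cfsg.Agent.Lib.OddLocal.BetaCore
import Cfsg.Agent.Lib.OddLocal.Basic
import Cfsg.Agent.Lib.LocalEvenB.RankOne
import Cfsg.Agent.Lib.Core.Nilpotent
import Cfsg.Agent.S1451
import Mathlib.GroupTheory.SpecificGroups.ZGroup

/-!
A complement to `M_σ` in a maximal subgroup `M`.
-/

set_option autoImplicit false

namespace CfsgLib.OddLocal.SigmaComplement

open Subgroup
open CfsgLib.TwoGroups

universe u

variable {G : Type u} [Group G] [Finite G] {M E : Subgroup G}

/-- The `π`-core is characteristic. -/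
theorem piCore_characteristic {H : Type*} [Group H] [Finite H] (π : Set ℕ) : (Cfsg.piCore π H).Characteristic :=
  characteristic_iff_map_le.2 fun φ => Components.le_piCore
    ((Cfsg.piCore_normal π H).map φ.toMonoidHom φ.surjective) fun q hq hd =>
      Components.piCore_isPiSubgroup π q hq (hd.trans (card_map_dvd _ _))

section Basic

variable (hG : Cfsg.IsMinSimpleOddOrder G) (hM : IsCoatom M) (hE : Cfsg.IsComplIn E (Cfsg.sigmaCore M) M)
  {p : ℕ} [hp : Fact p.Prime]

include hG hM hE

/-- The primes of a complement are outside `σ(M)`. -/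
theorem not_mem_sigma (hd : p ∣ Nat.card E) : p ∉ Cfsg.sigma M := by
  obtain ⟨⟨-, -, h⟩, -, -⟩ := SigmaCore.sigmaCore_hall hG hM
  intro hσ
  exact h p hp.out hσ (by rwa [IsComplIn_relIndex_right hE])
theorem rank_le_two (hd : p ∣ Nat.card E) : Cfsg.PRankLE p 2 M := by
  by_contra h
  exact not_mem_sigma hG hM hE hd (SigmaTrans.alpha_subset_sigma hG hM ⟨hp.out, h⟩)

omit hp in
theorem isNilpotent_derived : Group.IsNilpotent ↥⁅E, E⁆ := by
  have := hG.2.2.2 M hM.1
  have : Group.IsSolvable E := CfsgLib.Core.isSolvable_of_le ‹_› hE.1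
  have hodd : Odd (Nat.card E) := hG.1.of_dvd_nat E.card_subgroup_dvd_card
  have hr : Cfsg.RankLE 2 E := by
    intro q hq
    have := Fact.mk hq
    by_cases hd : q ∣ Nat.card E
    · exact CfsgLib.PGroups.prankLE_of_injective (rank_le_two hG hM hE hd) (f := inclusion hE.1)
        (inclusion_injective _)
    · intro D hD hDp
      obtain ⟨k, hk⟩ := IsPGroup.iff_card.1 (show IsPGroup q D from fun d => ⟨1, by
        rw [pow_one]; exact Subtype.ext (hDp d d.2)⟩)
      rcases Nat.eq_zero_or_pos k with rfl | hk0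
      · rw [hk, pow_zero]; exact Nat.one_le_pow _ _ hq.pos
      · exact absurd ((dvd_pow_self q hk0.ne').trans (hk ▸ D.card_subgroup_dvd_card)) hd
  have := (Cfsg.Agent.S1451.result hodd (Or.inl hr)).1
  exact Group.nilpotent_of_mulEquiv (((_root_.commutator ↥E).equivMapOfInjective E.subtype E.subtype_injective).trans
    (MulEquiv.subgroupCongr (map_subtype_commutator E)))

/-- A prime of `M'` outside `σ(M)` divides `E'`. -/
theorem dvd_derived (hσ : p ∉ Cfsg.sigma M) (hd : p ∣ Nat.card ↥⁅M, M⁆) :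
    p ∣ Nat.card ↥(_root_.commutator ↥E) := by
  set O := Cfsg.piCore (Cfsg.sigma M) ↥M with hO
  set π := QuotientGroup.mk' O with hπ
  set e := π.comp (inclusion hE.1) with he
  have hsurj : Function.Surjective e := by
    intro v
    obtain ⟨m, rfl⟩ := QuotientGroup.mk'_surjective O v
    obtain ⟨a, ha, b, hb, hab⟩ := hE.2.2.2 m m.2
    refine ⟨⟨a, ha⟩, ?_⟩
    obtain ⟨c, hc, rfl⟩ := hb
    show π (inclusion hE.1 ⟨a, ha⟩) = π m
    rw [show m = inclusion hE.1 ⟨a, ha⟩ * c from Subtype.ext hab, map_mul,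
      show π c = 1 from (QuotientGroup.eq_one_iff c).2 hc, mul_one]
  have h1 : (_root_.commutator ↥M).map π = (_root_.commutator ↥E).map e := by
    rw [_root_.commutator_def, _root_.commutator_def, map_commutator, map_commutator,
      map_top_of_surjective _ (QuotientGroup.mk'_surjective _), map_top_of_surjective _ hsurj]
  have h2 : p ∣ Nat.card ↥((_root_.commutator ↥M).map π) := by
    have hc := (O.subgroupOf (_root_.commutator ↥M)).card_mul_index
    have h3 : (O.subgroupOf (_root_.commutator ↥M)).index = Nat.card ↥((_root_.commutator ↥M).map π) := by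
      have := relIndex_ker π (K := _root_.commutator ↥M)
      rwa [QuotientGroup.ker_mk'] at this
    rw [← map_subtype_commutator, card_map_of_injective M.subtype_injective, ← hc, h3] at hd
    refine (hp.out.dvd_mul.1 hd).resolve_left fun h => hσ ?_
    refine Components.piCore_isPiSubgroup (G := ↥M) (Cfsg.sigma M) p hp.out (h.trans ?_)
    exact card_comap_dvd_of_injective O (_root_.commutator ↥M).subtype (subtype_injective _)
  exact (h1 ▸ h2).trans (card_map_dvd _ _)

/-- Sylow subgroups of `E` for primes of rank one are cyclic. -/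
theorem sylow_cyclic (hd : p ∣ Nat.card E) (hr : Cfsg.PRankLE p 1 M) (P : Sylow p E) : IsCyclic P := by
  have hp2 : p ≠ 2 := fun e => Nat.not_even_iff_odd.2 hG.1
    (even_iff_two_dvd.2 (e ▸ hd.trans E.card_subgroup_dvd_card))
  exact LocalEvenB.isCyclic_of_prankLE_one hp2 _ le_rfl P.2
    (CfsgLib.PGroups.prankLE_of_injective hr (f := (inclusion hE.1).comp (P : Subgroup E).subtype)
      ((inclusion_injective hE.1).comp (P : Subgroup E).subtype_injective))

theorem not_dvd_derived_index (hd : p ∣ Nat.card E) (hr : Cfsg.PRankLE p 1 M) (hσ : p ∉ Cfsg.sigma M)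
    (hd' : p ∣ Nat.card ↥⁅M, M⁆) : ¬ p ∣ (_root_.commutator ↥E).index := by
  obtain ⟨P⟩ : Nonempty (Sylow p E) := inferInstance
  have := sylow_cyclic hG hM hE hd hr P
  exact (Sylow.not_dvd_card_commutator_or_not_dvd_index_commutator P).resolve_left fun h =>
    h (dvd_derived hG hM hE hσ hd')

end Basic

/-- S1415. -/
theorem complement_structure (hG : Cfsg.IsMinSimpleOddOrder G) (hM : IsCoatom M)
    (hE : Cfsg.IsComplIn E (Cfsg.sigmaCore M) M) :
    Group.IsNilpotent ↥⁅E, E⁆ ∧
      (∀ E₁ : Subgroup G, Cfsg.IsPiHallOf (Cfsg.tau1 M) E₁ E → IsCyclic E₁) ∧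
      ∀ E₃ : Subgroup G, Cfsg.IsPiHallOf (Cfsg.tau3 M) E₃ E → IsCyclic E₃ ∧ E₃ ≤ ⁅E, E⁆ ∧
        E ≤ normalizer (E₃ : Set G) := by
  have hnil := isNilpotent_derived hG hM hE
  have hrank : ∀ (E₀ : Subgroup G), E₀ ≤ E → (∀ q : ℕ, q.Prime → q ∣ Nat.card E₀ → Cfsg.PRankLE q 1 M) →
      IsZGroup E₀ := by
    intro E₀ hle hr
    refine ⟨fun q hq P => ?_⟩
    have := Fact.mk hq
    by_cases hd : q ∣ Nat.card E₀
    · have hp2 : q ≠ 2 := fun e => Nat.not_even_iff_odd.2 hG.1
        (even_iff_two_dvd.2 (e ▸ hd.trans E₀.card_subgroup_dvd_card))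
      exact LocalEvenB.isCyclic_of_prankLE_one hp2 _ le_rfl P.2
        (CfsgLib.PGroups.prankLE_of_injective (hr q hq hd) (f := (inclusion (hle.trans hE.1)).comp (P : Subgroup E₀).subtype)
          ((inclusion_injective (hle.trans hE.1)).comp (P : Subgroup E₀).subtype_injective))
    · have hbot : (P : Subgroup E₀) = ⊥ := by
        obtain ⟨k, hk⟩ := IsPGroup.iff_card.1 P.2
        rcases Nat.eq_zero_or_pos k with rfl | hk0
        · exact card_eq_one.1 (hk.trans (pow_zero q))
        · exact absurd ((dvd_pow_self q hk0.ne').trans (hk ▸ card_subgroup_dvd_card _)) hd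
      have : IsCyclic (⊥ : Subgroup E₀) := inferInstance
      exact hbot ▸ this
  refine ⟨hnil, fun E₁ hE₁ => ?_, fun E₃ hE₃ => ?_⟩
  · -- `E₁` meets `M'` trivially
    obtain ⟨hle, hpi, -⟩ := hE₁
    have := hrank E₁ hle fun q hq hd => (hpi q hq hd).2.2.2.2
    have hcop : (Nat.card E₁).Coprime (Nat.card ↥⁅M, M⁆) :=
      Nat.coprime_of_dvd fun q hq h1 h2 => (hpi q hq h1).2.2.2.1 h2
    have hinf := Subgroup.inf_eq_bot_of_coprime hcop
    have hc : IsMulCommutative E₁ := ⟨⟨fun a b => Subtype.ext (commutatorElement_eq_one_iff_mul_comm.1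
      (mem_bot.1 (hinf ▸ mem_inf.2 ⟨by
        rw [commutatorElement_def]; exact mul_mem (mul_mem (mul_mem a.2 b.2) (inv_mem a.2)) (inv_mem b.2),
        commutator_mem_commutator (hE.1 (hle a.2)) (hE.1 (hle b.2))⟩)))⟩⟩
    let : CommGroup E₁ := { (inferInstance : Group E₁) with mul_comm := hc.is_comm.comm }
    exact IsCyclic.of_exponent_eq_card (IsZGroup.exponent_eq_card E₁)
  · obtain ⟨hle, hpi, hidx⟩ := hE₃
    have hZ := hrank E₃ hle fun q hq hd => (hpi q hq hd).2.2.2
    have hE₃' : E₃ ≤ ⁅E, E⁆ := by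
      rw [← map_subtype_commutator, ← map_subgroupOf_eq_of_le hle]
      refine map_mono ?_
      suffices hi : ((_root_.commutator ↥E).subgroupOf (E₃.subgroupOf E)).index = 1 by
        rw [index_eq_one, subgroupOf_eq_top] at hi
        exact hi
      by_contra hne
      obtain ⟨q, hq, hd⟩ := Nat.exists_prime_and_dvd hne
      have := Fact.mk hq
      have hd3 : q ∣ Nat.card E₃ := by
        rw [← Nat.card_congr (subgroupOfEquivOfLe hle).toEquiv]
        exact hd.trans (index_dvd_card _)
      obtain ⟨-, hqσ, hqM, hqr⟩ := hpi q hq hd3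
      exact not_dvd_derived_index hG hM hE (hd3.trans (card_dvd_of_le hle)) hqr hqσ hqM
        (hd.trans (relIndex_dvd_index_of_normal (_root_.commutator ↥E) (E₃.subgroupOf E)))
    have : Group.IsNilpotent E₃ := Group.nilpotent_of_mulEquiv (subgroupOfEquivOfLe hE₃')
    have : IsZGroup E₃ := hZ
    refine ⟨inferInstance, hE₃', ?_⟩
    -- `E₃` is the `τ₃`-core of `E'`
    set D := ⁅E, E⁆ with hD
    have hsub : E₃.subgroupOf D ≤ Cfsg.piCore (Cfsg.tau3 M) D :=
      Components.subnormal_pi_le_piCore (CfsgLib.Core.isSubnormal_of_isNilpotent _) fun q hq hd => hpi q hq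
        (by rwa [Nat.card_congr (subgroupOfEquivOfLe hE₃').toEquiv] at hd)
    have hDE : D ≤ E := commutator_le_self E
    have heq : E₃ = (Cfsg.piCore (Cfsg.tau3 M) D).map D.subtype := by
      have hle' : E₃ ≤ (Cfsg.piCore (Cfsg.tau3 M) D).map D.subtype := by
        rw [← map_subgroupOf_eq_of_le hE₃']; exact map_mono hsub
      refine le_antisymm hle' (relIndex_eq_one.1 ?_)
      by_contra h
      obtain ⟨q, hq, hd⟩ := Nat.exists_prime_and_dvd h
      have hqπ : q ∈ Cfsg.tau3 M := by
        refine Components.piCore_isPiSubgroup (G := ↥D) (Cfsg.tau3 M) q hq ?_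
        rw [← card_map_of_injective (K := Cfsg.piCore (Cfsg.tau3 M) D) D.subtype_injective]
        exact hd.trans ((E₃.subgroupOf _).index_dvd_card)
      refine hidx q hq hqπ ?_
      rw [← relIndex_mul_relIndex E₃ _ E hle' ((map_subtype_le _).trans hDE)]
      exact hd.mul_right _
    rw [heq]
    have hDn : E ≤ normalizer (D : Set G) := normalizer_commutator_ge_left E E
    intro g hg
    have hchar : (Cfsg.piCore (Cfsg.tau3 M) D).Characteristic := piCore_characteristic _
    exact PLengthEndgame.normalizer_le_char D _ (hDn hg)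

end CfsgLib.OddLocal.SigmaComplement
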