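import Cfsg.Agent.Lib.OddLocal.SigmaEmbedding
import Cfsg.Agent.Lib.OddLocal.SigmaComplement
import Mathlib.GroupTheory.SpecificGroups.ZGroup

/-!
The `σ(M)'`-part of the Fitting subgroup of a maximal subgroup.
-/

set_option autoImplicit false

namespace CfsgLib.OddLocal.FittingSigma

open Subgroup
open CfsgLib.TwoGroups
open SigmaOrderP (sigmaCore_le le_normalizer_sigmaCore)

variable {G : Type*} [Group G] [Finite G] {M : Subgroup G}

theorem le_normalizer_fittingOf (M : Subgroup G) : M ≤ normalizer (Cfsg.fittingOf M : Set G) := fun m hm =>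
  le_normalizer_map M.subtype
    ⟨⟨m, hm⟩, Core.le_normalizer_of_normal ⊤ (Cfsg.fittingSubgroup M) (mem_top _), rfl⟩

theorem isNilpotent_fittingOf (M : Subgroup G) : Group.IsNilpotent (Cfsg.fittingOf M) := by
  have := CfsgLib.Core.isNilpotent_fittingSubgroup (M : Type _)
  exact Group.nilpotent_of_mulEquiv ((Cfsg.fittingSubgroup M).equivMapOfInjective M.subtype M.subtype_injective)

/-- Normal nilpotent subgroups lie in the Fitting subgroup. -/
theorem le_fittingOf {N : Subgroup G} (hNM : N ≤ M) (hn : M ≤ normalizer (N : Set G))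
    (hnil : Group.IsNilpotent N) : N ≤ Cfsg.fittingOf M := by
  have : (N.subgroupOf M).Normal := (normal_subgroupOf_iff_le_normalizer hNM).mpr hn
  have h := CfsgLib.Core.le_fittingSubgroup (N := N.subgroupOf M)
    (Group.nilpotent_of_mulEquiv (subgroupOfEquivOfLe hNM).symm)
  rw [← map_subgroupOf_eq_of_le hNM]
  exact map_mono h

/-- `O_{σ'}(F(M))` centralizes `M_σ`. -/
theorem sigmaCore_le_centralizer (hG : Cfsg.IsMinSimpleOddOrder G) (hM : IsCoatom M) :
    Cfsg.sigmaCore M ≤
      centralizer (Cfsg.piCoreOf {q | q.Prime ∧ q ∉ Cfsg.sigma M} (Cfsg.fittingOf M) : Set G) := by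
  set π : Set ℕ := {q | q.Prime ∧ q ∉ Cfsg.sigma M}
  set F := Cfsg.fittingOf M
  set Y := Cfsg.piCoreOf π F
  have hYM : Y ≤ M := (map_subtype_le _).trans (map_subtype_le _)
  have hMY : M ≤ normalizer (Y : Set G) := fun m hm => by
    have := SigmaComplement.piCore_characteristic (H := F) π
    exact PLengthEndgame.normalizer_le_char F (Cfsg.piCore π F) (le_normalizer_fittingOf M hm)
  have hcop : (Nat.card (Cfsg.sigmaCore M)).Coprime (Nat.card Y) := Nat.coprime_of_dvd fun r hr h1 h2 =>
    (TransitivityHyp.isPiSubgroup_piCoreOf π F r hr h2).2 (TauTwo.mem_sigma_of_dvd hr h1 hG hM)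
  refine commutator_eq_bot_iff_le_centralizer.mp (le_bot_iff.mp ((le_inf ?_ ?_).trans
    (inf_eq_bot_of_coprime hcop).le))
  · exact le_normalizer_iff_commutator_le_left.mp (hYM.trans (le_normalizer_sigmaCore M))
  · exact le_normalizer_iff_commutator_le_right.mp ((sigmaCore_le M).trans hMY)

/-- S1439. -/
theorem sigma_prime_part (hG : Cfsg.IsMinSimpleOddOrder G) (hM : IsCoatom M) :
    IsCyclic ↥(Cfsg.piCoreOf {q | q.Prime ∧ q ∉ Cfsg.sigma M} (Cfsg.fittingOf M)) ∧
      (∀ p : ℕ, p.Prime → p ∣ Nat.card ↥(Cfsg.piCoreOf {q | q.Prime ∧ q ∉ Cfsg.sigma M} (Cfsg.fittingOf M)) →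
        p ∈ Cfsg.tau2 M) ∧
      Cfsg.fittingOf M =
        Cfsg.fittingOf (Cfsg.sigmaCore M) ⊔ Cfsg.piCoreOf {q | q.Prime ∧ q ∉ Cfsg.sigma M} (Cfsg.fittingOf M) := by
  have hcent := sigmaCore_le_centralizer hG hM
  set π : Set ℕ := {q | q.Prime ∧ q ∉ Cfsg.sigma M}
  set F := Cfsg.fittingOf M with hF
  set Y := Cfsg.piCoreOf π F with hY
  have hFM : F ≤ M := map_subtype_le _
  have hFn : Group.IsNilpotent F := isNilpotent_fittingOf M
  have hYM : Y ≤ M := (map_subtype_le _).trans hFM
  have hYπ := TransitivityHyp.isPiSubgroup_piCoreOf π F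
  have hMY : M ≤ normalizer (Y : Set G) := fun m hm => by
    have := SigmaComplement.piCore_characteristic (H := F) π
    exact PLengthEndgame.normalizer_le_char F (Cfsg.piCore π F) (le_normalizer_fittingOf M hm)
  have hYn : Group.IsNilpotent Y :=
    Group.nilpotent_of_mulEquiv ((Cfsg.piCore π F).equivMapOfInjective F.subtype F.subtype_injective)
  have hDb := TauTwo.sigmaCore_ne_bot hG hM
  have hcyc : IsCyclic Y := by
    have : IsZGroup Y := ⟨fun r hr P => by
      have := Fact.mk hr
      by_contra hnc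
      have hrY : r ∣ Nat.card Y := by
        obtain ⟨k, hk⟩ := IsPGroup.iff_card.mp P.2
        have hk0 : k ≠ 0 := by
          rintro rfl
          refine hnc ?_
          rw [eq_bot_of_card_eq _ (hk.trans (pow_zero r))]
          infer_instance
        exact ((dvd_pow_self r hk0).trans hk.symm.dvd).trans (card_subgroup_dvd_card _)
      have hr2 : r ≠ 2 := Uniqueness.odd_prime hG (hrY.trans Y.card_subgroup_dvd_card)
      obtain ⟨A, hAP, hA, hA2⟩ := SigmaEmbedding.exists_elementary_of_not_cyclic hr2 P.2 hnc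
      have hA' : TauTwo.IsPair r (A.map Y.subtype) := by
        refine ⟨⟨by have := hA.1; exact map_isMulCommutative A _, ?_⟩,
          by rw [card_map_of_injective Y.subtype_injective, hA2]⟩
        rintro _ ⟨a, ha, rfl⟩
        rw [← map_pow, hA.2 a ha, map_one]
      have h := TauTwo.sigma_inf_centralizer hG hM hA' ((map_subtype_le _).trans hYM) (hYπ r hr hrY).2
      rw [inf_eq_left.mpr (hcent.trans (Subgroup.centralizer_le (map_subtype_le A)))] at h
      exact hDb h⟩
    infer_instance
  refine ⟨hcyc, fun r hr hd => ?_, ?_⟩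
  · have := Fact.mk hr
    obtain ⟨x, hx⟩ := exists_prime_orderOf_dvd_card' (G := Y) r hd
    set X := zpowers (x : G)
    have hXY : X ≤ Y := zpowers_le.mpr x.2
    have hXc : Nat.card X = r := by rw [Nat.card_zpowers, Subgroup.orderOf_coe, hx]
    have hN : M ≤ normalizer (X : Set G) := hMY.trans (SigmaEmbedding.normalizer_le_of_cyclic hcyc hXY)
    have hX1 : X ≠ ⊥ := fun e => hr.ne_one (by rw [← hXc, e, card_bot])
    have hNX : normalizer (X : Set G) ≤ M := by
      rcases hN.lt_or_eq with h | h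
      · exact absurd (hM.2 _ h) (TransitivityHyp.normalizer_ne_top hG hX1
          (Uniqueness.ne_top_of_pGroup hG (IsPGroup.of_card (n := 1) (by rw [hXc, pow_one]) : IsPGroup r X)))
      · exact h.ge
    obtain ⟨⟨h2, h1⟩, -, -⟩ := NonSigma.order_p hG hM (hYπ r hr hd).2 hXc hNX
    exact ⟨hr, (hYπ r hr hd).2, h2, h1⟩
  · refine le_antisymm ?_ (sup_le ?_ (map_subtype_le _))
    · rw [← subgroupOf_eq_top]
      refine CfsgLib.Core.eq_top_of_forall_exists_sylow_le _ fun q hq _ => ?_
      have := Fact.mk hq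
      obtain ⟨P⟩ : Nonempty (Sylow q F) := inferInstance
      refine ⟨P, fun y hy => ?_⟩
      have h03 : Group.IsNilpotent F ↔ ∀ (r : ℕ) (_ : Fact r.Prime) (R : Sylow r F), (R : Subgroup F).Normal :=
        (Group.isNilpotent_of_finite_tfae (G := F)).out 0 3
      have hPn : (P : Subgroup F).Normal := h03.mp hFn q inferInstance P
      by_cases hqσ : q ∈ Cfsg.sigma M
      · refine mem_sup_left ?_
        set P' := (P : Subgroup F).map F.subtype
        have hP'D : P' ≤ Cfsg.sigmaCore M :=
          SigmaOrderP.le_sigmaCore hG hM hqσ (P.2.map _) ((map_subtype_le _).trans hFM)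
        have hMP : M ≤ normalizer (P' : Set G) := fun m hm => by
          have := Sylow.characteristic_of_normal P hPn
          exact PLengthEndgame.normalizer_le_char F (P : Subgroup F) (le_normalizer_fittingOf M hm)
        exact le_fittingOf hP'D ((sigmaCore_le M).trans hMP) (P.2.map _).isNilpotent ⟨y, hy, rfl⟩
      · refine mem_sup_right ⟨y, ?_, rfl⟩
        refine Components.le_piCore hPn (fun r hr hd => ?_) hy
        obtain ⟨k, hk⟩ := IsPGroup.iff_card.mp P.2
        rw [(Nat.prime_dvd_prime_iff_eq hr hq).mp (hr.dvd_of_dvd_pow (hk ▸ hd))]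
        exact ⟨hq, hqσ⟩
    · refine le_fittingOf ((map_subtype_le _).trans (sigmaCore_le M)) ?_ (isNilpotent_fittingOf _)
      exact fun m hm => PLengthEndgame.normalizer_le_char (Cfsg.sigmaCore M)
        (Cfsg.fittingSubgroup (Cfsg.sigmaCore M)) (le_normalizer_sigmaCore M hm)

end CfsgLib.OddLocal.FittingSigma
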