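import Cfsg.Agent.Lib.OddLocal.FrobeniusModule
import Cfsg.Agent.Lib.OddLocal.RankTwoNoFixed

/-!
A Frobenius group acting on a nilpotent group with cyclic fixed points of the complement.
-/

set_option autoImplicit false

namespace CfsgLib.OddLocal.FrobeniusNilpotent

open Subgroup
open scoped commutatorElement

variable {X : Type*} [Group X] [Finite X]

/-- The fixed point formula when the kernel fixes nothing. -/
theorem card_eq_pow (K R M : Subgroup X) (hKR : K ⊓ R = ⊥) (hRK : R ≤ normalizer (K : Set X))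
    (hfrob : ∀ r ∈ R, r ≠ 1 → K ⊓ centralizer ({r} : Set X) = ⊥) (hMs : Group.IsSolvable M)
    (hKM : K ≤ normalizer (M : Set X)) (hRM : R ≤ normalizer (M : Set X))
    (hcop : (Nat.card ↥(K ⊔ R)).Coprime (Nat.card M)) (hCK : M ⊓ centralizer (K : Set X) = ⊥) :
    Nat.card M = Nat.card ↥(M ⊓ centralizer (R : Set X)) ^ Nat.card R := by
  have hf := CfsgLib.FrobFix.formula_subgroup K R M hKR
    (fun e he u hu => (mem_normalizer_iff.1 (hRK he) u).1 hu)
    (fun e he hne u hu hc => mem_bot.1 (hfrob e he hne ▸ ⟨hu, mem_centralizer_singleton_iff.2 hc.symm⟩))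
    (fun x hx h hh => (mem_normalizer_iff.1 ((sup_le hKM hRM) hx) h).1 hh) hMs hcop.symm
  rw [hCK, show M ⊓ centralizer ((K ⊔ R : Subgroup X) : Set X) = ⊥ from eq_bot_iff.2
    ((inf_le_inf_left M (centralizer_le (le_sup_left : K ≤ K ⊔ R))).trans hCK.le), card_bot, one_pow,
    one_mul, mul_one] at hf
  exact hf

/-- The kernel's derived group centralises. -/
theorem commutator_le_centralizer {p : ℕ} (hp : p.Prime) (K : Subgroup X) (r : X) (hr : r ^ p = 1)
    (hrK : ∀ k ∈ K, r * k * r⁻¹ ∈ K) (hfp : ∀ k ∈ K, r * k = k * r → k = 1)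
    (hKp : (Nat.card K).Coprime p) :
    ∀ (n : ℕ) (M : Subgroup X), Nat.card M ≤ n → Group.IsNilpotent M →
      (Nat.card M).Coprime (Nat.card K * p) → K ≤ normalizer (M : Set X) → r ∈ normalizer (M : Set X) →
      M ⊓ centralizer (K : Set X) = ⊥ → IsCyclic ↥(M ⊓ centralizer (zpowers r : Set X)) →
      ⁅K, K⁆ ≤ centralizer (M : Set X) := by
  have := Fact.mk hp
  intro n
  induction n with
  | zero => exact fun M hM => absurd hM (Nat.card_pos (α := M)).not_ge
  | succ n ih =>
  intro M hMn hMnil hcop hKM hrM hCK hcyc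
  by_cases hMb : M = ⊥
  · intro x _
    refine mem_centralizer_iff.2 fun m hm => ?_
    rw [show m = 1 from mem_bot.1 (hMb ▸ hm : m ∈ (⊥ : Subgroup X)), one_mul, mul_one]
  have : Nontrivial M := (Subgroup.nontrivial_iff_ne_bot M).2 hMb
  set D := _root_.commutator M with hD
  have hDlt : D < ⊤ := Group.IsSolvable.commutator_lt_top_of_nontrivial M
  obtain ⟨q, hq, hqd⟩ := Nat.exists_prime_and_dvd (n := D.index) fun h => hDlt.ne (index_eq_one.1 h)
  have := Fact.mk hq
  set N := closure ((D : Set M) ∪ Set.range fun m : M => m ^ q) with hN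
  have hDN : D ≤ N := fun x hx => subset_closure (Or.inl hx)
  have hNpow : ∀ m : M, m ^ q ∈ N := fun m => subset_closure (Or.inr ⟨m, rfl⟩)
  have hNn : N.Normal := ⟨fun x hx g => by
    rw [show g * x * g⁻¹ = ⁅g, x⁆ * x by rw [commutatorElement_def]; group]
    exact mul_mem (hDN (commutator_mem_commutator (mem_top g) (mem_top x))) hx⟩
  have hNinv : ∀ (φ : MulAut M), ∀ x ∈ N, φ x ∈ N := by
    intro φ x hx
    have hle : N.map φ.toMonoidHom ≤ N := by
      rw [hN, MonoidHom.map_closure, closure_le]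
      rintro _ ⟨y, hy | ⟨m, rfl⟩, rfl⟩
      · exact hDN ((characteristic_iff_map_le.1 (inferInstance : D.Characteristic) φ) (mem_map_of_mem _ hy))
      · rw [map_pow]; exact hNpow _
    exact hle (mem_map_of_mem _ hx)
  have hNne : N ≠ ⊤ := by
    intro h
    let : CommGroup (M ⧸ D) :=
      { (inferInstance : Group (M ⧸ D)) with
        mul_comm := (Subgroup.Normal.quotient_commutative_iff_commutator_le.mpr (le_refl D)).is_comm.comm }
    let f : M ⧸ D →* M ⧸ D := powMonoidHom q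
    have hle : N.map (QuotientGroup.mk' D) ≤ f.range := by
      rw [hN, MonoidHom.map_closure, closure_le]
      rintro _ ⟨y, hy | ⟨m, rfl⟩, rfl⟩
      · rw [show QuotientGroup.mk' D y = 1 from (QuotientGroup.eq_one_iff y).2 hy]; exact one_mem _
      · exact ⟨(m : M ⧸ D), (map_pow (QuotientGroup.mk' D) m q).symm⟩
    rw [h, ← MonoidHom.range_eq_map, QuotientGroup.range_mk', top_le_iff, MonoidHom.range_eq_top] at hle
    obtain ⟨x, hx⟩ := exists_prime_orderOf_dvd_card' (G := M ⧸ D) q (by rwa [← index_eq_card])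
    have hx1 : x = 1 := Finite.injective_iff_surjective.2 hle (show f x = f 1 by
      simp only [f, powMonoidHom_apply, one_pow]
      rw [← hx]; exact pow_orderOf_eq_one x)
    rw [hx1, orderOf_one] at hx
    exact hq.ne_one hx.symm
  -- the module
  let : CommGroup (M ⧸ N) :=
    { (inferInstance : Group (M ⧸ N)) with
      mul_comm := (Subgroup.Normal.quotient_commutative_iff_commutator_le.mpr hDN).is_comm.comm }
  have hexp : ∀ v : M ⧸ N, v ^ q = 1 := fun v => QuotientGroup.induction_on v fun m => by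
    rw [← QuotientGroup.mk_pow]; exact (QuotientGroup.eq_one_iff _).2 (hNpow m)
  obtain ⟨χ, hχ⟩ := RankTwoNoFixed.exists_quotient_hom M.normalizerMonoidHom N fun a x hx => hNinv _ x hx
  set L := (K.subgroupOf (normalizer (M : Set X))).map χ with hL
  set rb := χ ⟨r, hrM⟩ with hrb
  have hrbp : rb ^ p = 1 := by
    rw [hrb, ← map_pow, ← map_one χ]; exact congrArg χ (Subtype.ext hr)
  have hLnorm : ∀ k ∈ L, rb * k * rb⁻¹ ∈ L := by
    rintro _ ⟨k, hk, rfl⟩
    rw [hrb, ← map_inv, ← map_mul, ← map_mul]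
    exact mem_map_of_mem χ (hrK _ hk)
  have hMcopK : (Nat.card K).Coprime (Nat.card M) := hcop.symm.coprime_dvd_left (dvd_mul_right _ _)
  have hMcopr : (Nat.card (zpowers r)).Coprime (Nat.card M) := by
    rw [Nat.card_zpowers]
    exact hcop.symm.coprime_dvd_left ((orderOf_dvd_of_pow_eq_one hr).trans (dvd_mul_left _ _))
  set N' := N.map M.subtype with hN'
  have hN'M : N' ≤ M := map_subtype_le _
  have hnorm : ∀ g : X, g ∈ normalizer (M : Set X) → g ∈ normalizer (N' : Set X) := by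
    intro g hg
    have h1 : ∀ g ∈ normalizer (M : Set X), ∀ x ∈ N', g * x * g⁻¹ ∈ N' := by
      rintro g hg _ ⟨x, hx, rfl⟩
      exact ⟨M.normalizerMonoidHom ⟨g, hg⟩ x, hNinv _ x hx, rfl⟩
    refine mem_normalizer_iff.2 fun x => ⟨h1 g hg x, fun h => ?_⟩
    have := h1 g⁻¹ (inv_mem hg) _ h
    simpa [mul_assoc] using this
  -- lifting fixed points
  have hlift : ∀ (S : Subgroup X) (hS : S ≤ normalizer (M : Set X)), (Nat.card S).Coprime (Nat.card M) →
      ∀ v : M ⧸ N, (∀ s (hs : s ∈ S), χ ⟨s, hS hs⟩ v = v) →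
        ∃ m : M, (m : X) ∈ centralizer (S : Set X) ∧ (m : M ⧸ N) = v := by
    intro S hS hScop v hv
    obtain ⟨m, rfl⟩ := QuotientGroup.mk_surjective v
    have hNs : Group.IsSolvable N' := CfsgLib.Core.isSolvable_of_le
      (inferInstance : Group.IsSolvable M) hN'M
    obtain ⟨w, ⟨w', hw', rfl⟩, hw⟩ := CfsgLib.Core.exists_centralizing_in_coset (A := S) (N := N')
      (fun s hs => hnorm s (hS hs)) (hScop.coprime_dvd_right (card_dvd_of_le hN'M)) (Or.inr hNs)
      (k := (m : X)) fun s hs => ⟨m⁻¹ * M.normalizerMonoidHom ⟨s, hS hs⟩ m,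
        QuotientGroup.eq.1 ((hχ _ m).symm.trans (hv s hs)).symm, rfl⟩
    exact ⟨m * w', hw, by rw [QuotientGroup.mk_mul, (QuotientGroup.eq_one_iff w').2 hw', mul_one]⟩
  have hfix : ∀ v : M ⧸ N, (∀ k ∈ L, k v = v) → v = 1 := by
    intro v hv
    obtain ⟨m, hm, hmv⟩ := hlift K hKM hMcopK v fun s hs => hv _ (mem_map_of_mem χ hs)
    have : (m : X) ∈ (⊥ : Subgroup X) := hCK ▸ ⟨m.2, hm⟩
    rw [← hmv, show m = 1 from Subtype.ext (mem_bot.1 this), QuotientGroup.mk_one]
  have hfpL : ∀ k ∈ L, rb * k = k * rb → k = 1 := by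
    rintro _ ⟨⟨k, hk'⟩, hk, rfl⟩ hc
    set W := (χ.ker).map (normalizer (M : Set X)).subtype ⊓ K with hW
    have hkW : k⁻¹ * (r * k * r⁻¹) ∈ W := by
      refine ⟨⟨⟨_, mul_mem (inv_mem hk') (mul_mem (mul_mem hrM hk') (inv_mem hrM))⟩, ?_, rfl⟩,
        K.mul_mem (K.inv_mem hk) (hrK k hk)⟩
      show χ ((⟨k, hk'⟩ : normalizer (M : Set X))⁻¹ * (⟨r, hrM⟩ * ⟨k, hk'⟩ * ⟨r, hrM⟩⁻¹)) = 1
      rw [map_mul, map_mul, map_mul, map_inv, map_inv, ← hrb, hc, mul_inv_cancel_right, inv_mul_cancel]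
    have hrW : ∀ x ∈ W, r * x * r⁻¹ ∈ W := by
      rintro x ⟨⟨y, hy, rfl⟩, hxK⟩
      exact ⟨⟨⟨r, hrM⟩ * y * ⟨r, hrM⟩⁻¹, MonoidHom.normal_ker χ |>.conj_mem y hy _, rfl⟩, hrK _ hxK⟩
    have hAW : zpowers r ≤ normalizer (W : Set X) := zpowers_le.2 <| mem_normalizer_iff.2 fun x =>
      ⟨hrW x, fun h => by
        obtain ⟨y, hy, hyx⟩ := FrobeniusModule.exists_conj_eq hrW h
        rwa [← show y = x from mul_left_cancel (mul_right_cancel hyx)]⟩
    obtain ⟨w, hw, hkw⟩ := CfsgLib.Core.exists_centralizing_in_coset (A := zpowers r) (N := W) hAW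
      (by
        rw [Nat.card_zpowers]
        exact (hKp.symm.coprime_dvd_left (orderOf_dvd_of_pow_eq_one hr)).coprime_dvd_right
          (card_dvd_of_le inf_le_right))
      (Or.inl (Group.isSolvable_of_comm (IsCyclic.commGroup (α := zpowers r)).mul_comm)) (k := k) (by
        intro a ha
        obtain ⟨i, rfl⟩ := mem_powers_iff_mem_zpowers.2 ha
        clear ha
        induction i with
        | zero => simp
        | succ i ih =>
          have h2 := hrW _ ih
          have : k⁻¹ * (r ^ (i + 1) * k * (r ^ (i + 1))⁻¹) =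
              k⁻¹ * (r * k * r⁻¹) * (r * (k⁻¹ * (r ^ i * k * (r ^ i)⁻¹)) * r⁻¹) := by
            rw [pow_succ']; group
          show k⁻¹ * (r ^ (i + 1) * k * (r ^ (i + 1))⁻¹) ∈ W
          rw [this]
          exact mul_mem hkW h2)
    have h1 := hfp (k * w) (mul_mem hk hw.2) (mem_centralizer_iff.1 hkw r (mem_zpowers r))
    obtain ⟨y, hy, hyw⟩ := hw.1
    have h2 : (⟨k, hk'⟩ : normalizer (M : Set X)) * y = 1 := Subtype.ext (by
      show k * (y : X) = 1
      rw [show (y : X) = w from hyw]; exact h1)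
    have h3 := congrArg χ h2
    rwa [map_mul, show χ y = 1 from hy, mul_one, map_one] at h3
  have hLK : Nat.card L ∣ Nat.card K := by
    refine (card_map_dvd _ _).trans ?_
    exact (Nat.card_congr (subgroupOfEquivOfLe hKM).toEquiv).dvd
  have hVM : Nat.card (M ⧸ N) ∣ Nat.card M := card_quotient_dvd_card N
  have hLp : (Nat.card L).Coprime p := hKp.coprime_dvd_left hLK
  have hVcop : (Nat.card (M ⧸ N)).Coprime (Nat.card L * p) :=
    (hcop.coprime_dvd_left hVM).coprime_dvd_right (Nat.mul_dvd_mul_right hLK p)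
  have hrb1 : rb ≠ 1 := by
    intro h
    refine hNne (eq_top_iff.2 fun m _ => (QuotientGroup.eq_one_iff m).1 ?_)
    exact hfix _ fun k hk => by
      rw [hfpL k hk (by rw [h, one_mul, mul_one]), MulAut.one_apply]
  obtain ⟨C, hC, hCV⟩ := FrobeniusModule.card_eq_pow hp ⊤ L rb hrbp hrb1 hLnorm hfpL hLp hVcop
    (fun _ _ _ _ => mem_top _) (fun _ _ => mem_top _) fun u _ => hfix u
  have hCq : Nat.card C = q := by
    set T := M ⊓ centralizer (zpowers r : Set X)
    let g : T →* M ⧸ N := (QuotientGroup.mk' N).comp (inclusion inf_le_left)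
    have hCle : C ≤ g.range := fun v hv => by
      obtain ⟨m, hm, hmv⟩ := hlift (zpowers r) (zpowers_le.2 hrM) hMcopr v fun s hs => by
        obtain ⟨i, rfl⟩ := mem_powers_iff_mem_zpowers.2 hs
        rw [show (⟨r ^ i, _⟩ : normalizer (M : Set X)) = ⟨r, hrM⟩ ^ i from rfl, map_pow, ← hrb]
        clear hs
        induction i with
        | zero => rw [pow_zero, MulAut.one_apply]
        | succ i ihi => rw [pow_succ, MulAut.mul_apply, ((hC v).1 hv).2, ihi]
      exact ⟨⟨(m : X), m.2, hm⟩, hmv⟩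
    have hgc : IsCyclic g.range := isCyclic_of_surjective g.rangeRestrict g.rangeRestrict_surjective
    have hCc : IsCyclic C := isCyclic_of_injective (inclusion hCle) (inclusion_injective hCle)
    have hd : Nat.card C ∣ q := by
      rw [← IsCyclic.exponent_eq_card]
      exact Monoid.exponent_dvd_of_forall_pow_eq_one fun c => Subtype.ext (hexp c)
    rcases (Nat.dvd_prime hq).1 hd with h | h
    · exfalso
      rw [card_top, h, one_pow, ← index_eq_card] at hCV
      exact hNne (index_eq_one.1 hCV)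
    · exact h
  have hcard : Nat.card (M ⧸ N) = q ^ p := by rw [← hCq, ← hCV, card_top]
  have hab := FrobeniusModule.commutative_on_module hp hq hexp hcard L rb hrbp hLnorm hfpL hLp hVcop hfix
  -- the smaller group
  have hN'lt : Nat.card N' < Nat.card M := by
    rw [hN', card_map_of_injective M.subtype_injective]
    exact lt_of_le_of_ne (card_le_card_group N) fun h => hNne (eq_top_of_card_eq N h)
  have hih := ih N' (by omega) (Group.nilpotent_of_mulEquiv (N.equivMapOfInjective M.subtype M.subtype_injective))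
    (hcop.coprime_dvd_left (card_dvd_of_le hN'M)) (fun g hg => hnorm g (hKM hg)) (hnorm r hrM)
    (eq_bot_iff.2 ((inf_le_inf_right _ hN'M).trans hCK.le))
    (isCyclic_of_injective (inclusion (inf_le_inf_right _ hN'M)) (inclusion_injective _))
  refine commutator_le.2 fun a ha b hb => mem_centralizer_iff.2 fun m hm => ?_
  have hab' : χ ⁅(⟨a, hKM ha⟩ : normalizer (M : Set X)), ⟨b, hKM hb⟩⁆ = 1 := by
    rw [map_commutatorElement, commutatorElement_eq_one_iff_mul_comm]
    exact hab _ (mem_map_of_mem χ ha) _ (mem_map_of_mem χ hb)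
  set c := ⁅a, b⁆ with hc
  have hcK : c ∈ ⁅K, K⁆ := commutator_mem_commutator ha hb
  have hcK' : c ∈ K := mul_mem (mul_mem (mul_mem ha hb) (inv_mem ha)) (inv_mem hb)
  have hcn : c ∈ normalizer (M : Set X) := hKM hcK'
  have hz : m⁻¹ * (c * m * c⁻¹) ∈ N' := by
    refine ⟨(⟨m, hm⟩ : M)⁻¹ * M.normalizerMonoidHom ⟨c, hcn⟩ ⟨m, hm⟩, ?_, rfl⟩
    refine QuotientGroup.eq.1 ?_
    rw [← hχ]
    exact (DFunLike.congr_fun hab' ((⟨m, hm⟩ : M) : M ⧸ N)).symm
  have h1 := CfsgLib.OddLocal.shift_eq_one (a := c) (h := m) (z := m⁻¹ * (c * m * c⁻¹)) (by group)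
    (mem_centralizer_iff.1 (hih hcK) _ hz).symm
    (pow_card_eq_one_of_mem hcK') (pow_card_eq_one_of_mem (hN'M hz)) hMcopK
  rw [inv_mul_eq_one, eq_mul_inv_iff_mul_eq] at h1
  exact h1

end CfsgLib.OddLocal.FrobeniusNilpotent
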