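import Cfsg.Agent.Lib.TwoGroups.TauTwoComplement
import Cfsg.Agent.Lib.Core.FPFAutomorphism
import Cfsg.Agent.Lib.PLocal.NormalPComplementThms

/-!
Primes of a maximal subgroup outside `σ(M) ∪ κ(M)` (Bender–Glauberman, Proposition 13.5 / S1429).
-/

set_option autoImplicit false
set_option linter.unusedSectionVars false

namespace CfsgLib.OddLocal.NonKappa

open Subgroup
open CfsgLib.TwoGroups

variable {G : Type*} [Group G] [Finite G] {p : ℕ} [Fact p.Prime] {M : Subgroup G}

/-- An element of prime order normalising `N` without fixed points forces `N` to be nilpotent. -/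
theorem isNilpotent_of_fpf_elem {N : Subgroup G} {x : G} (hx : orderOf x = p)
    (hxN : x ∈ normalizer (N : Set G)) (hfix : N ⊓ centralizer ({x} : Set G) = ⊥) : Group.IsNilpotent N := by
  let φ : MulAut N := N.normalizerMonoidHom ⟨x, hxN⟩
  refine CfsgLib.Core.FPFAut.isNilpotent_of_fpf
    (fun K _ _ q _ hq P h => CfsgLib.PLocal.hasNormalPComplement_glauberman hq P h) φ (fun y hy => ?_)
    (Fact.out : p.Prime) ?_
  · have h1 : x * (y : G) * x⁻¹ = (y : G) := congrArg Subtype.val hy
    exact Subtype.ext (mem_bot.mp (hfix.le ⟨y.2,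
      mem_centralizer_singleton_iff.mpr (mul_inv_eq_iff_eq_mul.mp h1).symm⟩))
  · show (N.normalizerMonoidHom ⟨x, hxN⟩) ^ p = 1
    rw [← map_pow, show (⟨x, hxN⟩ : normalizer (N : Set G)) ^ p = 1 from
      Subtype.ext (hx ▸ pow_orderOf_eq_one x), map_one]

/-- S1429, without its superfluous hypothesis. -/
theorem omega_facts (hG : Cfsg.IsMinSimpleOddOrder G) (hM : IsCoatom M) (hpM : p ∣ Nat.card M)
    (hp : p ∉ Cfsg.sigma M ∪ Cfsg.kappa M) (S : Sylow p M) :
    Nat.card ↥(closure {x : G | x ∈ (S : Subgroup M).map M.subtype ∧ x ^ p = 1}) ≤ p ^ 2 ∧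
      Cfsg.sigmaCore M ⊓ centralizer
        ((closure {x : G | x ∈ (S : Subgroup M).map M.subtype ∧ x ^ p = 1} : Subgroup G) : Set G) = ⊥ ∧
      Group.IsNilpotent (Cfsg.sigmaCore M) := by
  have hpσ : p ∉ Cfsg.sigma M := fun h => hp (Or.inl h)
  have hp' : p.Prime := Fact.out
  set S' := (S : Subgroup M).map M.subtype with hS'
  have hS'p : IsPGroup p S' := S.2.map _
  set W := closure {x : G | x ∈ S' ∧ x ^ p = 1} with hW
  by_cases h1 : Cfsg.PRankLE p 1 M
  · -- cyclic Sylow subgroups
    have hcyc : ∀ P : Sylow p M, IsCyclic (P : Subgroup M) := fun P => by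
      have := TauTwo.sylow_cyclic_of_rank_one hG h1 (P.2.map M.subtype) (map_subtype_le _)
      exact isCyclic_of_surjective ((P : Subgroup M).equivMapOfInjective M.subtype M.subtype_injective).symm
        (MulEquiv.surjective _)
    obtain ⟨P, hP⟩ : ∃ P : Sylow p M, ∀ x : M, x ∈ (P : Subgroup M) → x ≠ 1 →
        ∀ y ∈ Cfsg.sigmaCore M, (x : G) * y = y * x → y = 1 := by
      by_contra hno
      push Not at hno
      refine hp (Or.inr ⟨hp', hpM, hpσ, fun P => ⟨hcyc P, ?_⟩⟩)
      obtain ⟨x, hx, hx1, y, hy, hc, hy1⟩ := hno P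
      exact ⟨x, hx, hx1, y, hy, hy1, hc⟩
    have hScyc : IsCyclic S' := by
      have := hcyc S
      exact isCyclic_of_surjective ((S : Subgroup M).equivMapOfInjective M.subtype M.subtype_injective)
        (MulEquiv.surjective _)
    obtain ⟨x, hx⟩ := exists_prime_orderOf_dvd_card' (G := (S : Subgroup M)) p (S.dvd_card_of_dvd_card hpM)
    set a : G := ((x : M) : G) with ha
    have hao : orderOf a = p := by rw [ha, Subgroup.orderOf_coe, Subgroup.orderOf_coe, hx]
    have ha1 : a ≠ 1 := fun e => hp'.ne_one (by rw [← hao, e, orderOf_one])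
    have haS : a ∈ S' := ⟨(x : M), x.2, rfl⟩
    have hcard : Nat.card (zpowers a) = p := by rw [Nat.card_zpowers, hao]
    have hWle : W ≤ zpowers a := by
      refine (closure_le _).mpr ?_
      rintro b ⟨hb, hbp⟩
      by_cases hb1 : b = 1
      · rw [hb1]; exact one_mem _
      have hbc : Nat.card (zpowers b) = p := by rw [Nat.card_zpowers, orderOf_eq_prime hbp hb1]
      have h := NonSigma.eq_of_card_prime hScyc (p := p)
        (H := (zpowers b).subgroupOf S') (K := (zpowers a).subgroupOf S')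
        (by rw [Nat.card_congr (subgroupOfEquivOfLe (zpowers_le.mpr hb)).toEquiv, hbc])
        (by rw [Nat.card_congr (subgroupOfEquivOfLe (zpowers_le.mpr haS)).toEquiv, hcard])
      have h2 : (⟨b, hb⟩ : S') ∈ (zpowers b).subgroupOf S' := mem_subgroupOf.mpr (mem_zpowers b)
      rw [h] at h2
      exact mem_subgroupOf.mp h2
    have haW : a ∈ W := subset_closure ⟨haS, by rw [← hao]; exact pow_orderOf_eq_one a⟩
    -- no fixed points
    obtain ⟨m, hm⟩ := MulAction.exists_smul_eq M P S
    have hfix : Cfsg.sigmaCore M ⊓ centralizer ({a} : Set G) = ⊥ := by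
      rw [eq_bot_iff]
      intro y hy
      obtain ⟨hyσ, hyc⟩ := mem_inf.mp hy
      have hxP : m⁻¹ * (x : M) * m ∈ (P : Subgroup M) := by
        have h : (x : M) ∈ ((m • P : Sylow p M) : Subgroup M) := by rw [hm]; exact x.2
        exact Transfer.mem_sylow_smul.mp h
      have hne : m⁻¹ * (x : M) * m ≠ 1 := by
        intro e
        refine ha1 ?_
        have h2 := congrArg (fun z : M => ((m * z * m⁻¹ : M) : G)) e
        simpa [mul_assoc, ha] using h2
      have hyM : (m : G)⁻¹ * y * (m : G) ∈ Cfsg.sigmaCore M := by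
        have h := (mem_normalizer_iff.mp (TauTwo.le_normalizer_sigmaCore M (inv_mem m.2)) y).mp hyσ
        simpa [inv_inv] using h
      have h3 := hP _ hxP hne _ hyM (by
        have hc : a * y = y * a := (mem_centralizer_singleton_iff.mp hyc).symm
        show (m : G)⁻¹ * a * (m : G) * ((m : G)⁻¹ * y * (m : G)) =
          (m : G)⁻¹ * y * (m : G) * ((m : G)⁻¹ * a * (m : G))
        calc (m : G)⁻¹ * a * (m : G) * ((m : G)⁻¹ * y * (m : G))
            = (m : G)⁻¹ * (a * y) * (m : G) := by group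
          _ = (m : G)⁻¹ * (y * a) * (m : G) := by rw [hc]
          _ = _ := by group)
      rw [mem_bot]
      calc y = (m : G) * ((m : G)⁻¹ * y * (m : G)) * (m : G)⁻¹ := by group
        _ = 1 := by rw [h3]; group
    refine ⟨?_, ?_, isNilpotent_of_fpf_elem hao
      (TauTwo.le_normalizer_sigmaCore M ((x : M).2)) hfix⟩
    · calc Nat.card W ≤ Nat.card (zpowers a) := card_le_of_le hWle
        _ = p := hcard
        _ ≤ p ^ 2 := Nat.le_self_pow two_ne_zero p
    · rw [eq_bot_iff, ← hfix]
      exact inf_le_inf_left _ (centralizer_le (Set.singleton_subset_iff.mpr haW))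
  · -- rank two
    obtain ⟨B, hB, hBM⟩ := TauTwo.exists_isPair h1
    obtain ⟨R, hR⟩ := (hB.isPGroup.comap_subtype (K := M)).exists_le_sylow
    obtain ⟨m, hm⟩ := MulAction.exists_smul_eq M R S
    set A := B.map (MulAut.conj (m : G)).toMonoidHom with hA
    have hApair : TauTwo.IsPair p A := ⟨CfsgLib.PLocal.elementary_map _ hB.1,
      by rw [hA, card_map_of_injective (MulAut.conj (m : G)).injective, hB.2]⟩
    have hAS : A ≤ S' := by
      rintro _ ⟨b, hb, rfl⟩
      refine ⟨m * ⟨b, hBM hb⟩ * m⁻¹, ?_, rfl⟩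
      rw [← hm]
      refine Transfer.mem_sylow_smul.mpr ?_
      simpa [mul_assoc] using hR (mem_comap.mpr hb : (⟨b, hBM hb⟩ : M) ∈ B.comap M.subtype)
    have hAM : A ≤ M := hAS.trans (map_subtype_le _)
    obtain ⟨-, hΩ⟩ := TauTwo.sylow_abelian hG hM hApair hAM hpσ S
    have hWA : W = A := le_antisymm ((closure_le _).mpr fun y hy => (hΩ hAS y hy.1).mp hy.2)
      fun y hy => subset_closure ⟨hAS hy, hApair.1.2 y hy⟩
    exact ⟨by rw [hWA, hApair.2], hWA ▸ TauTwo.sigma_inf_centralizer hG hM hApair hAM hpσ,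
      TauTwo.isNilpotent_sigmaCore hG hM hApair hAM hpσ⟩

end CfsgLib.OddLocal.NonKappa
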