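import Cfsg.Agent.Lib.OddLocal.SigmaEmbedding
import Mathlib.GroupTheory.Abelianization.Defs
import Mathlib.GroupTheory.SpecificGroups.ZGroup

/-!
The action of a complement on `M_σ`, and the intersections of `M_σ` with conjugates of `M`.
-/

set_option autoImplicit false

namespace CfsgLib.OddLocal.SigmaIntersection

theorem nilpotent_of_comm {A : Type*} [Group A] (h : IsMulCommutative A) : Group.IsNilpotent A := by
  refine ⟨1, ?_⟩
  rw [Subgroup.upperCentralSeries_one, eq_top_iff]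
  exact fun a _ => Subgroup.mem_center_iff.mpr fun b => h.is_comm.comm b a

open Subgroup
open CfsgLib.TwoGroups
open scoped commutatorElement
open SylowUnique (RankTwoCentralizer Only)
open SigmaOrderP (sigmaCore_le le_normalizer_sigmaCore)

variable {G : Type*} [Group G] [Finite G] {M E : Subgroup G}

/-- The norm map to the abelianization shows `C_D(E) ≤ D'` when `[D, E] = D`. -/
theorem inf_centralizer_le_derived {D E : Subgroup G} (hED : E ≤ normalizer (D : Set G))
    (hcop : (Nat.card E).Coprime (Nat.card D)) (hfull : ⁅D, E⁆ = D) :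
    D ⊓ centralizer (E : Set G) ≤ ⁅D, D⁆ := by
  classical
  have := Fintype.ofFinite E
  set c : E → (D →* Abelianization D) := fun e =>
    Abelianization.of.comp (D.normalizerMonoidHom ⟨e, hED e.2⟩).toMonoidHom with hc
  set φ : D →* Abelianization D := ∏ e : E, c e with hφ
  have happ : ∀ d : D, φ d = ∏ e : E, c e d := fun d => MonoidHom.finsetProd_apply c Finset.univ d
  have hmem : ∀ (e : E) (d : D), (e : G) * d * (e : G)⁻¹ ∈ D := fun e d =>
    (mem_normalizer_iff.mp (hED e.2) d).mp d.2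
  have hinv : ∀ (e₀ : E) (d : D), φ ⟨(e₀ : G) * d * (e₀ : G)⁻¹, hmem e₀ d⟩ = φ d := fun e₀ d => by
    rw [happ, happ]
    refine Fintype.prod_equiv (Equiv.mulRight e₀) _ _ fun e => ?_
    simp only [hc, MonoidHom.comp_apply]
    congr 1
    refine Subtype.ext ?_
    show (e : G) * ((e₀ : G) * d * (e₀ : G)⁻¹) * (e : G)⁻¹ = ((e * e₀ : E) : G) * d * ((e * e₀ : E) : G)⁻¹
    push_cast
    group
  have hker : ⁅D, E⁆ ≤ φ.ker.map D.subtype := by
    refine commutator_le.mpr fun d hd e he => ?_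
    have hm : ⁅d, e⁆ ∈ D := by
      rw [commutatorElement_def]
      have := mul_mem hd (hmem ⟨e, he⟩ ⟨d⁻¹, inv_mem hd⟩)
      simpa [mul_assoc] using this
    refine ⟨⟨⁅d, e⁆, hm⟩, MonoidHom.mem_ker.mpr ?_, rfl⟩
    have h1 : (⟨⁅d, e⁆, hm⟩ : D) = ⟨d, hd⟩ * ⟨(e : G) * d⁻¹ * (e : G)⁻¹, hmem ⟨e, he⟩ ⟨d⁻¹, inv_mem hd⟩⟩ :=
      Subtype.ext (by simp [commutatorElement_def, mul_assoc])
    rw [h1, map_mul, show φ ⟨(e : G) * d⁻¹ * (e : G)⁻¹, hmem ⟨e, he⟩ ⟨d⁻¹, inv_mem hd⟩⟩ = φ ⟨d⁻¹, inv_mem hd⟩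
      from hinv ⟨e, he⟩ ⟨d⁻¹, inv_mem hd⟩, show (⟨d⁻¹, inv_mem hd⟩ : D) = ⟨d, hd⟩⁻¹ from rfl, map_inv,
      mul_inv_cancel]
  rintro x ⟨hxD, hxc⟩
  have h1 : φ ⟨x, hxD⟩ = 1 := by
    obtain ⟨d, hd, e⟩ := hker (hfull.ge hxD)
    rw [show (⟨x, hxD⟩ : D) = d from D.subtype_injective e.symm]
    exact MonoidHom.mem_ker.mp hd
  have h2 : φ ⟨x, hxD⟩ = (Abelianization.of ⟨x, hxD⟩) ^ Nat.card E := by
    rw [happ, Nat.card_eq_fintype_card, ← Finset.card_univ, ← Finset.prod_const]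
    refine Finset.prod_congr rfl fun e _ => ?_
    simp only [hc, MonoidHom.comp_apply]
    congr 1
    refine Subtype.ext ?_
    show (e : G) * x * (e : G)⁻¹ = x
    rw [mem_centralizer_iff.mp hxc e e.2, mul_inv_cancel_right]
  have h3 : Abelianization.of (⟨x, hxD⟩ : D) = 1 := by
    refine orderOf_eq_one_iff.mp (Nat.eq_one_of_dvd_coprimes hcop.symm ?_ (orderOf_dvd_of_pow_eq_one (h2 ▸ h1)))
    exact (orderOf_map_dvd _ _).trans (orderOf_dvd_natCard _)
  have h4 : (⟨x, hxD⟩ : D) ∈ _root_.commutator D := (QuotientGroup.eq_one_iff _).mp h3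
  rw [← map_subtype_commutator]
  exact ⟨_, h4, rfl⟩

/-- S1426, parts one and two. -/
theorem commutator_eq (hG : Cfsg.IsMinSimpleOddOrder G) (hM : IsCoatom M)
    (hE : Cfsg.IsComplIn E (Cfsg.sigmaCore M) M) :
    ⁅Cfsg.sigmaCore M, E⁆ = Cfsg.sigmaCore M ∧
      Cfsg.sigmaCore M ⊓ centralizer (E : Set G) ≤ ⁅Cfsg.sigmaCore M, Cfsg.sigmaCore M⁆ := by
  obtain ⟨hEM, -, hdis, hfac⟩ := hE
  set D := Cfsg.sigmaCore M with hD
  have hDM : D ≤ M := sigmaCore_le M
  have hMD : M ≤ normalizer (D : Set G) := le_normalizer_sigmaCore M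
  have hED : E ≤ normalizer (D : Set G) := hEM.trans hMD
  set N := ⁅D, E⁆ with hN
  have hND : N ≤ D := CfsgLib.Core.commutator_le_of_normalizes hED
  have hMN : M ≤ normalizer (N : Set G) := fun m hm => by
    obtain ⟨e, he, d, hd, rfl⟩ := hfac m hm
    exact (CfsgLib.Core.le_normalizer_commutator_self E D) (mul_mem (mem_sup_right he) (mem_sup_left hd))
  have hND' : N = D := by
    refine le_antisymm hND ?_
    set N' := N.subgroupOf M
    have : N'.Normal := (normal_subgroupOf_iff_le_normalizer (hND.trans hDM)).mpr hMN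
    set π := QuotientGroup.mk' N'
    set D' := (D.subgroupOf M).map π with hD'
    set E' := (E.subgroupOf M).map π with hE'
    have hcomm : ∀ x ∈ D', ∀ y ∈ E', Commute x y := by
      rintro _ ⟨d, hd, rfl⟩ _ ⟨e, he, rfl⟩
      show π d * π e = π e * π d
      rw [← map_mul, ← map_mul]
      refine (QuotientGroup.eq (s := N')).mpr ?_
      show (((d * e)⁻¹ * (e * d) : M) : G) ∈ N
      have := inv_mem (commutator_mem_commutator (H₁ := D) (H₂ := E) (inv_mem (mem_subgroupOf.mp hd))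
        (inv_mem (mem_subgroupOf.mp he)) : ⁅(d : G)⁻¹, (e : G)⁻¹⁆ ∈ N)
      simpa [commutatorElement_def, mul_assoc] using this
    have hsplit : ∀ q, ∃ x ∈ D', ∃ y ∈ E', q = x * y := fun q => by
      obtain ⟨⟨m, hm⟩, rfl⟩ := QuotientGroup.mk'_surjective N' q
      obtain ⟨e, he, d, hd, rfl⟩ := hfac m hm
      have hem := hEM he
      have hdm := hDM hd
      refine ⟨π ⟨d, hdm⟩, ⟨_, hd, rfl⟩, π ⟨e, hem⟩, ⟨_, he, rfl⟩, ?_⟩
      rw [(hcomm _ ⟨_, hd, rfl⟩ _ ⟨_, he, rfl⟩).eq, ← map_mul]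
      rfl
    have hdis' : ∀ x ∈ D', x ∈ E' → x = 1 := by
      rintro _ ⟨d, hd, rfl⟩ ⟨e, he, hq⟩
      have h1 := (QuotientGroup.eq (s := N')).mp hq
      have h2 : (e : G) ∈ D := by
        have h3 : (e : G)⁻¹ * d ∈ D := hND (show (((e⁻¹ * d : M)) : G) ∈ N from h1)
        have := mul_mem (mem_subgroupOf.mp hd) (inv_mem h3)
        simpa using this
      have h4 : (e : G) ∈ E ⊓ D := ⟨he, h2⟩
      rw [hdis, mem_bot, OneMemClass.coe_eq_one] at h4
      rw [← hq, h4, map_one]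
    have hDD : D' ≤ ⁅D', D'⁆ := by
      have h1 : ⁅(⊤ : Subgroup (M ⧸ N')), (⊤ : Subgroup (M ⧸ N'))⁆ ≤ ⁅D', D'⁆ ⊔ ⁅E', E'⁆ := by
        refine commutator_le.mpr fun u _ v _ => ?_
        obtain ⟨x, hx, y, hy, rfl⟩ := hsplit u
        obtain ⟨x', hx', y', hy', rfl⟩ := hsplit v
        have e : ⁅x * y, x' * y'⁆ = ⁅x, x'⁆ * ⁅y, y'⁆ := by
          rw [commutatorElement_def, commutatorElement_def, commutatorElement_def]
          have c1 := (hcomm x' hx' y hy).eq
          have c3 := ((hcomm x hx y hy).symm.mul_left (hcomm x hx y' hy').symm).eq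
          calc x * y * (x' * y') * (x * y)⁻¹ * (x' * y')⁻¹
              = x * (y * x') * y' * y⁻¹ * x⁻¹ * y'⁻¹ * x'⁻¹ := by group
            _ = x * (x' * y) * y' * y⁻¹ * x⁻¹ * y'⁻¹ * x'⁻¹ := by rw [c1]
            _ = x * x' * (y * y' * y⁻¹ * x⁻¹ * y'⁻¹) * x'⁻¹ := by group
            _ = x * x' * (x⁻¹ * (y * y' * y⁻¹ * y'⁻¹)) * x'⁻¹ := by
                have hc : Commute x⁻¹ (y * y' * y⁻¹) :=
                  (((hcomm x hx y hy).inv_left.mul_right (hcomm x hx y' hy').inv_left).mul_right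
                    (hcomm x hx y hy).inv_left.inv_right)
                rw [← hc.eq]; group
            _ = x * x' * x⁻¹ * ((y * y' * y⁻¹ * y'⁻¹) * x'⁻¹) := by group
            _ = x * x' * x⁻¹ * (x'⁻¹ * (y * y' * y⁻¹ * y'⁻¹)) := by
                have hc : Commute x'⁻¹ (y * y' * y⁻¹ * y'⁻¹) :=
                  ((((hcomm x' hx' y hy).inv_left.mul_right (hcomm x' hx' y' hy').inv_left).mul_right
                    (hcomm x' hx' y hy).inv_left.inv_right)).mul_right (hcomm x' hx' y' hy').inv_left.inv_right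
                rw [hc.eq]
            _ = x * x' * x⁻¹ * x'⁻¹ * (y * y' * y⁻¹ * y'⁻¹) := by group
        rw [e]
        exact mul_mem (mem_sup_left (commutator_mem_commutator hx hx'))
          (mem_sup_right (commutator_mem_commutator hy hy'))
      intro x hx
      have hxd : x ∈ ⁅(⊤ : Subgroup (M ⧸ N')), (⊤ : Subgroup (M ⧸ N'))⁆ := by
        obtain ⟨d, hd, rfl⟩ := hx
        have h2 := BetaCore.sigmaCore_le_derived hG hM (mem_subgroupOf.mp hd)
        rw [← map_subtype_commutator] at h2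
        obtain ⟨d', hd', e⟩ := h2
        have h3 := mem_map_of_mem π hd'
        rw [_root_.commutator_def, map_commutator, map_top_of_surjective π (QuotientGroup.mk'_surjective N'),
          M.subtype_injective e] at h3
        exact h3
      have hcE : ⁅E', E'⁆ ≤ E' := commutator_le_self E'
      have hcD : ⁅D', D'⁆ ≤ D' := commutator_le_self D'
      obtain ⟨b, hb, a, ha, rfl⟩ := (CfsgLib.Core.mem_sup_iff_mul' (show ⁅D', D'⁆ ≤ normalizer ((⁅E', E'⁆ : Subgroup (M ⧸ N')) : Set (M ⧸ N'))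
        from fun a ha => centralizer_le_normalizer _ (mem_centralizer_iff.mpr fun b hb =>
          (hcomm a (hcD ha) b (hcE hb)).eq.symm))).mp (h1 hxd)
      have hb1 : b = 1 := hdis' b (by simpa using mul_mem hx (inv_mem (hcD ha))) (hcE hb)
      rw [hb1, one_mul]
      exact ha
    have hbot : D' = ⊥ := by
      by_contra hne
      have : Nontrivial D' := D'.nontrivial_iff_ne_bot.mpr hne
      have hsM : Group.IsSolvable M := hG.2.2.2 M hM.1
      have : Group.IsSolvable D' := inferInstance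
      refine (IsSolvable.commutator_lt_top_of_nontrivial D').ne ?_
      rw [eq_top_iff]
      intro y _
      have h := hDD y.2
      rw [← map_subtype_commutator] at h
      obtain ⟨z, hz, e⟩ := h
      rwa [← D'.subtype_injective e]
    intro x hx
    have h : π ⟨x, hDM hx⟩ ∈ D' := ⟨_, hx, rfl⟩
    rw [hbot, mem_bot] at h
    exact (QuotientGroup.eq_one_iff (N := N') _).mp h
  refine ⟨hND', inf_centralizer_le_derived hED ?_ hND'⟩
  refine Nat.coprime_of_dvd fun r hr hrE hrD => ?_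
  obtain ⟨⟨-, hpi, hidx⟩, -, -⟩ := SigmaCore.sigmaCore_hall hG hM
  refine hidx r hr (hpi r hr hrD) ?_
  have h1 : Nat.card E ∣ D.relIndex M := by
    rw [← inf_relIndex_right D M, inf_eq_left.mpr hDM]
    have h2 := relIndex_dvd_card D E
    have h3 : D.relIndex E = Nat.card E := by
      rw [← inf_relIndex_right, inf_comm, hdis, relIndex_bot_left]
    have : (D.subgroupOf M).Normal := (normal_subgroupOf_iff_le_normalizer hDM).mpr hMD
    rw [← h3, ← relIndex_subgroupOf hEM]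
    exact relIndex_dvd_index_of_normal _ _
  exact hrE.trans h1

/-- A subgroup with uniqueness over its centralizer is not in two conjugates. -/
theorem mem_of_only {p : ℕ} [Fact p.Prime] (hG : Cfsg.IsMinSimpleOddOrder G) (hM : IsCoatom M)
    (hp : p ∈ Cfsg.sigma M) {X : Subgroup G} (hX : IsPGroup p X) (hX1 : X ≠ ⊥) (hXM : X ≤ M)
    (hC : centralizer (X : Set G) ≤ M) {g : G} (hXg : X ≤ M.map (MulAut.conj g).toMonoidHom) : g ∈ M := by
  obtain ⟨m, hm, c, hc, e⟩ := (SigmaTrans.factor_conj hG hM hp hX hX1 hXM).1 g⁻¹ (by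
    rintro _ ⟨x, hx, rfl⟩
    simpa using Transfer.mem_map_conj.mp (hXg hx))
  simpa using inv_mem (show g⁻¹ ∈ M from e ▸ mul_mem hm (hC hc))

/-- S1426, part three. -/
theorem inf_conj (h4 : RankTwoCentralizer G) (hG : Cfsg.IsMinSimpleOddOrder G) (hM : IsCoatom M) {g : G}
    (hg : g ∉ M) :
    IsCyclic ↥(Cfsg.sigmaCore M ⊓ M.map (MulAut.conj g).toMonoidHom) ∧
      (∀ p : ℕ, p.Prime → p ∣ Nat.card ↥(Cfsg.sigmaCore M ⊓ M.map (MulAut.conj g).toMonoidHom) → p ∉ Cfsg.beta M) ∧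
      Cfsg.sigmaCore M ⊓ M.map (MulAut.conj g).toMonoidHom ⊓ ⁅Cfsg.sigmaCore M, Cfsg.sigmaCore M⁆ = ⊥ := by
  set I := Cfsg.sigmaCore M ⊓ M.map (MulAut.conj g).toMonoidHom with hI
  have hIM : I ≤ M := inf_le_left.trans (sigmaCore_le M)
  have hσ : ∀ p : ℕ, p.Prime → p ∣ Nat.card I → p ∈ Cfsg.sigma M := fun p hp hd =>
    (SigmaCore.sigmaCore_hall hG hM).1.2.1 p hp (hd.trans (card_dvd_of_le inf_le_left))
  have hpick : ∀ (p : ℕ) [Fact p.Prime] (J : Subgroup G), J ≤ I → p ∣ Nat.card J →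
      (p ∈ Cfsg.beta M ∨ J ≤ ⁅Cfsg.sigmaCore M, Cfsg.sigmaCore M⁆) → False := by
    intro p _ J hJ hd h
    obtain ⟨x, hx⟩ := exists_prime_orderOf_dvd_card' (G := J) p hd
    have hxo : orderOf (x : G) = p := by rw [Subgroup.orderOf_coe, hx]
    have hxI : zpowers (x : G) ≤ I := zpowers_le.mpr (hJ x.2)
    have hcard : Nat.card (zpowers (x : G)) = p := by rw [Nat.card_zpowers, hxo]
    have hσp := hσ p Fact.out (hd.trans (card_dvd_of_le hJ))
    obtain ⟨P⟩ : Nonempty (Sylow p ↥(Cfsg.sigmaCore M)) := inferInstance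
    obtain ⟨honly, -⟩ := SigmaOrderP.centralizer_only h4 hG hM hσp (hxI.trans hIM) hcard P
      (h.imp id fun h' => (zpowers_le.mpr x.2).trans h')
    exact hg (mem_of_only hG hM hσp (IsPGroup.of_card (n := 1) (by rw [hcard, pow_one]))
      (fun e => (Fact.out : p.Prime).ne_one (by rw [← hcard, e, card_bot])) (hxI.trans hIM) honly.1
      (hxI.trans inf_le_right))
  have h3 : I ⊓ ⁅Cfsg.sigmaCore M, Cfsg.sigmaCore M⁆ = ⊥ := by
    by_contra hne
    obtain ⟨p, hp, hd⟩ := Nat.exists_prime_and_dvd (fun e => hne (card_eq_one.mp e))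
    have := Fact.mk hp
    exact hpick p _ inf_le_left hd (Or.inr inf_le_right)
  have h2 : ∀ p : ℕ, p.Prime → p ∣ Nat.card I → p ∉ Cfsg.beta M := fun p hp hd hβ => by
    have := Fact.mk hp
    exact hpick p I le_rfl hd (Or.inl hβ)
  have hcomm : IsMulCommutative ↥I := ⟨⟨fun a b => by
    have hmem : ⁅(a : G), (b : G)⁆ ∈ I ⊓ ⁅Cfsg.sigmaCore M, Cfsg.sigmaCore M⁆ :=
      ⟨commutator_le_self I (commutator_mem_commutator a.2 b.2), commutator_mem_commutator a.2.1 b.2.1⟩
    rw [h3, mem_bot, commutatorElement_eq_one_iff_mul_comm] at hmem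
    exact Subtype.ext hmem⟩⟩
  have : IsZGroup I := by
    refine ⟨fun p hp P => ?_⟩
    have := Fact.mk hp
    by_contra hnc
    have hd : p ∣ Nat.card I := by
      by_contra hnd
      obtain ⟨k, hk⟩ := IsPGroup.iff_card.mp P.2
      have hk0 : k = 0 := by
        by_contra hk0
        exact hnd ((dvd_pow_self p hk0).trans (hk.symm.dvd.trans (card_subgroup_dvd_card _)))
      rw [hk0, pow_zero] at hk
      refine hnc ?_
      rw [eq_bot_of_card_eq _ hk]
      infer_instance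
    have hp2 : p ≠ 2 := Uniqueness.odd_prime hG (hd.trans I.card_subgroup_dvd_card)
    obtain ⟨A, hAP, hA, hA2⟩ := SigmaEmbedding.exists_elementary_of_not_cyclic hp2 P.2 hnc
    set A' := A.map I.subtype
    have hA'e : Cfsg.IsElementaryAbelian p A' := by
      refine ⟨by have := hA.1; exact map_isMulCommutative A _, ?_⟩
      rintro _ ⟨a, ha, rfl⟩
      rw [← map_pow, hA.2 a ha, map_one]
    have hA'I : A' ≤ I := map_subtype_le _
    have hA'2 : Nat.card A' = p ^ 2 := by rw [card_map_of_injective I.subtype_injective, hA2]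
    exact hg (mem_of_only hG hM (hσ p hp hd) (Signalizer.elementary_isPGroup hA'e)
      (fun e => (Nat.one_lt_pow (n := 2) (by norm_num) hp.one_lt).ne (by rw [e, card_bot] at hA'2; exact hA'2))
      (hA'I.trans hIM) (TauTwo.centralizer_le hG hM ⟨hA'e, hA'2⟩ (hA'I.trans hIM)) (hA'I.trans inf_le_right))
  refine ⟨?_, h2, h3⟩
  have hnil : Group.IsNilpotent I := nilpotent_of_comm hcomm
  infer_instance

end CfsgLib.OddLocal.SigmaIntersection
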