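import Cfsg.Agent.S1362
import Cfsg.Agent.S1371
import Cfsg.Agent.S1372
import Cfsg.Agent.S1374
import Cfsg.Agent.S1436
import Cfsg.Agent.Lib.TwoGroups.TypeFive
import Cfsg.Agent.Lib.OddLocal.SupportOvergroup
import Cfsg.Agent.Lib.OddLocal.CosetFibres
import Cfsg.Agent.Lib.OddLocal.CNSimple
import Cfsg.Prelude.Def_OddOrderChar

/-!
Owner: helper1. The Dade hypothesis for invariant subsets of `A₀(M)` (Peterfalvi §8).
-/

set_option autoImplicit false
set_option linter.unusedSectionVars false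

namespace CfsgLib.OddLocal.DadeSupport

open Subgroup
open CfsgLib.TwoGroups

variable {G : Type*} [Group G] [Finite G] {M K U : Subgroup G} {x : G}

theorem exists_decomposition (hG : Cfsg.IsMinSimpleOddOrder G) (hM : IsCoatom M) :
    ∃ K U : Subgroup G, Cfsg.IsSigmaDecomposition M K U :=
  Chapter15.exists_decomposition hG hM (Chapter15.kappaCyclic hG)

theorem mem_sigmaCore_of_primes (hG : Cfsg.IsMinSimpleOddOrder G) (hM : IsCoatom M) (hx : x ∈ M)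
    (h : ∀ t : ℕ, t.Prime → t ∣ orderOf x → t ∈ Cfsg.sigma M) : x ∈ Cfsg.sigmaCore M :=
  zpowers_le.mp (SigmaEmbedding.le_sigmaCore_of_pi hG hM (zpowers_le.mpr hx)
    fun t ht hd => h t ht (by rwa [Nat.card_zpowers] at hd))

theorem primes_sigma (hG : Cfsg.IsMinSimpleOddOrder G) (hM : IsCoatom M) (hx : x ∈ Cfsg.sigmaCore M)
    {t : ℕ} (ht : t.Prime) (hd : t ∣ orderOf x) : t ∈ Cfsg.sigma M :=
  TauTwo.mem_sigma_of_dvd ht (hd.trans (Subgroup.orderOf_dvd_natCard _ hx)) hG hM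

theorem sigmaHat_conj {m : G} (hm : m ∈ M) (hx : x ∈ Cfsg.sigmaHat M) :
    m * x * m⁻¹ ∈ Cfsg.sigmaHat M := by
  obtain ⟨hxM, y, hy, hy1, e⟩ := hx
  refine ⟨mul_mem (mul_mem hm hxM) (inv_mem hm), m * y * m⁻¹,
    (mem_normalizer_iff.mp (TauTwo.le_normalizer_sigmaCore M hm) y).mp hy,
    fun h => hy1 (conj_eq_one_iff.mp h), ?_⟩
  calc m * x * m⁻¹ * (m * y * m⁻¹) = m * (x * y) * m⁻¹ := by group
    _ = m * (y * x) * m⁻¹ := by rw [e]
    _ = _ := by group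

/-- A subset of `M` with a non-identity element which is normalised by `M` has normaliser `M`. -/
theorem normalizer_eq (hG : Cfsg.IsMinSimpleOddOrder G) (hM : IsCoatom M) {X : Set G} (hX : X ⊆ (M : Set G))
    (hinv : ∀ m ∈ M, ∀ a ∈ X, m * a * m⁻¹ ∈ X) (hne : ∃ a ∈ X, a ≠ 1) : normalizer X = M := by
  have hle : M ≤ normalizer X := fun m hm => mem_set_normalizer_iff.mpr fun a =>
    ⟨hinv m hm a, fun h => by simpa [mul_assoc] using hinv m⁻¹ (inv_mem hm) _ h⟩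
  refine (hM.le_iff.mp hle).resolve_left fun htop => ?_
  obtain ⟨a, ha, ha1⟩ := hne
  have hn : (closure X).Normal := normalizer_eq_top_iff.mp (top_le_iff.mp ?_)
  · rcases hG.2.1.eq_bot_or_eq_top_of_normal _ hn with h | h
    · exact ha1 (mem_bot.mp (h ▸ subset_closure ha))
    · exact hM.1 (top_le_iff.mp (h ▸ (closure_le M).mpr hX))
  intro g _
  rw [← Transfer.map_conj_eq_self_iff, MonoidHom.map_closure]
  congr 1
  ext b
  have hg : ∀ c, c ∈ X ↔ g * c * g⁻¹ ∈ X := mem_set_normalizer_iff.mp (htop ▸ mem_top g)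
  refine ⟨fun ⟨c, hc, e⟩ => e ▸ (hg c).mp hc, fun hb => ⟨g⁻¹ * b * g, (hg _).mpr ?_, ?_⟩⟩
  · simpa [mul_assoc] using hb
  · simp [mul_assoc]

theorem sigmaA_conj (hG : Cfsg.IsMinSimpleOddOrder G) (hM : IsCoatom M)
    (h : Cfsg.IsSigmaDecomposition M K U) {m : G} (hm : m ∈ M) (hx : x ∈ Cfsg.sigmaA M U) :
    m * x * m⁻¹ ∈ Cfsg.sigmaA M U :=
  ⟨sigmaHat_conj hm hx.1, (mem_normalizer_iff.mp (SigmaFactor.le_normalizer_sup hG hM h hm) x).mp hx.2⟩

theorem sigmaA_sub_zero (hG : Cfsg.IsMinSimpleOddOrder G) (hM : IsCoatom M)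
    (h : Cfsg.IsSigmaDecomposition M K U) : Cfsg.sigmaA M U ⊆ Cfsg.sigmaA0 M K := by
  rintro a ⟨ha, hN⟩
  refine ⟨ha, ?_⟩
  rintro ⟨k, hk, hk1, m, hm, e⟩
  have h1 : k ∈ K ⊓ (U ⊔ Cfsg.sigmaCore M) := mem_inf.mpr ⟨hk,
    (mem_normalizer_iff.mp (SigmaFactor.le_normalizer_sup hG hM h hm) k).mpr (e ▸ hN)⟩
  rw [Kappa.inf_sup_eq_bot hG hM h.hall h.compl, mem_bot] at h1
  exact hk1 h1

/-- Elements of `U M_σ` are those of `M` whose order involves no prime of `κ(M)`. -/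
theorem mem_sup_iff (hG : Cfsg.IsMinSimpleOddOrder G) (hM : IsCoatom M)
    (h : Cfsg.IsSigmaDecomposition M K U) (hx : x ∈ M) :
    x ∈ U ⊔ Cfsg.sigmaCore M ↔ ∀ t : ℕ, t.Prime → t ∣ orderOf x → t ∉ Cfsg.kappa M := by
  refine ⟨fun hN t ht hd hκ => ?_, fun h1 =>
    Kappa.mem_sup_of_primes hG hM h.hall h.compl (SigmaFactor.le_normalizer_sup hG hM h) hx h1⟩
  have hd' := hd.trans (Subgroup.orderOf_dvd_natCard _ hN)
  rcases ht.dvd_mul.mp (hd'.trans (Core.card_sup_dvd U _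
    (h.compl.1.trans (TauTwo.le_normalizer_sigmaCore M)))) with h1 | h1
  · exact (SigmaFactor.not_mem hG hM h ht h1).2 hκ
  · exact hκ.2.2.1 (TauTwo.mem_sigma_of_dvd ht h1 hG hM)

theorem sigmaA0_subset_sigmaA (hG : Cfsg.IsMinSimpleOddOrder G) (hM : IsCoatom M)
    (h : Cfsg.IsSigmaDecomposition M K U) (hK : K = ⊥) : Cfsg.sigmaA0 M K ⊆ Cfsg.sigmaA M U := by
  rintro a ⟨ha, -⟩
  obtain ⟨u, hu, b, hb, rfl⟩ := h.compl.2.2.2 a ha.1
  rw [hK, bot_sup_eq] at hb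
  exact ⟨ha, mul_mem (mem_sup_left hu) (mem_sup_right hb)⟩

theorem sigmaA0_conj {m : G} (hm : m ∈ M) (hx : x ∈ Cfsg.sigmaA0 M K) :
    m * x * m⁻¹ ∈ Cfsg.sigmaA0 M K := by
  refine ⟨sigmaHat_conj hm hx.1, ?_⟩
  rintro ⟨k, hk, hk1, n, hn, e⟩
  refine hx.2 ⟨k, hk, hk1, m⁻¹ * n, mul_mem (inv_mem hm) hn, ?_⟩
  calc x = m⁻¹ * (m * x * m⁻¹) * m := by group
    _ = _ := by rw [e]; group

/-- `A₀(M) ∖ M_σ` is a union of TI-subsets with normaliser `M`. -/
theorem moved_mem (hG : Cfsg.IsMinSimpleOddOrder G) (hM : IsCoatom M)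
    (h : Cfsg.IsSigmaDecomposition M K U) (hx : x ∈ Cfsg.sigmaA0 M K) (hxS : x ∉ Cfsg.sigmaCore M) {g : G}
    (hy : g * x * g⁻¹ ∈ Cfsg.sigmaA0 M K) : g ∈ M := by
  have hord : orderOf (g * x * g⁻¹) = orderOf x := (MulAut.conj g).orderOf_eq x
  have hx1 : x ≠ 1 := fun e => hxS (e ▸ one_mem _)
  have hyS : g * x * g⁻¹ ∉ Cfsg.sigmaCore M := fun hS => hxS (mem_sigmaCore_of_primes hG hM hx.1.1
    fun t ht hd => primes_sigma hG hM hS ht (hord ▸ hd))
  by_cases hA : x ∈ U ⊔ Cfsg.sigmaCore M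
  · have hyA : g * x * g⁻¹ ∈ U ⊔ Cfsg.sigmaCore M :=
      (mem_sup_iff hG hM h hy.1.1).mpr (hord ▸ (mem_sup_iff hG hM h hx.1.1).mp hA)
    set X := Cfsg.sigmaA M U \ (Cfsg.sigmaCore M : Set G) with hXdef
    have hxX : x ∈ X := ⟨⟨hx.1, hA⟩, hxS⟩
    have hN : normalizer X = M := normalizer_eq hG hM (fun a ha => ha.1.1.1)
      (fun m hm a ha => ⟨sigmaA_conj hG hM h hm ha.1, fun hS => ha.2
        ((mem_normalizer_iff.mp (TauTwo.le_normalizer_sigmaCore M hm) a).mpr hS)⟩) ⟨x, hxX, hx1⟩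
    by_contra hg
    exact hx1 (Cfsg.Agent.S1362.result hG M hM K U h g (hN.symm ▸ hg) x hxX ⟨⟨hy.1, hyA⟩, hyS⟩)
  · have hK : K ≠ ⊥ := fun hK => hA (sigmaA0_subset_sigmaA hG hM h hK hx).2
    have hyA : g * x * g⁻¹ ∉ U ⊔ Cfsg.sigmaCore M := fun hy' => hA
      ((mem_sup_iff hG hM h hx.1.1).mpr (hord ▸ (mem_sup_iff hG hM h hy.1.1).mp hy'))
    set X := Cfsg.sigmaA0 M K \ Cfsg.sigmaA M U with hXdef
    have hxX : x ∈ X := ⟨hx, fun hh => hA hh.2⟩
    have hN : normalizer X = M := normalizer_eq hG hM (fun a ha => ha.1.1.1)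
      (fun m hm a ha => ⟨sigmaA0_conj hm ha.1, fun hh => ha.2 (by
        simpa [mul_assoc] using sigmaA_conj hG hM h (inv_mem hm) hh)⟩) ⟨x, hxX, hx1⟩
    by_contra hg
    exact hx1 ((Cfsg.Agent.S1371.result hG M hM K U h hK).2 g (hN.symm ▸ hg) x hxX ⟨hy, fun hh => hyA hh.2⟩)

/-- The centraliser of an element of `A₀(M) ∖ M_σ` lies in `M`. -/
theorem centralizer_le (hG : Cfsg.IsMinSimpleOddOrder G) (hM : IsCoatom M)
    (h : Cfsg.IsSigmaDecomposition M K U) (hx : x ∈ Cfsg.sigmaA0 M K) (hxS : x ∉ Cfsg.sigmaCore M) :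
    centralizer ({x} : Set G) ≤ M := fun g hg => by
  refine moved_mem hG hM h hx hxS (g := g) ?_
  rwa [mem_centralizer_singleton_iff.mp hg, mul_inv_cancel_right]

/-- Fusion in `A₀(M)` is controlled by `M`. -/
theorem fusion (hG : Cfsg.IsMinSimpleOddOrder G) (hM : IsCoatom M)
    (h : Cfsg.IsSigmaDecomposition M K U) (hx : x ∈ Cfsg.sigmaA0 M K) (hx1 : x ≠ 1) {g : G}
    (hy : g * x * g⁻¹ ∈ Cfsg.sigmaA0 M K) : ∃ m ∈ M, m * x * m⁻¹ = g * x * g⁻¹ := by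
  by_cases hxS : x ∈ Cfsg.sigmaCore M
  swap
  · exact ⟨g, moved_mem hG hM h hx hxS hy, rfl⟩
  have hgx : x ∈ M.map (MulAut.conj g⁻¹).toMonoidHom :=
    ⟨g * x * g⁻¹, hy.1.1, show g⁻¹ * (g * x * g⁻¹) * g⁻¹⁻¹ = x by group⟩
  obtain ⟨-, R, -, hRc, hR⟩ := Cfsg.Agent.S1374.result hG M hM x hxS hx1
  obtain ⟨r, ⟨hr, hrM⟩, -⟩ := hR g⁻¹ hgx
  have hrx : r * x = x * r := mem_centralizer_singleton_iff.mp (hRc.2.1 hr)
  have h1 : M.map (MulAut.conj (g * r)).toMonoidHom = M := by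
    rw [← Support.map_conj_mul, hrM, Support.map_conj_mul, mul_inv_cancel, map_one]
    exact Subgroup.map_id M
  have hgr : g * r ∈ M := by
    have := NonSigma.mem_normalizer_self hG hM (ProperPLength.maximal_ne_bot hG hM) h1
    exact this
  refine ⟨g * r, hgr, ?_⟩
  calc g * r * x * (g * r)⁻¹ = g * (r * x) * r⁻¹ * g⁻¹ := by group
    _ = g * x * g⁻¹ := by rw [hrx]; group

theorem supportR_of_le (hle : centralizer ({x} : Set G) ≤ M) : Cfsg.supportR M x = ⊥ := by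
  unfold Cfsg.supportR
  rw [dif_neg fun hh => hh.1 hle]

theorem supportR_of_overgroup {N : Subgroup G} (hx : ¬ centralizer ({x} : Set G) ≤ M)
    (o : Support.Overgroup M N x) :
    Cfsg.supportR M x = Cfsg.sigmaCore N ⊓ centralizer ({x} : Set G) := by
  have hex : ∃! L : Subgroup G, IsCoatom L ∧ centralizer ({x} : Set G) ≤ L :=
    ⟨N, ⟨o.max, o.le⟩, fun L hL => o.unique L hL.1 hL.2⟩
  have e : Classical.choose hex.exists = N :=
    o.unique _ (Classical.choose_spec hex.exists).1 (Classical.choose_spec hex.exists).2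
  unfold Cfsg.supportR
  rw [dif_pos ⟨hx, hex⟩, o.fitting]
  exact congrArg (fun L => Cfsg.fittingHallOf L ⊓ centralizer ({x} : Set G)) e

/-- The Dade hypothesis for an invariant subset of `A₀(M)`. -/
theorem dade (hG : Cfsg.IsMinSimpleOddOrder G) (hM : IsCoatom M)
    (h : Cfsg.IsSigmaDecomposition M K U) {X : Set G} (hX : X ⊆ Cfsg.sigmaA0 M K) (h1 : (1 : G) ∉ X)
    (hinv : ∀ m ∈ M, ∀ a ∈ X, m * a * m⁻¹ ∈ X) : Cfsg.DadeHypothesis X M (Cfsg.supportR M) := by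
  have key : ∀ a ∈ X, centralizer ({a} : Set G) ≤ M ∨
      a ∈ Cfsg.sigmaCore M ∧ ¬ centralizer ({a} : Set G) ≤ M ∧ ∃ N, Support.Overgroup M N a := by
    intro a ha
    by_cases hc : centralizer ({a} : Set G) ≤ M
    · exact Or.inl hc
    have haS : a ∈ Cfsg.sigmaCore M := by_contra fun hh => hc (centralizer_le hG hM h (hX ha) hh)
    exact Or.inr ⟨haS, hc, Support.exists_overgroup hG hM haS (fun e => h1 (e ▸ ha)) hc⟩
  refine ⟨h1, fun a ha => (hX ha).1.1, hinv, fun a ha g hg =>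
    fusion hG hM h (hX ha) (fun e => h1 (e ▸ ha)) (hX hg), fun a ha => ?_, fun a ha c hc u hu => ?_,
    fun a ha => ?_, fun a ha => ?_, fun a ha b hb => ?_⟩
  all_goals rcases key a ha with hle | ⟨haS, hnle, N, o⟩
  · rw [supportR_of_le hle]; exact bot_le
  · rw [supportR_of_overgroup hnle o]; exact inf_le_right
  · rw [supportR_of_le hle, mem_bot] at hu ⊢; rw [hu]; group
  · rw [supportR_of_overgroup hnle o, mem_inf] at hu ⊢
    exact ⟨(mem_normalizer_iff.mp (TauTwo.le_normalizer_sigmaCore N (o.le hc)) u).mp hu.1,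
      mul_mem (mul_mem hc hu.2) (inv_mem hc)⟩
  · rw [supportR_of_le hle]; exact bot_inf_eq _
  · rw [supportR_of_overgroup hnle o, inf_comm]
    exact o.factor.2.2.1
  · rw [supportR_of_le hle, bot_sup_eq]; exact inf_eq_right.mpr hle
  · rw [supportR_of_overgroup hnle o]
    refine le_antisymm (sup_le inf_le_right inf_le_right) fun c hc => ?_
    obtain ⟨p, hp, q, hq, rfl⟩ := o.factor.2.2.2 c hc
    exact mul_mem (mem_sup_right hp) (mem_sup_left hq)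
  · rw [supportR_of_le hle, Subgroup.card_bot]; exact Nat.coprime_one_left _
  · rw [supportR_of_overgroup hnle o]
    refine Nat.coprime_of_dvd fun t ht hd1 hd2 => ?_
    have := Fact.mk ht
    have htN : t ∈ Cfsg.sigma N := TauTwo.mem_sigma_of_dvd ht (hd1.trans (card_dvd_of_le inf_le_left)) hG o.max
    obtain ⟨hκ, hτ⟩ := (Cfsg.Agent.S1436.result hG M hM a haS (fun e => h1 (e ▸ ha)) hnle N o.max o.le).1
      ⟨t, htN, hd2.trans (card_dvd_of_le inf_le_left)⟩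
    have hall : ∀ c ∈ Cfsg.sigmaHat M, c ∈ Cfsg.sigmaCore M := fun c hc =>
      mem_sigmaCore_of_primes hG hM hc.1 fun s hs hsd => by_contra fun hsσ =>
        Set.notMem_empty s (hτ ▸ SigmaFactor.mem_tau2 hG hM hc hs hsd hsσ (hκ ▸ Set.notMem_empty s))
    have hbS := hall b (hX hb).1
    have hcS : M ⊓ centralizer ({b} : Set G) ≤ Cfsg.sigmaCore M := fun c hc => hall c
      ⟨hc.1, b, hbS, fun e => h1 (e ▸ hb), mem_centralizer_singleton_iff.mp hc.2⟩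
    obtain ⟨g, hg⟩ := SigmaDisjoint.sigma_disjoint hG hM o.max
      (TauTwo.mem_sigma_of_dvd ht (hd2.trans (card_dvd_of_le hcS)) hG hM) htN
    exact o.nconj g hg

theorem typeI_K_eq_bot (hG : Cfsg.IsMinSimpleOddOrder G) (hM : IsCoatom M)
    (h : Cfsg.IsSigmaDecomposition M K U) (hI : Cfsg.IsOfTypeI M) : K = ⊥ := by
  by_contra hK
  refine TypesExclusive.not_one_typeP hG hM hI ?_
  by_cases hU : U = ⊥
  · by_cases hne : Cfsg.fittingHallOf M = Cfsg.sigmaCore M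
    · exact TypesExclusive.isOfTypeP_of_five (TypeFive.typeFive hG hM h hK hU hne)
    · exact TypesExclusive.isOfTypeP_of_three (TypeTwoThree.typeThreeFour hG hM h hK hne)
  · exact TypesExclusive.isOfTypeP_of_two (TypeTwoThree.typeTwo hG hM h hK hU)

theorem typeCore_eq (hG : Cfsg.IsMinSimpleOddOrder G) (hM : IsCoatom M)
    (h : Cfsg.IsSigmaDecomposition M K U) : Cfsg.typeCore M = Cfsg.sigmaCore M := by
  classical
  unfold Cfsg.typeCore
  split_ifs with h34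
  · obtain ⟨hK, hU, -⟩ := (TypeFrobenius.typeThreeFour_iff hG hM h).mp h34
    rw [TypeP2.derived_eq hG hM h hK, hU, bot_sup_eq]
  · by_cases hU : U = ⊥
    · by_contra hne
      exact h34 (TypeTwoThree.typeThreeFour hG hM h (fun hK => Chapter15.U_ne_bot hG hM h hK hU) hne)
    · exact TypeTwoThree.fittingHall_eq_of_U hG hM h hU

theorem typeA1_eq (hG : Cfsg.IsMinSimpleOddOrder G) (hM : IsCoatom M) :
    Cfsg.typeA1 M = (Cfsg.sigmaCore M : Set G) \ {1} := by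
  obtain ⟨K, U, h⟩ := exists_decomposition hG hM
  rw [Cfsg.typeA1, typeCore_eq hG hM h]

theorem fittingHallOf_le_sigmaCore (hG : Cfsg.IsMinSimpleOddOrder G) (hM : IsCoatom M) :
    Cfsg.fittingHallOf M ≤ Cfsg.sigmaCore M := FittingStructure.fittingHallOf_le_sigmaCore hG hM

theorem typeA_subset (hG : Cfsg.IsMinSimpleOddOrder G) (hM : IsCoatom M)
    (h : Cfsg.IsSigmaDecomposition M K U) : Cfsg.typeA M ⊆ Cfsg.sigmaA M U := by
  classical
  intro a ha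
  unfold Cfsg.typeA at ha
  split_ifs at ha with hI
  · obtain ⟨haM, -, y, hy, hy1, e⟩ := ha
    have hhat : a ∈ Cfsg.sigmaHat M := ⟨haM, y, fittingHallOf_le_sigmaCore hG hM hy, hy1, e⟩
    have hK := typeI_K_eq_bot hG hM h hI
    refine sigmaA0_subset_sigmaA hG hM h hK ⟨hhat, ?_⟩
    rintro ⟨k, hk, hk1, -⟩
    exact hk1 (mem_bot.mp (hK ▸ hk))
  · obtain ⟨haD, -, y, hy, hy1, e⟩ := ha
    rw [typeCore_eq hG hM h] at hy
    refine ⟨⟨Subgroup.commutator_le_self M haD, y, hy, hy1, e⟩, ?_⟩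
    by_cases hK : K = ⊥
    · obtain ⟨u, hu, b, hb, rfl⟩ := h.compl.2.2.2 a (Subgroup.commutator_le_self M haD)
      rw [hK, bot_sup_eq] at hb
      exact mul_mem (mem_sup_left hu) (mem_sup_right hb)
    · rwa [← TypeP2.derived_eq hG hM h hK]

theorem one_not_mem_typeA : (1 : G) ∉ Cfsg.typeA M := by
  classical
  unfold Cfsg.typeA
  split_ifs <;> exact fun h => h.2.1 rfl

theorem typeA_conj (hG : Cfsg.IsMinSimpleOddOrder G) (hM : IsCoatom M) {m : G} (hm : m ∈ M)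
    (hx : x ∈ Cfsg.typeA M) : m * x * m⁻¹ ∈ Cfsg.typeA M := by
  classical
  obtain ⟨K, U, h⟩ := exists_decomposition hG hM
  have hcomm : ∀ y, x * y = y * x → m * x * m⁻¹ * (m * y * m⁻¹) = m * y * m⁻¹ * (m * x * m⁻¹) := fun y e => by
    calc m * x * m⁻¹ * (m * y * m⁻¹) = m * (x * y) * m⁻¹ := by group
      _ = m * (y * x) * m⁻¹ := by rw [e]
      _ = _ := by group
  unfold Cfsg.typeA at hx ⊢
  split_ifs at hx ⊢ with hI
  · obtain ⟨hxM, hx1, y, hy, hy1, e⟩ := hx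
    exact ⟨mul_mem (mul_mem hm hxM) (inv_mem hm), fun he => hx1 (conj_eq_one_iff.mp he), m * y * m⁻¹,
      (mem_normalizer_iff.mp (FittingStructure.le_normalizer_fittingHallOf M hm) y).mp hy,
      fun he => hy1 (conj_eq_one_iff.mp he), hcomm y e⟩
  · obtain ⟨hxD, hx1, y, hy, hy1, e⟩ := hx
    rw [typeCore_eq hG hM h] at hy ⊢
    exact ⟨(mem_normalizer_iff.mp (TypePData.le_normalizer_derived M hm) x).mp hxD,
      fun he => hx1 (conj_eq_one_iff.mp he), m * y * m⁻¹,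
      (mem_normalizer_iff.mp (TauTwo.le_normalizer_sigmaCore M hm) y).mp hy,
      fun he => hy1 (conj_eq_one_iff.mp he), hcomm y e⟩

theorem typeA1_subset_typeA (hG : Cfsg.IsMinSimpleOddOrder G) (hM : IsCoatom M) :
    Cfsg.typeA1 M ⊆ Cfsg.typeA M := by
  classical
  obtain ⟨K, U, h⟩ := exists_decomposition hG hM
  rw [typeA1_eq hG hM]
  rintro a ⟨ha, ha1⟩
  unfold Cfsg.typeA
  split_ifs with hI
  · refine ⟨TauTwo.sigmaCore_le M ha, ha1, a, ?_, ha1, rfl⟩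
    rw [(TypeFrobenius.isOfTypeF hG hM h (typeI_K_eq_bot hG hM h hI)).2]
    exact ha
  · exact ⟨OddLocal.BetaCore.sigmaCore_le_derived hG hM ha, ha1, a, (typeCore_eq hG hM h).symm ▸ ha, ha1, rfl⟩

theorem typeA0_subset (hG : Cfsg.IsMinSimpleOddOrder G) (hM : IsCoatom M)
    (h : Cfsg.IsSigmaDecomposition M K U) : Cfsg.typeA0 M ⊆ Cfsg.sigmaA0 M K := by
  rintro v (hv | ⟨-, W₁, U', W₂, hP, m, hm, w, hw, hw1, hw2, rfl⟩)
  · exact sigmaA_sub_zero hG hM h (typeA_subset hG hM h hv)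
  refine sigmaA0_conj hm ?_
  have hW1M : W₁ ≤ M := hP.W₁_compl.2.1
  have hW2S : W₂ ≤ Cfsg.sigmaCore M := (hP.W₂_le.trans inf_le_left).trans (fittingHallOf_le_sigmaCore hG hM)
  have hcom := hP.selfNormalizing.2.2.2.1
  have hW21 : W₁ ≤ normalizer (W₂ : Set G) := fun a ha => mem_normalizer_iff.mpr fun b => by
    constructor
    · intro hb; rwa [hcom a ha b hb, mul_inv_cancel_right]
    · intro hb
      have := hcom a ha _ hb
      have e : a * b * a⁻¹ = b := by simpa [mul_assoc] using this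
      rwa [e] at hb
  rw [sup_comm] at hw
  obtain ⟨b, hb, a, ha, rfl⟩ := (OddLocal.mem_sup_of_le_normalizer hW21).mp hw
  have hb1 : b ≠ 1 := fun e => hw1 (by rw [e, one_mul]; exact ha)
  have hab : Commute a b := hcom a ha b hb
  refine ⟨⟨mul_mem ((hW2S.trans (TauTwo.sigmaCore_le M)) hb) (hW1M ha), b, hW2S hb, hb1, ?_⟩, ?_⟩
  · rw [mul_assoc, hab.eq]
  rintro ⟨k, hk, -, n, hn, e⟩
  have hpow : (b * a) ^ Nat.card W₁ = b ^ Nat.card W₁ := by
    rw [hab.symm.mul_pow, show a ^ Nat.card W₁ = 1 from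
      orderOf_dvd_iff_pow_eq_one.mp (W₁.orderOf_dvd_natCard ha), mul_one]
  have hkS : k ^ Nat.card W₁ ∈ K ⊓ Cfsg.sigmaCore M := by
    refine mem_inf.mpr ⟨pow_mem hk _,
      (mem_normalizer_iff.mp (TauTwo.le_normalizer_sigmaCore M hn) _).mpr ?_⟩
    rw [← conj_pow, ← e, hpow]
    exact pow_mem (hW2S hb) _
  rw [SigmaFactor.inf_sigmaCore hG hM h, mem_bot] at hkS
  have hb0 : b ^ Nat.card W₁ = 1 := by rw [← hpow, e, conj_pow, hkS]; group
  refine hb1 (orderOf_eq_one_iff.mp (Nat.eq_one_of_dvd_coprimes (hP.W₁_hall) (orderOf_dvd_of_pow_eq_one hb0) ?_))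
  rw [OddLocal.IsComplIn_relIndex_right hP.W₁_compl]
  exact Subgroup.orderOf_dvd_natCard _ ((hP.W₂_le.trans inf_le_right).trans (Subgroup.commutator_le_self _) hb)

theorem typeA0_conj (hG : Cfsg.IsMinSimpleOddOrder G) (hM : IsCoatom M) {m : G} (hm : m ∈ M)
    (hx : x ∈ Cfsg.typeA0 M) : m * x * m⁻¹ ∈ Cfsg.typeA0 M := by
  rcases hx with hx | ⟨hI, W₁, U', W₂, hP, n, hn, w, hw, hw1, hw2, rfl⟩
  · exact Or.inl (typeA_conj hG hM hm hx)
  · exact Or.inr ⟨hI, W₁, U', W₂, hP, m * n, mul_mem hm hn, w, hw, hw1, hw2, by group⟩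

theorem one_not_mem_typeA0 : (1 : G) ∉ Cfsg.typeA0 M := by
  rintro (h | ⟨-, W₁, U', W₂, -, n, -, w, -, hw1, -, e⟩)
  · exact one_not_mem_typeA h
  · exact hw1 (by rw [conj_eq_one_iff.mp e.symm]; exact one_mem _)

/-- The three support sets. -/
theorem type_sets (hG : Cfsg.IsMinSimpleOddOrder G) (hM : IsCoatom M) (h : Cfsg.IsSigmaDecomposition M K U)
    {A : Set G} (hA : A = Cfsg.typeA1 M ∨ A = Cfsg.typeA M ∨ A = Cfsg.typeA0 M) :
    A ⊆ Cfsg.sigmaA0 M K ∧ (1 : G) ∉ A ∧ (∀ m ∈ M, ∀ a ∈ A, m * a * m⁻¹ ∈ A) ∧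
      normalizer A = M := by
  have hA1 : Cfsg.typeA1 M ⊆ A := by
    rcases hA with rfl | rfl | rfl
    · exact subset_rfl
    · exact typeA1_subset_typeA hG hM
    · exact (typeA1_subset_typeA hG hM).trans Set.subset_union_left
  have key : A ⊆ Cfsg.sigmaA0 M K ∧ (1 : G) ∉ A ∧ (∀ m ∈ M, ∀ a ∈ A, m * a * m⁻¹ ∈ A) := by
    rcases hA with rfl | rfl | rfl
    · refine ⟨((typeA1_subset_typeA hG hM).trans (typeA_subset hG hM h)).trans (sigmaA_sub_zero hG hM h),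
        fun h1 => h1.2 rfl, ?_⟩
      rw [typeA1_eq hG hM]
      exact fun m hm a ha => ⟨(mem_normalizer_iff.mp (TauTwo.le_normalizer_sigmaCore M hm) a).mp ha.1,
        fun e => ha.2 (conj_eq_one_iff.mp e)⟩
    · exact ⟨(typeA_subset hG hM h).trans (sigmaA_sub_zero hG hM h), one_not_mem_typeA,
        fun m hm a ha => typeA_conj hG hM hm ha⟩
    · exact ⟨typeA0_subset hG hM h, one_not_mem_typeA0, fun m hm a ha => typeA0_conj hG hM hm ha⟩
  refine ⟨key.1, key.2.1, key.2.2, normalizer_eq hG hM (fun a ha => (key.1 ha).1.1) key.2.2 ?_⟩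
  obtain ⟨a, ha, ha1⟩ := (bot_or_exists_ne_one _).resolve_left (TauTwo.sigmaCore_ne_bot hG hM)
  exact ⟨a, hA1 (typeA1_eq hG hM ▸ ⟨ha, ha1⟩), ha1⟩

/-- Type II: centralisers of non-identity elements of `A₀(M)` lie in `M`. -/
theorem centralizer_le_of_typeTwo (hG : Cfsg.IsMinSimpleOddOrder G) (hM : IsCoatom M)
    (h : Cfsg.IsSigmaDecomposition M K U) (h2 : Cfsg.IsOfTypeII M) (hx : x ∈ Cfsg.sigmaA0 M K) (hx1 : x ≠ 1) :
    centralizer ({x} : Set G) ≤ M := by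
  by_cases hxS : x ∈ Cfsg.sigmaCore M
  swap
  · exact centralizer_le hG hM h hx hxS
  obtain ⟨hK, hU⟩ := (TypeFrobenius.typeTwo_iff hG hM h).mp h2
  obtain ⟨-, hTI, hSF⟩ := Cfsg.Agent.S1372.result hG M hM K U h hK hU
  have hN : normalizer (Cfsg.fittingOf M : Set G) = M := normalizer_eq hG hM (OddLocal.fittingOf_le M)
    (fun m hm a ha => (mem_normalizer_iff.mp (le_normalizer_map M.subtype
      ⟨⟨m, hm⟩, Core.le_normalizer_of_normal ⊤ (Cfsg.fittingSubgroup ↥M) (mem_top _), rfl⟩) a).mp ha)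
    ⟨x, hSF hxS, hx1⟩
  intro g hg
  by_contra hgM
  refine hx1 (hTI g (hN.symm ▸ hgM) x (hSF hxS) ?_)
  rw [mem_centralizer_singleton_iff.mp hg, mul_inv_cancel_right]
  exact hSF hxS

theorem typeTwo_ti (hG : Cfsg.IsMinSimpleOddOrder G) (hM : IsCoatom M) (h2 : Cfsg.IsOfTypeII M)
    {A : Set G} (hA : A = Cfsg.typeA1 M ∨ A = Cfsg.typeA M ∨ A = Cfsg.typeA0 M) :
    Cfsg.IsTISubset A ∧ normalizer A = M := by
  obtain ⟨K, U, h⟩ := exists_decomposition hG hM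
  obtain ⟨hsub, h1, -, hN⟩ := type_sets hG hM h hA
  refine ⟨fun g hg a ha hga => by_contra fun ha1 => hg (hN.symm ▸ ?_), hN⟩
  obtain ⟨m, hm, e⟩ := fusion hG hM h (hsub ha) ha1 (hsub hga)
  have hc : m⁻¹ * g ∈ centralizer ({a} : Set G) := mem_centralizer_singleton_iff.mpr (by
    calc m⁻¹ * g * a = m⁻¹ * (g * a * g⁻¹) * g := by group
      _ = m⁻¹ * (m * a * m⁻¹) * g := by rw [e]
      _ = a * (m⁻¹ * g) := by group)
  simpa using mul_mem hm (centralizer_le_of_typeTwo hG hM h h2 (hsub ha) ha1 hc)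

end CfsgLib.OddLocal.DadeSupport
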