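import Cfsg.Agent.Lib.OddLocal.KappaStructure

/-!
Distinct classes of maximal subgroups share no `σ`-prime (Bender–Glauberman, 13.9).
-/

set_option autoImplicit false
set_option linter.unusedSectionVars false

namespace CfsgLib.OddLocal.SigmaDisjoint

open Subgroup
open CfsgLib.TwoGroups
open PrimeActionTools FixedTauOne TauThree Kappa
open SylowUnique (Only)
open TauTwoFacts (rankTwo structure_tau2)
open SigmaOrderP (sigmaCore_le le_normalizer_sigmaCore le_sigmaCore)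
open scoped commutatorElement

variable {G : Type*} [Group G] [Finite G] {p q r s : ℕ} [Fact p.Prime] [Fact q.Prime] [Fact r.Prime] [Fact s.Prime]
  {M N E L H P R X Y : Subgroup G}

/-- BG 13.8: a line which is a nonregular `σ'`-line for two classes of maximal subgroups brings a
`σ`-line of the second into the first. -/
theorem exists_commuting (hG : Cfsg.IsMinSimpleOddOrder G) (hM : IsCoatom M) (hL : IsCoatom L)
    (hnc' : ∀ g : G, M ≠ L.map (MulAut.conj g).toMonoidHom) (hs : s ∈ Cfsg.tau1 M) (hX : Nat.card X = s)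
    (hXM : X ≤ M) (hXL : X ≤ L) (hsL : s ∉ Cfsg.sigma L) (hs1 : Cfsg.PRankLE s 1 L)
    (hneM : Cfsg.sigmaCore M ⊓ centralizer (X : Set G) ≠ ⊥)
    (hneL : Cfsg.sigmaCore L ⊓ centralizer (X : Set G) ≠ ⊥) :
    ∃ (u : ℕ) (V : Subgroup G), u.Prime ∧ Nat.card V = u ∧ V ≤ M ⊓ centralizer (X : Set G) ∧
      u ∉ Cfsg.sigma M ∧ u ∈ Cfsg.sigma L := by
  have hss := (Fact.out : s.Prime)
  have ih := TauThree.rigid hG s
  have hpack := pack_of_rank_one hG hL hX hXL hsL hs1 hneL ih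
  obtain ⟨t, Y, ht, hY, hYle⟩ := exists_prime_sub hneM
  obtain ⟨u, W, hu, hW, hWle⟩ := exists_prime_sub hneL
  have := Fact.mk ht
  have := Fact.mk hu
  have hYo := only_of_fixed hG hM hs hX hXM hY hYle
  obtain ⟨hWo, hWσ⟩ := hpack.1 u W hu hW hWle
  obtain ⟨H, hH, hNH⟩ := (eq_top_or_exists_le_coatom _).resolve_left
    (TransitivityHyp.normalizer_ne_top hG (ne_bot_of_card_eq hX)
      (Uniqueness.ne_top_of_pGroup hG (isPGroup_of_card_eq hX)))
  have hsH : s ∈ Cfsg.sigma H := KappaSigma.sigma_of_normalizer hG hM hs.2.1 hs.2.2.2.2 hX hXM hneM hH hNH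
  have hHM : ∀ g : G, H ≠ M.map (MulAut.conj g).toMonoidHom := fun g e =>
    hs.2.1 (SigmaEmbedding.sigma_of_conj (e ▸ hsH))
  have hHL : ∀ g : G, H ≠ L.map (MulAut.conj g).toMonoidHom := fun g e =>
    hsL (SigmaEmbedding.sigma_of_conj (e ▸ hsH))
  have hXO : X ≤ Cfsg.sigmaCore H := le_sigmaCore hG hH hsH (isPGroup_of_card_eq hX) (le_normalizer.trans hNH)
  have hCH : centralizer (X : Set G) ≤ H := (Subgroup.centralizer_le_normalizer _).trans hNH
  have hYC : Y ≤ centralizer (X : Set G) := hYle.trans inf_le_right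
  have hWC : W ≤ centralizer (X : Set G) := hWle.trans inf_le_right
  have htH : t ∉ Cfsg.sigma H := not_sigma_of_fixed hG hM hs hX hXM hY hYle hH hHM
  have huH : u ∉ Cfsg.sigma H := hWσ H hH hHL
  -- both have rank one in `H`
  have hrank : ∀ (v : ℕ) (V : Subgroup G), Fact v.Prime → Nat.card V = v → V ≤ centralizer (X : Set G) →
      v ∉ Cfsg.sigma H → ∀ N : Subgroup G, Only N (centralizer (V : Set G)) → H ≠ N → Cfsg.PRankLE v 1 H := by
    intro v V hv hV hVC hvH N honly hne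
    by_contra h
    have hτ : v ∈ Cfsg.tau2 H :=
      ⟨Fact.out, hvH, not_not.mp fun h' => hvH (SigmaTrans.alpha_subset_sigma hG hH ⟨Fact.out, h'⟩), h⟩
    obtain ⟨F, hF, hVF⟩ := TauTwo.exists_complement_ge hG hH (hVC.trans hCH) fun w hw hd => by
      rw [(Nat.prime_dvd_prime_iff_eq hw Fact.out).mp (hV ▸ hd)]; exact hvH
    obtain ⟨B, hB, hBF⟩ := TauTwo.exists_pair_complement hG hH hF hτ
    obtain ⟨-, hmem, -⟩ := TauTwo.le_normalizer_pair hG hH hB hvH hF hBF
    exact hne (honly.2 H hH (TauTwo.centralizer_line_unique hG hH hB (hBF.trans hF.1) hvH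
      (fun w hw => hmem w (hVF hw) (orderOf_dvd_iff_pow_eq_one.mp (hV ▸ V.orderOf_dvd_natCard hw)))
      (ne_bot_of_card_eq hV) fun e => ne_bot_of_card_eq hX
        (le_bot_iff.mp (e ▸ le_inf hXO (le_centralizer_iff.mp hVC)))).1)
  have ht1 := hrank t Y ‹_› hY hYC htH M hYo (fun e => hs.2.1 (e ▸ hsH))
  have hu1 := hrank u W ‹_› hW hWC huH L hWo (fun e => hsL (e ▸ hsH))
  -- a Hall subgroup of `C_H(X)` containing `Y` and a conjugate of `W`
  set D := centralizer (X : Set G) with hD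
  have : Group.IsSolvable D := CfsgLib.Core.isSolvable_of_le (hG.2.2.2 H hH.1) hCH
  set π : Set ℕ := {v | v = t ∨ v = u} with hπ
  obtain ⟨D₁, hD₁, hYD₁⟩ := Core.exists_piHall_ge (G := ↥D) (π := π) (K := Y.subgroupOf D) fun v hv hd => by
    rw [Nat.card_congr (subgroupOfEquivOfLe hYC).toEquiv, hY] at hd
    exact Or.inl ((Nat.prime_dvd_prime_iff_eq hv ht).mp hd)
  obtain ⟨⟨g, hgD⟩, hgle⟩ := Core.exists_conj_le_piHall hD₁ (K := W.subgroupOf D) fun v hv hd => by
    rw [Nat.card_congr (subgroupOfEquivOfLe hWC).toEquiv, hW] at hd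
    exact Or.inr ((Nat.prime_dvd_prime_iff_eq hv hu).mp hd)
  set V := W.map (MulAut.conj g).toMonoidHom with hV
  set D' := D₁.map D.subtype with hD'
  have hVD : V ≤ D' := by
    rintro _ ⟨x, hx, rfl⟩
    exact ⟨_, hgle ((Subgroup.smul_mem_pointwise_smul_iff (a := MulAut.conj (⟨g, hgD⟩ : D))).mpr
      (show (⟨x, hWC hx⟩ : D) ∈ W.subgroupOf D from hx)), rfl⟩
  have hYD : Y ≤ D' := fun x hx => ⟨⟨x, hYC hx⟩, hYD₁ (mem_subgroupOf.mpr hx), rfl⟩
  have hVcard : Nat.card V = u := by rw [hV, card_map_of_injective (MulAut.conj g).injective, hW]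
  have hD'π : ∀ v : ℕ, v.Prime → v ∣ Nat.card D' → v ∈ π := fun v hv hd => by
    rw [hD', card_map_of_injective D.subtype_injective] at hd
    exact hD₁.1 v hv hd
  obtain ⟨F, hF, hDF⟩ := TauTwo.exists_complement_ge hG hH ((map_subtype_le _).trans hCH : D' ≤ H) fun v hv hd => by
    rcases hD'π v hv hd with h | h
    · rw [h]; exact htH
    · rw [h]; exact huH
  have hVY : V ≤ normalizer (Y : Set G) ∨ Y ≤ normalizer (V : Set G) := by
    rcases tau_of_rank_one (hY ▸ card_dvd_of_le (hYC.trans hCH)) htH ht1 with ht' | ht'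
    swap
    · exact Or.inl ((hVD.trans hDF).trans (le_normalizer_line hG hH hF ht' hY (hYD.trans hDF)))
    rcases tau_of_rank_one (hW ▸ card_dvd_of_le (hWC.trans hCH)) huH hu1 with hu' | hu'
    swap
    · exact Or.inr ((hYD.trans hDF).trans (le_normalizer_line hG hH hF hu' hVcard (hVD.trans hDF)))
    left
    have : Group.IsSolvable F := CfsgLib.Core.isSolvable_of_le (hG.2.2.2 H hH.1) hF.1
    obtain ⟨H₁, hH₁, hle⟩ := Core.exists_piHall_ge (G := ↥F) (π := Cfsg.tau1 H) (K := D'.subgroupOf F) fun v hv hd => by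
      rw [Nat.card_congr (subgroupOfEquivOfLe hDF).toEquiv] at hd
      rcases hD'π v hv hd with h | h
      · rw [h]; exact ht'
      · rw [h]; exact hu'
    have hc : IsCyclic (H₁.map F.subtype) :=
      (SigmaComplement.complement_structure hG hH hF).2.1 _ ⟨map_subtype_le _, fun v hv hd => by
        rw [card_map_of_injective F.subtype_injective] at hd
        exact hH₁.1 v hv hd, fun v hv hvπ => by
        rw [relIndex, subgroupOf, comap_map_eq_self_of_injective F.subtype_injective]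
        exact hH₁.2 v hv hvπ⟩
    have hle' : D' ≤ H₁.map F.subtype := fun x hx => ⟨⟨x, hDF hx⟩, hle (mem_subgroupOf.mpr hx), rfl⟩
    refine le_trans ?_ (Subgroup.centralizer_le_normalizer _)
    exact fun a ha => mem_centralizer_iff.mpr fun b hb => congrArg Subtype.val
      ((IsCyclic.isMulCommutative (α := ↥(H₁.map F.subtype))).is_comm.comm ⟨b, hle' (hYD hb)⟩ ⟨a, hle' (hVD ha)⟩)
  set L₁ := L.map (MulAut.conj g).toMonoidHom with hL₁
  have hL₁max : IsCoatom L₁ := SylowUnique.isCoatom_conj hL g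
  have hfixX : X.map (MulAut.conj g).toMonoidHom = X :=
    Transfer.map_conj_eq_self_iff.mpr (Subgroup.centralizer_le_normalizer _ hgD)
  have hXL₁ : X ≤ L₁ := by rw [← hfixX]; exact map_mono hXL
  have huL : u ∈ Cfsg.sigma L :=
    TauTwo.mem_sigma_of_dvd hu (hW ▸ card_dvd_of_le (hWle.trans inf_le_left)) hG hL
  have huL₁ : u ∈ Cfsg.sigma L₁ :=
    SigmaEmbedding.sigma_of_conj (g := g⁻¹) (by rw [hL₁, map_conj_inv]; exact huL)
  have hVL₁ : V ≤ Cfsg.sigmaCore L₁ ⊓ centralizer (X : Set G) :=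
    le_inf (le_sigmaCore hG hL₁max huL₁ (isPGroup_of_card_eq hVcard)
      (map_mono ((hWle.trans inf_le_left).trans (sigmaCore_le L)))) (hVD.trans (map_subtype_le _))
  have hsL₁ : s ∉ Cfsg.sigma L₁ := fun h => hsL (SigmaEmbedding.sigma_of_conj h)
  have hnc₁ : ∀ x : G, M ≠ L₁.map (MulAut.conj x).toMonoidHom := fun x e => by
    refine hnc' (x * g) ?_
    rw [e, hL₁, map_map]
    congr 1
    ext z
    simp [mul_assoc]
  have hnc₁' : ∀ x : G, L₁ ≠ M.map (MulAut.conj x).toMonoidHom := fun x e => by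
    refine hnc₁ x⁻¹ ?_
    rw [e, map_conj_inv]
  have hpack₁ := pack_of_rank_one hG hL₁max hX hXL₁ hsL₁ (prankLE_conj hs1 g)
    (fun e => ne_bot_of_card_eq hVcard (le_bot_iff.mp (e ▸ hVL₁))) ih
  -- `V` lies in `M`
  have hVM : V ≤ M := by
    rcases hVY with h | h
    · exact h.trans (normalizer_le_of_only hG hY hYo)
    have hYL₁ : Y ≤ L₁ := by
      refine h.trans ?_
      rw [hV, Transfer.normalizer_map_conj]
      exact map_mono (normalizer_le_of_only hG hW hWo)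
    have htL₁ : t ∉ Cfsg.sigma L₁ := not_sigma_of_fixed hG hM hs hX hXM hY hYle hL₁max hnc₁'
    obtain ⟨F₁, hF₁, hKF⟩ := TauTwo.exists_complement_ge hG hL₁max (sup_le hXL₁ hYL₁) fun v hv hd => by
      rcases hv.dvd_mul.mp (hd.trans (Core.card_sup_dvd X Y
        ((le_centralizer_iff.mp hYC).trans (Subgroup.centralizer_le_normalizer _)))) with h' | h'
      · rw [hX] at h'; rw [(Nat.prime_dvd_prime_iff_eq hv hss).mp h']; exact hsL₁
      · rw [hY] at h'; rw [(Nat.prime_dvd_prime_iff_eq hv ht).mp h']; exact htL₁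
    exact (hVL₁.trans (hpack₁.2 F₁ hF₁ (le_sup_left.trans hKF) Y (hY.symm ▸ ht)
      (le_inf (le_sup_right.trans hKF) hYC))).trans hYo.1
  have huM : u ∉ Cfsg.sigma M := (hpack₁.1 u V hu hVcard hVL₁).2 M hM hnc₁
  exact ⟨u, V, hu, hVcard, le_inf hVM (hVL₁.trans inf_le_right), huM, huL⟩

/-- `σ` is invariant under conjugation. -/
theorem sigma_conj (g : G) : q ∈ Cfsg.sigma (M.map (MulAut.conj g).toMonoidHom) ↔ q ∈ Cfsg.sigma M :=
  ⟨SigmaEmbedding.sigma_of_conj, fun h => SigmaEmbedding.sigma_of_conj (g := g⁻¹) (by rw [map_conj_inv]; exact h)⟩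

theorem nonconj_conj (hnc : ∀ g : G, N ≠ M.map (MulAut.conj g).toMonoidHom) (h g : G) :
    N.map (MulAut.conj h).toMonoidHom ≠ M.map (MulAut.conj g).toMonoidHom := by
  intro e
  refine hnc (h⁻¹ * g) ?_
  rw [← map_conj_inv (M := N) h, e, map_map]
  congr 1
  ext x
  simp [mul_assoc]

/-- A complement and a Sylow subgroup of `G` in `M_σ` normalized by it. -/
theorem exists_sylow_normalized (hG : Cfsg.IsMinSimpleOddOrder G) (hM : IsCoatom M) (hq : q ∈ Cfsg.sigma M)
    (hE : Cfsg.IsComplIn E (Cfsg.sigmaCore M) M) :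
    ∃ S : Sylow q G, (S : Subgroup G) ≤ Cfsg.sigmaCore M ∧ E ≤ normalizer ((S : Subgroup G) : Set G) := by
  obtain ⟨S₀, hS₀⟩ := Core.exists_invariant_sylow (A := E) (K := Cfsg.sigmaCore M)
    (hE.1.trans (le_normalizer_sigmaCore M)) (coprime_complement hG hM hE)
    (Or.inl (CfsgLib.Core.isSolvable_of_le (hG.2.2.2 M hM.1) hE.1)) q
  obtain ⟨S, hS⟩ := TauTwo.sigma_sylow_top hG hM hq S₀
  exact ⟨S, hS.le.trans (map_subtype_le _), by rw [hS]; exact hS₀⟩

/-- A Sylow subgroup of a prime of `σ(M) ∩ σ(N)` is centralized by the normalizing `σ(N)`-groups. -/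
theorem centralizes_sylow (hG : Cfsg.IsMinSimpleOddOrder G) (hM : IsCoatom M) (hN : IsCoatom N)
    (hnc : ∀ g : G, N ≠ M.map (MulAut.conj g).toMonoidHom) (hsN : s ∈ Cfsg.sigma N) (hsM : s ∉ Cfsg.sigma M)
    (S : Sylow q G) (hSM : (S : Subgroup G) ≤ Cfsg.sigmaCore M) (hSN : (S : Subgroup G) ≤ N)
    (hY : IsPGroup s Y) (hYM : Y ≤ M) (hYN : Y ≤ N) : Y ≤ centralizer ((S : Subgroup G) : Set G) :=
  (centralizes_inf hG hM hN hnc hsN hsM hY hYM hYN).trans (Subgroup.centralizer_le (le_inf hSM hSN))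

/-- BG 13.9: maximal subgroups sharing a `σ`-prime are conjugate. -/
theorem sigma_disjoint (hG : Cfsg.IsMinSimpleOddOrder G) (hM : IsCoatom M) (hN₀ : IsCoatom N)
    (hqM : q ∈ Cfsg.sigma M) (hqN₀ : q ∈ Cfsg.sigma N) : ∃ g : G, N = M.map (MulAut.conj g).toMonoidHom := by
  by_contra hnc₀
  push Not at hnc₀
  obtain ⟨E, hE, -⟩ := TauTwo.exists_complement_ge hG hM (bot_le : (⊥ : Subgroup G) ≤ M) fun t ht hd => by
    rw [card_bot] at hd; exact absurd (Nat.dvd_one.mp hd) ht.ne_one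
  obtain ⟨S, hSO, hES⟩ := exists_sylow_normalized hG hM hqM hE
  have hSM : (S : Subgroup G) ≤ M := hSO.trans (sigmaCore_le M)
  obtain ⟨h, hh⟩ := SigmaTrans.exists_conj_le hqN₀ S.2
  set L := N.map (MulAut.conj h).toMonoidHom with hLdef
  have hL : IsCoatom L := SylowUnique.isCoatom_conj hN₀ h
  have hSL : (S : Subgroup G) ≤ L := fun b hb => Transfer.mem_map_conj.mpr (by simpa [mul_assoc] using hh b hb)
  have hqL : q ∈ Cfsg.sigma L := (sigma_conj h).mpr hqN₀
  have hnc : ∀ g : G, L ≠ M.map (MulAut.conj g).toMonoidHom := nonconj_conj hnc₀ h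
  have hnc' : ∀ g : G, M ≠ L.map (MulAut.conj g).toMonoidHom := fun g e => hnc g⁻¹ (by rw [e, map_conj_inv])
  have hNSM : normalizer ((S : Subgroup G) : Set G) ≤ M := TauTwo.sylow_normalizer_le hqM S hSM
  have hNSL : normalizer ((S : Subgroup G) : Set G) ≤ L := TauTwo.sylow_normalizer_le hqL S hSL
  have hSab : IsMulCommutative (S : Subgroup G) := sylow_abelian_of_common hG hM hL hqM hqL hnc S
  have hqβM : q ∉ Cfsg.beta M := not_beta_of_common hG hM hL hqL hnc
  have hqβL : q ∉ Cfsg.beta L := not_beta_of_common hG hL hM hqM hnc'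
  have hSb : (S : Subgroup G) ≠ ⊥ := fun e => by
    have := S.not_dvd_index
    rw [e, index_bot] at this
    exact this (hqM.2.1.trans M.card_subgroup_dvd_card)
  -- some prime power subgroup of `E` moves `S`
  obtain ⟨t, T, ht, hT, hTE, hmove⟩ : ∃ (t : ℕ) (T : Subgroup G), t.Prime ∧ IsPGroup t T ∧ T ≤ E ∧
      ¬ T ≤ centralizer ((S : Subgroup G) : Set G) := by
    refine CentTauOne.exists_pgroup_not_le fun hle => ?_
    obtain ⟨V, hV, hVS⟩ := exists_line S.2 hSb
    exact sylow_not_commutative_of_derived hG hM hqβM hV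
      (hVS.trans ((le_inf hSO (le_centralizer_iff.mp hle)).trans (SigmaIntersection.commutator_eq hG hM hE).2)) S hSab
  have := Fact.mk ht
  have hTM : T ≤ M := hTE.trans hE.1
  have hTN : T ≤ normalizer ((S : Subgroup G) : Set G) := hTE.trans hES
  have hTL : T ≤ L := hTN.trans hNSL
  have hTb : T ≠ ⊥ := fun e => hmove (e ▸ bot_le)
  obtain ⟨X, hX, hXT⟩ := exists_line hT hTb
  have hdE : t ∣ Nat.card E := hX ▸ card_dvd_of_le (hXT.trans hTE)
  have htM := SigmaComplement.not_mem_sigma hG hM hE hdE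
  have htq : q ≠ t := fun e => htM (e ▸ hqM)
  have htL : t ∉ Cfsg.sigma L := fun h' => hmove (centralizes_sylow hG hM hL hnc h' htM S hSO hSL hT hTM hTL)
  have hrankM : ∀ v : ℕ, v.Prime → v ∣ Nat.card E → Cfsg.PRankLE v 1 M := by
    intro v hv hd
    have := Fact.mk hv
    by_contra h'
    have hvσ := SigmaComplement.not_mem_sigma hG hM hE hd
    obtain ⟨A, hA, hAE⟩ := TauTwo.exists_pair_complement hG hM hE
      ⟨hv, hvσ, not_not.mp fun h'' => hvσ (SigmaTrans.alpha_subset_sigma hG hM ⟨hv, h''⟩), h'⟩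
    exact hSb (le_bot_iff.mp ((TauTwo.sigmaCore_inf_eq_bot hG hM hA (hAE.trans hE.1) hvσ hL
      (fun e => hnc 1 (e.trans (by ext x; rw [Transfer.mem_map_conj]; simp))) ((hAE.trans hES).trans hNSL)) ▸
      le_inf hSO hSL))
  have ht1M := hrankM t ht hdE
  have ht1L : Cfsg.PRankLE t 1 L := by
    by_contra h'
    obtain ⟨F, hF, -⟩ := TauTwo.exists_complement_ge hG hL (bot_le : (⊥ : Subgroup G) ≤ L) fun v hv hd => by
      rw [card_bot] at hd; exact absurd (Nat.dvd_one.mp hd) hv.ne_one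
    obtain ⟨S₁, hS₁O, hFS₁⟩ := exists_sylow_normalized hG hL hqL hF
    obtain ⟨B, hB, hBF⟩ := TauTwo.exists_pair_complement hG hL hF
      ⟨ht, htL, not_not.mp fun h'' => htL (SigmaTrans.alpha_subset_sigma hG hL ⟨ht, h''⟩), h'⟩
    obtain ⟨a, ha⟩ := MulAction.exists_smul_eq G S₁ S
    refine not_le_of_rank hB (prankLE_conj ht1M a⁻¹) fun b hb => Transfer.mem_map_conj.mpr (hNSM ?_)
    have h1 : (normalizer ((S₁ : Subgroup G) : Set G)).map (MulAut.conj a).toMonoidHom =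
        normalizer ((S : Subgroup G) : Set G) := by
      rw [← Transfer.normalizer_map_conj, ← ha, Sylow.coe_subgroup_smul, Subgroup.pointwise_smul_def]
      rfl
    rw [← h1, Transfer.mem_map_conj]
    simpa [mul_assoc] using (hBF.trans hFS₁) hb
  have hXM : X ≤ M := hXT.trans hTM
  have hXL : X ≤ L := hXT.trans hTL
  have hd1M : ¬ t ∣ Nat.card ↥⁅M, M⁆ := fun hd => by
    obtain ⟨T₁, hT₁⟩ := (hT.comap_subtype (K := M)).exists_le_sylow
    exact hmove (TauTwo.centralizes_of_derived hG hM htq hqβM hT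
      (fun x hx => le_derived_of_dvd hG ht1M hd T₁ ⟨⟨x, hTM hx⟩, hT₁ hx, rfl⟩) S.2 hSM hTN)
  have hd1L : ¬ t ∣ Nat.card ↥⁅L, L⁆ := fun hd => by
    obtain ⟨T₁, hT₁⟩ := (hT.comap_subtype (K := L)).exists_le_sylow
    exact hmove (TauTwo.centralizes_of_derived hG hL htq hqβL hT
      (fun x hx => le_derived_of_dvd hG ht1L hd T₁ ⟨⟨x, hTL hx⟩, hT₁ hx, rfl⟩) S.2 hSL hTN)
  have hτM : t ∈ Cfsg.tau1 M := ⟨ht, htM, hX ▸ card_dvd_of_le hXM, hd1M, ht1M⟩
  -- nonregular in both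
  obtain ⟨⟨x, hx⟩, hx1⟩ := X.ne_bot_iff_exists_ne_one.mp (ne_bot_of_card_eq hX)
  have hxo : orderOf x = t := by
    rcases (Nat.dvd_prime ht).mp (hX ▸ X.orderOf_dvd_natCard hx) with h' | h'
    · exact absurd (Subtype.ext (orderOf_eq_one_iff.mp h')) hx1
    · exact h'
  have hXz : zpowers x = X := eq_of_le_of_card_ge (zpowers_le.mpr hx) (by rw [hX, Nat.card_zpowers, hxo])
  have hnr : ∀ K : Subgroup G, IsCoatom K → (S : Subgroup G) ≤ Cfsg.sigmaCore K → X ≤ K →
      Cfsg.sigmaCore K ⊓ centralizer (X : Set G) = ⊥ → K ≤ normalizer ((S : Subgroup G) : Set G) := by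
    intro K hK hSK hXK hreg
    exact TauTwo.le_normalizer_of_nilpotent (NonKappa.isNilpotent_of_fpf_elem hxo
      (le_normalizer_sigmaCore K (hXK hx)) (by rw [SylowUnique.centralizer_singleton_eq, hXz]; exact hreg)) S hSK
  have hLM : L ≠ M := fun e => hnc 1 (e.trans (by ext x; rw [Transfer.mem_map_conj]; simp))
  have hneM : Cfsg.sigmaCore M ⊓ centralizer (X : Set G) ≠ ⊥ := fun e =>
    hLM ((hM.le_iff.mp ((hnr M hM hSO hXM e).trans hNSL)).resolve_left hL.1)
  have hneL : Cfsg.sigmaCore L ⊓ centralizer (X : Set G) ≠ ⊥ := fun e =>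
    hLM ((hL.le_iff.mp ((hnr L hL (TauTwo.le_sigmaCore hG hL hqL S.2 hSL) hXL e).trans hNSM)).resolve_left hM.1).symm
  obtain ⟨u, V, hu, hV, hVle, huM, huL⟩ := exists_commuting hG hM hL hnc' hτM hX hXM hXL htL ht1L hneM hneL
  have := Fact.mk hu
  have hVM : V ≤ M := hVle.trans inf_le_left
  have hVX : V ≤ centralizer (X : Set G) := hVle.trans inf_le_right
  obtain ⟨E₂, hE₂, hKE⟩ := TauTwo.exists_complement_ge hG hM (sup_le hXM hVM) fun v hv hd => by
    rcases hv.dvd_mul.mp (hd.trans (Core.card_sup_dvd X V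
      ((le_centralizer_iff.mp hVX).trans (Subgroup.centralizer_le_normalizer _)))) with h' | h'
    · rw [hX] at h'; rw [(Nat.prime_dvd_prime_iff_eq hv ht).mp h']; exact htM
    · rw [hV] at h'; rw [(Nat.prime_dvd_prime_iff_eq hv hu).mp h']; exact huM
  obtain ⟨S₂, hS₂O, hES₂⟩ := exists_sylow_normalized hG hM hqM hE₂
  obtain ⟨h₂, hh₂⟩ := SigmaTrans.exists_conj_le hqL S₂.2
  set L₂ := L.map (MulAut.conj h₂).toMonoidHom with hL₂def
  have hL₂ : IsCoatom L₂ := SylowUnique.isCoatom_conj hL h₂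
  have hS₂L : (S₂ : Subgroup G) ≤ L₂ := fun b hb => Transfer.mem_map_conj.mpr (by simpa [mul_assoc] using hh₂ b hb)
  have hqL₂ : q ∈ Cfsg.sigma L₂ := (sigma_conj h₂).mpr hqL
  have hnc₂ : ∀ g : G, L₂ ≠ M.map (MulAut.conj g).toMonoidHom := nonconj_conj hnc h₂
  have hN₂ : E₂ ≤ L₂ := hES₂.trans (TauTwo.sylow_normalizer_le hqL₂ S₂ hS₂L)
  have hVS₂ : V ≤ centralizer ((S₂ : Subgroup G) : Set G) :=
    centralizes_sylow hG hM hL₂ hnc₂ ((sigma_conj h₂).mpr huL) huM S₂ hS₂O hS₂L (isPGroup_of_card_eq hV) hVM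
      ((le_sup_right.trans hKE).trans hN₂)
  have hS₂b : (S₂ : Subgroup G) ≠ ⊥ := fun e => by
    have := S₂.not_dvd_index
    rw [e, index_bot] at this
    exact this (hqM.2.1.trans M.card_subgroup_dvd_card)
  have hu1 : Cfsg.PRankLE u 1 M := by
    by_contra h'
    obtain ⟨A, hA, hAE⟩ := TauTwo.exists_pair_complement hG hM hE₂
      ⟨hu, huM, not_not.mp fun h'' => huM (SigmaTrans.alpha_subset_sigma hG hM ⟨hu, h''⟩), h'⟩
    exact hS₂b (le_bot_iff.mp ((TauTwo.sigmaCore_inf_eq_bot hG hM hA (hAE.trans hE₂.1) huM hL₂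
      (fun e => hnc₂ 1 (e.trans (by ext x; rw [Transfer.mem_map_conj]; simp))) (hAE.trans hN₂)) ▸
      le_inf hS₂O hS₂L))
  have hpackM := pack_of_rank_one hG hM hV hVM huM hu1
    (fun e => hS₂b (le_bot_iff.mp (e ▸ le_inf hS₂O (le_centralizer_iff.mp hVS₂)))) (TauThree.rigid hG u)
  have hXfix : (S₂ : Subgroup G) ≤ centralizer (X : Set G) :=
    (le_inf hS₂O (le_centralizer_iff.mp hVS₂)).trans (hpackM.2 E₂ hE₂ (le_sup_right.trans hKE) X (hX.symm ▸ ht)
      (le_inf (le_sup_left.trans hKE) (le_centralizer_iff.mp hVX)))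
  obtain ⟨W, hW, hWS⟩ := exists_line S₂.2 hS₂b
  exact not_sigma_of_fixed hG hM hτM hX hXM hW (le_inf (hWS.trans hS₂O) (hWS.trans hXfix)) hL₂ hnc₂ hqL₂

end CfsgLib.OddLocal.SigmaDisjoint
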