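import Cfsg.Agent.Lib.OddLocal.SigmaEmbedding
import Cfsg.Agent.Lib.TwoGroups.TauTwoUnique
import Cfsg.Agent.Lib.TwoGroups.TauTwoComplement

/-!
The standing facts about rank two subgroups (Bender–Glauberman, Theorems 12.4 and 12.5 a, c) in the
form used by the `OddLocal` files.
-/

set_option autoImplicit false

namespace CfsgLib.OddLocal.TauTwoFacts

open Subgroup
open CfsgLib.TwoGroups

variable {G : Type*} [Group G] [Finite G]

theorem rankTwo (hG : Cfsg.IsMinSimpleOddOrder G) : SylowUnique.RankTwoCentralizer G := fun _ hM _ _ _ hA =>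
  TauTwo.rankTwoCentralizer hG hM ⟨hA.2.1, hA.2.2⟩ hA.1

theorem structure_tau2 (hG : Cfsg.IsMinSimpleOddOrder G) : SigmaEmbedding.TauTwoStructure G := by
  intro M hM p _ hp A hA
  obtain ⟨hAM, hAe, hA2⟩ := hA
  have hA' : TauTwo.IsPair p A := ⟨hAe, hA2⟩
  have hpσ := hp.2.1
  refine ⟨TauTwo.isNilpotent_sigmaCore hG hM hA' hAM hpσ, ?_⟩
  obtain ⟨E, hE, hAE⟩ := TauTwo.exists_complement_ge hG hM hAM fun r hr hd => by
    obtain ⟨k, hk⟩ := IsPGroup.iff_card.mp hA'.isPGroup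
    rwa [(Nat.prime_dvd_prime_iff_eq hr Fact.out).mp (hr.dvd_of_dvd_pow (hk ▸ hd))]
  have hEA := (TauTwo.le_normalizer_pair hG hM hA' hpσ hE hAE).1
  intro x hx
  obtain ⟨e, he, s, hs, rfl⟩ := hE.2.2.2 x hx
  refine Subgroup.mul_mem _ ?_ (Subgroup.le_normalizer (Subgroup.mem_sup_left hs))
  refine CfsgLib.Transfer.map_conj_eq_self_iff.mp ?_
  rw [Subgroup.map_sup, CfsgLib.Transfer.map_conj_eq_self_iff.mpr (hEA he),
    CfsgLib.Transfer.map_conj_eq_self_iff.mpr (TauTwo.le_normalizer_sigmaCore M (hE.1 he))]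

end CfsgLib.OddLocal.TauTwoFacts
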