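import Cfsg.Agent.Lib.OddLocal.KappaCount
import Mathlib.GroupTheory.SpecificGroups.ZGroup

/-!
# BG 14.7: the pair of classes with nonempty `κ`
-/

namespace CfsgLib.OddLocal.Kappa

open Subgroup
open CfsgLib.TwoGroups
open PrimeActionTools FixedTauOne TauThree
open SigmaOrderP (sigmaCore_le le_normalizer_sigmaCore le_sigmaCore)

variable {G : Type*} [Group G] [Finite G] {M N H E F K L X Y Z : Subgroup G}

/-- A nilpotent subgroup of `M_σ` which is a `κ`-group elsewhere is cyclic. -/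
theorem isCyclic_of_nilpotent (hG : Cfsg.IsMinSimpleOddOrder G) (d : Data H L F)
    (hn : Group.IsNilpotent L) : IsCyclic L := by
  have : IsZGroup L := ⟨fun p hp P => by
    have := Fact.mk hp
    by_cases hd : p ∣ Nat.card L
    · have hc := cyclic_of_rank hG (d.rank_one hd) (P.2.map L.subtype) ((map_subtype_le _).trans d.hall.1)
      exact isCyclic_of_surjective ((P : Subgroup L).equivMapOfInjective L.subtype L.subtype_injective).symm
        (MulEquiv.surjective _)
    · have h0 : (P : Subgroup L) = ⊥ := by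
        rw [← card_eq_one]
        obtain ⟨k, hk⟩ := IsPGroup.iff_card.mp P.2
        rcases k with _ | k
        · simpa using hk
        · exact absurd ((hk ▸ dvd_pow_self p (by omega) : p ∣ Nat.card (P : Subgroup L)).trans
            (card_subgroup_dvd_card _)) hd
      rw [h0]
      infer_instance⟩
  infer_instance

/-- BG 14.7: the conclusions relating `M` and `M*`. -/
structure Pair (M K H : Subgroup G) : Prop where
  data : ∃ F, Data H (Kstar M K) F
  star_star : Kstar H (Kstar M K) = K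
  ne : H ≠ M
  members : ∀ N, Member (ZK M K) N → N = M ∨ N = H
  cyclic : IsCyclic K
  cyclic_star : IsCyclic (Kstar M K)

theorem pair_of_ne (d : Data M K E) (hG : Cfsg.IsMinSimpleOddOrder G) (hKE : K ≠ E) :
    ∃ H, Pair M K H := by
  have hp := d.prime_of_ne hG hKE
  have := Fact.mk hp
  obtain ⟨H, hH, hNH⟩ := (eq_top_or_exists_le_coatom _).resolve_left
    (TransitivityHyp.normalizer_ne_top hG d.ne_bot
      (Uniqueness.ne_top_of_pGroup hG (isPGroup_of_card_eq (rfl : Nat.card K = Nat.card K))))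
  obtain ⟨L, F, d₁, e, hXO, hsK⟩ := d.partner hG rfl le_rfl hH hNH
  have hpM : Nat.card K ∉ Cfsg.sigma M := d.not_sigma hp dvd_rfl
  have hpH : Nat.card K ∈ Cfsg.sigma H := TauTwo.mem_sigma_of_dvd hp (card_dvd_of_le hXO) hG hH
  have hne : H ≠ M := fun e => hpM (e ▸ hpH)
  have hMH : Member (ZK M K) H := ⟨L, F, d₁, e⟩
  have hss : Kstar H L = K := by
    refine eq_of_le_of_card_ge hsK ?_
    rcases (Nat.dvd_prime hp).mp (card_dvd_of_le hsK) with h | h
    · exact absurd (card_eq_one.mp h) d₁.star_ne_bot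
    · exact h.ge
  have hKL : Kstar M K = L := by
    refine eq_of_le_of_card_ge (fun g hg => d₁.mem_of_primes hG (e.ge (mem_sup_right hg))
      fun t ht hd ht' => ?_) ?_
    · have := Fact.mk ht
      exact hne (hMH.eq_of_sigma d.member hG ht' (d.sigma_star hG ht (hd.trans ((Kstar M K).orderOf_dvd_natCard hg))))
    · have h1 := d₁.card_Z hG
      rw [e, d.card_Z hG, hss, mul_comm (Nat.card L)] at h1
      exact (Nat.eq_of_mul_eq_mul_left Nat.card_pos h1).ge
  subst hKL
  refine ⟨H, ⟨F, d₁⟩, hss, hne, fun N hN => ?_, isCyclic_of_prime_card rfl, ?_⟩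
  · obtain ⟨L', F', d', e'⟩ := id hN
    obtain ⟨t, Y, ht, hY, hYs⟩ := exists_prime_sub d'.star_ne_bot
    have := Fact.mk ht
    have htN := d'.sigma_star hG ht (hY ▸ card_dvd_of_le hYs)
    by_cases htM : t ∈ Cfsg.sigma M
    · exact Or.inl (hN.eq_of_sigma d.member hG htN htM)
    · have hYK : Y ≤ K := fun y hy => d.mem_of_primes hG (e'.le (mem_sup_right (hYs hy)))
        fun u hu hd => mem_not_sigma_of_line hY htM hy hu hd
      have htp : t = Nat.card K := (Nat.prime_dvd_prime_iff_eq ht hp).mp (hY ▸ card_dvd_of_le hYK)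
      exact Or.inr (hN.eq_of_sigma hMH hG (q := Nat.card K) (htp ▸ htN) hpH)
  · have := d.isNilpotent_of_ne hG hKE
    exact isCyclic_of_nilpotent hG d₁ (Group.nilpotent_of_mulEquiv
      (subgroupOfEquivOfLe (inf_le_left : Kstar M K ≤ Cfsg.sigmaCore M)))

theorem Pair.symm (p : Pair M K H) (d : Data M K E) : Pair H (Kstar M K) M := by
  refine ⟨?_, ?_, p.ne.symm, fun N hN => ?_, p.cyclic_star, ?_⟩
  · rw [p.star_star]; exact ⟨E, d⟩
  · rw [p.star_star]
  · refine (p.members N ?_).symm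
    rwa [show ZK H (Kstar M K) = ZK M K by rw [ZK, p.star_star, sup_comm]] at hN
  · rw [p.star_star]; exact p.cyclic

/-- BG 14.7: existence of the pair. -/
theorem Data.exists_pair (d : Data M K E) (hG : Cfsg.IsMinSimpleOddOrder G) : ∃ H, Pair M K H := by
  obtain ⟨N, L, F, d₀, e, hne⟩ := d.exists_ne hG
  obtain ⟨H, hP⟩ := pair_of_ne d₀ hG hne
  rcases hP.members M ⟨K, E, d, e.symm⟩ with rfl | rfl
  · obtain rfl := (d.eq_of_Z hG d₀ e)
    exact ⟨H, hP⟩
  · obtain ⟨F', d'⟩ := hP.data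
    have h1 : ZK M (Kstar N L) = ZK M K := by rw [ZK, hP.star_star, sup_comm]; exact e
    obtain rfl := d.eq_of_Z hG d' h1
    exact ⟨N, hP.symm d₀⟩

theorem Data.isCyclic (d : Data M K E) (hG : Cfsg.IsMinSimpleOddOrder G) : IsCyclic K :=
  (d.exists_pair hG).choose_spec.cyclic

/-- One of the two has `K ≠ E`. -/
theorem Pair.exists_ne (p : Pair M K H) (d : Data M K E) (hG : Cfsg.IsMinSimpleOddOrder G)
    (dH : Data H (Kstar M K) F) :
    K ≠ E ∨ Kstar M K ≠ F := by
  obtain ⟨N, L, F', d₀, e, hne⟩ := d.exists_ne hG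
  rcases p.members N ⟨L, F', d₀, e⟩ with rfl | rfl
  · obtain rfl := d.eq_of_Z hG d₀ e
    refine Or.inl fun h => hne ?_
    exact eq_of_le_of_card_ge d₀.le (by
      have h1 := IsComplIn_card_mul d.compl
      have h2 := IsComplIn_card_mul d₀.compl
      rw [← h2, ← h] at h1
      exact (Nat.eq_of_mul_eq_mul_right Nat.card_pos h1).ge)
  · obtain rfl := dH.eq_of_Z hG d₀ (by rw [e, ZK, ZK, p.star_star, sup_comm])
    refine Or.inr fun h => hne ?_
    exact eq_of_le_of_card_ge d₀.le (by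
      have h1 := IsComplIn_card_mul dH.compl
      have h2 := IsComplIn_card_mul d₀.compl
      rw [← h2, ← h] at h1
      exact (Nat.eq_of_mul_eq_mul_right Nat.card_pos h1).ge)

/-- BG 14.7 (c): `κ(M) = τ₁(M)`. -/
theorem Data.kappa_eq (d : Data M K E) (hG : Cfsg.IsMinSimpleOddOrder G) :
    Cfsg.kappa M = Cfsg.tau1 M := by
  have hM := d.max
  have hKc := d.isCyclic hG
  ext t
  refine ⟨fun ht => ?_, fun ht => ?_⟩
  · have := Fact.mk ht.1
    refine (tau_of_kappa ht).resolve_right fun h3 => ?_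
    obtain ⟨P, hP, hPE⟩ := exists_line_tau3 hG hM d.compl ht
    have hne := nonregular_of_kappa hG ht hP (hPE.trans d.compl.1)
    have hEK : E = K := eq_of_hall d.hall d.le d.compl.1 fun v hv hd => by
      have := Fact.mk hv
      exact mem_kappa_of_tau3 hG hM d.compl h3 hP hPE hne hd
    obtain ⟨L, c⟩ := exists_cfg hG hM d.compl h3 hP hPE hne
    obtain ⟨u, V, -, -, hVE, hmove⟩ := c.exists_mover hG
    have hcomm : IsMulCommutative E := by
      rw [hEK]
      exact IsCyclic.isMulCommutative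
    exact hmove (hVE.trans ((le_centralizer_iff_isMulCommutative.mpr hcomm).trans (centralizer_le hPE)))
  · have := Fact.mk ht.1
    by_contra hκ
    -- `t` divides `|U|`, which lies in `M'`
    obtain ⟨U', hU'E, -, hU', -, -⟩ := d.exists_U hG
    have hd : t ∣ Nat.card U' := by
      by_contra hnd
      refine hU'.2.2 t ht.1 ⟨ht.1, hκ, ht.2.1⟩ ?_
      have h2 : t ∣ Nat.card U' * U'.relIndex M := by
        rw [← relIndex_bot_left U', relIndex_mul_relIndex ⊥ U' M bot_le hU'.1, relIndex_bot_left]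
        exact ht.2.2.1
      exact (ht.1.dvd_mul.mp h2).resolve_left hnd
    by_cases hKE : K = E
    · exact hκ (d.hall.2.1 t ht.1 (hKE ▸ hd.trans (card_dvd_of_le hU'E)))
    obtain ⟨U₁, hU₁E, hU₁c, -, hU₁, hEU₁, hfp⟩ := d.exists_U_ne hG hKE
    have hd₁ : t ∣ Nat.card U₁ := by
      by_contra hnd
      refine hU₁.2.2 t ht.1 ⟨ht.1, hκ, ht.2.1⟩ ?_
      have h2 : t ∣ Nat.card U₁ * U₁.relIndex M := by
        rw [← relIndex_bot_left U₁, relIndex_mul_relIndex ⊥ U₁ M bot_le hU₁.1, relIndex_bot_left]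
        exact ht.2.2.1
      exact (ht.1.dvd_mul.mp h2).resolve_left hnd
    -- `U₁ = [U₁, K]`
    obtain ⟨s, X, hs, hX, hXK⟩ := d.tau1_line
    obtain ⟨⟨k, hk⟩, hk1⟩ := K.ne_bot_iff_exists_ne_one.mp d.ne_bot
    have hUM : U₁ ≤ ⁅M, M⁆ := by
      intro u hu
      let f : U₁ → U₁ := fun v => ⟨k * (v : G) * k⁻¹ * (v : G)⁻¹,
        mul_mem ((mem_normalizer_iff.mp (hEU₁ (d.le hk)) v).mp v.2) (inv_mem v.2)⟩
      have hf : Function.Injective f := by
        intro v w e
        have e' : k * (v : G) * k⁻¹ * (v : G)⁻¹ = k * (w : G) * k⁻¹ * (w : G)⁻¹ := congrArg Subtype.val e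
        have hc : (v : G)⁻¹ * (w : G) ∈ U₁ ⊓ centralizer ({k} : Set G) := by
          refine mem_inf.mpr ⟨mul_mem (inv_mem v.2) w.2, mem_centralizer_singleton_iff.mpr ?_⟩
          have hcom : (w : G) * (v : G)⁻¹ = (v : G)⁻¹ * (w : G) :=
            congrArg Subtype.val (hU₁c.is_comm.comm w v⁻¹)
          have h1 : k * ((v : G)⁻¹ * w) * k⁻¹ = (v : G)⁻¹ * w := by
            calc k * ((v : G)⁻¹ * w) * k⁻¹ = (k * v * k⁻¹)⁻¹ * (k * w * k⁻¹) := by group
              _ = (k * v * k⁻¹ * (v : G)⁻¹ * v)⁻¹ * (k * w * k⁻¹ * (w : G)⁻¹ * w) := by group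
              _ = _ := by rw [e']; group
          exact (mul_inv_eq_iff_eq_mul.mp h1).symm
        rw [hfp k hk (fun e => hk1 (Subtype.ext e)), mem_bot, inv_mul_eq_one] at hc
        exact Subtype.ext hc
      obtain ⟨v, hv⟩ := (Finite.injective_iff_surjective.mp hf) ⟨u, hu⟩
      have h2 : k * (v : G) * k⁻¹ * (v : G)⁻¹ = u := congrArg Subtype.val hv
      rw [← h2]
      exact commutator_mem_commutator (d.hall.1 hk) (hU₁.1 v.2)
    exact ht.2.2.2.1 (hd₁.trans (card_dvd_of_le hUM))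

end CfsgLib.OddLocal.Kappa
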