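import Cfsg.Agent.Lib.OddLocal.SylowUnique
import Cfsg.Agent.Lib.OddLocal.BetaCore
import Cfsg.Agent.Lib.TwoGroups.AlphaCent
import Cfsg.Agent.S1453

/-!
Centralizers of subgroups of prime order in `M_σ`.
-/

set_option autoImplicit false

namespace CfsgLib.OddLocal.SigmaOrderP

open Subgroup
open CfsgLib.TwoGroups
open SylowUnique (Only RankTwoCentralizer)

variable {G : Type*} [Group G] [Finite G] {p : ℕ} [Fact p.Prime] {M : Subgroup G}

theorem sigmaCore_le (M : Subgroup G) : Cfsg.sigmaCore M ≤ M := map_subtype_le _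

theorem le_normalizer_sigmaCore (M : Subgroup G) : M ≤ normalizer (Cfsg.sigmaCore M : Set G) := fun m hm =>
  le_normalizer_map M.subtype
    ⟨⟨m, hm⟩, Core.le_normalizer_of_normal ⊤ (Cfsg.piCore (Cfsg.sigma M) ↥M) (mem_top _), rfl⟩

/-- `p`-subgroups of `M` with `p ∈ σ(M)` lie in `M_σ`. -/
theorem le_sigmaCore (hG : Cfsg.IsMinSimpleOddOrder G) (hM : IsCoatom M) (hp : p ∈ Cfsg.sigma M)
    {X : Subgroup G} (hX : IsPGroup p X) (hXM : X ≤ M) : X ≤ Cfsg.sigmaCore M := by
  obtain ⟨R, hR⟩ := (hX.comap_subtype (K := M)).exists_le_sylow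
  exact fun x hx => ⟨⟨x, hXM hx⟩, SigmaCore.sylow_le hG hM hp R (hR hx), rfl⟩

/-- Sylow subgroups of `M_σ` are Sylow subgroups of `G`. -/
theorem exists_sylow_map (hG : Cfsg.IsMinSimpleOddOrder G) (hM : IsCoatom M) (hp : p ∈ Cfsg.sigma M)
    (P : Sylow p ↥(Cfsg.sigmaCore M)) :
    ∃ S : Sylow p G, (S : Subgroup G) = (P : Subgroup ↥(Cfsg.sigmaCore M)).map (Cfsg.sigmaCore M).subtype := by
  obtain ⟨R, hR⟩ := ((P.2.map (Cfsg.sigmaCore M).subtype).comap_subtype (K := M)).exists_le_sylow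
  obtain ⟨S, hS⟩ := SigmaTrans.sigma_sylow hp R
  refine ⟨S, ?_⟩
  have hSD : (S : Subgroup G) ≤ Cfsg.sigmaCore M := hS.le.trans
    (map_mono (SigmaCore.sylow_le hG hM hp R))
  have hPS : (P : Subgroup ↥(Cfsg.sigmaCore M)).map (Cfsg.sigmaCore M).subtype ≤ S := by
    intro x hx
    exact hS.ge ⟨⟨x, sigmaCore_le M (map_subtype_le _ hx)⟩, hR hx, rfl⟩
  have h2 := P.3 (S.2.comap_subtype (K := Cfsg.sigmaCore M))
    (show (P : Subgroup ↥(Cfsg.sigmaCore M)) ≤ (S : Subgroup G).comap (Cfsg.sigmaCore M).subtype from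
      fun x hx => hPS (mem_map_of_mem _ hx))
  rw [← h2]
  exact (map_subgroupOf_eq_of_le hSD).symm

/-- A subgroup inherits the rank bound of a Sylow subgroup. -/
theorem prankLE_of_sylow (S : Sylow p G) (hSM : (S : Subgroup G) ≤ M)
    (h : Cfsg.PRankLE p 2 (S : Subgroup G)) : Cfsg.PRankLE p 2 M := by
  by_contra hM
  obtain ⟨B, hBM, hB, hB3⟩ := Uniqueness.exists_elementary_of_not_rank hM
  obtain ⟨R, hR⟩ := ((Signalizer.elementary_isPGroup hB).comap_subtype (K := M)).exists_le_sylow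
  obtain ⟨m, hm⟩ := MulAction.exists_smul_eq M (S.subtype hSM) R
  set B' := B.map (MulAut.conj (m : G)⁻¹).toMonoidHom
  have hB'S : B' ≤ (S : Subgroup G) := by
    intro x hx
    obtain ⟨b, hb, rfl⟩ := hx
    have h1 : (⟨b, hBM hb⟩ : M) ∈ (R : Subgroup M) := hR hb
    rw [← hm, Transfer.mem_sylow_smul, Sylow.coe_subtype] at h1
    simpa [mem_subgroupOf, mul_assoc] using h1
  have hB'e : Cfsg.IsElementaryAbelian p B' := by
    refine ⟨by have := hB.1; exact map_isMulCommutative B _, ?_⟩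
    rintro _ ⟨b, hb, rfl⟩
    rw [← map_pow, hB.2 b hb, map_one]
  have h1 := h (B'.subgroupOf S) ⟨⟨fun a b => Subtype.ext (Subtype.ext
      (congrArg Subtype.val (hB'e.1.is_comm.comm ⟨_, a.2⟩ ⟨_, b.2⟩) :))⟩⟩
    fun b hb => Subtype.ext (hB'e.2 _ hb)
  rw [Nat.card_congr (subgroupOfEquivOfLe hB'S).toEquiv,
    card_map_of_injective (MulAut.conj (m : G)⁻¹).injective] at h1
  have h2 := Nat.pow_lt_pow_right (Fact.out : p.Prime).one_lt (show 2 < 3 by norm_num)
  have h3 : p ^ 3 ≤ Nat.card B := hB3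
  omega

/-- An element of order `p` of a Sylow subgroup `S` centralizes a uniqueness subgroup of `S`. -/
theorem exists_unique_sub (h4 : RankTwoCentralizer G) (hG : Cfsg.IsMinSimpleOddOrder G) (S : Sylow p G)
    {x : G} (hxS : x ∈ (S : Subgroup G)) (hx : orderOf x = p)
    (h : (¬ Cfsg.PRankLE p 2 (S : Subgroup G) ∧ Cfsg.IsIdealPrime p G) ∨
      x ∈ ⁅(S : Subgroup G), (S : Subgroup G)⁆) :
    ∃ U : Subgroup G, U ≤ (S : Subgroup G) ∧ U ≤ centralizer ({x} : Set G) ∧ Cfsg.InUniqueMaximal U := by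
  have hp := (Fact.out : p.Prime)
  have hx1 : x ≠ 1 := fun e => hp.ne_one (by rw [← hx, e, orderOf_one])
  have hSt : (S : Subgroup G) ≠ ⊤ := Uniqueness.ne_top_of_pGroup hG S.2
  by_cases hr : Cfsg.PRankLE p 2 (S : Subgroup G)
  · have hxd := h.resolve_left fun h' => h'.1 hr
    have hna : ¬ IsMulCommutative (S : Subgroup G) := by
      intro hc
      have hb : ⁅(S : Subgroup G), (S : Subgroup G)⁆ = ⊥ := by
        refine commutator_eq_bot_iff_le_centralizer.mpr ?_
        exact fun a ha => mem_centralizer_iff.mpr fun b hb =>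
        congrArg Subtype.val (hc.is_comm.comm ⟨b, hb⟩ ⟨a, ha⟩)
      exact hx1 (mem_bot.mp (hb ▸ hxd))
    obtain ⟨P₁, Z, D⟩ := SylowUnique.exists_data hG S hr hna
    refine ⟨S, le_rfl, fun s hs => mem_centralizer_singleton_iff.mpr ?_,
      SylowUnique.inUniqueMaximal h4 hG S hna⟩
    exact (mem_centralizer_iff.mp (D.zcent hs) x (D.derived hxd)).symm
  · obtain ⟨E₀, hE₀S, hE₀, hE₀3⟩ := Uniqueness.exists_elementary_of_not_rank hr
    have hSu : Cfsg.InUniqueMaximal (S : Subgroup G) :=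
      Uniqueness.inUniqueMaximal_mono (SCNUnique.inUniqueMaximal_elementary hG hE₀ hE₀3) hSt hE₀S
    by_cases hxc : (S : Subgroup G) ≤ centralizer ({x} : Set G)
    · exact ⟨S, le_rfl, hxc, hSu⟩
    have hne : Nontrivial (S : Subgroup G) :=
      ⟨⟨⟨x, hxS⟩, 1, fun e => hx1 (congrArg Subtype.val e)⟩⟩
    have := S.2.center_nontrivial
    obtain ⟨z, hz⟩ := exists_prime_orderOf_dvd_card' (G := center ↥(S : Subgroup G)) p (by
      obtain ⟨k, hk⟩ := IsPGroup.iff_card.mp (S.2.to_subgroup (center ↥(S : Subgroup G)))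
      have hk0 : k ≠ 0 := by
        rintro rfl
        rw [pow_zero] at hk
        exact (Finite.one_lt_card (α := center ↥(S : Subgroup G))).ne' hk
      exact (dvd_pow_self p hk0).trans hk.symm.dvd)
    set z' : G := ((z : (S : Subgroup G)) : G) with hz'
    have hz'S : z' ∈ (S : Subgroup G) := (z : (S : Subgroup G)).2
    have hz'o : orderOf z' = p := by
      rw [hz', Subgroup.orderOf_coe, Subgroup.orderOf_coe, hz]
    have hcomm : ∀ s ∈ (S : Subgroup G), s * z' = z' * s := fun s hs =>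
      congrArg Subtype.val (mem_center_iff.mp z.2 ⟨s, hs⟩)
    set E := zpowers z' ⊔ zpowers x with hE
    have hW : Cfsg.IsElementaryAbelian p (zpowers z') := by
      refine ⟨inferInstance, ?_⟩
      rintro _ ⟨i, rfl⟩
      show (z' ^ i) ^ p = 1
      rw [← zpow_natCast, ← zpow_mul, mul_comm, zpow_mul, zpow_natCast, ← hz'o, pow_orderOf_eq_one, one_zpow]
    have hxz : x ∈ centralizer ((zpowers z' : Subgroup G) : Set G) := by
      rw [← SylowUnique.centralizer_singleton_eq]
      exact mem_centralizer_singleton_iff.mpr (hcomm x hxS)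
    have hEe : Cfsg.IsElementaryAbelian p E :=
      TwoColours.elementary_sup_zpowers hW hxz (by rw [← hx, pow_orderOf_eq_one])
    have hES : E ≤ (S : Subgroup G) := sup_le (zpowers_le.mpr hz'S) (zpowers_le.mpr hxS)
    have hxE : x ∈ E := mem_sup_right (mem_zpowers x)
    have hE2 : Nat.card E = p ^ 2 := by
      have h1 : Nat.card E ∣ p ^ 2 := by
        have h1 := Core.card_sup_dvd (zpowers x) (zpowers z')
          (zpowers_le.mpr (centralizer_le_normalizer _ hxz))
        rw [sup_comm] at h1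
        refine h1.trans ?_
        rw [Nat.card_zpowers, Nat.card_zpowers, hz'o, hx, sq]
      have hlt : p < Nat.card E := by
        conv_lhs => rw [← hz'o, ← Nat.card_zpowers]
        refine Transfer.card_lt_of_lt (lt_of_le_of_ne le_sup_left fun e => hxc fun s hs => ?_)
        obtain ⟨i, hi⟩ := (e.ge hxE : x ∈ zpowers z')
        refine mem_centralizer_singleton_iff.mpr ?_
        rw [← hi]
        exact ((show Commute s z' from hcomm s hs).zpow_right i).eq
      obtain ⟨j, hj, hjk⟩ := (Nat.dvd_prime_pow hp).mp h1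
      rw [hjk] at hlt ⊢
      have : 1 < j := (Nat.pow_lt_pow_iff_right hp.one_lt).mp (by rwa [pow_one])
      rw [show j = 2 by omega]
    suffices hB : ∃ B : Subgroup G, Cfsg.IsElementaryAbelian p B ∧ E < B by
      obtain ⟨B, hB, hlt⟩ := hB
      exact ⟨E, hES, fun e he => mem_centralizer_singleton_iff.mpr (Signalizer.elementary_comm hEe he hxE),
        AlphaCent.inUniqueMaximal_of_lt hG hEe hE2.ge hB hlt⟩
    rcases h with ⟨-, -, -, hid⟩ | hxd
    · obtain ⟨B, -, hB, hlt⟩ := hid S E hES hEe hE2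
      exact ⟨B, hB, hlt⟩
    · by_contra hno
      push Not at hno
      have hp2 : p ≠ 2 := Uniqueness.odd_prime hG
        (((hx ▸ orderOf_dvd_natCard x) : p ∣ Nat.card G))
      obtain ⟨hnT, -, -, hchar, hidx⟩ := Cfsg.Agent.S1453.result (R := ↥(S : Subgroup G)) p hp2 S.2 hr
        (E.subgroupOf S)
        ⟨⟨⟨fun a b => Subtype.ext (Subtype.ext
          (congrArg Subtype.val (hEe.1.is_comm.comm ⟨_, a.2⟩ ⟨_, b.2⟩) :))⟩⟩,
          fun b hb => Subtype.ext (hEe.2 _ hb)⟩
        (by rw [Nat.card_congr (subgroupOfEquivOfLe hES).toEquiv, hE2]) fun B hB hle => by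
          by_contra hne
          refine hno (B.map (S : Subgroup G).subtype)
            ⟨by have := hB.1; exact map_isMulCommutative B _, ?_⟩
            (lt_of_le_of_ne (fun a ha => ⟨⟨a, hES ha⟩, hle ha, rfl⟩) fun e => hne ?_)
          · rintro _ ⟨b, hb, rfl⟩
            rw [← map_pow, hB.2 b hb, map_one]
          · rw [e, subgroupOf, comap_map_eq_self_of_injective (subtype_injective _)]
      set T : Subgroup ↥(S : Subgroup G) := centralizer ((closure
        {y : ↥(S : Subgroup G) | y ∈ Subgroup.upperCentralSeries ↥(S : Subgroup G) 2 ∧ y ^ p = 1} :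
          Subgroup ↥(S : Subgroup G)) : Set ↥(S : Subgroup G))
      refine hnT ?_
      have hTn : T.Normal := by
        have := hchar
        infer_instance
      have hder : commutator ↥(S : Subgroup G) ≤ T := by
        have : IsCyclic (↥(S : Subgroup G) ⧸ T) := isCyclic_of_prime_card (p := p) (by rw [← index_eq_card]; exact hidx)
        refine commutator_le.mpr fun a _ b _ => ?_
        rw [← QuotientGroup.eq_one_iff, commutatorElement_def]
        simp only [QuotientGroup.mk_mul, QuotientGroup.mk_inv]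
        have := (IsCyclic.isMulCommutative (α := ↥(S : Subgroup G) ⧸ T)).is_comm.comm
          (a : ↥(S : Subgroup G) ⧸ T) (b : ↥(S : Subgroup G) ⧸ T)
        rw [this]
        group
      rw [← map_subtype_commutator] at hxd
      obtain ⟨x₀, hx₀, hx₀e⟩ := hxd
      have hle : E ≤ T.map (S : Subgroup G).subtype := by
        refine sup_le (zpowers_le.mpr ⟨(z : ↥(S : Subgroup G)), ?_, rfl⟩) (zpowers_le.mpr ⟨x₀, hder hx₀, hx₀e⟩)
        exact mem_centralizer_iff.mpr fun y _ => mem_center_iff.mp z.2 y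
      intro y hy
      obtain ⟨t, ht, e⟩ := hle (mem_subgroupOf.mp hy)
      rwa [← (S : Subgroup G).subtype_injective e]

/-- `P ∩ D' = P'` when the Sylow subgroup `P` of `D` has a normal complement. -/
theorem inf_derived_le {D : Type*} [Group D] [Finite D] (h : Cfsg.HasNormalPComplement p D) (P : Sylow p D)
    {x : D} (hx : x ∈ (P : Subgroup D)) (hxd : x ∈ _root_.commutator D) :
    x ∈ ⁅(P : Subgroup D), (P : Subgroup D)⁆ := by
  obtain ⟨P₀, N, hN, hc⟩ := h
  have hNp : (Nat.card N).Coprime p := by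
    rw [← hc.index_eq_card]
    exact ((Fact.out : p.Prime).coprime_iff_not_dvd.mpr P₀.not_dvd_index).symm
  have hdis : N ⊓ (P : Subgroup D) = ⊥ := by
    refine inf_eq_bot_of_coprime ?_
    obtain ⟨k, hk⟩ := IsPGroup.iff_card.mp P.2
    rw [hk]
    exact hNp.pow_right k
  have hcomp : N.IsComplement' (P : Subgroup D) := by
    refine isComplement'_of_card_mul_and_disjoint ?_ (disjoint_iff.mpr hdis)
    rw [Nat.card_congr (P.equiv P₀).toEquiv, hc.card_mul]
  set π := QuotientGroup.mk' N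
  have hPtop : (P : Subgroup D).map π = ⊤ := by
    rw [eq_top_iff]
    intro y _
    obtain ⟨d, rfl⟩ := QuotientGroup.mk'_surjective N y
    obtain ⟨n, hn, q, hq, rfl⟩ := mem_sup_of_normal_left.mp (hcomp.sup_eq_top.ge (mem_top d))
    exact ⟨q, hq, (QuotientGroup.eq (s := N)).mpr (by
      rw [← mul_assoc]; exact (show N.Normal from hN).conj_mem' n hn q)⟩
  have h1 : π x ∈ ⁅(P : Subgroup D), (P : Subgroup D)⁆.map π := by
    rw [map_commutator, hPtop]
    have := mem_map_of_mem π hxd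
    rw [_root_.commutator_def, map_commutator, map_top_of_surjective π (QuotientGroup.mk'_surjective N)] at this
    exact this
  obtain ⟨y, hy, e⟩ := h1
  have hyP : y ∈ (P : Subgroup D) := commutator_le_self (P : Subgroup D) hy
  have h2 : y⁻¹ * x ∈ N ⊓ (P : Subgroup D) :=
    mem_inf.mpr ⟨(QuotientGroup.eq (s := N)).mp e, (P : Subgroup D).mul_mem ((P : Subgroup D).inv_mem hyP) hx⟩
  rw [hdis, mem_bot, inv_mul_eq_one] at h2
  exact h2 ▸ hy

/-- S1423. -/
theorem centralizer_only (h4 : RankTwoCentralizer G) (hG : Cfsg.IsMinSimpleOddOrder G) (hM : IsCoatom M)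
    (hp : p ∈ Cfsg.sigma M) {X : Subgroup G} (hXM : X ≤ M) (hX : Nat.card X = p)
    (P : Sylow p ↥(Cfsg.sigmaCore M))
    (h : p ∈ Cfsg.beta M ∨ X ≤ ⁅Cfsg.sigmaCore M, Cfsg.sigmaCore M⁆) :
    Only M (centralizer (X : Set G)) ∧
      Cfsg.InUniqueMaximal ((P : Subgroup ↥(Cfsg.sigmaCore M)).map (Cfsg.sigmaCore M).subtype) ∧
      (P : Subgroup ↥(Cfsg.sigmaCore M)).map (Cfsg.sigmaCore M).subtype ≤ M := by
  have hpp := (Fact.out : p.Prime)
  obtain ⟨S, hS⟩ := exists_sylow_map hG hM hp P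
  have hPD : (S : Subgroup G) ≤ (Cfsg.sigmaCore M) := hS.le.trans (map_subtype_le _)
  have hPM := hPD.trans (sigmaCore_le M)
  obtain ⟨⟨x, hxX⟩, hx1⟩ := X.ne_bot_iff_exists_ne_one.mp (fun e => by
    rw [e, card_bot] at hX; exact hpp.ne_one hX.symm)
  have hxo : orderOf x = p := by
    rcases (Nat.dvd_prime hpp).mp (hX ▸ X.orderOf_dvd_natCard hxX) with h | h
    · exact absurd (Subtype.ext (orderOf_eq_one_iff.mp h)) hx1
    · exact h
  have hXz : zpowers x = X := eq_of_le_of_card_ge (zpowers_le.mpr hxX) (by rw [hX, Nat.card_zpowers, hxo])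
  have hXD : X ≤ (Cfsg.sigmaCore M) := le_sigmaCore hG hM hp (IsPGroup.of_card (n := 1) (by rw [hX, pow_one])) hXM
  -- move `x` into `P`
  obtain ⟨R, hR⟩ := ((IsPGroup.of_card (n := 1) (by rw [hX, pow_one]) : IsPGroup p X).comap_subtype
    (K := (Cfsg.sigmaCore M))).exists_le_sylow
  obtain ⟨k, hk⟩ := MulAction.exists_smul_eq (Cfsg.sigmaCore M) P R
  set y : (Cfsg.sigmaCore M) := k⁻¹ * ⟨x, hXD hxX⟩ * k with hy
  have hyP : y ∈ (P : Subgroup (Cfsg.sigmaCore M)) := by
    have h1 : (⟨x, hXD hxX⟩ : (Cfsg.sigmaCore M)) ∈ (R : Subgroup (Cfsg.sigmaCore M)) := hR hxX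
    rwa [← hk, Transfer.mem_sylow_smul] at h1
  have hyo : orderOf (y : G) = p := by
    rw [show (y : G) = MulAut.conj ((k : G)⁻¹) x by simp [hy, mul_assoc]]
    rw [MulEquiv.orderOf_eq, hxo]
  have hyS : (y : G) ∈ (S : Subgroup G) := hS.ge ⟨y, hyP, rfl⟩
  have hcase : (¬ Cfsg.PRankLE p 2 (S : Subgroup G) ∧ Cfsg.IsIdealPrime p G) ∨
      (y : G) ∈ ⁅(S : Subgroup G), (S : Subgroup G)⁆ := by
    by_cases hpβ : p ∈ Cfsg.beta M
    · exact Or.inl ⟨fun hr => hpβ.1.2 (prankLE_of_sylow S hPM hr), hpβ.2⟩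
    · right
      have hXd := h.resolve_left hpβ
      obtain ⟨-, -, -, -, hβ⟩ := BetaCore.betaCore_facts hG hM
      obtain ⟨-, hnc, -⟩ := hβ p hpp hp.2.1 hpβ
      have hxd : (⟨x, hXD hxX⟩ : (Cfsg.sigmaCore M)) ∈ _root_.commutator (Cfsg.sigmaCore M) := by
        have := hXd hxX
        rw [← map_subtype_commutator] at this
        obtain ⟨w, hw, e⟩ := this
        rwa [← (Cfsg.sigmaCore M).subtype_injective (show (Cfsg.sigmaCore M).subtype w = (Cfsg.sigmaCore M).subtype ⟨x, hXD hxX⟩ from e)]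
      have hyd : y ∈ _root_.commutator (Cfsg.sigmaCore M) := by
        have := (inferInstance : (_root_.commutator (Cfsg.sigmaCore M)).Normal).conj_mem' _ hxd k
        exact this
      have := mem_map_of_mem (Cfsg.sigmaCore M).subtype (inf_derived_le hnc P hyP hyd)
      rw [map_commutator, ← hS] at this
      exact this
  obtain ⟨U, hUS, hUc, hU⟩ := exists_unique_sub h4 hG S hyS hyo hcase
  refine ⟨?_, by rw [← hS]; exact Uniqueness.inUniqueMaximal_mono hU (Uniqueness.ne_top_of_pGroup hG S.2) hUS,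
    by rw [← hS]; exact hPM⟩
  set U' := U.map (MulAut.conj (k : G)).toMonoidHom
  have hU' : Cfsg.InUniqueMaximal U' := Uniqueness.inUniqueMaximal_map_conj hU k
  have hU'M : U' ≤ M := by
    rintro _ ⟨u, hu, rfl⟩
    exact mul_mem (mul_mem (sigmaCore_le M k.2) (hPM (hUS hu))) (inv_mem (sigmaCore_le M k.2))
  have hU'c : U' ≤ centralizer (X : Set G) := by
    rw [← hXz, ← SylowUnique.centralizer_singleton_eq]
    rintro _ ⟨u, hu, rfl⟩
    refine mem_centralizer_singleton_iff.mpr ?_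
    have h2 : u * (y : G) = (y : G) * u := mem_centralizer_singleton_iff.mp (hUc hu)
    have h3 : (y : G) = (k : G)⁻¹ * x * k := rfl
    rw [h3] at h2
    show (k : G) * u * (k : G)⁻¹ * x = x * ((k : G) * u * (k : G)⁻¹)
    calc (k : G) * u * (k : G)⁻¹ * x = k * (u * ((k : G)⁻¹ * x * k)) * (k : G)⁻¹ := by group
      _ = k * ((k : G)⁻¹ * x * k * u) * (k : G)⁻¹ := by rw [h2]
      _ = x * ((k : G) * u * (k : G)⁻¹) := by group
  have hct := Uniqueness.centralizer_ne_top hG (X := X) (fun e => by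
    rw [e, card_bot] at hX; exact hpp.ne_one hX.symm)
  exact ⟨Uniqueness.le_of_inUniqueMaximal hU' hM hU'M hct hU'c,
    fun L hL hle => hU'.unique ⟨hL, hU'c.trans hle⟩ ⟨hM, hU'M⟩⟩

end CfsgLib.OddLocal.SigmaOrderP
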