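import Cfsg.Agent.Lib.OddLocal.SigmaEmbedding
import Cfsg.Agent.Lib.OddLocal.SigmaComplement

/-!
A cyclic Sylow subgroup of a complement to `M_σ` acts on `M_σ` in a prime manner.
-/

set_option autoImplicit false

namespace CfsgLib.OddLocal.CyclicPrimeAction

open Subgroup
open CfsgLib.TwoGroups
open SigmaEmbedding (TauTwoStructure)
open SigmaOrderP (sigmaCore_le le_normalizer_sigmaCore)

variable {G : Type*} [Group G] [Finite G] {p q : ℕ} [Fact p.Prime] [Fact q.Prime] {M : Subgroup G}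

omit [Fact q.Prime] in
/-- A maximal subgroup of larger `p`-rank is not a `p'`-extension of a subgroup of `M`. -/
theorem false_of_supplement {L K : Subgroup G} (hM1 : Cfsg.PRankLE p 1 M) (hL1 : ¬ Cfsg.PRankLE p 1 L)
    (hKL : K ≤ L) (hKn : L ≤ normalizer (K : Set G)) (hsup : L ≤ (M ⊓ L) ⊔ K) (hK : ¬ p ∣ Nat.card K) :
    False := by
  obtain ⟨E, hEL, hE, hE2⟩ := Uniqueness.exists_elementary_of_not_rank hL1
  set H₀ := (M ⊓ L).subgroupOf L with hH₀
  set K' := K.subgroupOf L with hK'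
  have : K'.Normal := (normal_subgroupOf_iff_le_normalizer hKL).mpr hKn
  have htop : H₀ ⊔ K' = ⊤ := by
    rw [eq_top_iff]
    intro x _
    have h1 := hsup x.2
    rw [← map_subgroupOf_eq_of_le (inf_le_right : M ⊓ L ≤ L), ← map_subgroupOf_eq_of_le hKL,
      ← Subgroup.map_sup] at h1
    obtain ⟨w, hw, e⟩ := h1
    rwa [← L.subtype_injective e]
  have hidx : ¬ p ∣ H₀.index := by
    intro hd
    refine hK (hd.trans (((Nat.dvd_of_mul_dvd_mul_left (Nat.card_pos (α := H₀))) ?_).trans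
      (Nat.card_congr (subgroupOfEquivOfLe hKL).toEquiv).dvd))
    rw [card_mul_index, ← card_top (G := L), ← htop]
    exact Core.card_sup_dvd H₀ K' (Core.le_normalizer_of_normal H₀ K')
  obtain ⟨S₀⟩ : Nonempty (Sylow p H₀) := inferInstance
  have hd : ¬ p ∣ ((S₀ : Subgroup H₀).map H₀.subtype).index := by
    rw [index_map_subtype, (Fact.out : p.Prime).dvd_mul]
    push Not
    exact ⟨S₀.not_dvd_index, hidx⟩
  set S : Sylow p L := (S₀.2.map H₀.subtype).toSylow hd
  have hSM : ∀ s ∈ (S : Subgroup L), (s : G) ∈ M := fun s hs => by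
    obtain ⟨t, -, rfl⟩ := hs
    exact (mem_subgroupOf.mp t.2).1
  obtain ⟨R, hR⟩ := ((Signalizer.elementary_isPGroup hE).comap_subtype (K := L)).exists_le_sylow
  obtain ⟨l, hl⟩ := MulAction.exists_smul_eq L S R
  set f := (MulAut.conj (l : G)⁻¹).toMonoidHom
  have hfinj : Function.Injective f := (MulAut.conj (l : G)⁻¹).injective
  have hfM : E.map f ≤ M := by
    rintro _ ⟨e, he, rfl⟩
    have h1 : (⟨e, hEL he⟩ : L) ∈ (R : Subgroup L) := hR he
    rw [← hl, Transfer.mem_sylow_smul] at h1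
    have h2 := hSM _ h1
    simpa [f, mul_assoc] using h2
  have h1 := hM1 ((E.map f).subgroupOf M) ⟨⟨fun a b => Subtype.ext (Subtype.ext ?_)⟩⟩ (fun b hb => Subtype.ext ?_)
  · rw [Nat.card_congr (subgroupOfEquivOfLe hfM).toEquiv, card_map_of_injective hfinj, pow_one] at h1
    have h2 : p ^ 2 ≤ Nat.card E := hE2
    have h3 := lt_self_pow₀ (Fact.out : p.Prime).one_lt (show 1 < 2 by norm_num)
    omega
  · obtain ⟨a', ha', ea⟩ := mem_subgroupOf.mp a.2
    obtain ⟨b', hb', eb⟩ := mem_subgroupOf.mp b.2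
    show ((a : M) : G) * ((b : M) : G) = ((b : M) : G) * ((a : M) : G)
    rw [← ea, ← eb, ← map_mul, ← map_mul, Signalizer.elementary_comm hE ha' hb']
  · obtain ⟨b', hb', eb⟩ := mem_subgroupOf.mp hb
    show ((b : M) : G) ^ p = 1
    rw [← eb, ← map_pow, hE.2 b' hb', map_one]

omit [Fact q.Prime] in
/-- Cyclic Sylow subgroups force rank one. -/
theorem prankLE_one {S : Subgroup G} (hSM : S ≤ M) (hnd : ¬ p ∣ S.relIndex M) (hSp : IsPGroup p S)
    (hc : IsCyclic S) : Cfsg.PRankLE p 1 M := by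
  intro B hBc hBp
  set T : Sylow p M := (hSp.comap_subtype (K := M)).toSylow hnd
  obtain ⟨R, hR⟩ := (show IsPGroup p B from fun b => ⟨1, Subtype.ext (by simpa using hBp _ b.2)⟩).exists_le_sylow
  have hTc : IsCyclic (T : Subgroup M) := by
    show IsCyclic ↥(S.subgroupOf M)
    exact isCyclic_of_surjective (subgroupOfEquivOfLe hSM).symm (subgroupOfEquivOfLe hSM).symm.surjective
  have : IsCyclic (R : Subgroup M) := isCyclic_of_surjective (T.equiv R) (T.equiv R).surjective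
  have : IsCyclic B := isCyclic_of_injective (inclusion hR) (inclusion_injective _)
  obtain ⟨b, hb⟩ := IsCyclic.exists_generator (α := B)
  rw [pow_one, ← card_top, ← (eq_top_iff' _).mpr hb, Nat.card_zpowers]
  exact orderOf_le_of_pow_eq_one (Fact.out : p.Prime).pos (Subtype.ext (hBp _ b.2))

/-- The key step: a `q`-subgroup centralized by an element of order `p` is centralized by `S`. -/
theorem commutator_eq_bot (h5 : TauTwoStructure G) (hG : Cfsg.IsMinSimpleOddOrder G) (hM : IsCoatom M)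
    (hp : p ∉ Cfsg.sigma M) (hM1 : Cfsg.PRankLE p 1 M) (hq : q ∈ Cfsg.sigma M) {S X Q : Subgroup G}
    (hSp : IsPGroup p S) (hSM : S ≤ M) (hS : S ≤ centralizer (X : Set G)) (hX : Nat.card X = p) (hXM : X ≤ M)
    (hQ : IsPGroup q Q) (hQM : Q ≤ M) (hSQ : S ≤ normalizer (Q : Set G)) (hQX : Q ≤ centralizer (X : Set G)) :
    ⁅Q, S⁆ = ⊥ := by
  have hpp := (Fact.out : p.Prime)
  have hqp : q ≠ p := fun e => hp (e ▸ hq)
  have hcop := TauTwo.coprime_pGroups (Ne.symm hqp) hSp hQ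
  have hsol : Group.IsSolvable S := hG.2.2.2 S (Uniqueness.ne_top_of_pGroup hG hSp)
  by_contra hne
  set Q₁ := ⁅Q, S⁆ with hQ₁
  have hQ₁Q : Q₁ ≤ Q := Core.commutator_le_of_normalizes hSQ
  have hQ₁q : IsPGroup q Q₁ := hQ.to_le hQ₁Q
  have hQ₁M : Q₁ ≤ M := hQ₁Q.trans hQM
  have hSQ₁ : S ≤ normalizer (Q₁ : Set G) := normalizer_commutator_ge_right Q S
  have hidem : ⁅Q₁, S⁆ = Q₁ := Core.commutator_commutator_eq hSQ hcop (Or.inl hsol)
  -- a maximal subgroup over the normalizer of `Q₁` or `X` with `p` in its `σ` is excluded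
  have kill : ∀ L : Subgroup G, IsCoatom L → S ≤ L → Q₁ ≤ L → p ∈ Cfsg.sigma L → False := by
    intro L hL hSL hQL hpL
    by_cases hqβ : q ∈ Cfsg.beta L
    · obtain ⟨g, hg⟩ := SigmaEmbedding.exists_eq_conj_of_alpha hG hM hL hq hqβ.1
      exact hp (SigmaEmbedding.sigma_of_conj (hg ▸ hpL))
    · have h := TauTwo.centralizes_of_derived hG hL hqp hqβ hSp (TauTwo.le_derived_of_sigma hG hL hpL hSp hSL)
        hQ₁q hQL hSQ₁
      rw [← hidem] at hne
      exact hne (commutator_eq_bot_iff_le_centralizer.mpr (le_centralizer_iff.mp h))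
  have hX1 : X ≠ ⊥ := fun e => hpp.ne_one (by rw [← hX, e, card_bot])
  have hXp : IsPGroup p X := IsPGroup.of_card (n := 1) (by rw [hX, pow_one])
  obtain ⟨L, hL, hNL⟩ := (eq_top_or_exists_le_coatom _).resolve_left
    (TransitivityHyp.normalizer_ne_top hG hX1 (Uniqueness.ne_top_of_pGroup hG hXp))
  have hCL : centralizer (X : Set G) ≤ L := (Subgroup.centralizer_le_normalizer _).trans hNL
  have hpL : p ∉ Cfsg.sigma L := fun h => kill L hL (hS.trans hCL) ((hQ₁Q.trans hQX).trans hCL) h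
  obtain ⟨⟨hr2, hr1⟩, -, -⟩ := NonSigma.order_p hG hL hpL hX hNL
  have hτ : p ∈ Cfsg.tau2 L := ⟨hpp, hpL, hr2, hr1⟩
  -- an elementary abelian subgroup in a complement over `Q₁ S`
  have hQS : ∀ r : ℕ, r.Prime → r ∣ Nat.card ↥(S ⊔ Q₁) → r = p ∨ r = q := fun r hr hd => by
    rcases hr.dvd_mul.1 (hd.trans (Core.card_sup_dvd S Q₁ hSQ₁)) with h | h
    · obtain ⟨k, hk⟩ := IsPGroup.iff_card.mp hSp
      exact Or.inl ((Nat.prime_dvd_prime_iff_eq hr hpp).mp (hr.dvd_of_dvd_pow (hk ▸ h)))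
    · obtain ⟨k, hk⟩ := IsPGroup.iff_card.mp hQ₁q
      exact Or.inr ((Nat.prime_dvd_prime_iff_eq hr Fact.out).mp (hr.dvd_of_dvd_pow (hk ▸ h)))
  obtain ⟨A₀, hA₀L, hA₀e, hA₀2⟩ := Uniqueness.exists_elementary_of_not_rank hr1
  obtain ⟨A₁, hA₁le, hA₁c⟩ : ∃ A : Subgroup G, A ≤ A₀ ∧ Nat.card A = p ^ 2 := by
    obtain ⟨A, hA⟩ := Sylow.exists_subgroup_card_pow_prime_of_le_card (p := p) (n := 2)
      hpp (Signalizer.elementary_isPGroup hA₀e) hA₀2
    exact ⟨A.map A₀.subtype, map_subtype_le _, by rw [card_map_of_injective A₀.subtype_injective, hA]⟩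
  have hqL : q ∉ Cfsg.sigma L := by
    intro hqL
    obtain ⟨hnil, -⟩ := h5 L hL p hτ A₁ ⟨hA₁le.trans hA₀L, Signalizer.elementary_of_le hA₀e hA₁le, hA₁c⟩
    obtain ⟨R₀⟩ : Nonempty (Sylow q L) := inferInstance
    obtain ⟨R, hR⟩ := SigmaTrans.sigma_sylow hqL R₀
    have hRL : (R : Subgroup G) ≤ L := hR.le.trans (map_subtype_le _)
    obtain ⟨g, hg⟩ := SigmaEmbedding.exists_eq_conj hM hL hq R hRL
      (Or.inr (SylowUnique.le_normalizer_of_nilpotent hG hL hqL hnil R hRL))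
    refine hr1 fun B hBc hBp => ?_
    set f := (MulAut.conj g⁻¹).toMonoidHom
    set B' := (B.map L.subtype).map f
    have hB'M : B' ≤ M := by
      rintro _ ⟨x, hx, rfl⟩
      have h1 := Transfer.mem_map_conj.mp (hg.le (map_subtype_le B hx))
      simpa [f] using h1
    have h1 := hM1 (B'.subgroupOf M)
      (by
        have : IsMulCommutative B' := inferInstance
        exact ⟨⟨fun a b => Subtype.ext (Subtype.ext
          (congrArg Subtype.val (this.is_comm.comm ⟨_, a.2⟩ ⟨_, b.2⟩) :))⟩⟩)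
      (fun b hb => Subtype.ext (by
        obtain ⟨_, ⟨y, hy, rfl⟩, e⟩ := mem_subgroupOf.mp hb
        show ((b : M) : G) ^ p = 1
        rw [← e, ← map_pow, ← map_pow, hBp y hy, map_one, map_one]))
    rwa [Nat.card_congr (subgroupOfEquivOfLe hB'M).toEquiv, card_map_of_injective (MulAut.conj g⁻¹).injective,
      card_map_of_injective L.subtype_injective] at h1
  obtain ⟨E, hE, hKE⟩ := TauTwo.exists_complement_ge hG hL (sup_le (hS.trans hCL) ((hQ₁Q.trans hQX).trans hCL))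
    fun r hr hd => (hQS r hr hd).elim (fun e => e ▸ hpL) fun e => e ▸ hqL
  have hEL := hE.1
  -- an elementary abelian group of rank two in `E`
  obtain ⟨P⟩ : Nonempty (Sylow p E) := inferInstance
  have hPnd : ¬ p ∣ ((P : Subgroup E).map E.subtype).relIndex L := by
    rw [← relIndex_mul_relIndex _ E L (map_subtype_le _) hEL, hpp.dvd_mul]
    push Not
    refine ⟨by rw [relIndex, subgroupOf, comap_map_eq_self_of_injective E.subtype_injective]; exact P.not_dvd_index, ?_⟩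
    intro hd
    refine hpL (TauTwo.mem_sigma_of_dvd hpp (hd.trans ?_) hG hL)
    refine Nat.dvd_of_mul_dvd_mul_left (Nat.card_pos (α := E)) ?_
    rw [← relIndex_bot_left E, relIndex_mul_relIndex ⊥ E L bot_le hEL, relIndex_bot_left, relIndex_bot_left]
    refine (card_dvd_of_le (?_ : L ≤ E ⊔ Cfsg.sigmaCore L)).trans
      (Core.card_sup_dvd E (Cfsg.sigmaCore L) (hEL.trans (le_normalizer_sigmaCore L)))
    intro l hl
    obtain ⟨a, ha, b, hb, rfl⟩ := hE.2.2.2 l hl
    exact mul_mem (mem_sup_left ha) (mem_sup_right hb)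
  have hPnc : ¬ IsCyclic ↥((P : Subgroup E).map E.subtype) := fun hc =>
    hr1 (prankLE_one ((map_subtype_le _).trans hEL) hPnd (P.2.map _) hc)
  have hp2 : p ≠ 2 := Uniqueness.odd_prime hG (hX ▸ X.card_subgroup_dvd_card)
  obtain ⟨A, hAP, hA, hA2⟩ := SigmaEmbedding.exists_elementary_of_not_cyclic hp2 (P.2.map _) hPnc
  have hAE : A ≤ E := hAP.trans (map_subtype_le _)
  obtain ⟨-, hnorm⟩ := h5 L hL p hτ A ⟨hAE.trans hEL, hA, hA2⟩
  have hEA : E ≤ normalizer (A : Set G) := by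
    have h1 : E ⊓ (Cfsg.sigmaCore L ⊔ A) = A := by
      refine le_antisymm ?_ (le_inf hAE le_sup_right)
      rintro e ⟨he, he'⟩
      obtain ⟨d, hd, a, ha, rfl⟩ := (Core.mem_sup_iff_mul'
        ((hAE.trans hEL).trans (le_normalizer_sigmaCore L))).mp ((sup_comm _ A).le he')
      have hd1 : d ∈ E ⊓ Cfsg.sigmaCore L := ⟨by simpa using E.mul_mem he (E.inv_mem (hAE ha)), hd⟩
      rw [hE.2.2.1, mem_bot] at hd1
      rw [hd1, one_mul]
      exact ha
    have h2 := (le_inf le_normalizer (hEL.trans hnorm)).trans inf_normalizer_le_normalizer_inf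
    rwa [h1] at h2
  -- `A` centralizes `Q₁`
  have hQ₁E : Q₁ ≤ E := le_sup_right.trans hKE
  have hQ₁d : Q₁ ≤ ⁅E, E⁆ := by
    rw [← hidem]
    exact commutator_mono hQ₁E (le_sup_left.trans hKE)
  have hAQ₁ : A ≤ centralizer (Q₁ : Set G) := by
    set W := (Cfsg.pCore q ↥⁅E, E⁆).map (⁅E, E⁆).subtype
    have hnil := SigmaComplement.isNilpotent_derived hG hL hE
    have hEW : E ≤ normalizer (W : Set G) := fun g hg =>
      PLengthEndgame.normalizer_le_char ⁅E, E⁆ (Cfsg.pCore q ↥⁅E, E⁆) (normalizer_commutator_ge_left E E hg)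
    have hQW : Q₁ ≤ W := by
      intro d hd
      obtain ⟨k, hk⟩ := IsPGroup.iff_card.mp hQ₁q
      obtain ⟨j, -, hj⟩ := (Nat.dvd_prime_pow Fact.out).mp
        (hk ▸ orderOf_dvd_natCard Q₁ hd : orderOf d ∣ q ^ k)
      exact mem_map.mpr ⟨⟨d, hQ₁d hd⟩, HallGen.mem_pCore_of_mem_nilpotent_normal (k := j)
        (inferInstance : (⊤ : Subgroup ↥⁅E, E⁆).Normal)
        (Group.nilpotent_of_mulEquiv topEquiv.symm) (mem_top _) (by rw [orderOf_mk]; exact hj), rfl⟩
    have hWE : W ≤ E := (map_subtype_le _).trans (commutator_le_self E)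
    have hAW : ⁅A, W⁆ = ⊥ := by
      refine le_bot_iff.mp ((le_inf ?_ ?_).trans
        (inf_eq_bot_of_coprime (TauTwo.coprime_pGroups (Ne.symm hqp) (Signalizer.elementary_isPGroup hA)
          ((Core.isPGroup_pCore q ↥⁅E, E⁆).map (⁅E, E⁆).subtype))).le)
      · exact le_normalizer_iff_commutator_le_left.mp (hWE.trans hEA)
      · exact le_normalizer_iff_commutator_le_right.mp (hAE.trans hEW)
    exact (commutator_eq_bot_iff_le_centralizer.mp hAW).trans (Subgroup.centralizer_le hQW)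
  have hAM : ¬ A ≤ M := fun h => by
    have h1 := hM1 (A.subgroupOf M) ⟨⟨fun a b => Subtype.ext (Subtype.ext
        (congrArg Subtype.val (hA.1.is_comm.comm ⟨_, a.2⟩ ⟨_, b.2⟩) :))⟩⟩
      fun b hb => Subtype.ext (hA.2 _ hb)
    rw [Nat.card_congr (subgroupOfEquivOfLe h).toEquiv, hA2, pow_one] at h1
    exact absurd h1 (not_le.mpr (lt_self_pow₀ hpp.one_lt (by norm_num)))
  obtain ⟨L₂, hL₂, hN₂⟩ := (eq_top_or_exists_le_coatom _).resolve_left
    (TransitivityHyp.normalizer_ne_top hG hne (Uniqueness.ne_top_of_pGroup hG hQ₁q))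
  have hAL₂ : A ≤ L₂ := (hAQ₁.trans (Subgroup.centralizer_le_normalizer _)).trans hN₂
  have hne₂ : L₂ ≠ M := fun e => hAM (e ▸ hAL₂)
  have hpL₂ : p ∉ Cfsg.sigma L₂ := fun h =>
    kill L₂ hL₂ (hSQ₁.trans hN₂) (le_normalizer.trans hN₂) h
  obtain ⟨K, hK, hKn, hsup, hKpi⟩ := SigmaEmbedding.exists_supplement h5 hG hM hq hQ₁q hne hQ₁M hL₂ hne₂ hN₂
  refine false_of_supplement hM1 (fun h => ?_) hK hKn hsup fun hd => hpL₂ (hKpi p hpp hd).1
  have h1 := h (A.subgroupOf L₂) ⟨⟨fun a b => Subtype.ext (Subtype.ext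
      (congrArg Subtype.val (hA.1.is_comm.comm ⟨_, a.2⟩ ⟨_, b.2⟩) :))⟩⟩
    fun b hb => Subtype.ext (hA.2 _ hb)
  rw [Nat.card_congr (subgroupOfEquivOfLe hAL₂).toEquiv, hA2, pow_one] at h1
  exact absurd h1 (not_le.mpr (lt_self_pow₀ hpp.one_lt (by norm_num)))

omit [Fact q.Prime] in
/-- S1427. -/
theorem prime_action (h5 : TauTwoStructure G) (hG : Cfsg.IsMinSimpleOddOrder G) (hM : IsCoatom M)
    {E : Subgroup G} (hE : Cfsg.IsComplIn E (Cfsg.sigmaCore M) M) (S : Sylow p E)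
    (hS1 : (S : Subgroup E) ≠ ⊥) (hSc : IsCyclic (S : Subgroup E)) :
    ∀ x ∈ (S : Subgroup E).map E.subtype, x ≠ 1 →
      Cfsg.sigmaCore M ⊓ centralizer ({x} : Set G) =
        Cfsg.sigmaCore M ⊓ centralizer (((S : Subgroup E).map E.subtype : Subgroup G) : Set G) := by
  have hpp := (Fact.out : p.Prime)
  set S' := (S : Subgroup E).map E.subtype with hS'
  have hS'p : IsPGroup p S' := S.2.map _
  have hS'M : S' ≤ M := (map_subtype_le _).trans hE.1
  have hS'c : IsCyclic S' := isCyclic_of_surjective ((S : Subgroup E).equivMapOfInjective E.subtype E.subtype_injective)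
    ((S : Subgroup E).equivMapOfInjective E.subtype E.subtype_injective).surjective
  have hdE : p ∣ Nat.card E := by
    obtain ⟨k, hk⟩ := IsPGroup.iff_card.mp S.2
    have hk0 : k ≠ 0 := by
      rintro rfl
      exact hS1 (eq_bot_of_card_eq _ (hk.trans (pow_zero p)))
    exact ((dvd_pow_self p hk0).trans hk.symm.dvd).trans (card_subgroup_dvd_card _)
  have hp : p ∉ Cfsg.sigma M := SigmaComplement.not_mem_sigma hG hM hE hdE
  have hMsup : M ≤ E ⊔ Cfsg.sigmaCore M := fun m hm => by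
    obtain ⟨a, ha, b, hb, rfl⟩ := hE.2.2.2 m hm
    exact mul_mem (mem_sup_left ha) (mem_sup_right hb)
  have hnd : ¬ p ∣ S'.relIndex M := by
    rw [← relIndex_mul_relIndex S' E M (map_subtype_le _) hE.1, hpp.dvd_mul]
    push Not
    refine ⟨by rw [relIndex, subgroupOf, comap_map_eq_self_of_injective E.subtype_injective]; exact S.not_dvd_index, ?_⟩
    intro hd
    refine hp (TauTwo.mem_sigma_of_dvd hpp (hd.trans ?_) hG hM)
    refine Nat.dvd_of_mul_dvd_mul_left (Nat.card_pos (α := E)) ?_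
    rw [← relIndex_bot_left E, relIndex_mul_relIndex ⊥ E M bot_le hE.1, relIndex_bot_left, relIndex_bot_left]
    exact (card_dvd_of_le hMsup).trans
      (Core.card_sup_dvd E (Cfsg.sigmaCore M) (hE.1.trans (le_normalizer_sigmaCore M)))
  have hM1 := prankLE_one hS'M hnd hS'p hS'c
  intro x hx hx1
  refine le_antisymm ?_ (inf_le_inf_left _ (centralizer_le (Set.singleton_subset_iff.mpr hx)))
  obtain ⟨j, hj⟩ := IsPGroup.iff_card.mp hS'p
  obtain ⟨i, -, hi⟩ := (Nat.dvd_prime_pow hpp).mp (hj ▸ orderOf_dvd_natCard S' hx)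
  have hi0 : i ≠ 0 := by
    rintro rfl
    exact hx1 (orderOf_eq_one_iff.mp (hi.trans (pow_zero p)))
  set z := x ^ p ^ (i - 1) with hz
  have hzo : orderOf z = p := by
    rw [hz, orderOf_pow' x (pow_ne_zero _ hpp.pos.ne'), hi, Nat.gcd_eq_right (pow_dvd_pow p (Nat.sub_le i 1)),
      Nat.pow_div (Nat.sub_le i 1) hpp.pos, show i - (i - 1) = 1 by omega, pow_one]
  set X := zpowers z
  have hXS : X ≤ S' := zpowers_le.mpr (pow_mem hx _)
  have hSX : S' ≤ centralizer (X : Set G) := fun s hs => mem_centralizer_iff.mpr fun t ht =>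
    congrArg Subtype.val ((IsCyclic.isMulCommutative (α := S')).is_comm.comm ⟨t, hXS ht⟩ ⟨s, hs⟩)
  set C := Cfsg.sigmaCore M ⊓ centralizer (X : Set G) with hC
  have hle : Cfsg.sigmaCore M ⊓ centralizer ({x} : Set G) ≤ C := by
    refine inf_le_inf_left _ fun c hc => mem_centralizer_iff.mpr ?_
    rintro _ ⟨n, rfl⟩
    have h1 : Commute x c := (mem_centralizer_singleton_iff.mp hc).symm
    exact ((h1.pow_left _).zpow_left n).eq
  refine le_inf inf_le_left (hle.trans ?_)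
  have hSC : S' ≤ normalizer (C : Set G) :=
    (le_inf (hS'M.trans (le_normalizer_sigmaCore M)) (hSX.trans le_normalizer)).trans
      inf_normalizer_le_normalizer_inf
  have hcop : (Nat.card S').Coprime (Nat.card C) := Nat.Coprime.coprime_dvd_right
    (card_dvd_of_le inf_le_left) (TauTwo.coprime_sigmaCore hG hM hp hS'p)
  rw [← subgroupOf_eq_top]
  refine CfsgLib.Core.eq_top_of_forall_exists_sylow_le _ fun q' hq' hqd => ?_
  have := Fact.mk hq'
  obtain ⟨P, hP⟩ := Core.exists_invariant_sylow hSC hcop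
    (Or.inl (hG.2.2.2 S' (Uniqueness.ne_top_of_pGroup hG hS'p))) q'
  refine ⟨P, fun c hc => ?_⟩
  have hqσ : q' ∈ Cfsg.sigma M := TauTwo.mem_sigma_of_dvd hq' (hqd.trans (card_dvd_of_le inf_le_left)) hG hM
  have h := commutator_eq_bot h5 hG hM hp hM1 hqσ hS'p hS'M hSX (by rw [Nat.card_zpowers, hzo]) (hXS.trans hS'M)
    (P.2.map C.subtype) ((map_subtype_le _).trans (inf_le_left.trans (sigmaCore_le M))) hP
    ((map_subtype_le _).trans inf_le_right)
  exact (commutator_eq_bot_iff_le_centralizer.mp h) ⟨c, hc, rfl⟩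

end CfsgLib.OddLocal.CyclicPrimeAction
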