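import Cfsg.Agent.Lib.OddLocal.P2Signalizer
import Cfsg.Agent.Lib.TwoGroups.SigmaExponent

/-!
# BG 14.5: the signalizer maximal subgroup
-/

namespace CfsgLib.OddLocal.Kappa

open Subgroup
open CfsgLib.TwoGroups
open PrimeActionTools FixedTauOne TauThree
open SigmaOrderP (sigmaCore_le le_normalizer_sigmaCore le_sigmaCore)
open scoped commutatorElement

variable {G : Type*} [Group G] [Finite G] {M H L E K U X A B : Subgroup G}

omit [Finite G] in
/-- Two groups acting on a cyclic group act by commuting automorphisms. -/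
theorem commutator_le_centralizer_of_cyclic (hc : IsCyclic X) (hA : A ≤ normalizer (X : Set G))
    (hB : B ≤ normalizer (X : Set G)) : ⁅A, B⁆ ≤ centralizer (X : Set G) := by
  obtain ⟨⟨x, hx⟩, hgen⟩ := isCyclic_iff_exists_zpowers_eq_top.mp hc
  have hz : ∀ y ∈ X, ∃ n : ℤ, y = x ^ n := fun y hy => by
    obtain ⟨n, hn⟩ := mem_zpowers_iff.mp (hgen.ge (mem_top (⟨y, hy⟩ : X)))
    exact ⟨n, (congrArg Subtype.val hn).symm⟩
  refine commutator_le.mpr fun a ha b hb => mem_centralizer_iff.mpr fun w hw => ?_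
  obtain ⟨i, hi⟩ := hz _ ((mem_normalizer_iff.mp (hA ha) x).mp hx)
  obtain ⟨j, hj⟩ := hz _ ((mem_normalizer_iff.mp (hB hb) x).mp hx)
  set v := (b * a)⁻¹ * w * (b * a) with hv
  have hvX : v ∈ X := by
    have := (mem_normalizer_iff.mp (inv_mem (mul_mem (hB hb) (hA ha))) w).mp hw
    simpa [hv] using this
  obtain ⟨n, hn⟩ := hz v hvX
  have h1 : a * (b * x ^ n * b⁻¹) * a⁻¹ = b * (a * x ^ n * a⁻¹) * b⁻¹ := by
    have ea : ∀ m : ℤ, a * x ^ m * a⁻¹ = x ^ (i * m) := fun m => by rw [← conj_zpow, hi, ← zpow_mul]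
    have eb : ∀ m : ℤ, b * x ^ m * b⁻¹ = x ^ (j * m) := fun m => by rw [← conj_zpow, hj, ← zpow_mul]
    rw [eb, ea, ea, eb, mul_left_comm]
  rw [← hn, hv] at h1
  rw [commutatorElement_def]
  have h2 : a * b * a⁻¹ * b⁻¹ * w * (a * b * a⁻¹ * b⁻¹)⁻¹ = w := by
    calc a * b * a⁻¹ * b⁻¹ * w * (a * b * a⁻¹ * b⁻¹)⁻¹
        = a * (b * ((b * a)⁻¹ * w * (b * a)) * b⁻¹) * a⁻¹ := by group
      _ = b * (a * ((b * a)⁻¹ * w * (b * a)) * a⁻¹) * b⁻¹ := h1
      _ = w := by group
  rw [eq_comm, ← mul_inv_eq_iff_eq_mul]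
  exact h2

/-- A Sylow subgroup of `U`, viewed in `G`. -/
theorem Signal.sylow_sub (hG : Cfsg.IsMinSimpleOddOrder G) (hM : IsCoatom M)
    (h : Cfsg.IsSigmaDecomposition M K U) (hK : K ≠ ⊥) {r : ℕ} [Fact r.Prime] (hr : r ∣ Nat.card U)
    (R : Sylow r U) :
    IsPGroup r ((R : Subgroup U).map U.subtype : Subgroup G) ∧ (R : Subgroup U).map U.subtype ≠ ⊥ ∧
      U ⊔ K ≤ normalizer (((R : Subgroup U).map U.subtype : Subgroup G) : Set G) := by
  have hUc := SigmaFactor.commutative_of_ne_bot hG hM h hK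
  have hRn : (R : Subgroup U).Normal :=
    ⟨fun n hn g => by rwa [hUc.is_comm.comm g n, mul_inv_cancel_right]⟩
  have := R.characteristic_of_normal hRn
  refine ⟨R.2.map _, fun e => ?_, (sup_le le_normalizer h.normal).trans
    (PLengthEndgame.normalizer_le_char U (R : Subgroup U))⟩
  have h0 : (R : Subgroup U) = ⊥ := (map_eq_bot_iff_of_injective _ U.subtype_injective).mp e
  have := R.not_dvd_index
  rw [h0, index_bot] at this
  exact this hr

theorem Signal.of_normalizer (hG : Cfsg.IsMinSimpleOddOrder G) (d : Data M K E)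
    (h : Cfsg.IsSigmaDecomposition M K U) (hU : U ≠ ⊥) (P : Pair M K L) {r : ℕ} [Fact r.Prime]
    (hr : r ∣ Nat.card U) (R : Sylow r U) (hH : IsCoatom H)
    (hN : normalizer (((R : Subgroup U).map U.subtype : Subgroup G) : Set G) ≤ H) : Signal M K U L H := by
  have hM := d.max
  have hp := TypeP2.card_K_prime hG hM h d.ne_bot hU
  have := Fact.mk hp
  obtain ⟨F, dL⟩ := P.data
  obtain ⟨hRp, -, hRN⟩ := Signal.sylow_sub hG hM h d.ne_bot hr R
  set R' := (R : Subgroup U).map U.subtype with hR'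
  have hle : U ⊔ K ≤ H := hRN.trans hN
  refine ⟨⟨E, d⟩, h, d.ne_bot, hU, P, hH, hp, hle, fun g e => hU ?_, fun g e => ?_⟩
  · have hKL : K ≤ L := P.K_le_core.trans (sigmaCore_le L)
    have hg : g ∈ L := SigmaIntersection.mem_of_only hG dL.max
      (TauTwo.mem_sigma_of_dvd hp (card_dvd_of_le P.K_le_core) hG dL.max) (isPGroup_of_card_eq rfl)
      d.ne_bot hKL (dL.only_fixed hG rfl P.star_star.ge).1 (e ▸ le_sup_right.trans hle)
    rw [Support.map_conj_of_mem hg] at e
    refine le_bot_iff.mp ((le_inf le_rfl ?_).trans h.compl.2.2.1.le)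
    exact ((le_inf h.compl.1 (e ▸ le_sup_left.trans hle)).trans (P.inf_eq d hG).le).trans
      (sup_le_sup_left inf_le_left K)
  · have hall := hall_of_compl hG hM h.hall h.compl
    obtain ⟨hσ, -⟩ := SigmaFactor.not_mem hG hM h Fact.out hr
    have hRU : R' ≤ U := map_subtype_le _
    have hnd : ¬ r ∣ R'.relIndex M := by
      rw [← relIndex_mul_relIndex R' U M hRU hall.1]
      intro hd
      rcases (Fact.out : r.Prime).dvd_mul.mp hd with h1 | h1
      · rw [hR', relIndex, subgroupOf, comap_map_eq_self_of_injective U.subtype_injective] at h1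
        exact R.not_dvd_index h1
      · exact hall.2.2 r Fact.out (hall.2.1 r Fact.out hr) h1
    have hcard : Nat.card H = Nat.card M := by rw [e, Transfer.card_map_conj]
    have hRH : R' ≤ H := hRU.trans (le_sup_left.trans hle)
    have hidx : R'.relIndex H = R'.relIndex M := by
      have h1 := relIndex_mul_relIndex ⊥ R' H bot_le hRH
      have h2 := relIndex_mul_relIndex ⊥ R' M bot_le (hRU.trans hall.1)
      rw [relIndex_bot_left, relIndex_bot_left] at h1 h2
      rw [hcard, ← h2] at h1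
      exact Nat.eq_of_mul_eq_mul_left Nat.card_pos h1
    have hrH := mem_sigma_of_sylow hRp hRH (hidx ▸ hnd)
      (hr.trans (card_dvd_of_le (le_sup_left.trans hle))) hN
    rw [e] at hrH
    exact hσ ((SigmaDisjoint.sigma_conj g).mp hrH)

/-- The prime of `R` lies in `σ(H)`, and `U ≤ H_σ`. -/
theorem Signal.U_le_core (S : Signal M K U L H) (hG : Cfsg.IsMinSimpleOddOrder G) {r : ℕ} [Fact r.Prime]
    (hr : r ∣ Nat.card U) (R : Sylow r U)
    (hN : normalizer (((R : Subgroup U).map U.subtype : Subgroup G) : Set G) ≤ H) :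
    U ≤ Cfsg.sigmaCore H := by
  obtain ⟨EM, d⟩ := S.data
  have hUH : U ≤ H := le_sup_left.trans S.le_H
  have hUc := SigmaFactor.commutative_of_ne_bot hG d.max S.decomp S.K_ne
  obtain ⟨hRp, hR1, hRN⟩ := Signal.sylow_sub hG d.max S.decomp S.K_ne hr R
  set R' := (R : Subgroup U).map U.subtype with hR'
  have hRU : R' ≤ U := map_subtype_le _
  have hrσ : r ∈ Cfsg.sigma H := by
    refine S.mem_sigma_of_sub hG hRp hR1 hRU (le_sup_right.trans hRN) fun h1 hσ => hσ ?_
    obtain ⟨T, hT⟩ := (hRp.comap_subtype (K := H)).exists_le_sylow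
    set T' := (T : Subgroup H).map H.subtype with hT'
    have hRT : R' ≤ T' := fun x hx => ⟨⟨x, hUH (hRU hx)⟩, hT hx, rfl⟩
    have hTc : IsCyclic T' := cyclic_of_rank hG h1 (T.2.map _) (map_subtype_le _)
    refine mem_sigma_of_sylow (T.2.map _) (map_subtype_le _) ?_ (hr.trans (card_dvd_of_le hUH))
      ((SigmaEmbedding.normalizer_le_of_cyclic hTc hRT).trans hN)
    rw [relIndex, subgroupOf, comap_map_eq_self_of_injective H.subtype_injective]
    exact T.not_dvd_index
  have hRO : R' ≤ Cfsg.sigmaCore H := le_sigmaCore hG S.max hrσ hRp (hRU.trans hUH)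
  refine SigmaEmbedding.le_sigmaCore_of_pi hG S.max hUH fun s hs hd => ?_
  have := Fact.mk hs
  obtain ⟨T⟩ : Nonempty (Sylow s U) := inferInstance
  obtain ⟨hTp, hT1, hTN⟩ := Signal.sylow_sub hG d.max S.decomp S.K_ne hd T
  set T' := (T : Subgroup U).map U.subtype with hT'
  have hTU : T' ≤ U := map_subtype_le _
  refine S.mem_sigma_of_sub hG hTp hT1 hTU (le_sup_right.trans hTN) fun h1 hσ => ?_
  obtain ⟨V, hV, hVT⟩ := exists_line hTp hT1
  have hne : Cfsg.sigmaCore H ⊓ centralizer (V : Set G) ≠ ⊥ := fun e => hR1 (le_bot_iff.mp (e ▸ le_inf hRO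
    ((hRU.trans (le_centralizer_iff_isMulCommutative.mpr hUc)).trans
      (Subgroup.centralizer_le (hVT.trans hTU)))))
  have hκ := mem_kappa hG hσ h1 hV ((hVT.trans hTU).trans hUH) hne
  rw [S.kappa_eq hG] at hκ
  exact hκ

/-- `M_σ ∩ H = 1`. -/
theorem Signal.core_inf (S : Signal M K U L H) (hG : Cfsg.IsMinSimpleOddOrder G) :
    Cfsg.sigmaCore M ⊓ H = ⊥ := by
  obtain ⟨EM, d⟩ := S.data
  have hM := d.max
  set X := Cfsg.sigmaCore M ⊓ H with hX
  have hXn : Group.IsNilpotent X := by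
    have := TypeP2.isNilpotent_sigmaCore hG hM S.decomp S.U_ne
    exact Group.nilpotent_of_mulEquiv (subgroupOfEquivOfLe (inf_le_left : X ≤ Cfsg.sigmaCore M))
  have hXc : IsCyclic X := by
    have : IsZGroup X := ⟨fun q hq T => by
      have := Fact.mk hq
      by_cases hT : (T : Subgroup X) = ⊥
      · rw [hT]; infer_instance
      have hd : q ∣ Nat.card X := by
        obtain ⟨V, hV, hVT⟩ := exists_line T.2 hT
        exact hV ▸ card_subgroup_dvd_card V
      have hdM : q ∣ Nat.card (Cfsg.sigmaCore M) := hd.trans (card_dvd_of_le inf_le_left)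
      have hqM : q ∈ Cfsg.sigma M := TauTwo.mem_sigma_of_dvd hq hdM hG hM
      have hqH : q ∉ Cfsg.sigma H := fun hh => by
        obtain ⟨g, hg⟩ := SigmaDisjoint.sigma_disjoint hG hM S.max hqM hh
        exact S.not_conj g hg
      have h1 : Cfsg.PRankLE q 1 H := by
        by_contra h1
        obtain ⟨B, hB, hBH⟩ := TauTwo.exists_isPair h1
        exact hB.not_beta hG (TauTwo.not_inUniqueMaximal hG S.max hB hBH hqH) M
          (TypeP2.mem_beta hG hM S.decomp S.K_ne S.U_ne hq hdM)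
      have hc := cyclic_of_rank hG h1 (T.2.map X.subtype) ((map_subtype_le _).trans inf_le_right)
      exact isCyclic_of_surjective ((T : Subgroup X).equivMapOfInjective X.subtype X.subtype_injective).symm
        (MulEquiv.surjective _)⟩
    infer_instance
  have hnX : U ⊔ K ≤ normalizer (X : Set G) :=
    (le_inf ((SigmaFactor.sup_le_M S.decomp).trans (le_normalizer_sigmaCore M))
      (S.le_H.trans le_normalizer)).trans inf_normalizer_le_normalizer_inf
  have hsol : Group.IsSolvable K := CfsgLib.Core.isSolvable_of_le (hG.2.2.2 M hM.1) S.decomp.hall.1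
  have hfull : ⁅U, K⁆ = U := by
    have h1 := CfsgLib.Core.commutator_sup_centralizer S.decomp.normal
      (TypeP2.coprime_U_K hG hM S.decomp).symm (Or.inl hsol)
    rwa [TypeP2.inf_centralizer_K hG hM S.decomp S.K_ne, sup_bot_eq] at h1
  have hUX : U ≤ centralizer (X : Set G) := hfull.ge.trans
    (commutator_le_centralizer_of_cyclic hXc (le_sup_left.trans hnX) (le_sup_right.trans hnX))
  exact le_bot_iff.mp ((le_inf inf_le_left (le_centralizer_iff.mp hUX)).trans
    (TypeP2.sigma_inf_centralizer_U hG hM S.decomp S.U_ne).le)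

/-- `M ∩ H = U K`. -/
theorem Signal.inf_eq (S : Signal M K U L H) (hG : Cfsg.IsMinSimpleOddOrder G) : M ⊓ H = U ⊔ K := by
  obtain ⟨EM, d⟩ := S.data
  refine le_antisymm (fun m hm => ?_) (le_inf (SigmaFactor.sup_le_M S.decomp) S.le_H)
  obtain ⟨a, ha, o, ho, rfl⟩ := (SigmaFactor.isComplIn hG d.max S.decomp).2.2.2 m hm.1
  have h1 : o ∈ Cfsg.sigmaCore M ⊓ H :=
    ⟨ho, by simpa using mul_mem (inv_mem (S.le_H ha)) hm.2⟩
  rw [S.core_inf hG, mem_bot] at h1
  rwa [h1, mul_one]

/-- `N_H(U)` is not contained in `M`. -/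
theorem Signal.normalizer_not_le (S : Signal M K U L H) (hG : Cfsg.IsMinSimpleOddOrder G)
    (hU : U ≤ Cfsg.sigmaCore H) : ¬ H ⊓ normalizer (U : Set G) ≤ M := by
  intro hN
  obtain ⟨EM, d⟩ := S.data
  have := Fact.mk S.prime
  set O := Cfsg.sigmaCore H with hO
  rcases eq_or_ne U O with he | he
  · have hHM : H ≤ M := (le_inf le_rfl (he ▸ le_normalizer_sigmaCore H)).trans hN
    refine S.not_conj 1 ?_
    rw [Support.map_conj_of_mem (one_mem _)]
    exact ((S.max.le_iff.mp hHM).resolve_left d.max.1).symm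
  have hOn : Group.IsNilpotent O := S.nilpotent hG
  obtain ⟨g, hgN, hgU⟩ := SetLike.exists_of_lt (Group.normalizerCondition_of_isNilpotent (G := O) (U.subgroupOf O)
    (lt_top_iff_ne_top.mpr fun e => he (le_antisymm hU (subgroupOf_eq_top.mp e))))
  have hgN' : (g : G) ∈ normalizer (U : Set G) := by
    have h1 := le_normalizer_map O.subtype ⟨g, hgN, rfl⟩
    rwa [map_subgroupOf_eq_of_le hU] at h1
  have hgUK : (g : G) ∈ U ⊔ K :=
    (S.inf_eq hG).le ⟨hN ⟨sigmaCore_le H g.2, hgN'⟩, sigmaCore_le H g.2⟩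
  obtain ⟨u, hu, k, hk, he'⟩ := (OddLocal.mem_sup_of_le_normalizer S.decomp.normal).mp hgUK
  have hkO : k ∈ K ⊓ O := ⟨hk, by
    rw [show k = u⁻¹ * (g : G) by rw [he']; group]
    exact O.mul_mem (O.inv_mem (hU hu)) g.2⟩
  have hKO : K ⊓ O = ⊥ := inf_eq_bot_of_coprime (S.prime.coprime_iff_not_dvd.mpr fun hd =>
    S.prime_not_sigma hG (TauTwo.mem_sigma_of_dvd S.prime hd hG S.max))
  rw [hKO, mem_bot] at hkO
  refine hgU (mem_subgroupOf.mpr ?_)
  rw [he', hkO, mul_one]
  exact hu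

/-- A complement to `H_σ` over `K` lies in `M*`. -/
theorem Signal.complement_le_star (S : Signal M K U L H) (hG : Cfsg.IsMinSimpleOddOrder G)
    (hE : Cfsg.IsComplIn E (Cfsg.sigmaCore H) H) (hKE : K ≤ E) : E ≤ L := by
  have := Fact.mk S.prime
  obtain ⟨F, dL⟩ := S.pair.data
  have hσ := S.prime_not_sigma hG
  have hKH : K ≤ H := hKE.trans hE.1
  have honly := S.only_star hG
  have hKL : K ≤ L := S.pair.K_le_core.trans (sigmaCore_le L)
  by_cases h1 : Cfsg.PRankLE (Nat.card K) 1 H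
  swap
  · obtain ⟨A, hA, hAE⟩ := TauTwo.exists_pair_complement hG S.max hE
      ⟨S.prime, hσ, not_not.mp fun h' => hσ (SigmaTrans.alpha_subset_sigma hG S.max ⟨S.prime, h'⟩), h1⟩
    obtain ⟨hEA, hmem, -⟩ := TauTwo.le_normalizer_pair hG S.max hA hσ hE hAE
    have hKA : K ≤ A := fun x hx =>
      hmem x (hKE hx) (orderOf_dvd_iff_pow_eq_one.mp (K.orderOf_dvd_natCard hx))
    have hAL : A ≤ L := by
      have := hA.1.1
      exact ((le_centralizer_iff_isMulCommutative.mpr this).trans (Subgroup.centralizer_le hKA)).trans honly.1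
    refine hEA.trans (TauTwo.normalizer_le_of_noncyclic hG dL.max
      (TauTwo.mem_sigma_of_dvd S.prime (card_dvd_of_le S.pair.K_le_core) hG dL.max) hA.isPGroup hAL fun hc => ?_)
    obtain ⟨a, ha⟩ := IsCyclic.exists_ofOrder_eq_natCard (α := A) (h := hc)
    have hd : orderOf a ∣ Nat.card K :=
      orderOf_dvd_iff_pow_eq_one.mpr (Subtype.ext (hA.1.2 (a : G) a.2))
    rw [ha, hA.2] at hd
    have h2 := Nat.le_of_dvd Nat.card_pos hd
    have := S.prime.two_le
    nlinarith
  rcases tau_of_rank_one (card_dvd_of_le hKH) hσ h1 with hτ | hτ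
  swap
  · exact (TauThree.le_normalizer_line hG S.max hE hτ rfl hKE).trans (normalizer_le_of_only hG rfl honly)
  -- `K` centralizes the derived subgroup
  set D := ⁅E, E⁆ with hD
  have hDE : D ≤ E := commutator_le_self E
  have hDH : D ≤ ⁅H, H⁆ := commutator_mono hE.1 hE.1
  have hDc : IsMulCommutative D := le_centralizer_iff_isMulCommutative.mp
    (derived_commutes hG S.max hE le_rfl le_rfl)
  have hKD : K ≤ normalizer (D : Set G) := hKE.trans (normalizer_commutator_ge_left E E)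
  have hD' : D ≤ centralizer (K : Set G) := by
    refine le_centralizer_iff.mp (CfsgLib.Core.abelian_centralizes_of_prime_order hKD
      (S.prime.coprime_iff_not_dvd.mpr fun hd => hτ.2.2.2.1 (hd.trans (card_dvd_of_le hDH))) ?_)
    intro v hv hs k hk
    have := Fact.mk hs
    set s := orderOf v with hs'
    set V := zpowers v with hV'
    have hV : Nat.card V = s := Nat.card_zpowers v
    have hVD : V ≤ D := zpowers_le.mpr hv
    have hVE : V ≤ E := hVD.trans hDE
    have hsd : s ∣ Nat.card ↥⁅H, H⁆ := hV ▸ card_dvd_of_le (hVD.trans hDH)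
    have hsσ : s ∉ Cfsg.sigma H :=
      SigmaComplement.not_mem_sigma hG S.max hE (hV ▸ card_dvd_of_le hVE)
    have hsp : s ≠ Nat.card K := fun e => hτ.2.2.2.1 (e ▸ hsd)
    suffices hVK : V ≤ centralizer (K : Set G) from mem_centralizer_iff.mp (hVK (mem_zpowers v)) k hk
    by_cases hr1 : Cfsg.PRankLE s 1 H
    · have hsτ : s ∈ Cfsg.tau3 H := ⟨hs, hsσ, hsd, hr1⟩
      have hKV : K ≤ normalizer (V : Set G) :=
        hKE.trans (TauThree.le_normalizer_line hG S.max hE hsτ hV hVE)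
      have hne : V ⊓ centralizer (K : Set G) ≠ ⊥ := fun e => by
        have hc := centralizes_core_of_fpf hG S.max hE rfl hKE hVE hKV e (S.regular hG)
        have hκ := mem_kappa hG hsσ hr1 hV (hVE.trans hE.1)
          (by rw [inf_eq_left.mpr hc]; exact TauTwo.sigmaCore_ne_bot hG S.max)
        rw [S.kappa_eq hG] at hκ
        exact hκ
      refine inf_eq_left.mp (eq_of_le_of_card_ge inf_le_left ?_)
      rcases (Nat.dvd_prime hs).mp (hV ▸ card_dvd_of_le (inf_le_left : V ⊓ centralizer (K : Set G) ≤ V)) with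
        h2 | h2
      · exact absurd (card_eq_one.mp h2) hne
      · rw [hV, h2]
    · obtain ⟨A, hA, hAE⟩ := TauTwo.exists_pair_complement hG S.max hE
        ⟨hs, hsσ, not_not.mp fun h' => hsσ (SigmaTrans.alpha_subset_sigma hG S.max ⟨hs, h'⟩), hr1⟩
      obtain ⟨-, hmem, -⟩ := TauTwo.le_normalizer_pair hG S.max hA hsσ hE hAE
      exact (zpowers_le.mpr (hmem v (hDE hv) (pow_orderOf_eq_one v))).trans
        (S.centralizes_pair hG hE hKE hA hAE hsσ hsp)
  exact (FixedTauOne.complement_le hG hE.1 hτ hKE rfl).trans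
    (sup_le (sup_le (hD'.trans honly.1) hKL) (inf_le_right.trans honly.1))

/-- `H ∩ M*` is a complement to `H_σ`, with `K` in its Fitting subgroup. -/
theorem Signal.star_compl (S : Signal M K U L H) (hG : Cfsg.IsMinSimpleOddOrder G) :
    K ≤ Cfsg.fittingOf (H ⊓ L) ∧ Cfsg.IsComplIn (H ⊓ L) (Cfsg.sigmaCore H) H := by
  have hp := Fact.mk S.prime
  have hσ := S.prime_not_sigma hG
  have hKH : K ≤ H := le_sup_right.trans S.le_H
  have hKL : K ≤ L := S.pair.K_le_core.trans (sigmaCore_le L)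
  refine ⟨?_, inf_le_left, sigmaCore_le H, ?_, ?_⟩
  · obtain ⟨Q, hQ, hKQ, -, hLQ⟩ := S.pair.exists_normal_pgroup hG rfl
    refine (le_inf hKQ (le_inf hKH hKL)).trans (FittingSigma.le_fittingOf (N := Q ⊓ (H ⊓ L)) inf_le_right ?_ ?_)
    · exact (le_inf (inf_le_right.trans hLQ) le_normalizer).trans inf_normalizer_le_normalizer_inf
    · exact (hQ.to_le inf_le_left).isNilpotent
  · have hO : L ⊓ Cfsg.sigmaCore H ≤ centralizer (K : Set G) := by
      refine S.pair.centralizes hG rfl inf_le_left ((le_inf (hKL.trans le_normalizer)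
        (hKH.trans (le_normalizer_sigmaCore H))).trans inf_normalizer_le_normalizer_inf) fun hd => hσ ?_
      exact TauTwo.mem_sigma_of_dvd S.prime (hd.trans (card_dvd_of_le inf_le_right)) hG S.max
    refine le_bot_iff.mp ((le_inf inf_le_right ?_).trans (S.regular hG).le)
    exact (le_inf (inf_le_left.trans inf_le_right) inf_le_right).trans hO
  · obtain ⟨E, hE, hKE⟩ := TauTwo.exists_complement_ge hG S.max hKH fun v hv hd => by
      rw [(Nat.prime_dvd_prime_iff_eq hv S.prime).mp hd]; exact hσ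
    intro h hh
    obtain ⟨e, he, o, ho, rfl⟩ := hE.2.2.2 h hh
    exact ⟨e, mem_inf.mpr ⟨hE.1 he, S.complement_le_star hG hE hKE he⟩, o, ho, rfl⟩

/-- BG 14.5. -/
theorem signalizer (hG : Cfsg.IsMinSimpleOddOrder G) (d : Data M K E)
    (h : Cfsg.IsSigmaDecomposition M K U) (hU : U ≠ ⊥) (P : Pair M K L) {r : ℕ} [Fact r.Prime]
    (hr : r ∣ Nat.card U) (R : Sylow r U) (hH : IsCoatom H)
    (hN : normalizer (((R : Subgroup U).map U.subtype : Subgroup G) : Set G) ≤ H) :
    Cfsg.kappa H = ∅ ∧ U ≤ Cfsg.sigmaCore H ∧ M ⊓ H = U ⊔ K ∧ ¬ H ⊓ normalizer (U : Set G) ≤ M ∧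
      K ≤ Cfsg.fittingOf (H ⊓ L) ∧ Cfsg.IsComplIn (H ⊓ L) (Cfsg.sigmaCore H) H := by
  have S := Signal.of_normalizer hG d h hU P hr R hH hN
  have hUO := S.U_le_core hG hr R hN
  exact ⟨S.kappa_eq hG, hUO, S.inf_eq hG, S.normalizer_not_le hG hUO, S.star_compl hG⟩

end CfsgLib.OddLocal.Kappa
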