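import Cfsg.Agent.Lib.OddLocal.Basic
import Cfsg.Agent.Lib.OddLocal.FittingHall

/-!
Elementary consequences of the data `Cfsg.IsTypePWith`.
-/

set_option autoImplicit false

namespace CfsgLib.OddLocal

open Subgroup

variable {G : Type*} [Group G] {M W₁ U W₂ : Subgroup G}

theorem TypeP.derived_le (hP : Cfsg.IsTypePWith M W₁ U W₂) : ⁅M, M⁆ ≤ M := hP.W₁_compl.1

theorem TypeP.coprime_W₁_derived (hP : Cfsg.IsTypePWith M W₁ U W₂) :
    (Nat.card W₁).Coprime (Nat.card ↥⁅M, M⁆) := by
  rw [← IsComplIn_relIndex_right hP.W₁_compl]; exact hP.W₁_hall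

theorem TypeP.coprime_H_U [Finite G] (hP : Cfsg.IsTypePWith M W₁ U W₂) :
    (Nat.card (Cfsg.fittingHallOf M)).Coprime (Nat.card U) := by
  rw [← IsComplIn_relIndex_left hP.U_compl]
  apply (fittingHallOf_coprime M).coprime_dvd_right
  rw [← Subgroup.relIndex_mul_relIndex _ _ _ hP.U_compl.1 (TypeP.derived_le hP)]
  exact Dvd.intro _ rfl

theorem mem_centralizer_of_mem_sup_coprime {H C : Subgroup G} (hC : C ≤ Subgroup.centralizer (H : Set G))
    {u : G} {n : ℕ} (hu : u ∈ H ⊔ C) (hn : u ^ n = 1) (hcop : (Nat.card H).Coprime n) :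
    u ∈ Subgroup.centralizer (H : Set G) := by
  obtain ⟨h, hh, c, hc, rfl⟩ :=
    (mem_sup_of_le_normalizer (hC.trans (Subgroup.centralizer_le_normalizer _))).mp hu
  refine mul_mem ?_ (hC hc)
  have hcomm : Commute h c := Subgroup.mem_centralizer_iff.mp (hC hc) h hh
  apply mem_of_pow_mem_coprime (m := Nat.card H) (n := n) ?_ ?_ hcop
  · rw [pow_card_eq_one_of_mem hh]; exact one_mem _
  · rw [hcomm.mul_pow, mul_eq_one_iff_eq_inv] at hn
    rw [hn]; exact inv_mem (pow_mem (hC hc) n)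

theorem TypeP.U_inf_fitting_le [Finite G] (hP : Cfsg.IsTypePWith M W₁ U W₂) :
    U ⊓ Cfsg.fittingOf M ≤ Subgroup.centralizer (Cfsg.fittingHallOf M : Set G) := by
  rintro u ⟨huU, huF⟩
  rw [SetLike.mem_coe, ← hP.fitting_eq] at huF
  exact mem_centralizer_of_mem_sup_coprime inf_le_right huF (pow_card_eq_one_of_mem huU)
    (TypeP.coprime_H_U hP)

theorem TypeP.U_derived_le [Finite G] (hP : Cfsg.IsTypePWith M W₁ U W₂) :
    ⁅U, U⁆ ≤ Subgroup.centralizer (Cfsg.fittingHallOf M : Set G) := by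
  refine le_trans (le_inf ?_ ?_) (TypeP.U_inf_fitting_le hP)
  · exact Subgroup.commutator_le.mpr fun a ha b hb => by
      rw [commutatorElement_def]
      exact mul_mem (mul_mem (mul_mem ha hb) (inv_mem ha)) (inv_mem hb)
  · rw [← hP.fitting_eq]
    exact (Subgroup.commutator_mono hP.U_compl.2.1 hP.U_compl.2.1).trans hP.derived_two_le

/-- The join of two commuting nilpotent subgroups is nilpotent. -/
theorem isNilpotent_sup_of_commute {H K : Subgroup G} (hH : Group.IsNilpotent H) (hK : Group.IsNilpotent K)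
    (h : K ≤ Subgroup.centralizer (H : Set G)) : Group.IsNilpotent ↥(H ⊔ K) := by
  have hc : ∀ (a : H) (b : K), Commute (H.subtype a) (K.subtype b) := fun a b =>
    Subgroup.mem_centralizer_iff.mp (h b.2) a a.2
  have hr : (MonoidHom.noncommCoprod H.subtype K.subtype hc).range = H ⊔ K := by
    simp [MonoidHom.noncommCoprod_range]
  have : Group.IsNilpotent (↥H × ↥K) := inferInstance
  have := Group.nilpotent_of_surjective _ (MonoidHom.rangeRestrict_surjective (MonoidHom.noncommCoprod H.subtype K.subtype hc))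
  rwa [hr] at this

theorem TypeP.eq_bot_of_le_centralizer [Finite G] (hP : Cfsg.IsTypePWith M W₁ U W₂)
    (hle : U ≤ Subgroup.centralizer (Cfsg.fittingHallOf M : Set G)) : U = ⊥ := by
  have hc := hP.U_compl
  have hHU : Cfsg.fittingHallOf M ⊔ U = ⁅M, M⁆ := by
    refine le_antisymm (sup_le hc.1 hc.2.1) fun m hm => ?_
    obtain ⟨a, ha, b, hb, rfl⟩ := hc.2.2.2 m hm
    exact mul_mem (le_sup_left (a := Cfsg.fittingHallOf M) ha) (le_sup_right (a := Cfsg.fittingHallOf M) hb)
  have hnil : Group.IsNilpotent ↥⁅M, M⁆ :=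
    hHU ▸ isNilpotent_sup_of_commute (fittingHallOf_nilpotent M) hP.U_nilpotent hle
  have hle' := TypeP.derived_le hP
  have hN : (⁅M, M⁆.subgroupOf M).Normal := by
    have : ⁅M, M⁆.subgroupOf M = ⁅(⊤ : Subgroup M), ⊤⁆ := by
      apply Subgroup.map_injective M.subtype_injective
      rw [Subgroup.map_subgroupOf_eq_of_le hle', Subgroup.map_commutator, ← MonoidHom.range_eq_map,
        Subgroup.range_subtype]
    rw [this]; infer_instance
  have hcop : (Nat.card (⁅M, M⁆.subgroupOf M)).Coprime (⁅M, M⁆.subgroupOf M).index := by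
    rw [Nat.card_congr (Subgroup.subgroupOfEquivOfLe hle').toEquiv]
    show (Nat.card ↥⁅M, M⁆).Coprime (⁅M, M⁆.relIndex M)
    rw [IsComplIn_relIndex_left hP.W₁_compl]
    exact (TypeP.coprime_W₁_derived hP).symm
  have hH := le_fittingHall hN (Group.nilpotent_of_mulEquiv (Subgroup.subgroupOfEquivOfLe hle').symm) hcop
  have hH' : ⁅M, M⁆ ≤ Cfsg.fittingHallOf M := by
    have := Subgroup.map_mono (f := M.subtype) hH
    rwa [Subgroup.map_subgroupOf_eq_of_le hle'] at this
  rw [eq_bot_iff, ← hc.2.2.1]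
  exact le_inf (hc.2.1.trans hH') le_rfl

end CfsgLib.OddLocal
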