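import Cfsg.Agent.Lib.OddLocal.KappaStructure

/-!
Normalizers and the complement `U` of a Hall `κ(M)`-subgroup (Bender–Glauberman, 14.2).
-/

set_option autoImplicit false
set_option linter.unusedSectionVars false

namespace CfsgLib.OddLocal.Kappa

open Subgroup
open CfsgLib.TwoGroups
open PrimeActionTools FixedTauOne TauThree
open SylowUnique (Only)
open TauTwoFacts (rankTwo structure_tau2)
open SigmaOrderP (sigmaCore_le le_normalizer_sigmaCore le_sigmaCore)
open scoped commutatorElement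

variable {G : Type*} [Group G] [Finite G] {p q r : ℕ} [Fact p.Prime] [Fact q.Prime] [Fact r.Prime]
  {M E K L H P R X Y Z : Subgroup G}

/-- An element of `M` normalizing `X ≤ E` splits along `M = E M_σ`. -/
theorem split_normalizer (hG : Cfsg.IsMinSimpleOddOrder G) (hM : IsCoatom M)
    (hE : Cfsg.IsComplIn E (Cfsg.sigmaCore M) M) (hXE : X ≤ E) {g : G} (hg : g ∈ M ⊓ normalizer (X : Set G)) :
    ∃ a ∈ E ⊓ normalizer (X : Set G), ∃ b ∈ Cfsg.sigmaCore M ⊓ centralizer (X : Set G), g = a * b := by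
  obtain ⟨a, ha, b, hb, rfl⟩ := hE.2.2.2 g hg.1
  have hbC : b ∈ centralizer (X : Set G) := by
    refine mem_centralizer_iff.mpr fun x hx => ?_
    have h1 : a * b * x * (a * b)⁻¹ ∈ X := (mem_normalizer_iff.mp hg.2 x).mp hx
    have h2 : b * x * b⁻¹ ∈ E := by
      have h3 : a⁻¹ * (a * b * x * (a * b)⁻¹) * a ∈ E := E.mul_mem (E.mul_mem (E.inv_mem ha) (hXE h1)) ha
      simpa [mul_assoc] using h3
    have h4 : b * x * b⁻¹ * x⁻¹ ∈ E ⊓ Cfsg.sigmaCore M := by
      refine ⟨E.mul_mem h2 (E.inv_mem (hXE hx)), ?_⟩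
      have h5 : x * b⁻¹ * x⁻¹ ∈ Cfsg.sigmaCore M :=
        (mem_normalizer_iff.mp (le_normalizer_sigmaCore M (hE.1 (hXE hx))) b⁻¹).mp (inv_mem hb)
      simpa [mul_assoc] using mul_mem hb h5
    rw [inf_eq_bot_of_coprime (coprime_complement hG hM hE), mem_bot, mul_inv_eq_one, mul_inv_eq_iff_eq_mul] at h4
    exact h4.symm
  refine ⟨a, ⟨ha, ?_⟩, b, ⟨hb, hbC⟩, rfl⟩
  have := (normalizer (X : Set G)).mul_mem hg.2
    ((normalizer (X : Set G)).inv_mem (Subgroup.centralizer_le_normalizer _ hbC))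
  simpa using this

theorem Data.rank_one (d : Data M K E) {t : ℕ} [Fact t.Prime] (hd : t ∣ Nat.card K) : Cfsg.PRankLE t 1 M :=
  rank_one_of_kappa (d.hall.2.1 t Fact.out hd)

theorem Data.normalizes (d : Data M K E) (hX : (Nat.card X).Prime) (hXK : X ≤ K) :
    K ≤ normalizer (X : Set G) := (d.normalizer_line X hX hXK).ge.trans inf_le_right

/-- `N_M(X) = K × K*` for a line `X` of `K`. -/
theorem Data.normalizer_eq (d : Data M K E) (hG : Cfsg.IsMinSimpleOddOrder G) (hX : (Nat.card X).Prime)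
    (hXK : X ≤ K) :
    M ⊓ normalizer (X : Set G) = K ⊔ (Cfsg.sigmaCore M ⊓ centralizer (K : Set G)) := by
  refine le_antisymm (fun g hg => ?_) (sup_le (le_inf d.hall.1 (d.normalizes hX hXK))
    (le_inf (inf_le_left.trans (sigmaCore_le M))
      ((inf_le_right.trans (Subgroup.centralizer_le hXK)).trans (Subgroup.centralizer_le_normalizer _))))
  obtain ⟨a, ha, b, hb, rfl⟩ := split_normalizer hG d.max d.compl (hXK.trans d.le) hg
  exact mul_mem (mem_sup_left ((d.normalizer_line X hX hXK).le ha)) (mem_sup_right ((d.fixed X hX hXK).le hb))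

/-- `N_M(K) = K × K*`. -/
theorem Data.normalizer_self (d : Data M K E) (hG : Cfsg.IsMinSimpleOddOrder G) :
    M ⊓ normalizer (K : Set G) = K ⊔ (Cfsg.sigmaCore M ⊓ centralizer (K : Set G)) := by
  refine le_antisymm (fun g hg => ?_) (sup_le (le_inf d.hall.1 le_normalizer)
    (le_inf (inf_le_left.trans (sigmaCore_le M)) (inf_le_right.trans (Subgroup.centralizer_le_normalizer _))))
  obtain ⟨a, ha, b, hb, rfl⟩ := split_normalizer hG d.max d.compl d.le hg
  refine mul_mem (mem_sup_left ?_) (mem_sup_right hb)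
  rcases d.alt with h | ⟨hc, -⟩
  · exact h ▸ ha.1
  obtain ⟨s, X, hs, hX, hXK⟩ := d.tau1_line
  exact (d.normalizer_line X (hX.symm ▸ hs.1) hXK).le
    ⟨ha.1, SigmaEmbedding.normalizer_le_of_cyclic hc hXK ha.2⟩

/-- The line of each prime in `K` is unique. -/
theorem Data.eq_line (d : Data M K E) (hG : Cfsg.IsMinSimpleOddOrder G) (hX : Nat.card X = p) (hXK : X ≤ K)
    (hY : Nat.card Y = p) (hYK : Y ≤ K) : X = Y := by
  have hn : X ≤ normalizer (Y : Set G) := hXK.trans (d.normalizes (hY.symm ▸ Fact.out) hYK)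
  have hp : IsPGroup p ↥(X ⊔ Y) := by
    intro g
    have h2 : orderOf g ∣ p * p := by
      refine (orderOf_dvd_natCard g).trans ?_
      have := Core.card_sup_dvd X Y hn
      rwa [hX, hY] at this
    obtain ⟨i, -, hi⟩ := (Nat.dvd_prime_pow (Fact.out : p.Prime)).mp ((pow_two p).symm ▸ h2 : orderOf g ∣ p ^ 2)
    exact ⟨i, hi ▸ pow_orderOf_eq_one g⟩
  exact eq_of_cyclic (cyclic_of_rank hG (d.rank_one (hX ▸ card_dvd_of_le hXK)) hp
    ((sup_le hXK hYK).trans d.hall.1)) hX hY le_sup_left le_sup_right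

/-- The complement `U`. -/
theorem Data.exists_U (d : Data M K E) (hG : Cfsg.IsMinSimpleOddOrder G) :
    ∃ U : Subgroup G, U ≤ E ∧ IsMulCommutative U ∧
      Cfsg.IsPiHallOf {q | q.Prime ∧ q ∉ Cfsg.kappa M ∧ q ∉ Cfsg.sigma M} U M ∧
      E ≤ normalizer (U : Set G) ∧ ∀ k ∈ K, k ≠ 1 → U ⊓ centralizer ({k} : Set G) = ⊥ := by
  set π : Set ℕ := {q | q.Prime ∧ q ∉ Cfsg.kappa M ∧ q ∉ Cfsg.sigma M} with hπ
  have hM := d.max
  have hE := d.compl
  set D := ⁅E, E⁆ with hD
  set U := (Cfsg.piCore π D).map D.subtype with hU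
  have hUD : U ≤ D := map_subtype_le _
  have hUE : U ≤ E := hUD.trans (commutator_le_self E)
  have hUπ : ∀ v : ℕ, v.Prime → v ∣ Nat.card U → v ∈ π := fun v hv hd => by
    rw [hU, card_map_of_injective D.subtype_injective] at hd
    exact Components.piCore_isPiSubgroup (G := ↥D) π v hv hd
  have hUc : IsMulCommutative U :=
    le_centralizer_iff_isMulCommutative.mp (derived_commutes hG hM hE hUD hUD)
  obtain ⟨s, X₀, hs, hX₀, hX₀K⟩ := d.tau1_line
  have := Fact.mk hs.1
  have hCK : ∀ X : Subgroup G, (Nat.card X).Prime → X ≤ K → E ⊓ centralizer (X : Set G) ≤ K := fun X hX hXK =>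
    (inf_le_inf_left _ (Subgroup.centralizer_le_normalizer _)).trans (d.normalizer_line X hX hXK).le
  have hsup : E ≤ K ⊔ D := by
    refine (complement_le hG hE.1 hs (hX₀K.trans d.le) hX₀).trans
      (sup_le (sup_le le_sup_right (hX₀K.trans le_sup_left)) ?_)
    exact (hCK X₀ (hX₀.symm ▸ hs.1) hX₀K).trans le_sup_left
  have hidx : D.relIndex E ∣ Nat.card K := by
    refine Nat.dvd_of_mul_dvd_mul_left (Nat.card_pos (α := D)) ?_
    rw [← relIndex_bot_left D, relIndex_mul_relIndex ⊥ D E bot_le (commutator_le_self E), relIndex_bot_left,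
      relIndex_bot_left, mul_comm]
    exact (card_dvd_of_le hsup).trans (Core.card_sup_dvd K D (d.le.trans (normalizer_commutator_ge_left E E)))
  have hhall : ∀ v : ℕ, v.Prime → v ∈ π → ¬ v ∣ U.relIndex E := by
    intro v hv hvπ hd
    have := Fact.mk hv
    rw [← relIndex_mul_relIndex U D E hUD (commutator_le_self E), hv.dvd_mul] at hd
    rcases hd with hd | hd
    swap
    · exact hvπ.2.1 (d.hall.2.1 v hv (hd.trans hidx))
    obtain ⟨T⟩ : Nonempty (Sylow v D) := inferInstance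
    have hTU : (T : Subgroup D) ≤ Cfsg.piCore π D := by
      refine Components.subnormal_pi_le_piCore ?_ fun w hw hwd => ?_
      · have : Group.IsNilpotent D := SigmaComplement.isNilpotent_derived hG hM hE
        exact CfsgLib.Core.isSubnormal_of_isNilpotent _
      · obtain ⟨k, hk⟩ := IsPGroup.iff_card.mp T.2
        rw [hk] at hwd
        rw [(Nat.prime_dvd_prime_iff_eq hw hv).mp (hw.dvd_of_dvd_pow hwd)]
        exact hvπ
    rw [hU, relIndex, subgroupOf, comap_map_eq_self_of_injective D.subtype_injective] at hd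
    exact T.not_dvd_index (hd.trans (index_dvd_of_le hTU))
  refine ⟨U, hUE, hUc, ⟨hUE.trans hE.1, hUπ, fun v hv hvπ hd => ?_⟩, ?_, fun k hk hk1 => ?_⟩
  · rw [← relIndex_mul_relIndex U E M hUE hE.1, hv.dvd_mul] at hd
    rcases hd with hd | hd
    · exact hhall v hv hvπ hd
    · have := Fact.mk hv
      refine hvπ.2.2 (TauTwo.mem_sigma_of_dvd hv (hd.trans ?_) hG hM)
      refine Nat.dvd_of_mul_dvd_mul_left (Nat.card_pos (α := E)) ?_
      rw [← relIndex_bot_left E, relIndex_mul_relIndex ⊥ E M bot_le hE.1, relIndex_bot_left, relIndex_bot_left]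
      exact (card_dvd_of_le (fun m hm => by
        obtain ⟨a, ha, b, hb, rfl⟩ := hE.2.2.2 m hm
        exact mul_mem (mem_sup_left ha) (mem_sup_right hb) : M ≤ E ⊔ Cfsg.sigmaCore M)).trans
        (Core.card_sup_dvd E (Cfsg.sigmaCore M) (hE.1.trans (le_normalizer_sigmaCore M)))
  · intro g hg
    have : (Cfsg.piCore π D).Characteristic := SigmaComplement.piCore_characteristic _
    exact PLengthEndgame.normalizer_le_char D _ (normalizer_commutator_ge_left E E hg)
  · obtain ⟨v, Z, hv, hZ, hZk⟩ := exists_prime_sub (fun e => hk1 (zpowers_eq_bot.mp e) : zpowers k ≠ ⊥)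
    have hZK : Z ≤ K := hZk.trans (zpowers_le.mpr hk)
    rw [SylowUnique.centralizer_singleton_eq]
    refine le_bot_iff.mp ((inf_le_inf_left U (Subgroup.centralizer_le hZk)).trans ?_)
    have hle : U ⊓ centralizer (Z : Set G) ≤ U ⊓ K :=
      le_inf inf_le_left ((inf_le_inf_right _ hUE).trans (hCK Z (hZ.symm ▸ hv) hZK))
    refine hle.trans (inf_eq_bot_of_coprime (Nat.coprime_of_dvd fun w hw h1 h2 => ?_)).le
    exact (hUπ w hw h1).2.1 (d.hall.2.1 w hw h2)

/-- BG 14.2 (a)–(c). -/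
theorem Data.main (d : Data M K E) (hG : Cfsg.IsMinSimpleOddOrder G) {k : G} (hk : k ∈ K) (hk1 : k ≠ 1) :
    Cfsg.sigmaCore M ⊓ centralizer ({k} : Set G) = Cfsg.sigmaCore M ⊓ centralizer (K : Set G) := by
  refine le_antisymm ?_ (inf_le_inf_left _ (Subgroup.centralizer_le (Set.singleton_subset_iff.mpr hk)))
  obtain ⟨v, Z, hv, hZ, hZk⟩ := exists_prime_sub (fun e => hk1 (zpowers_eq_bot.mp e) : zpowers k ≠ ⊥)
  rw [SylowUnique.centralizer_singleton_eq]
  exact (inf_le_inf_left _ (Subgroup.centralizer_le hZk)).trans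
    (d.fixed Z (hZ.symm ▸ hv) (hZk.trans (zpowers_le.mpr hk))).le

/-- A line of `K*` has its centralizer only in `M`. -/
theorem Data.only_fixed (d : Data M K E) (hG : Cfsg.IsMinSimpleOddOrder G) (hY : Nat.card Y = q)
    (hYle : Y ≤ Cfsg.sigmaCore M ⊓ centralizer (K : Set G)) : Only M (centralizer (Y : Set G)) := by
  obtain ⟨s, X, hs, hX, hXK⟩ := d.tau1_line
  have := Fact.mk hs.1
  exact only_of_fixed hG d.max hs hX (hXK.trans d.hall.1) hY
    (hYle.trans (inf_le_inf_left _ (Subgroup.centralizer_le hXK)))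

/-- Lines of `K` lie in `σ(M*)` for `M*` over their normalizer. -/
theorem Data.le_core (d : Data M K E) (hG : Cfsg.IsMinSimpleOddOrder G) (hX : Nat.card X = p) (hXK : X ≤ K)
    (hH : IsCoatom H) (hNX : normalizer (X : Set G) ≤ H) : X ≤ Cfsg.sigmaCore H := by
  have hd : p ∣ Nat.card K := hX ▸ card_dvd_of_le hXK
  have := KappaSigma.sigma_of_normalizer hG d.max (d.hall.2.1 p Fact.out hd).2.2.1 (d.rank_one hd) hX
    (hXK.trans d.hall.1) (d.nonregular X (hX.symm ▸ Fact.out) hXK) hH hNX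
  exact le_sigmaCore hG hH this (isPGroup_of_card_eq hX) (le_normalizer.trans hNX)

end CfsgLib.OddLocal.Kappa
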