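import Cfsg.Agent.Lib.OddLocal.KappaTypes
import Cfsg.Agent.S1378
import Cfsg.Agent.S1432

/-!
# Every element lies in some `M̃` or in a conjugate of `Ẑ` (BG 14.5, 14.7)
-/

namespace CfsgLib.OddLocal.Kappa

open Subgroup
open CfsgLib.TwoGroups
open FixedTauOne
open SigmaOrderP (sigmaCore_le le_normalizer_sigmaCore le_sigmaCore)

variable {G : Type*} [Group G] [Finite G] {M N H E F K L : Subgroup G} {a b g x : G}

/-- `g` is covered by some `Ñ`. -/
def Covered (g : G) : Prop :=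
  ∃ N : Subgroup G, IsCoatom N ∧ g ∈ Cfsg.tildeOf N ((Cfsg.sigmaCore N : Set G) \ {1})

/-- `g = a b` is of `κ`-type in `M`. -/
def KappaType (M : Subgroup G) (g : G) : Prop :=
  ∃ a ∈ Cfsg.sigmaCore M, a ≠ 1 ∧ ∃ b ∈ M ⊓ centralizer ({a} : Set G), b ≠ 1 ∧
    (∀ t : ℕ, t.Prime → t ∣ orderOf b → t ∈ Cfsg.kappa M) ∧ g = a * b

omit [Finite G] in
theorem Covered.conj (h : Covered g) (c : G) : Covered (c * g * c⁻¹) := by
  obtain ⟨N, hN, x, hx, r, hr, y, rfl⟩ := h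
  exact ⟨N, hN, x, hx, r, hr, c * y, by group⟩

/-- Splitting an element into its `π`-part and `π'`-part. -/
theorem exists_part_split (π : Set ℕ) (g : G) :
    ∃ a ∈ zpowers g, ∃ b ∈ zpowers g, g = a * b ∧ (∀ t : ℕ, t.Prime → t ∣ orderOf a → t ∈ π) ∧
      ∀ t : ℕ, t.Prime → t ∣ orderOf b → t ∉ π := by
  set C := zpowers g with hC
  have : Group.IsSolvable C := Group.isSolvable_of_comm fun u v => Subtype.ext (by
    obtain ⟨i, hi⟩ := mem_zpowers_iff.mp u.2
    obtain ⟨j, hj⟩ := mem_zpowers_iff.mp v.2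
    show (u : G) * v = v * u
    rw [← hi, ← hj]
    exact ((Commute.refl g).zpow_zpow i j).eq)
  obtain ⟨H₀, ⟨hp, hidx⟩, -⟩ := Core.exists_piHall_ge (G := ↥C) (π := π) (K := ⊥)
    fun v hv hd => absurd (Nat.dvd_one.mp (Subgroup.card_bot (G := ↥C) ▸ hd)) hv.ne_one
  set h := Nat.card H₀
  set i := H₀.index
  have hn : orderOf g = h * i := by rw [← Nat.card_zpowers]; exact H₀.card_mul_index.symm
  have hcop : h.Coprime i := Nat.coprime_of_dvd fun t ht h1 h2 => hidx t ht (hp t ht h1) h2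
  obtain ⟨e, he1, he0⟩ := Nat.chineseRemainder hcop 1 0
  have hmem : g ^ e ∈ C := pow_mem (mem_zpowers g) e
  refine ⟨g ^ e, hmem, (g ^ e)⁻¹ * g, mul_mem (inv_mem hmem) (mem_zpowers g), by group, fun t ht hd => ?_,
    fun t ht hd => ?_⟩
  · refine hp t ht (hd.trans (orderOf_dvd_of_pow_eq_one ?_))
    rw [← pow_mul, ← orderOf_dvd_iff_pow_eq_one, hn, mul_comm h i]
    exact Nat.mul_dvd_mul_right (Nat.modEq_zero_iff_dvd.mp he0) h
  · intro htπ
    refine hidx t ht htπ (hd.trans (orderOf_dvd_of_pow_eq_one ?_))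
    have hc : Commute (g ^ e)⁻¹ g := ((Commute.refl g).pow_left e).inv_left
    rw [hc.mul_pow, inv_pow, inv_mul_eq_one, ← pow_mul, pow_eq_pow_iff_modEq, hn]
    simpa using he1.mul_right' i

/-- The two cases for `b ∈ C_M(a)`. -/
theorem covered_or_kappaType (hG : Cfsg.IsMinSimpleOddOrder G) (hM : IsCoatom M)
    (ha : a ∈ Cfsg.sigmaCore M) (ha1 : a ≠ 1) (hb : b ∈ M ⊓ centralizer ({a} : Set G))
    (hσ : ∀ t : ℕ, t.Prime → t ∣ orderOf b → t ∉ Cfsg.sigma M) :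
    Covered (a * b) ∨ KappaType M (a * b) := by
  by_cases hb1 : b = 1
  · subst hb1
    exact Or.inl ⟨M, hM, a, ⟨ha, ha1⟩, 1, one_mem _, 1, by simp⟩
  rcases Cfsg.Agent.S1432.result hG M hM a ha ha1 b hb hb1 hσ with ⟨hκ, -⟩ | ⟨-, ⟨L, hL, hLσ⟩, hCb, hCu⟩
  · exact Or.inr ⟨a, ha, ha1, b, hb, hb1, hκ, rfl⟩
  refine Or.inl ?_
  obtain ⟨d, hd⟩ := SigmaEmbedding.conj_into (TauTwoFacts.structure_tau2 hG) hG hL
    (fun e => hb1 (zpowers_eq_bot.mp e) : zpowers b ≠ ⊥) fun t ht htd => hLσ t ht (by rwa [Nat.card_zpowers] at htd)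
  set L' := L.map (MulAut.conj d⁻¹).toMonoidHom with hL'
  have hL'm : IsCoatom L' := SylowUnique.isCoatom_conj hL _
  have hbL' : b ∈ Cfsg.sigmaCore L' := by
    rw [hL', Support.sigmaCore_map_conj hG hL]
    refine Transfer.mem_map_conj.mpr ?_
    simpa using hd ⟨b, mem_zpowers b, rfl⟩
  obtain ⟨t, ht, htd⟩ := Nat.exists_prime_and_dvd (fun e => hb1 (orderOf_eq_one_iff.mp e) : orderOf b ≠ 1)
  have := Fact.mk ht
  have hne : L' ≠ M := fun e => hσ t ht htd (e ▸ Support.sigma_of_mem hG hL'm hbL' ht htd)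
  have hnle : ¬ centralizer ({b} : Set G) ≤ L' := fun h => hne (hCu L' hL'm h)
  obtain ⟨H, o⟩ := Support.exists_overgroup hG hL'm hbL' hb1 hnle
  have hcomm : a * b = b * a := (mem_centralizer_singleton_iff.mp hb.2).symm
  have hHM : H = M := hCu H o.max o.le
  have haR : a ∈ Cfsg.supportR L' b := by
    rw [o.supportR_eq hnle, hHM]
    exact ⟨ha, mem_centralizer_singleton_iff.mpr hcomm⟩
  exact ⟨L', hL'm, b, ⟨hbL', hb1⟩, a, haR, 1, by simp [hcomm]⟩

/-- Every nonidentity element is covered or of `κ`-type. -/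
theorem exists_cover (hG : Cfsg.IsMinSimpleOddOrder G) (hg : g ≠ 1) :
    Covered g ∨ ∃ M : Subgroup G, IsCoatom M ∧ KappaType M g := by
  obtain ⟨t, ht, htd⟩ := Nat.exists_prime_and_dvd (fun e => hg (orderOf_eq_one_iff.mp e) : orderOf g ≠ 1)
  obtain ⟨M₀, hM₀, htM⟩ := (Cfsg.Agent.S1378.result hG).1 t ht (htd.trans (orderOf_dvd_natCard g))
  obtain ⟨a, haz, b, hbz, rfl, hap, hbp⟩ := exists_part_split (Cfsg.sigma M₀) g
  have hab : Commute a b := by
    obtain ⟨i, hi⟩ := mem_zpowers_iff.mp haz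
    obtain ⟨j, hj⟩ := mem_zpowers_iff.mp hbz
    have := (Commute.refl (a * b)).zpow_zpow i j
    rwa [hi, hj] at this
  have ha1 : a ≠ 1 := fun e => hbp t ht (by rwa [e, one_mul] at htd) htM
  obtain ⟨c, hc⟩ := SigmaEmbedding.conj_into (TauTwoFacts.structure_tau2 hG) hG hM₀
    (fun e => ha1 (zpowers_eq_bot.mp e) : zpowers a ≠ ⊥) fun u hu hud => hap u hu (by rwa [Nat.card_zpowers] at hud)
  set M := M₀.map (MulAut.conj c⁻¹).toMonoidHom with hMdef
  have hM : IsCoatom M := SylowUnique.isCoatom_conj hM₀ _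
  have haM : a ∈ Cfsg.sigmaCore M := by
    rw [hMdef, Support.sigmaCore_map_conj hG hM₀]
    refine Transfer.mem_map_conj.mpr ?_
    simpa using hc ⟨a, mem_zpowers a, rfl⟩
  have hbσ : ∀ u : ℕ, u.Prime → u ∣ orderOf b → u ∉ Cfsg.sigma M := fun u hu hud h => by
    have := Fact.mk hu
    exact hbp u hu hud ((SigmaDisjoint.sigma_conj c⁻¹).mp h)
  have hbC : b ∈ centralizer ({a} : Set G) := mem_centralizer_singleton_iff.mpr hab.symm.eq
  by_cases hbM : b ∈ M
  · exact (covered_or_kappaType hG hM haM ha1 ⟨hbM, hbC⟩ hbσ).imp id fun h => ⟨M, hM, h⟩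
  have hC : ¬ centralizer ({a} : Set G) ≤ M := fun h => hbM (h hbC)
  obtain ⟨H, o⟩ := Support.exists_overgroup hG hM haM ha1 hC
  obtain ⟨e, hez, d, hdz, hbed, hep, hdp⟩ := exists_part_split (Cfsg.sigma H) b
  by_cases hd1 : d = 1
  · refine Or.inl ⟨M, hM, a, ⟨haM, ha1⟩, b, ?_, 1, by simp⟩
    rw [o.supportR_eq hC]
    refine ⟨zpowers_le.mp (SigmaEmbedding.le_sigmaCore_of_pi hG o.max (zpowers_le.mpr (o.le hbC)) fun u hu hud => ?_), hbC⟩
    rw [Nat.card_zpowers] at hud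
    exact hep u hu (by rwa [hbed, hd1, mul_one] at hud)
  have hdC : d ∈ centralizer ({a} : Set G) := zpowers_le.mpr hbC hdz
  set W := centralizer ({a} : Set G) with hW
  have : Group.IsSolvable W := CfsgLib.Core.isSolvable_of_le (hG.2.2.2 H o.max.1) o.le
  have hTπ : Cfsg.IsPiHall {u : ℕ | u.Prime ∧ u ∉ Cfsg.sigma H} ((M ⊓ W).subgroupOf W) := by
    refine ⟨fun u hu hd => ⟨hu, fun huσ => ?_⟩, fun u hu huπ hd => ?_⟩
    · rw [Nat.card_congr (subgroupOfEquivOfLe (inf_le_right : M ⊓ W ≤ W)).toEquiv] at hd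
      have := Fact.mk hu
      obtain ⟨w, hw⟩ := exists_prime_orderOf_dvd_card' u hd
      have hwO : zpowers (w : G) ≤ Cfsg.sigmaCore H := le_sigmaCore hG o.max huσ
        (isPGroup_of_card_eq (by rw [Nat.card_zpowers, orderOf_coe, hw])) (zpowers_le.mpr (o.le w.2.2))
      have h5 : (w : G) ∈ Cfsg.sigmaCore H ⊓ M := ⟨hwO (mem_zpowers _), w.2.1⟩
      rw [o.inf_eq, mem_bot] at h5
      rw [← orderOf_coe, h5, orderOf_one] at hw
      exact hu.ne_one hw.symm
    · change u ∣ (M ⊓ W).relIndex W at hd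
      rw [IsComplIn_relIndex_left o.factor] at hd
      exact huπ.2 (TauTwo.mem_sigma_of_dvd hu (hd.trans (card_dvd_of_le inf_le_left)) hG o.max)
  obtain ⟨⟨k, hkW⟩, hk⟩ := Core.exists_conj_le_piHall hTπ (K := (zpowers d).subgroupOf W) fun u hu hud => by
    rw [Nat.card_congr (subgroupOfEquivOfLe (zpowers_le.mpr hdC)).toEquiv, Nat.card_zpowers] at hud
    exact ⟨hu, hdp u hu hud⟩
  have hkd : k * d * k⁻¹ ∈ M := by
    have h6 := hk ((Subgroup.smul_mem_pointwise_smul_iff (a := MulAut.conj (⟨k, hkW⟩ : W))).mpr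
      (show (⟨d, hdC⟩ : W) ∈ (zpowers d).subgroupOf W from mem_zpowers d))
    exact (mem_subgroupOf.mp h6).1
  set M' := M.map (MulAut.conj k⁻¹).toMonoidHom with hM'def
  have hM' : IsCoatom M' := SylowUnique.isCoatom_conj hM _
  have haM' : a ∈ Cfsg.sigmaCore M' := Support.mem_core_centralizing hG hM haM (inv_mem hkW)
  have hdM' : d ∈ M' := Transfer.mem_map_conj.mpr (by rwa [inv_inv])
  have hbσ' : ∀ u : ℕ, u.Prime → u ∣ orderOf b → u ∉ Cfsg.sigma M' := fun u hu hud h => by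
    have := Fact.mk hu
    exact hbσ u hu hud ((SigmaDisjoint.sigma_conj k⁻¹).mp h)
  have hC' : ¬ W ≤ M' := by
    rw [hM'def, ← Support.map_conj_of_mem (inv_mem hkW), Support.map_conj_le_iff]
    exact hC
  have hdσ : ∀ u : ℕ, u.Prime → u ∣ orderOf d → u ∉ Cfsg.sigma M' := fun u hu hud => hbσ' u hu (by
    refine hud.trans ?_
    rw [← Nat.card_zpowers b]
    exact (zpowers b).orderOf_dvd_natCard hdz)
  rcases Cfsg.Agent.S1432.result hG M' hM' a haM' ha1 d ⟨hdM', hdC⟩ hd1 hdσ with ⟨-, hle⟩ | ⟨-, -, hCd, -⟩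
  · exact absurd hle hC'
  have hbM' : b ∈ M' := hCd (mem_centralizer_singleton_iff.mpr (by
    obtain ⟨j, hj⟩ := mem_zpowers_iff.mp hdz
    rw [← hj]
    exact ((Commute.refl b).zpow_right j).eq))
  exact (covered_or_kappaType hG hM' haM' ha1 ⟨hbM', hbC⟩ hbσ').imp id fun h => ⟨M', hM', h⟩

/-- Elements of `κ`-type of `M` lie in conjugates of `Ẑ`. -/
theorem Data.mem_closure (d : Data M K E) (hG : Cfsg.IsMinSimpleOddOrder G) (p : Pair M K H)
    (h : KappaType M g) : g ∈ ZhatClosure (ZK M K) := by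
  obtain ⟨a, ha, ha1, b, hb, hb1, hκ, rfl⟩ := h
  have : Group.IsSolvable M := hG.2.2.2 M d.max.1
  have hK' : Cfsg.IsPiHall (Cfsg.kappa M) (K.subgroupOf M) := by
    refine ⟨fun v hv hd => ?_, d.hall.2.2⟩
    rw [Nat.card_congr (subgroupOfEquivOfLe d.hall.1).toEquiv] at hd
    exact d.hall.2.1 v hv hd
  obtain ⟨⟨m, hmM⟩, hm⟩ := Core.exists_conj_le_piHall hK' (K := (zpowers b).subgroupOf M) fun u hu hd => by
    rw [Nat.card_congr (subgroupOfEquivOfLe (zpowers_le.mpr hb.1)).toEquiv, Nat.card_zpowers] at hd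
    exact hκ u hu hd
  have hk : m * b * m⁻¹ ∈ K := mem_subgroupOf.mp (hm ((Subgroup.smul_mem_pointwise_smul_iff
    (a := MulAut.conj (⟨m, hmM⟩ : M))).mpr (show (⟨b, hb.1⟩ : M) ∈ (zpowers b).subgroupOf M from mem_zpowers b)))
  have hk1 : m * b * m⁻¹ ≠ 1 := fun e => hb1 (conj_eq_one_iff.mp e)
  have hcomm : b * a = a * b := mem_centralizer_singleton_iff.mp hb.2
  have hs : m * a * m⁻¹ ∈ Kstar M K := by
    refine (d.main hG hk hk1).le ⟨(mem_normalizer_iff.mp (le_normalizer_sigmaCore M hmM) a).mp ha,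
      mem_centralizer_singleton_iff.mpr ?_⟩
    calc m * a * m⁻¹ * (m * b * m⁻¹) = m * (a * b) * m⁻¹ := by group
      _ = m * (b * a) * m⁻¹ := by rw [hcomm]
      _ = _ := by group
  refine ⟨m⁻¹, _, p.mul_mem_zhat d hG hk hk1 hs (fun e => ha1 (conj_eq_one_iff.mp e)), ?_⟩
  rw [← hcomm]
  group

theorem KappaType.primes (hG : Cfsg.IsMinSimpleOddOrder G) (hM : IsCoatom M) (h : KappaType M g) :
    (Cfsg.kappa M).Nonempty := by
  obtain ⟨-, -, -, b, -, hb1, hκ, -⟩ := h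
  obtain ⟨t, ht, hd⟩ := Nat.exists_prime_and_dvd (fun e => hb1 (orderOf_eq_one_iff.mp e) : orderOf b ≠ 1)
  exact ⟨t, hκ t ht hd⟩

theorem covered_or_kappaType_conj (hG : Cfsg.IsMinSimpleOddOrder G) (hN : IsCoatom N)
    (h : KappaType (N.map (MulAut.conj x).toMonoidHom) g) :
    Covered g ∨ KappaType N (x⁻¹ * g * x) := by
  obtain ⟨a, ha, ha1, b, hb, hb1, hκ, rfl⟩ := h
  rw [Support.sigmaCore_map_conj hG hN, Transfer.mem_map_conj] at ha
  have hbN : x⁻¹ * b * x ∈ N := Transfer.mem_map_conj.mp hb.1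
  have hbC : x⁻¹ * b * x ∈ centralizer ({x⁻¹ * a * x} : Set G) := by
    refine mem_centralizer_singleton_iff.mpr ?_
    calc x⁻¹ * b * x * (x⁻¹ * a * x) = x⁻¹ * (b * a) * x := by group
      _ = x⁻¹ * (a * b) * x := by rw [mem_centralizer_singleton_iff.mp hb.2]
      _ = _ := by group
  have hord : orderOf (x⁻¹ * b * x) = orderOf b := by
    simpa using (MulAut.conj x⁻¹).orderOf_eq b
  have e : x⁻¹ * a * x * (x⁻¹ * b * x) = x⁻¹ * (a * b) * x := by group
  rcases covered_or_kappaType hG hN ha (fun h => ha1 (by simpa [mul_assoc, inv_mul_eq_one] using h)) ⟨hbN, hbC⟩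
    (fun t ht hd h' => by
      have := Fact.mk ht
      exact (hκ t ht (hord ▸ hd)).2.2.1 ((SigmaDisjoint.sigma_conj x).mpr h')) with h' | h'
  · rw [e] at h'
    have := h'.conj x
    rw [show x * (x⁻¹ * (a * b) * x) * x⁻¹ = a * b by group] at this
    exact Or.inl this
  · exact Or.inr (e ▸ h')

theorem ZhatClosure.conj {Z : Subgroup G} (h : g ∈ ZhatClosure Z) (c : G) : c * g * c⁻¹ ∈ ZhatClosure Z := by
  obtain ⟨y, z, hz, rfl⟩ := h
  exact ⟨c * y, z, hz, by group⟩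

/-- Everything is covered by the `Ñ` and the conjugates of `Ẑ`. -/
theorem Pair.cover (p : Pair M K H) (d : Data M K E) (hG : Cfsg.IsMinSimpleOddOrder G) (hg : g ≠ 1) :
    Covered g ∨ g ∈ ZhatClosure (ZK M K) := by
  obtain h | ⟨L, hL, h⟩ := exists_cover hG hg
  · exact Or.inl h
  obtain ⟨F, dH⟩ := p.data
  obtain ⟨c, rfl | rfl⟩ := p.classes d hG hL (h.primes hG hL)
  · refine (covered_or_kappaType_conj hG d.max h).imp id fun h' => ?_
    have := ZhatClosure.conj (d.mem_closure hG p h') c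
    rwa [show c * (c⁻¹ * g * c) * c⁻¹ = g by group] at this
  · refine (covered_or_kappaType_conj hG dH.max h).imp id fun h' => ?_
    have := ZhatClosure.conj (dH.mem_closure hG (p.symm d) h') c
    rwa [show c * (c⁻¹ * g * c) * c⁻¹ = g by group, ZK, p.star_star, sup_comm] at this

end CfsgLib.OddLocal.Kappa
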