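import Cfsg.Agent.Lib.OddLocal.KappaPartner

/-!
# `U = 1` in terms of the standard factorisation (BG 14.7 (f))
-/

namespace CfsgLib.OddLocal.Kappa

open Subgroup
open CfsgLib.TwoGroups

variable {G : Type*} [Group G] [Finite G] {M H E F K U : Subgroup G}

/-- A trivial `U` means `K = E`. -/
theorem Data.eq_of_compl_bot (d : Data M K E) (hG : Cfsg.IsMinSimpleOddOrder G)
    (hU : Cfsg.IsComplIn U (K ⊔ Cfsg.sigmaCore M) M) (hU1 : U = ⊥) : K = E := by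
  by_contra hne
  obtain ⟨U', -, -, hU'1, hU', -, -⟩ := d.exists_U_ne hG hne
  have hr := hall_of_compl hG d.max d.hall hU
  obtain ⟨t, ht, hd⟩ := Nat.exists_prime_and_dvd (fun e => hU'1 (card_eq_one.mp e) : Nat.card U' ≠ 1)
  refine hr.2.2 t ht (hU'.2.1 t ht hd) ?_
  rw [hU1, relIndex_bot_left]
  exact hd.trans (card_dvd_of_le hU'.1)

/-- If `U = 1` then `|K*|` is prime and `M*` has `U* ≠ 1`. -/
theorem Pair.star_of_compl_bot (p : Pair M K H) (d : Data M K E) (hG : Cfsg.IsMinSimpleOddOrder G)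
    (hU : Cfsg.IsComplIn U (K ⊔ Cfsg.sigmaCore M) M) (hU1 : U = ⊥) :
    (Nat.card (Kstar M K)).Prime ∧ ∃ F, Data H (Kstar M K) F ∧ Kstar M K ≠ F := by
  obtain ⟨F, dH⟩ := p.data
  have h := (p.exists_ne d hG dH).resolve_left (fun h => h (d.eq_of_compl_bot hG hU hU1))
  exact ⟨dH.prime_of_ne hG h, F, dH, h⟩

/-- BG 14.7 (f), first half. -/
theorem Pair.ne_bot_or (p : Pair M K H) (d : Data M K E) (hG : Cfsg.IsMinSimpleOddOrder G)
    (hU : Cfsg.IsComplIn U (K ⊔ Cfsg.sigmaCore M) M) :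
    U ≠ ⊥ ∨ ∀ V : Subgroup G, Cfsg.IsComplIn V (Kstar M K ⊔ Cfsg.sigmaCore H) H → V ≠ ⊥ := by
  by_cases hU1 : U = ⊥
  · obtain ⟨-, F, dH, hne⟩ := p.star_of_compl_bot d hG hU hU1
    exact Or.inr fun V hV hV1 => hne (dH.eq_of_compl_bot hG hV hV1)
  · exact Or.inl hU1

/-- For a standard factorisation with `U = 1`, `|C_{M_σ}(K)|` is prime. -/
theorem star_prime (hG : Cfsg.IsMinSimpleOddOrder G) (hM : IsCoatom M)
    (hKU : Cfsg.IsSigmaDecomposition M K U) (hK1 : K ≠ ⊥) (hU1 : U = ⊥) :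
    (Nat.card ↥(Cfsg.sigmaCore M ⊓ centralizer (K : Set G))).Prime := by
  obtain ⟨E, d⟩ := exists_data hG hM hKU.hall hK1
  obtain ⟨H, p⟩ := d.exists_pair hG
  exact (p.star_of_compl_bot d hG hKU.compl hU1).1

end CfsgLib.OddLocal.Kappa
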