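import Cfsg.Agent.Lib.TwoGroups.Chapter15
import Cfsg.Agent.Lib.OddLocal.KappaTypes

/-!
# `K*` inside `M_F` and `M''` (BG 14.7, 15.2)
-/

namespace CfsgLib.OddLocal.Kappa

open Subgroup
open CfsgLib.TwoGroups
open SigmaOrderP (sigmaCore_le le_normalizer_sigmaCore)
open scoped commutatorElement

variable {G : Type*} [Group G] [Finite G] {M K U : Subgroup G}

theorem starPrime (hG : Cfsg.IsMinSimpleOddOrder G) : Chapter15.StarPrime G := fun _ _ _ hM h hK hU =>
  star_prime hG hM h hK hU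

/-- `M' = [M', K]`, hence `K* ≤ M''`. -/
theorem star_le_second_derived (hG : Cfsg.IsMinSimpleOddOrder G) (hM : IsCoatom M)
    (h : Cfsg.IsSigmaDecomposition M K U) (hK : K ≠ ⊥) :
    Cfsg.sigmaCore M ⊓ centralizer (K : Set G) ≤ ⁅⁅M, M⁆, ⁅M, M⁆⁆ := by
  set D := ⁅M, M⁆ with hD
  have hDM : D ≤ M := commutator_le_self M
  have hKM : K ≤ M := h.hall.1
  have hMD : M ≤ normalizer (D : Set G) := normalizer_commutator_ge_left M M
  have hDeq := TypeP2.derived_eq hG hM h hK
  have hsol : Group.IsSolvable K := CfsgLib.Core.isSolvable_of_le (hG.2.2.2 M hM.1) hKM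
  have hcop : (Nat.card K).Coprime (Nat.card D) := Nat.coprime_of_dvd fun t ht h1 h2 => by
    have hr := hall_of_compl hG hM h.hall h.compl
    rw [hD, hDeq] at h2
    rcases ht.dvd_mul.mp (h2.trans (Core.card_sup_dvd U _ (hr.1.trans (le_normalizer_sigmaCore M)))) with h3 | h3
    · exact (hr.2.1 t ht h3).2.1 (h.hall.2.1 t ht h1)
    · exact (h.hall.2.1 t ht h1).2.2.1 (TauTwo.mem_sigma_of_dvd ht h3 hG hM)
  have hfull : ⁅D, K⁆ = D := by
    refine le_antisymm (CfsgLib.Core.commutator_le_of_normalizes (hKM.trans hMD)) ?_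
    set V := ⁅D, K⁆ with hV
    have hUD : U ≤ D := TypeP2.U_le_derived hG hM h hK
    have hUV : U ≤ V := by
      have h1 := CfsgLib.Core.commutator_sup_centralizer h.normal (TypeP2.coprime_U_K hG hM h).symm (Or.inl hsol)
      rw [TypeP2.inf_centralizer_K hG hM h hK, sup_bot_eq] at h1
      exact h1.ge.trans (commutator_mono hUD le_rfl)
    have hDV : D ≤ normalizer (V : Set G) := normalizer_commutator_ge_left D K
    have hKV : K ≤ normalizer (V : Set G) := normalizer_commutator_ge_right D K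
    rw [hD, hDeq]
    refine sup_le hUV ?_
    have hOD : Cfsg.sigmaCore M ≤ D := BetaCore.sigmaCore_le_derived hG hM
    refine (SigmaIntersection.commutator_eq hG hM (SigmaFactor.isComplIn hG hM h)).1.ge.trans ?_
    refine commutator_le.mpr fun o ho e he => ?_
    rw [sup_comm] at he
    obtain ⟨k, hk, u, hu, rfl⟩ := (Core.mem_sup_iff_mul h.normal).mp he
    have h1 : ⁅o, k⁆ ∈ V := commutator_mem_commutator (hOD ho) hk
    have h2 : ⁅o, u⁆ ∈ V := by
      rw [commutatorElement_def]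
      exact mul_mem ((mem_normalizer_iff.mp (hDV (hOD ho)) u).mp (hUV hu)) (inv_mem (hUV hu))
    rw [show ⁅o, k * u⁆ = ⁅o, k⁆ * (k * ⁅o, u⁆ * k⁻¹) by simp only [commutatorElement_def]; group]
    exact mul_mem h1 ((mem_normalizer_iff.mp (hKV hk) _).mp h2)
  exact (inf_le_inf_right _ (BetaCore.sigmaCore_le_derived hG hM)).trans
    (SigmaIntersection.inf_centralizer_le_derived (hKM.trans hMD) hcop hfull)

/-- `K* ≤ M_F` and `M_F` is not cyclic. -/
theorem star_le_fittingHall (hG : Cfsg.IsMinSimpleOddOrder G) (hM : IsCoatom M)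
    (h : Cfsg.IsSigmaDecomposition M K U) (hK : K ≠ ⊥) :
    Cfsg.sigmaCore M ⊓ centralizer (K : Set G) ≤ Cfsg.fittingHallOf M ∧ ¬ IsCyclic (Cfsg.fittingHallOf M) := by
  obtain ⟨E, d⟩ := exists_data hG hM h.hall hK
  -- a prime of rank three with a Sylow subgroup in `M_F`
  suffices key : Cfsg.sigmaCore M ⊓ centralizer (K : Set G) ≤ Cfsg.fittingHallOf M ∧
      (IsCyclic (Cfsg.fittingHallOf M) → ∃ (q : ℕ) (Q : Subgroup G), q ∈ Cfsg.beta M ∧ IsPGroup q Q ∧
        Q ≤ Cfsg.fittingHallOf M ∧ ¬ q ∣ Q.relIndex M) by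
    refine ⟨key.1, fun hc => ?_⟩
    obtain ⟨q, Q, hq, hQp, hQF, hnd⟩ := key.2 hc
    have := Fact.mk hq.1.1
    have hQc : IsCyclic Q := isCyclic_of_injective (inclusion hQF) (inclusion_injective _)
    refine hq.1.2 fun B hB hBp => ?_
    exact (CyclicPrimeAction.prankLE_one (hQF.trans (fittingHallOf_le M)) hnd hQp hQc B hB hBp).trans
      (Nat.pow_le_pow_right hq.1.1.pos (by norm_num))
  by_cases hn : Group.IsNilpotent (Cfsg.sigmaCore M)
  · rw [← Support.sigmaCore_eq_fittingHallOf hG hM hn]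
    refine ⟨inf_le_left, fun hc => ?_⟩
    obtain ⟨s, X, hs, hX, hXK⟩ := d.tau1_line
    obtain ⟨q, Y, hq, hY, hYs⟩ := FixedTauOne.exists_prime_sub d.star_ne_bot
    have := Fact.mk hq
    have := Fact.mk hs.1
    have hqσ : q ∈ Cfsg.sigma M :=
      d.sigma_star hG hq (hY ▸ card_dvd_of_le hYs)
    have hβ : q ∈ Cfsg.beta M := by
      by_contra hβ
      have h1 := FixedTauOne.le_derived_core hG hM hs hX (hXK.trans d.hall.1) (FixedTauOne.isPGroup_of_card_eq hY)
        (hYs.trans (inf_le_inf_left _ (Subgroup.centralizer_le hXK))) hβ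
      have h2 : ⁅Cfsg.sigmaCore M, Cfsg.sigmaCore M⁆ = ⊥ := by
        rw [commutator_eq_bot_iff_le_centralizer, le_centralizer_iff_isMulCommutative]
        exact IsCyclic.isMulCommutative
      rw [h2] at h1
      exact FixedTauOne.ne_bot_of_card_eq hY (le_bot_iff.mp h1)
    obtain ⟨S⟩ : Nonempty (Sylow q ↥(Cfsg.sigmaCore M)) := inferInstance
    refine ⟨q, (S : Subgroup ↥(Cfsg.sigmaCore M)).map (Cfsg.sigmaCore M).subtype, hβ, S.2.map _, map_subtype_le _,
      ?_⟩
    rw [← relIndex_mul_relIndex _ (Cfsg.sigmaCore M) M (map_subtype_le _) (sigmaCore_le M), hq.dvd_mul]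
    push Not
    refine ⟨?_, (SigmaCore.sigmaCore_hall hG hM).1.2.2 q hq hqσ⟩
    rw [relIndex, subgroupOf, comap_map_eq_self_of_injective (Cfsg.sigmaCore M).subtype_injective]
    exact S.not_dvd_index
  · obtain ⟨-, -, Q, D, p⟩ := Chapter15.exists_pair_of_ne hG hM (starPrime hG) h hn
    exact ⟨p.star_le.trans p.le_fittingHall, fun _ => ⟨_, Q, p.mem_beta, p.isp, p.le_fittingHall,
      p.not_dvd_relIndex⟩⟩

end CfsgLib.OddLocal.Kappa
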