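import Cfsg.Agent.Lib.OddLocal.KappaMain
import Cfsg.Agent.Lib.OddLocal.KappaDecomp

/-!
# Consequences of BG 14.7
-/

namespace CfsgLib.OddLocal.Kappa

open Subgroup
open CfsgLib.TwoGroups
open PrimeActionTools FixedTauOne TauThree
open SigmaOrderP (sigmaCore_le le_normalizer_sigmaCore le_sigmaCore)

variable {G : Type*} [Group G] [Finite G] {M N H E F K L Ω X Y Z : Subgroup G} {g x y z : G}

omit [Finite G] in
theorem mem_zpowers_mul {a b : G} (hab : Commute a b) (hcop : (orderOf a).Coprime (orderOf b)) :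
    a ∈ zpowers (a * b) ∧ b ∈ zpowers (a * b) := by
  have key : ∀ {u v : G}, Commute u v → (orderOf u).Coprime (orderOf v) → u ∈ zpowers (u * v) := by
    intro u v huv hc
    obtain ⟨e, he1, he0⟩ := Nat.chineseRemainder hc 1 0
    have h1 : (u * v) ^ e = u ^ 1 := by
      rw [huv.mul_pow, orderOf_dvd_iff_pow_eq_one.mp (Nat.modEq_zero_iff_dvd.mp he0), mul_one]
      exact pow_eq_pow_iff_modEq.mpr he1
    rw [pow_one] at h1
    exact mem_zpowers_iff.mpr ⟨e, by rw [zpow_natCast]; exact h1⟩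
  exact ⟨key hab hcop, hab.eq ▸ key hab.symm hcop.symm⟩

/-- The partner is unique. -/
theorem Data.pair_unique (d : Data M K E) (hG : Cfsg.IsMinSimpleOddOrder G)
    (dH : Data H (Kstar M K) F) (hst : Kstar H (Kstar M K) = K) : Pair M K H := by
  obtain ⟨H', p⟩ := d.exists_pair hG
  have hmem : Member (ZK M K) H := ⟨_, _, dH, by rw [ZK, ZK, hst, sup_comm]⟩
  rcases p.members H hmem with h | h
  · exfalso
    obtain ⟨t, Y, ht, hY, hYs⟩ := exists_prime_sub d.star_ne_bot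
    have hd : t ∣ Nat.card (Kstar M K) := hY ▸ card_dvd_of_le hYs
    exact dH.not_sigma ht hd (h.symm ▸ d.sigma_star hG ht hd)
  · exact h ▸ p

theorem Pair.member (p : Pair M K H) : Member (ZK M K) H := by
  obtain ⟨F, dH⟩ := p.data
  exact ⟨_, F, dH, by rw [ZK, ZK, p.star_star, sup_comm]⟩

theorem Pair.nconj (p : Pair M K H) (d : Data M K E) (hG : Cfsg.IsMinSimpleOddOrder G) (g : G) :
    H ≠ M.map (MulAut.conj g).toMonoidHom := by
  intro e
  obtain ⟨t, Y, ht, hY, hYs⟩ := exists_prime_sub d.star_ne_bot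
  have := Fact.mk ht
  have htσ := d.sigma_star hG ht (hY ▸ card_dvd_of_le hYs)
  exact p.ne (p.member.eq_of_sigma d.member hG (q := t) (e ▸ (SigmaDisjoint.sigma_conj g).mpr htσ) htσ)

theorem Pair.K_le_core (p : Pair M K H) : K ≤ Cfsg.sigmaCore H := p.star_star.ge.trans inf_le_left

theorem Pair.Z_le (p : Pair M K H) : ZK M K ≤ H := p.member.le

theorem Pair.cores_inf (p : Pair M K H) (d : Data M K E) (hG : Cfsg.IsMinSimpleOddOrder G) :
    Cfsg.sigmaCore M ⊓ Cfsg.sigmaCore H = ⊥ := by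
  obtain ⟨F, dH⟩ := p.data
  refine inf_eq_bot_of_coprime (Nat.coprime_of_dvd fun t ht h1 h2 => ?_)
  have := Fact.mk ht
  obtain ⟨g, hg⟩ := SigmaDisjoint.sigma_disjoint hG d.max dH.max (TauTwo.mem_sigma_of_dvd ht h1 hG d.max)
    (TauTwo.mem_sigma_of_dvd ht h2 hG dH.max)
  exact p.nconj d hG g hg

/-- `M_σ ∩ M* = K*`. -/
theorem Pair.core_inf (p : Pair M K H) (d : Data M K E) (hG : Cfsg.IsMinSimpleOddOrder G) :
    Cfsg.sigmaCore M ⊓ H = Kstar M K := by
  refine le_antisymm ?_ (le_inf inf_le_left (le_sup_right.trans p.Z_le))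
  intro x hx
  refine ⟨hx.1, mem_centralizer_iff.mpr fun k hk => ?_⟩
  have h1 : x * k * x⁻¹ * k⁻¹ ∈ Cfsg.sigmaCore M ⊓ Cfsg.sigmaCore H := by
    refine mem_inf.mpr ⟨?_, mul_mem ((mem_normalizer_iff.mp (le_normalizer_sigmaCore H hx.2) k).mp
      (p.K_le_core hk)) (inv_mem (p.K_le_core hk))⟩
    rw [show x * k * x⁻¹ * k⁻¹ = x * (k * x⁻¹ * k⁻¹) by group]
    exact mul_mem hx.1 ((mem_normalizer_iff.mp (le_normalizer_sigmaCore M (d.hall.1 hk)) x⁻¹).mp (inv_mem hx.1))
  rw [p.cores_inf d hG, mem_bot, mul_inv_eq_one, mul_inv_eq_iff_eq_mul] at h1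
  exact h1.symm

/-- `M ∩ M* = Z`. -/
theorem Pair.inf_eq (p : Pair M K H) (d : Data M K E) (hG : Cfsg.IsMinSimpleOddOrder G) :
    M ⊓ H = ZK M K := by
  refine le_antisymm ?_ (le_inf d.Z_le p.Z_le)
  obtain ⟨F, dH⟩ := p.data
  have h1 : Cfsg.sigmaCore H ⊓ M = K := ((p.symm d).core_inf dH hG).trans p.star_star
  refine le_trans (le_inf inf_le_left ?_) (d.normalizer_self hG).le
  calc M ⊓ H ≤ normalizer (M : Set G) ⊓ normalizer (Cfsg.sigmaCore H : Set G) :=
        inf_le_inf le_normalizer (le_normalizer_sigmaCore H)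
    _ ≤ normalizer ((M ⊓ Cfsg.sigmaCore H : Subgroup G) : Set G) := inf_normalizer_le_normalizer_inf
    _ = normalizer (K : Set G) := by rw [inf_comm, h1]

theorem Pair.cyclic_Z (p : Pair M K H) (d : Data M K E) (hG : Cfsg.IsMinSimpleOddOrder G) :
    IsCyclic (ZK M K) := by
  obtain ⟨a, ha⟩ := IsCyclic.exists_ofOrder_eq_natCard (α := K) (h := p.cyclic)
  obtain ⟨b, hb⟩ := IsCyclic.exists_ofOrder_eq_natCard (α := Kstar M K) (h := p.cyclic_star)
  have hab : Commute (a : G) b := mem_centralizer_iff.mp b.2.2 a a.2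
  have hcop := d.coprime_parts hG a.2 b.2
  refine isCyclic_of_orderOf_eq_card (⟨(a : G) * b, mul_mem (mem_sup_left a.2) (mem_sup_right b.2)⟩ : ZK M K) ?_
  rw [Subgroup.orderOf_mk, hab.orderOf_mul_eq_mul_orderOf_of_coprime hcop, orderOf_coe, orderOf_coe, ha, hb,
    d.card_Z hG]

theorem Pair.commute_Z (p : Pair M K H) (d : Data M K E) (hG : Cfsg.IsMinSimpleOddOrder G)
    (hx : x ∈ ZK M K) (hy : y ∈ ZK M K) : Commute x y := by
  have := p.cyclic_Z d hG
  exact congrArg Subtype.val (IsCyclic.isMulCommutative.is_comm.comm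
    (⟨x, hx⟩ : ZK M K) ⟨y, hy⟩)

/-- `Ẑ = Z ∖ (K ∪ K*)`. -/
theorem Pair.zhat_eq (p : Pair M K H) (d : Data M K E) (hG : Cfsg.IsMinSimpleOddOrder G) :
    Zhat (ZK M K) = ((ZK M K : Subgroup G) : Set G) \ ((K : Set G) ∪ (Kstar M K : Set G)) := by
  ext z
  constructor
  · rintro ⟨hz, hzc⟩
    refine ⟨hz, ?_⟩
    rintro (h | h)
    · exact hzc H p.member (p.K_le_core h)
    · exact hzc M d.member h.1
  · rintro ⟨hz, hn⟩
    refine ⟨hz, fun N hN h => hn ?_⟩
    rcases p.members N hN with rfl | rfl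
    · exact Or.inr ((d.inf_core hG).le ⟨hz, h⟩)
    · obtain ⟨F, dH⟩ := p.data
      refine Or.inl (p.star_star.le ((dH.inf_core hG).le ⟨?_, h⟩))
      rw [ZK, p.star_star, sup_comm]
      exact hz

theorem Pair.mul_mem_zhat (p : Pair M K H) (d : Data M K E) (hG : Cfsg.IsMinSimpleOddOrder G)
    (hx : x ∈ K) (hx1 : x ≠ 1) (hy : y ∈ Kstar M K) (hy1 : y ≠ 1) : x * y ∈ Zhat (ZK M K) := by
  rw [p.zhat_eq d hG]
  refine ⟨mul_mem (mem_sup_left hx) (mem_sup_right hy), ?_⟩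
  rintro (h | h)
  · exact hy1 (mem_bot.mp ((d.inf_eq hG).le ⟨by simpa using mul_mem (inv_mem hx) h, hy.1⟩))
  · exact hx1 (mem_bot.mp ((d.inf_eq hG).le ⟨hx, by simpa using mul_mem (mem_inf.mp h).1 (inv_mem (mem_inf.mp hy).1)⟩))

/-- Elements of `Ẑ` have nontrivial parts. -/
theorem Pair.zhat_parts (p : Pair M K H) (d : Data M K E) (hG : Cfsg.IsMinSimpleOddOrder G)
    (hz : z ∈ Zhat (ZK M K)) :
    ∃ a ∈ K, ∃ b ∈ Kstar M K, a ≠ 1 ∧ b ≠ 1 ∧ Commute a b ∧ z = a * b ∧ a ∈ zpowers z ∧ b ∈ zpowers z := by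
  obtain ⟨a, ha, b, hb, hab, rfl⟩ := exists_split hz.1
  obtain ⟨h1, h2⟩ := mem_zpowers_mul hab (d.coprime_parts hG ha hb)
  refine ⟨a, ha, b, hb, fun e => hz.2 M d.member ?_, fun e => hz.2 H p.member ?_, hab, rfl, h1, h2⟩
  · rw [e, one_mul]; exact hb.1
  · rw [e, mul_one]; exact p.K_le_core ha

/-- `C(z) = Z` for `z ∈ Ẑ`. -/
theorem Pair.centralizer_zhat (p : Pair M K H) (d : Data M K E) (hG : Cfsg.IsMinSimpleOddOrder G)
    (hz : z ∈ Zhat (ZK M K)) : centralizer ({z} : Set G) = ZK M K := by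
  refine le_antisymm (fun c hc => Zhat.mem_of_conj d.member hG hz ?_)
    (fun c hc => mem_centralizer_singleton_iff.mpr (p.commute_Z d hG hc hz.1).eq)
  rwa [mem_centralizer_singleton_iff.mp hc, mul_inv_cancel_right]

open scoped Classical in
theorem Pair.members_eq (p : Pair M K H) (d : Data M K E) : Kappa.members (ZK M K) = {M, H} := by
  classical
  ext N
  rw [mem_members, Finset.mem_insert, Finset.mem_singleton]
  refine ⟨p.members N, ?_⟩
  rintro (rfl | rfl)
  · exact d.member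
  · exact p.member

theorem Pair.ncard_zhat (p : Pair M K H) (d : Data M K E) (hG : Cfsg.IsMinSimpleOddOrder G) :
    (Zhat (ZK M K)).ncard + Nat.card K + Nat.card (Kstar M K) = Nat.card K * Nat.card (Kstar M K) + 1 := by
  classical
  obtain ⟨F, dH⟩ := p.data
  have h := ncard_Zhat d.member hG
  rw [p.members_eq d, Finset.sum_pair p.ne.symm, d.inf_core hG, d.card_Z hG] at h
  have h2 : ZK M K ⊓ Cfsg.sigmaCore H = K := by
    conv_rhs => rw [← p.star_star, ← dH.inf_core hG]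
    rw [ZK, ZK, p.star_star, sup_comm]
  rw [h2] at h
  have : 0 < Nat.card K := Nat.card_pos
  have : 0 < Nat.card (Kstar M K) := Nat.card_pos
  omega

theorem three_le_of_odd {n : ℕ} (h : Odd n) (h1 : n ≠ 1) : 3 ≤ n := by
  obtain ⟨j, rfl⟩ := h
  omega

/-- The conjugates of `Ẑ` are more than half of `G`. -/
theorem Pair.half (p : Pair M K H) (d : Data M K E) (hG : Cfsg.IsMinSimpleOddOrder G) :
    Nat.card G < 2 * (ZhatClosure (ZK M K)).ncard := by
  rw [ncard_ZhatClosure d.member hG, ← (ZK M K).index_mul_card, d.card_Z hG]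
  have h := p.ncard_zhat d hG
  set k := Nat.card K
  set l := Nat.card (Kstar M K)
  have hk : 3 ≤ k := three_le_of_odd (hG.1.of_dvd_nat (card_subgroup_dvd_card _)) fun e => d.ne_bot (card_eq_one.mp e)
  have hl : 3 ≤ l := three_le_of_odd (hG.1.of_dvd_nat (card_subgroup_dvd_card _))
    fun e => d.star_ne_bot (card_eq_one.mp e)
  have hne : k ≠ l := fun e => by
    have hc : k.Coprime l := (d.coprime_core hG).coprime_dvd_right (card_dvd_of_le inf_le_left)
    rw [← e, Nat.coprime_self] at hc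
    omega
  have hpos : 0 < (ZK M K).index := Nat.pos_of_ne_zero index_ne_zero_of_finite
  have h2 : k * l + 1 ≤ 2 * (Zhat (ZK M K)).ncard := by
    obtain ⟨i, hi⟩ : Odd k := hG.1.of_dvd_nat (card_subgroup_dvd_card _)
    obtain ⟨j, hj⟩ : Odd l := hG.1.of_dvd_nat (card_subgroup_dvd_card _)
    rcases hne.lt_or_gt with hlt | hlt
    · nlinarith [Nat.mul_le_mul (show 1 ≤ i by omega) (show 2 ≤ j by omega)]
    · nlinarith [Nat.mul_le_mul (show 2 ≤ i by omega) (show 1 ≤ j by omega)]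
  nlinarith

/-- Common lines in cores determine the maximal subgroup. -/
theorem eq_conj_of_line (hG : Cfsg.IsMinSimpleOddOrder G) (hN : Member Z N) (hL : Member Ω L) {t : ℕ}
    (ht : t.Prime) (hY : Nat.card Y = t) (hYZ : Y ≤ Z) (hYN : Y ≤ Cfsg.sigmaCore N)
    (hgZ : Y.map (MulAut.conj g).toMonoidHom ≤ Ω) (hgL : Y.map (MulAut.conj g).toMonoidHom ≤ Cfsg.sigmaCore L) :
    L = N.map (MulAut.conj g).toMonoidHom := by
  have := Fact.mk ht
  obtain ⟨K₁, E₁, d₁, e₁⟩ := hN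
  obtain ⟨K₂, E₂, d₂, e₂⟩ := hL
  have h1 := d₁.only_fixed hG hY ((le_inf (hYZ.trans e₁.ge) hYN).trans (d₁.inf_core hG).le)
  have h2 := d₂.only_fixed hG (by rw [Transfer.card_map_conj, hY])
    ((le_inf (hgZ.trans e₂.ge) hgL).trans (d₂.inf_core hG).le)
  have h3 : centralizer (Y : Set G) ≤ L.map (MulAut.conj g⁻¹).toMonoidHom := by
    intro c hc
    refine Transfer.mem_map_conj.mpr (h2.1 (mem_centralizer_iff.mpr ?_))
    rintro _ ⟨w, hw, rfl⟩
    show g * w * g⁻¹ * (g⁻¹⁻¹ * c * g⁻¹) = g⁻¹⁻¹ * c * g⁻¹ * (g * w * g⁻¹)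
    calc g * w * g⁻¹ * (g⁻¹⁻¹ * c * g⁻¹) = g * (w * c) * g⁻¹ := by group
      _ = g * (c * w) * g⁻¹ := by rw [mem_centralizer_iff.mp hc w hw]
      _ = _ := by group
  rw [← h1.2 _ (SylowUnique.isCoatom_conj d₂.max g⁻¹) h3, Support.map_conj_mul, mul_inv_cancel,
    Support.map_conj_of_mem (one_mem _)]

/-- Two conjugate elements of two `Ẑ` carry the classes to each other. -/
theorem Pair.classes_of_zhat (p : Pair M K H) (d : Data M K E) (hG : Cfsg.IsMinSimpleOddOrder G)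
    {L' F' H' : Subgroup G} (p' : Pair L L' H') (d' : Data L L' F') (hz : z ∈ Zhat (ZK M K))
    (hz' : g * z * g⁻¹ ∈ Zhat (ZK L L')) :
    L = M.map (MulAut.conj g).toMonoidHom ∨ L = H.map (MulAut.conj g).toMonoidHom := by
  have key : ∀ N, Member (ZK M K) N → ∀ w ∈ zpowers z, w ≠ 1 → w ∈ Cfsg.sigmaCore N →
      N.map (MulAut.conj g).toMonoidHom = L ∨ N.map (MulAut.conj g).toMonoidHom = H' := by
    intro N hN w hw hw1 hwN
    obtain ⟨t, Y, ht, hY, hYw⟩ := exists_prime_sub (fun e => hw1 (zpowers_eq_bot.mp e) : zpowers w ≠ ⊥)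
    have hYz : Y ≤ zpowers z := hYw.trans (zpowers_le.mpr hw)
    have hgY : Y.map (MulAut.conj g).toMonoidHom ≤ ZK L L' := by
      rintro _ ⟨v, hv, rfl⟩
      obtain ⟨n, rfl⟩ := mem_zpowers_iff.mp (hYz hv)
      show g * z ^ n * g⁻¹ ∈ _
      rw [← conj_zpow]
      exact zpow_mem hz'.1 n
    obtain ⟨N', hN', hle⟩ := d'.member.exists_member hG ht (by rw [Transfer.card_map_conj, hY]) hgY
    have he := eq_conj_of_line hG hN hN' ht hY (hYz.trans (zpowers_le.mpr hz.1)) (hYw.trans (zpowers_le.mpr hwN))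
      hgY hle
    rcases p'.members N' hN' with h | h
    · exact Or.inl (by rw [← he, h])
    · exact Or.inr (by rw [← he, h])
  obtain ⟨a, ha, b, hb, ha1, hb1, -, -, haz, hbz⟩ := p.zhat_parts d hG hz
  rcases key M d.member b hbz hb1 hb.1 with h1 | h1
  · exact Or.inl h1.symm
  rcases key H p.member a haz ha1 (p.K_le_core ha) with h2 | h2
  · exact Or.inr h2.symm
  exact absurd (Subgroup.map_injective (MulAut.conj g).injective (h1.trans h2.symm)) p.ne.symm

/-- BG 14.7 (f): every maximal subgroup with `κ ≠ ∅` is conjugate to `M` or `M*`. -/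
theorem Pair.classes (p : Pair M K H) (d : Data M K E) (hG : Cfsg.IsMinSimpleOddOrder G) (hL : IsCoatom L)
    (hκ : (Cfsg.kappa L).Nonempty) :
    ∃ g : G, L = M.map (MulAut.conj g).toMonoidHom ∨ L = H.map (MulAut.conj g).toMonoidHom := by
  have : Group.IsSolvable L := hG.2.2.2 L hL.1
  obtain ⟨t, ht⟩ := hκ
  obtain ⟨K₀, hK₀, -⟩ := Core.exists_piHall_ge (G := ↥L) (π := Cfsg.kappa L) (K := ⊥)
    fun v hv hd => absurd (Nat.dvd_one.mp (Subgroup.card_bot (G := ↥L) ▸ hd)) hv.ne_one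
  have hK' : Cfsg.IsPiHallOf (Cfsg.kappa L) (K₀.map L.subtype) L := by
    refine ⟨map_subtype_le _, fun v hv hd => ?_, fun v hv hvπ hd => ?_⟩
    · rw [card_map_of_injective L.subtype_injective] at hd
      exact hK₀.1 v hv hd
    · rw [relIndex, subgroupOf, comap_map_eq_self_of_injective L.subtype_injective] at hd
      exact hK₀.2 v hv hvπ hd
  obtain ⟨F', d'⟩ := exists_data hG hL hK' fun e => hK'.2.2 t ht.1 ht (by
    rw [e, relIndex_bot_left]; exact ht.2.1)
  obtain ⟨H', p'⟩ := d'.exists_pair hG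
  -- the two sets of conjugates meet
  obtain ⟨a, ⟨u, z, hz, rfl⟩, ⟨v, z', hz', he⟩⟩ :
      ∃ a, a ∈ ZhatClosure (ZK M K) ∧ a ∈ ZhatClosure (ZK L (K₀.map L.subtype)) := by
    by_contra hne
    push Not at hne
    have hd : Disjoint (ZhatClosure (ZK M K)) (ZhatClosure (ZK L (K₀.map L.subtype))) :=
      Set.disjoint_left.mpr hne
    have h1 := Set.ncard_union_eq hd (Set.toFinite _) (Set.toFinite _)
    have h2 := Set.ncard_le_card (ZhatClosure (ZK M K) ∪ ZhatClosure (ZK L (K₀.map L.subtype)))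
    have := p.half d hG
    have := p'.half d' hG
    omega
  refine ⟨v⁻¹ * u, p.classes_of_zhat d hG p' d' hz ?_⟩
  rwa [show v⁻¹ * u * z * (v⁻¹ * u)⁻¹ = v⁻¹ * (u * z * u⁻¹) * v by group, he,
    show v⁻¹ * (v * z' * v⁻¹) * v = z' by group]

/-- A line for a prime of `σ(M)` normalized by a line of `K*` lies in `M`. -/
theorem Data.line_le_of_normalized (d : Data M K E) (hG : Cfsg.IsMinSimpleOddOrder G)
    {t q : ℕ} [Fact t.Prime] [Fact q.Prime] {V : Subgroup G} (hV : Nat.card V = t)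
    (ht : t ∈ Cfsg.sigma M) (hY : Nat.card Y = q) (hYs : Y ≤ Kstar M K)
    (hYV : Y ≤ normalizer (V : Set G)) : V ≤ M := by
  have hM := d.max
  obtain ⟨g₀, hg₀⟩ := SigmaEmbedding.conj_into (TauTwoFacts.structure_tau2 hG) hG hM (ne_bot_of_card_eq hV)
    fun u hu hd => by
      rw [(Nat.prime_dvd_prime_iff_eq hu Fact.out).mp (hV ▸ hd)]
      exact ht
  set M' := M.map (MulAut.conj g₀⁻¹).toMonoidHom with hM'
  have hM'm : IsCoatom M' := SylowUnique.isCoatom_conj hM _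
  have hVO : V ≤ Cfsg.sigmaCore M' := fun x hx => by
    rw [hM', Support.sigmaCore_map_conj hG hM]
    refine Transfer.mem_map_conj.mpr ?_
    simpa [mul_assoc] using hg₀ ⟨x, hx, rfl⟩
  have hVM' : V ≤ M' := hVO.trans (sigmaCore_le _)
  have fin : ∀ c : G, V ≤ M'.map (MulAut.conj c).toMonoidHom → Y ≤ M'.map (MulAut.conj c).toMonoidHom → V ≤ M := by
    intro c h1 h2
    rw [hM', Support.map_conj_mul] at h1 h2
    have hc := SigmaIntersection.mem_of_only hG hM
      (d.sigma_star hG Fact.out (hY ▸ card_dvd_of_le hYs)) (isPGroup_of_card_eq hY) (ne_bot_of_card_eq hY)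
      (hYs.trans (Data.star_le_M M K)) (d.only_fixed hG hY hYs).1 h2
    rwa [Support.map_conj_of_mem hc] at h1
  obtain ⟨⟨x, hxV⟩, hx1⟩ := V.ne_bot_iff_exists_ne_one.mp (ne_bot_of_card_eq hV)
  have hx1' : x ≠ 1 := fun e => hx1 (Subtype.ext e)
  have hxM' : x ∈ Cfsg.sigmaCore M' := hVO hxV
  have hVx : V = zpowers x := by
    refine (eq_of_le_of_card_ge (zpowers_le.mpr hxV) ?_).symm
    rw [hV, Nat.card_zpowers, orderOf_eq_prime (orderOf_dvd_iff_pow_eq_one.mp (hV ▸ V.orderOf_dvd_natCard hxV)) hx1']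
  by_cases hC : centralizer ({x} : Set G) ≤ M'
  · refine fin 1 (by rwa [Support.map_conj_of_mem (one_mem _)]) fun y hy => ?_
    rw [Support.map_conj_of_mem (one_mem _)]
    have hyx : y⁻¹ * x * y ∈ M' := by
      have := (mem_normalizer_iff.mp (inv_mem (hYV hy)) x).mp hxV
      exact hVM' (by simpa using this)
    obtain ⟨k, hk, he⟩ := Support.exists_eq_conj_supportR hG hM'm hxM' hx1' (g := y) (Transfer.mem_map_conj.mpr hyx)
    rw [Support.supportR_of_le hC, mem_bot] at hk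
    rw [hk] at he
    simpa using Support.eq_of_map_conj_eq hG hM'm he
  obtain ⟨H₁, o⟩ := Support.exists_overgroup hG hM'm hxM' hx1' hC
  have hCV : centralizer (V : Set G) = centralizer ({x} : Set G) := by
    rw [hVx, SylowUnique.centralizer_singleton_eq]
  set W := normalizer (V : Set G) with hW
  have hCW : centralizer ({x} : Set G) ≤ W := hCV.ge.trans (centralizer_le_normalizer _)
  have hWH : W ≤ H₁ := by
    intro n hn
    have h1 : centralizer ({x} : Set G) ≤ H₁.map (MulAut.conj n⁻¹).toMonoidHom := by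
      intro c hc
      refine Transfer.mem_map_conj.mpr (o.le ?_)
      rw [← hCV] at hc ⊢
      have := (mem_normalizer_iff.mp (Transfer.normalizer_le_normalizer_centralizer V hn) c).mp hc
      simpa using this
    have h2 := o.unique _ (SylowUnique.isCoatom_conj o.max _) h1
    have h3 := Support.eq_of_map_conj_eq hG o.max (a := n⁻¹) (b := 1)
      (by rw [h2, Support.map_conj_of_mem (one_mem _)])
    simpa using h3
  have : Group.IsSolvable W := CfsgLib.Core.isSolvable_of_le (hG.2.2.2 H₁ o.max.1) hWH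
  have hx' : x ∈ H₁ := o.le (mem_centralizer_singleton_iff.mpr rfl)
  set T := M' ⊓ W with hT
  have hfac : Cfsg.IsComplIn T (Cfsg.sigmaCore H₁ ⊓ centralizer ({x} : Set G)) W := by
    refine ⟨inf_le_right, inf_le_right.trans hCW, ?_, fun n hn => ?_⟩
    · rw [eq_bot_iff, ← o.inf_eq]
      exact le_inf (inf_le_right.trans inf_le_left) (inf_le_left.trans inf_le_left)
    obtain ⟨m, hm, k, hk, rfl⟩ := o.compl.2.2.2 n (hWH hn)
    have hv : m * k * x * (m * k)⁻¹ ∈ M' := hVM' ((mem_normalizer_iff.mp hn x).mp hxV)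
    have hkx : k * x * k⁻¹ * x⁻¹ ∈ Cfsg.sigmaCore H₁ ⊓ M' := by
      refine mem_inf.mpr ⟨?_, ?_⟩
      · rw [show k * x * k⁻¹ * x⁻¹ = k * (x * k⁻¹ * x⁻¹) by group]
        exact mul_mem hk ((mem_normalizer_iff.mp (le_normalizer_sigmaCore H₁ hx') k⁻¹).mp (inv_mem hk))
      · have := mul_mem (mul_mem (mul_mem (inv_mem (mem_inf.mp hm).1) hv) (mem_inf.mp hm).1)
          (inv_mem (hVM' hxV))
        simpa [mul_assoc] using this
    rw [o.inf_eq, mem_bot, mul_inv_eq_one, mul_inv_eq_iff_eq_mul] at hkx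
    have hkC : k ∈ centralizer ({x} : Set G) := mem_centralizer_singleton_iff.mpr hkx
    refine ⟨m, mem_inf.mpr ⟨(mem_inf.mp hm).1, ?_⟩, k, ⟨hk, hkC⟩, rfl⟩
    simpa using mul_mem hn (inv_mem (hCW hkC))
  have hTπ : Cfsg.IsPiHall {u : ℕ | u.Prime ∧ u ∉ Cfsg.sigma H₁} (T.subgroupOf W) := by
    refine ⟨fun u hu hd => ⟨hu, fun huσ => ?_⟩, fun u hu huπ hd => ?_⟩
    · rw [Nat.card_congr (subgroupOfEquivOfLe (inf_le_right : T ≤ W)).toEquiv] at hd
      have := Fact.mk hu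
      obtain ⟨w, hw⟩ := exists_prime_orderOf_dvd_card' u hd
      have hwO : zpowers (w : G) ≤ Cfsg.sigmaCore H₁ := le_sigmaCore hG o.max huσ
        (isPGroup_of_card_eq (by rw [Nat.card_zpowers, orderOf_coe, hw])) (zpowers_le.mpr (hWH w.2.2))
      have h5 : (w : G) ∈ Cfsg.sigmaCore H₁ ⊓ M' := ⟨hwO (mem_zpowers _), w.2.1⟩
      rw [o.inf_eq, mem_bot] at h5
      rw [← orderOf_coe, h5, orderOf_one] at hw
      exact hu.ne_one hw.symm
    · change u ∣ T.relIndex W at hd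
      rw [IsComplIn_relIndex_left hfac] at hd
      exact huπ.2 (TauTwo.mem_sigma_of_dvd hu (hd.trans (card_dvd_of_le inf_le_left)) hG o.max)
  have hqπ : q ∈ {u : ℕ | u.Prime ∧ u ∉ Cfsg.sigma H₁} := ⟨Fact.out, fun h => by
    obtain ⟨c, hc⟩ := SigmaDisjoint.sigma_disjoint hG hM o.max
      (d.sigma_star hG Fact.out (hY ▸ card_dvd_of_le hYs)) h
    refine o.nconj (c * g₀) ?_
    rw [hc, hM', Support.map_conj_mul, mul_inv_cancel_right]⟩
  obtain ⟨⟨k, hkW⟩, hk⟩ := Core.exists_conj_le_piHall hTπ (K := Y.subgroupOf W) fun u hu hd => by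
    rw [Nat.card_congr (subgroupOfEquivOfLe hYV).toEquiv, hY] at hd
    exact ((Nat.prime_dvd_prime_iff_eq hu Fact.out).mp hd) ▸ hqπ
  refine fin k⁻¹ (fun v hv => ?_) fun y hy => ?_
  · refine Transfer.mem_map_conj.mpr ?_
    rw [inv_inv]
    exact hVM' ((mem_normalizer_iff.mp hkW v).mp hv)
  · refine Transfer.mem_map_conj.mpr ?_
    rw [inv_inv]
    have h6 := hk ((Subgroup.smul_mem_pointwise_smul_iff (a := MulAut.conj (⟨k, hkW⟩ : W))).mpr
      (show (⟨y, hYV hy⟩ : W) ∈ Y.subgroupOf W from hy))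
    exact (mem_subgroupOf.mp h6).1

/-- BG 14.7 (b): `K*` is a Hall `σ(M)`-subgroup of `M*`. -/
theorem Pair.hall_sigma (p : Pair M K H) (d : Data M K E) (hG : Cfsg.IsMinSimpleOddOrder G) :
    Cfsg.IsPiHallOf (Cfsg.sigma M) (Kstar M K) H := by
  obtain ⟨F, dH⟩ := p.data
  refine ⟨le_sup_right.trans p.Z_le, fun t ht hd => d.sigma_star hG ht hd, fun t ht htσ hd => ?_⟩
  have := Fact.mk ht
  have htH : t ∉ Cfsg.sigma H := fun h => by
    obtain ⟨g, hg⟩ := SigmaDisjoint.sigma_disjoint hG d.max dH.max htσ h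
    exact p.nconj d hG g hg
  have htκ : t ∉ Cfsg.kappa H := fun h => dH.hall.2.2 t ht h hd
  obtain ⟨U, hUE, hUc, hU, hEU, -⟩ := dH.exists_U hG
  have hdU : t ∣ Nat.card U := by
    by_contra hnd
    have h2 : t ∣ Nat.card U * U.relIndex H := by
      rw [← relIndex_bot_left U, relIndex_mul_relIndex ⊥ U H bot_le hU.1, relIndex_bot_left]
      exact hd.trans ((Kstar M K).subgroupOf H).index_dvd_card
    exact hU.2.2 t ht ⟨ht, htκ, htH⟩ ((ht.dvd_mul.mp h2).resolve_left hnd)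
  obtain ⟨P⟩ : Nonempty (Sylow t U) := inferInstance
  set R := (P : Subgroup U).map U.subtype with hR
  have hPn : (P : Subgroup U).Normal := ⟨fun n hn g => by rwa [hUc.is_comm.comm g n, mul_inv_cancel_right]⟩
  have := P.characteristic_of_normal hPn
  have hsR : Kstar M K ≤ normalizer (R : Set G) :=
    dH.le.trans (hEU.trans (PLengthEndgame.normalizer_le_char U (P : Subgroup U)))
  have hR1 : R ≠ ⊥ := fun e => by
    have h0 : (P : Subgroup U) = ⊥ := (map_eq_bot_iff_of_injective _ U.subtype_injective).mp e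
    have := P.not_dvd_index
    rw [h0, index_bot] at this
    exact this hdU
  have hRH : R ≤ H := (map_subtype_le _).trans hU.1
  obtain ⟨q, Y, hq, hY, hYs⟩ := exists_prime_sub d.star_ne_bot
  have := Fact.mk hq
  -- a line of `R` in `M`
  obtain ⟨V, hV, hVR, hVM⟩ : ∃ V : Subgroup G, Nat.card V = t ∧ V ≤ R ∧ V ≤ M := by
    obtain ⟨V, hV, hVR⟩ := exists_line (P.2.map U.subtype) hR1
    by_cases hc : IsCyclic R
    · exact ⟨V, hV, hVR, d.line_le_of_normalized hG hV htσ hY hYs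
        ((hYs.trans hsR).trans (SigmaEmbedding.normalizer_le_of_cyclic hc hVR))⟩
    refine ⟨V, hV, hVR, hVR.trans ?_⟩
    obtain ⟨g₀, hg₀⟩ := SigmaEmbedding.conj_into (TauTwoFacts.structure_tau2 hG) hG d.max hR1 fun u hu hdu => by
      obtain ⟨n, hn⟩ := IsPGroup.iff_card.mp (P.2.map U.subtype)
      rw [hn] at hdu
      rw [(Nat.prime_dvd_prime_iff_eq hu ht).mp (hu.dvd_of_dvd_pow hdu)]
      exact htσ
    set M' := M.map (MulAut.conj g₀⁻¹).toMonoidHom with hM'
    have hRM' : R ≤ M' := fun x hx => Transfer.mem_map_conj.mpr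
      (by simpa [mul_assoc] using sigmaCore_le M (hg₀ ⟨x, hx, rfl⟩))
    have hYM' : Y ≤ M' := (hYs.trans hsR).trans (TauTwo.normalizer_le_of_noncyclic hG
      (SylowUnique.isCoatom_conj d.max _) ((SigmaDisjoint.sigma_conj g₀⁻¹).mpr htσ) (P.2.map _) hRM' hc)
    have hc' := SigmaIntersection.mem_of_only hG d.max
      (d.sigma_star hG hq (hY ▸ card_dvd_of_le hYs)) (isPGroup_of_card_eq hY) (ne_bot_of_card_eq hY)
      (hYs.trans (Data.star_le_M M K)) (d.only_fixed hG hY hYs).1 hYM'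
    rwa [hM', Support.map_conj_of_mem hc'] at hRM'
  have hVs : V ≤ Kstar M K := (le_inf (le_sigmaCore hG d.max htσ (isPGroup_of_card_eq hV) hVM)
    (hVR.trans hRH)).trans (p.core_inf d hG).le
  exact htκ (dH.hall.2.1 t ht (hV ▸ card_dvd_of_le hVs))

end CfsgLib.OddLocal.Kappa
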