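import Cfsg.Agent.Lib.OddLocal.OddStable
import Cfsg.Agent.Lib.OddLocal.Coprime
import Cfsg.Agent.Lib.PLocal.Factorization
import Cfsg.Agent.Lib.PLocal.PStable
import Cfsg.Agent.Lib.PGroups.ClassTwo
import Cfsg.Agent.Lib.PGroups.Omega

/-!
`Z(J(S))` for the elementary abelian Thompson subgroup: it is normal when `O_{p'}(G) = 1`, `G` solvable of
odd order.
-/

set_option autoImplicit false

namespace CfsgLib.OddLocal

open Subgroup CfsgLib.PLocal
open scoped commutatorElement

variable {G : Type*} [Group G] {p : ℕ}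

theorem centerThompson_le_centralizer (S : Subgroup G) :
    Cfsg.centerThompsonOf p S ≤ centralizer (Cfsg.thompsonSubgroupOf p S : Set G) := inf_le_right

theorem centerThompson_le (S : Subgroup G) : Cfsg.centerThompsonOf p S ≤ S :=
  inf_le_left.trans (map_subtype_le _)

theorem centerThompson_comm (S : Subgroup G) : IsMulCommutative (Cfsg.centerThompsonOf p S) := by
  rw [← le_centralizer_iff_isMulCommutative]
  exact inf_le_right.trans (centralizer_le (SetLike.coe_subset_coe.2 inf_le_left))

theorem centerThompson_map {H : Type*} [Group H] (f : G →* H) (S : Subgroup G) (hf : Disjoint S f.ker) :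
    (Cfsg.centerThompsonOf p S).map f = Cfsg.centerThompsonOf p (S.map f) := by
  rw [Cfsg.centerThompsonOf, Cfsg.centerThompsonOf,
    map_centralizer_of_injOn f (Cfsg.thompsonSubgroupOf p S) (hf.mono_left (map_subtype_le _)), thompsonOf_map f S hf]

theorem normalizer_le_normalizer_centerThompson (S : Subgroup G) :
    normalizer (S : Set G) ≤ normalizer (Cfsg.centerThompsonOf p S : Set G) := by
  intro g hg
  rw [mem_normalizer_iff_map_conj_eq] at hg ⊢
  conv_rhs => rw [← hg]
  exact centerThompson_map (MulAut.conj g).toMonoidHom S (by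
    rw [(MonoidHom.ker_eq_bot_iff _).2 (MulAut.conj g).injective]; exact disjoint_bot_right)

variable [Finite G]

theorem thompsonOf_eq_sSup (T : Subgroup G) :
    Cfsg.thompsonSubgroupOf p T
      = sSup {A : Subgroup G | IsMaxIn (fun A => Cfsg.IsElementaryAbelian p A) T A} := by
  rw [Cfsg.thompsonSubgroupOf, Cfsg.thompsonSubgroup]
  refine le_antisymm (map_le_iff_le_comap.2 (sSup_le fun A hA => map_le_iff_le_comap.1
    (le_sSup ((maxElementary_image T).le ⟨A, hA, rfl⟩)))) (sSup_le fun A hA => ?_)
  obtain ⟨A, hA', rfl⟩ := (maxElementary_image T).ge hA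
  exact map_mono (le_sSup hA')

omit [Finite G] in
theorem mem_of_commute {S A : Subgroup G} [Finite G]
    (hA : IsMaxIn (fun A => Cfsg.IsElementaryAbelian p A) S A) {x : G} (hx : x ∈ S) (hxp : x ^ p = 1)
    (hc : ∀ a ∈ A, a * x = x * a) : x ∈ A := by
  have he : Cfsg.IsElementaryAbelian p (zpowers x ⊔ A : Subgroup G) :=
    elementary_sup (elementary_zpowers hxp) hA.2.1 (zpowers_le.2 (mem_centralizer_iff.2 hc))
  rw [Subgroup.eq_of_le_of_card_ge (le_sup_right : A ≤ zpowers x ⊔ A)
    (hA.2.2 _ (sup_le (zpowers_le.2 hx) hA.1) he)]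
  exact (le_sup_left : zpowers x ≤ zpowers x ⊔ A) (mem_zpowers x)

theorem inf_centerThompson_normal [Fact p.Prime] (hp : p ≠ 2) (S : Sylow p G)
    (hst : StableAt p (S : Subgroup G)) : ∀ B : Subgroup G, B.Normal → IsPGroup p B →
      (B ⊓ Cfsg.centerThompsonOf p (S : Subgroup G)).Normal := by
  set S₀ := (S : Subgroup G) with hS₀
  set Z := Cfsg.centerThompsonOf p S₀ with hZ
  intro B
  induction hn : Nat.card B using Nat.strong_induction_on generalizing B with
  | _ n ih =>
    intro hB hBp
    have hBS : B ≤ S₀ := hBp.le_sylow_of_normal S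
    have hSZ : S₀ ≤ normalizer (Z : Set G) :=
      le_normalizer.trans (normalizer_le_normalizer_centerThompson S₀)
    set X := B ⊓ Z with hX
    have hXZ : X ≤ Z := inf_le_right
    set B₁ := normalClosure (X : Set G) with hB₁
    have hB₁n : B₁.Normal := normalClosure_normal
    have hB₁B : B₁ ≤ B := normalClosure_le_normal (SetLike.coe_subset_coe.2 inf_le_left)
    have hXB₁ : X ≤ B₁ := fun x hx => subset_normalClosure hx
    rcases hB₁B.lt_or_eq with hlt | hBeq
    · have := ih _ (hn ▸ Set.Finite.card_lt_card (Set.toFinite _) (SetLike.coe_ssubset_coe.2 hlt))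
        B₁ rfl hB₁n (hBp.to_le hB₁B)
      have heq : B₁ ⊓ Z = X := le_antisymm (inf_le_inf_right _ hB₁B) (le_inf hXB₁ hXZ)
      rwa [heq] at this
    rcases eq_or_ne B ⊥ with hbot | hbot
    · have : X = ⊥ := by rw [hX, hbot]; simp
      rw [this]; exact normal_bot
    have hB'lt : ⁅B, B⁆ < B := by
      have := hBp.isNilpotent
      exact CfsgLib.Core.commutator_self_lt inferInstance hbot
    have hY : (⁅B, B⁆ ⊓ Z).Normal := ih _
      (hn ▸ Set.Finite.card_lt_card (Set.toFinite _) (SetLike.coe_ssubset_coe.2 hB'lt))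
      _ rfl (commutator_normal B B) (hBp.to_le hB'lt.le)
    set Y := ⁅B, B⁆ ⊓ Z with hYdef
    have hB'Z : ⁅B, B⁆ ≤ Z := by
      set π := QuotientGroup.mk' Y with hπ
      set K := (centralizer ((B.map π : Subgroup (G ⧸ Y)) : Set (G ⧸ Y))).comap π with hK
      have hBn : (B.map π).Normal := hB.map π (QuotientGroup.mk'_surjective _)
      have hXK : X ≤ K := by
        intro x hx
        rw [hK, mem_comap, mem_centralizer_iff]
        rintro _ ⟨b, hb, rfl⟩
        rw [← map_mul, ← map_mul, ← mul_inv_eq_one, ← map_inv, ← map_mul]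
        refine (QuotientGroup.eq_one_iff _).2 ?_
        have e : b * x * (x * b)⁻¹ = ⁅b, x⁆ := by rw [commutatorElement_def]; group
        rw [e]
        exact ⟨commutator_mem_commutator hb hx.1,
          Z.mul_mem ((mem_normalizer_iff.1 ((hBS.trans hSZ) hb) x).1 hx.2) (Z.inv_mem hx.2)⟩
      have hBK : B ≤ K := hBeq ▸ normalClosure_le_normal (SetLike.coe_subset_coe.2 hXK)
      refine le_trans ?_ (inf_le_right : Y ≤ Z)
      refine commutator_le.2 fun a ha b hb => (QuotientGroup.eq_one_iff _).1 ?_
      show π ⁅a, b⁆ = 1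
      rw [map_commutatorElement, commutatorElement_eq_one_iff_mul_comm]
      exact mem_centralizer_iff.1 (hBK hb) _ ⟨a, ha, rfl⟩
    -- `B` has class at most two
    have hBc : B ≤ centralizer ((⁅B, B⁆ : Subgroup G) : Set G) := by
      conv_lhs => rw [← hBeq, hB₁]
      refine normalClosure_le_normal ?_
      rw [SetLike.coe_subset_coe]
      have hZc : Z ≤ centralizer (Z : Set G) :=
        le_centralizer_iff_isMulCommutative.2 (centerThompson_comm S₀)
      exact hXZ.trans (hZc.trans (centralizer_le (SetLike.coe_subset_coe.2 hB'Z)))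
    have hcB : ∀ a b : B, ⁅a, b⁆ ∈ center B := fun a b => mem_center_iff.2 fun c => Subtype.ext
      (mem_centralizer_iff.1 (hBc c.2) _ (commutator_mem_commutator a.2 b.2)).symm
    -- the elements of order `p`
    set B₀ := Cfsg.omegaOne p B with hB₀
    have hB₀B : B₀ ≤ B := CfsgLib.PGroups.omegaOne_le B
    have hB₀n : B₀.Normal := inferInstance
    have hB₀exp : ∀ x ∈ B₀, x ^ p = 1 := by
      intro x hx
      induction hx using Subgroup.closure_induction with
      | mem y hy => exact hy.2
      | one => exact one_pow p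
      | mul a b ha hb iha ihb =>
        have haB : a ∈ B := hB₀B ha
        have hbB : b ∈ B := hB₀B hb
        have h := CfsgLib.PGroups.mul_pow_of_central_odd (x := (⟨a, haB⟩ : B)) (y := ⟨b, hbB⟩)
          (hcB _ _) ((Fact.out : p.Prime).odd_of_ne_two hp) ?_
        · have h2 : (a * b) ^ p = a ^ p * b ^ p := congrArg Subtype.val h
          rw [h2, iha, ihb, one_mul]
        · rw [← CfsgLib.PGroups.comm_pow_left_of_central (hcB _ _),
            show (⟨b, hbB⟩ : B) ^ p = 1 from Subtype.ext ihb, commutatorElement_one_left]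
      | inv a _ iha => rw [inv_pow, iha, inv_one]
    have hB₀c : ∀ A, IsMaxIn (fun A => Cfsg.IsElementaryAbelian p A) S₀ A → ⁅B₀, B₀⁆ ≤ A := by
      intro A hA x hx
      have hxB : x ∈ ⁅B, B⁆ := commutator_mono hB₀B hB₀B hx
      have hxZ := hB'Z hxB
      refine mem_of_commute hA (centerThompson_le S₀ hxZ)
        (hB₀exp x (Subgroup.commutator_le_self B₀ hx)) fun a ha => ?_
      exact mem_centralizer_iff.1 (centerThompson_le_centralizer S₀ hxZ) a
        ((thompsonOf_eq_sSup (p := p) S₀).ge (Subgroup.mem_sSup_of_mem hA ha))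
    -- `L`
    set L := (normalizer (X : Set G)).normalCore with hL
    have hLX : L ≤ normalizer (X : Set G) := normalCore_le _
    have hLn : L.Normal := normalCore_normal _
    set T := S₀ ⊓ L with hT
    have hnd : ¬ p ∣ S₀.relIndex L := fun hd =>
      S.not_dvd_index (hd.trans (CfsgLib.HallGen.relIndex_dvd_index_right _ _))
    let T' : Sylow p L := (S.2.comap_subtype).toSylow hnd
    have hT' : (T' : Subgroup L).map L.subtype = T := subgroupOf_map_subtype _ _
    have hfr : normalizer (T : Set G) ⊔ L = ⊤ := hT' ▸ Sylow.normalizer_sup_eq_top T'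
    have hXn : normalizer (X : Set G) = ⊤ → X.Normal := normalizer_eq_top_iff.1
    have hJT : ∀ A, IsMaxIn (fun A => Cfsg.IsElementaryAbelian p A) S₀ A → A ≤ L →
        IsMaxIn (fun A => Cfsg.IsElementaryAbelian p A) T A := fun A hA hAL =>
      ⟨le_inf hA.1 hAL, hA.2.1, fun C h1 h2 => hA.2.2 C (h1.trans inf_le_left) h2⟩
    have hP : GoodPred (G := G) p (fun A => Cfsg.IsElementaryAbelian p A) := goodPred_elementary p
    by_cases hall : ∀ A, IsMaxIn (fun A => Cfsg.IsElementaryAbelian p A) S₀ A → A ≤ L
    · obtain ⟨A, hA⟩ := exists_maxIn hP S₀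
      have heq : Cfsg.centerThompsonOf p T = Z := by
        have hJ : Cfsg.thompsonSubgroupOf p T = Cfsg.thompsonSubgroupOf p S₀ := by
          rw [thompsonOf_eq_sSup, thompsonOf_eq_sSup]
          refine le_antisymm (sSup_le_sSup fun C hC => ?_) (sSup_le_sSup fun C hC => hJT C hC (hall C hC))
          refine ⟨hC.1.trans inf_le_left, hC.2.1, fun D h1 h2 => (hA.2.2 D h1 h2).trans ?_⟩
          exact hC.2.2 A (le_inf hA.1 (hall A hA)) hA.2.1
        rw [hZ, Cfsg.centerThompsonOf, hJ, Cfsg.centerThompsonOf]
      refine hXn (eq_top_iff.2 (hfr ▸ sup_le ?_ hLX))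
      refine le_trans ?_ inf_normalizer_le_normalizer_inf
      refine le_inf le_normalizer_of_normal ?_
      rw [← heq]
      exact normalizer_le_normalizer_centerThompson T
    · exfalso
      push Not at hall
      obtain ⟨A₁, hA₁, hA₁L⟩ := hall
      have hSB₀ : S₀ ≤ normalizer (B₀ : Set G) := le_normalizer_of_normal
      have hQ : ∀ A A', IsMaxIn (fun A => Cfsg.IsElementaryAbelian p A) S₀ A → ¬ A ≤ L →
          IsMaxIn (fun A => Cfsg.IsElementaryAbelian p A) S₀ A' → ⁅B₀, B₀⁆ ≤ A' →
          A' ⊓ B₀ < B₀ → ¬ A' ≤ L := by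
        intro A A' _ _ hA' _ hlt hA'L
        have hJle : Cfsg.thompsonSubgroupOf p T ≤ Cfsg.thompsonSubgroupOf p S₀ := by
          rw [thompsonOf_eq_sSup, thompsonOf_eq_sSup]
          refine sSup_le_sSup fun C hC => ?_
          exact ⟨hC.1.trans inf_le_left, hC.2.1, fun D h1 h2 => (hA'.2.2 D h1 h2).trans
            (hC.2.2 A' (le_inf hA'.1 hA'L) hA'.2.1)⟩
        have hBle : B ≤ centralizer (Cfsg.thompsonSubgroupOf p T : Set G) := by
          rw [← hBeq, hB₁, normalClosure, Subgroup.closure_le]
          intro y hy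
          obtain ⟨x, hx, hxy⟩ := Group.mem_conjugatesOfSet_iff.1 hy
          obtain ⟨g, rfl⟩ := isConj_iff.1 hxy
          have hg : g ∈ normalizer (T : Set G) ⊔ L := hfr.symm ▸ mem_top g
          rw [← SetLike.mem_coe,
            coe_mul_of_left_le_normalizer_right _ L le_normalizer_of_normal] at hg
          obtain ⟨m, hm, l, hl, rfl⟩ := hg
          have h1 : l * x * l⁻¹ ∈ X := (mem_normalizer_iff.1 (hLX hl) x).1 hx
          have h2 : l * x * l⁻¹ ∈ centralizer (Cfsg.thompsonSubgroupOf p T : Set G) :=
            centralizer_le (SetLike.coe_subset_coe.2 hJle) (centerThompson_le_centralizer S₀ h1.2)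
          refine mem_centralizer_iff.2 fun j hj => ?_
          have hm' : (MulAut.conj m⁻¹).toMonoidHom j ∈ Cfsg.thompsonSubgroupOf p T := by
            have hmT : T.map (MulAut.conj m⁻¹).toMonoidHom = T :=
              mem_normalizer_iff_map_conj_eq.1 (inv_mem hm)
            have := mem_map_of_mem (MulAut.conj m⁻¹).toMonoidHom hj
            rwa [thompsonOf_conj, hmT] at this
          have h3 := mem_centralizer_iff.1 h2 _ hm'
          have h4 := congrArg (fun w => m * w * m⁻¹) h3
          simpa [mul_assoc] using h4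
        refine hlt.ne (inf_eq_right.2 fun b hb => ?_)
        refine mem_of_commute hA' (hBS (hB₀B hb)) (hB₀exp b hb) fun a ha => ?_
        exact mem_centralizer_iff.1 (hBle (hB₀B hb)) a
          ((thompsonOf_eq_sSup (p := p) T).ge (Subgroup.mem_sSup_of_mem (hJT A' hA' hA'L) ha))
      obtain ⟨A, hA, hAL, _, hBA⟩ := exists_max_normalized hp hP S.2 (hB₀B.trans hBS) hSB₀ le_rfl
        le_normalizer (fun A => ¬ A ≤ L) hQ ⟨A₁, hA₁, hA₁L, hB₀c A₁ hA₁⟩
      apply hAL
      set C := centralizer (B₀ : Set G) with hC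
      set K := (Cfsg.pCore p (G ⧸ C)).comap (QuotientGroup.mk' C) with hK
      have hAK : A ≤ K := by
        intro a ha
        refine hst B₀ (hBp.to_le hB₀B) a (hA.1 ha) ?_
        refine eq_bot_iff.2 ((commutator_mono (commutator_mono le_rfl (zpowers_le.2 ha))
          (zpowers_le.2 ha)).trans ?_)
        refine (commutator_mono (le_normalizer_iff_commutator_le_right.1 hBA) le_rfl).trans ?_
        exact ((commutator_self_eq_bot_iff (H := A)).2 (hP.comm hA.2.1)).le
      refine hAK.trans ?_
      have hKX : K ≤ normalizer (X : Set G) := by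
        set D := centralizer (B : Set G) with hD
        have hDK : D ≤ K := fun d hd => by
          have h1 : d ∈ C := centralizer_le (SetLike.coe_subset_coe.2 hB₀B) hd
          show QuotientGroup.mk' C d ∈ Cfsg.pCore p (G ⧸ C)
          rw [show QuotientGroup.mk' C d = 1 from (QuotientGroup.eq_one_iff d).2 h1]
          exact one_mem _
        have hpg : IsPGroup p (K.map (QuotientGroup.mk' D)) := by
          rintro ⟨_, g, hg, rfl⟩
          obtain ⟨e, m, hm, hem⟩ := Nat.exists_eq_pow_mul_and_not_dvd (orderOf_pos g).ne' p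
            (Fact.out : p.Prime).ne_one
          refine ⟨e, Subtype.ext ?_⟩
          show QuotientGroup.mk' D g ^ p ^ e = 1
          rw [← map_pow]
          refine (QuotientGroup.eq_one_iff _).2 ?_
          have ham : (g ^ p ^ e) ^ m = 1 := by rw [← pow_mul, ← hem, pow_orderOf_eq_one]
          have haC : g ^ p ^ e ∈ C := by
            have hgK : QuotientGroup.mk' C g ∈ Cfsg.pCore p (G ⧸ C) := hg
            obtain ⟨j, hj⟩ := CfsgLib.Core.isPGroup_pCore p (G ⧸ C) ⟨_, hgK⟩
            have hj' : QuotientGroup.mk' C (g ^ p ^ e) ^ p ^ j = 1 := by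
              have h0 : QuotientGroup.mk' C g ^ p ^ j = 1 := congrArg Subtype.val hj
              rw [map_pow, ← pow_mul, mul_comm, pow_mul, h0, one_pow]
            refine (QuotientGroup.eq_one_iff _).1 (CfsgLib.OddLocal.eq_one_of_pow_eq_one_coprime (m := m)
              (n := p ^ j) ?_ hj' (Nat.Coprime.pow_right j ((Fact.out : p.Prime).coprime_iff_not_dvd.2 hm).symm))
            show QuotientGroup.mk' C (g ^ p ^ e) ^ m = 1
            rw [← map_pow, ham, map_one]
          refine centralizes_of_fixes_order_p hp ham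
            ((Fact.out : p.Prime).coprime_iff_not_dvd.2 hm).symm hBp ?_ fun x hx hxo => ?_
          · rw [Subgroup.normalizer_eq_top]; trivial
          · exact (mem_centralizer_iff.1 haC x
              (CfsgLib.PGroups.mem_omegaOne hx (by rw [← hxo, pow_orderOf_eq_one]))).symm
        obtain ⟨k, hk⟩ := hpg.exists_card_eq
        have hidx : D.relIndex K = p ^ k := by
          have h := relIndex_ker (QuotientGroup.mk' D) (K := K)
          rw [QuotientGroup.ker_mk'] at h
          rw [h, hk]
        rw [← pGroup_mod_eq_sup hDK ⟨k, hidx⟩ S]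
        refine sup_le (inf_le_left.trans ?_) ?_
        · exact le_trans (le_inf le_normalizer_of_normal hSZ) inf_normalizer_le_normalizer_inf
        · exact le_trans (centralizer_le (SetLike.coe_subset_coe.2 inf_le_left))
            (centralizer_le_normalizer _)
      exact normal_le_normalCore.2 hKX

/-- `Z(J(S)) O_{p'}(G)` is normal. -/
theorem centerThompson_sup_normal [Group.IsSolvable G] (hodd : Odd (Nat.card G)) [Fact p.Prime]
    (hp : p ≠ 2) (S : Sylow p G) :
    (Cfsg.centerThompsonOf p (S : Subgroup G) ⊔ Cfsg.pPrimeCore p G).Normal := by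
  set N := Cfsg.pPrimeCore p G with hN
  set π := QuotientGroup.mk' N with hπ
  have hsurj : Function.Surjective π := QuotientGroup.mk'_surjective N
  have hodd' : Odd (Nat.card (G ⧸ N)) := hodd.of_dvd_nat (Subgroup.card_dvd_of_surjective π hsurj)
  have h0 : Cfsg.pPrimeCore p (G ⧸ N) = ⊥ := CfsgLib.Core.pPrimeCore_quotient_pPrimeCore p G
  set S' := S.mapSurjective hsurj with hS'
  set Z' := Cfsg.centerThompsonOf p (S' : Subgroup (G ⧸ N)) with hZ'
  have hst := stableAt_of_odd hodd' hp (S' : Subgroup (G ⧸ N))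
  have hle : Z' ≤ Cfsg.pCore p (G ⧸ N) := le_pCore_of_abelian hodd' hp h0 (centerThompson_comm _)
    ((CfsgLib.Core.pCore_le_sylow S').trans (le_normalizer.trans (normalizer_le_normalizer_centerThompson _)))
  have hnZ : Z'.Normal := by
    have := inf_centerThompson_normal hp S' hst _ inferInstance (CfsgLib.Core.isPGroup_pCore p (G ⧸ N))
    rwa [inf_eq_right.2 hle] at this
  have hmap : (Cfsg.centerThompsonOf p (S : Subgroup G)).map π = Z' := by
    rw [hZ', Sylow.coe_mapSurjective]
    exact centerThompson_map π _ (by rw [hπ, QuotientGroup.ker_mk']; exact disjoint_pPrime S.2)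
  have := hnZ.comap π
  rwa [← hmap, comap_map_eq, hπ, QuotientGroup.ker_mk'] at this

end CfsgLib.OddLocal
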