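import Cfsg.Agent.Lib.OddLocal.CNMaximal
import Mathlib.Data.Nat.Factorization.Basic

/-!
The kernels of the maximal subgroups of a minimal simple CN-group of odd order partition the group.
-/

set_option autoImplicit false

namespace CfsgLib.OddLocal.CNSimple

open Subgroup

universe u

variable {G : Type u} [Group G] [Finite G] (hG : Cfsg.IsMinSimpleOddOrder G)
  (hCN : Cfsg.IsCNGroup G)

omit [Finite G] in
theorem maximal_map_conj {H : Subgroup G} (g : G) (hH : Group.IsNilpotent H)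
    (hmax : ∀ L : Subgroup G, Group.IsNilpotent L → H ≤ L → L = H) :
    Group.IsNilpotent (H.map (MulAut.conj g).toMonoidHom) ∧
      ∀ L : Subgroup G, Group.IsNilpotent L → H.map (MulAut.conj g).toMonoidHom ≤ L →
        L = H.map (MulAut.conj g).toMonoidHom := by
  refine ⟨CfsgLib.Core.isNilpotent_map _ _, fun L hL hle => ?_⟩
  have h1 := hmax (L.comap (MulAut.conj g).toMonoidHom) ?_ (map_le_iff_le_comap.1 hle)
  · rw [← h1, map_comap_eq_self_of_surjective (MulAut.conj g).surjective]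
  · rw [comap_equiv_eq_map_symm']
    exact CfsgLib.Core.isNilpotent_map _ _

theorem exists_maximal_nilpotent_ge {K : Subgroup G} (hK : Group.IsNilpotent K) :
    ∃ H : Subgroup G, K ≤ H ∧ Group.IsNilpotent H ∧
      ∀ L : Subgroup G, Group.IsNilpotent L → H ≤ L → L = H := by
  obtain ⟨H, hKH, hmax⟩ := Finite.exists_le_maximal (p := fun L : Subgroup G => Group.IsNilpotent L) hK
  exact ⟨H, hKH, hmax.prop, fun L hL hle => (hmax.eq_of_le hL hle).symm⟩

include hG hCN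

theorem ti' {H : Subgroup G} (hH : Group.IsNilpotent H)
    (hmax : ∀ L : Subgroup G, Group.IsNilpotent L → H ≤ L → L = H) :
    ∀ g : G, g ∉ normalizer (H : Set G) → ∀ x ∈ H, g * x * g⁻¹ ∈ H → x = 1 := by
  intro g hg x hx hgx
  have hne : H.map (MulAut.conj g).toMonoidHom ≠ H := fun h => hg (mem_normalizer_iff_map_conj_eq.2 h)
  have := (ti_of_maximal_nilpotent hG hCN hH hmax g hne).le ⟨hgx, x, hx, rfl⟩
  exact conj_eq_one_iff.1 (mem_bot.1 this)

/-- Maximal nilpotent subgroups are conjugate or of coprime orders. -/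
theorem conj_or_coprime {H₁ H₂ : Subgroup G} (h₁ : Group.IsNilpotent H₁)
    (m₁ : ∀ L : Subgroup G, Group.IsNilpotent L → H₁ ≤ L → L = H₁) (h₂ : Group.IsNilpotent H₂)
    (m₂ : ∀ L : Subgroup G, Group.IsNilpotent L → H₂ ≤ L → L = H₂) :
    (∃ g : G, H₂ = H₁.map (MulAut.conj g).toMonoidHom) ∨ (Nat.card H₁).Coprime (Nat.card H₂) := by
  refine or_iff_not_imp_right.2 fun hn => ?_
  obtain ⟨p, hp, hp1, hp2⟩ : ∃ p : ℕ, p.Prime ∧ p ∣ Nat.card H₁ ∧ p ∣ Nat.card H₂ :=
    Nat.Prime.not_coprime_iff_dvd.1 hn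
  have := Fact.mk hp
  obtain ⟨P₁, hP₁⟩ := CfsgLib.OddLocal.CN.sylow_le hCN h₁ m₁ hp1
  obtain ⟨P₂, hP₂⟩ := CfsgLib.OddLocal.CN.sylow_le hCN h₂ m₂ hp2
  obtain ⟨g, hg⟩ := MulAction.exists_smul_eq G P₁ P₂
  refine ⟨g, ?_⟩
  obtain ⟨hn', hm'⟩ := maximal_map_conj g h₁ m₁
  set H' := H₁.map (MulAut.conj g).toMonoidHom with hH'
  have hP₂' : (P₂ : Subgroup G) ≤ H' := by
    rw [← hg]; exact map_mono hP₁
  obtain ⟨z, hz, hzo, hzc⟩ := CfsgLib.OddLocal.CN.exists_central_orderOf h₂ hp2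
  have hz1 : z ≠ 1 := fun h => hp.ne_one (by rw [← hzo, h, orderOf_one])
  obtain ⟨⟨x, hx⟩, hx1⟩ := ne_bot_iff_exists_ne_one.1
    (P₂.ne_bot_of_dvd_card (hp2.trans H₂.card_subgroup_dvd_card))
  have hx1' : x ≠ 1 := fun h => hx1 (Subtype.ext h)
  have hzH' : z ∈ H' := CfsgLib.OddLocal.CN.centralizer_le_of_ti hCN hn' hm' (ti' hG hCN hn' hm')
    (hP₂' hx) hx1' (mem_centralizer_singleton_iff.2 (hzc x (hP₂ hx)).symm)
  have hle : H₂ ≤ H' := fun h hh => CfsgLib.OddLocal.CN.centralizer_le_of_ti hCN hn' hm'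
    (ti' hG hCN hn' hm') hzH' hz1 (mem_centralizer_singleton_iff.2 (hzc h hh))
  exact (m₂ H' hn' hle).symm

/-- The prime graph relation "some commuting elements" is transitive. -/
theorem prime_edge_trans (p q r : ℕ) (hp : p.Prime) (hq : q.Prime) (hr : r.Prime) (x y y' z : G)
    (hx : x ≠ 1) (hy : y ≠ 1) (hy' : y' ≠ 1) (hz : z ≠ 1)
    (hxp : IsPGroup p (zpowers x)) (hyq : IsPGroup q (zpowers y)) (hy'q : IsPGroup q (zpowers y'))
    (hzr : IsPGroup r (zpowers z)) (hxy : x * y = y * x) (hyz : y' * z = z * y') :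
    ∃ x' z' : G, x' ≠ 1 ∧ z' ≠ 1 ∧ IsPGroup p (zpowers x') ∧ IsPGroup r (zpowers z') ∧
      x' * z' = z' * x' := by
  have := Fact.mk hp
  have := Fact.mk hr
  rcases eq_or_ne p r with rfl | hpr
  · exact ⟨x, x, hx, hx, hxp, hxp, rfl⟩
  have hmem : ∀ (s : ℕ) (a b : G), s.Prime → a ≠ 1 → IsPGroup s (zpowers a) → b * a = a * b →
      ∃ H : Subgroup G, Group.IsNilpotent H ∧ (∀ L : Subgroup G, Group.IsNilpotent L → H ≤ L → L = H) ∧
        a ∈ H ∧ b ∈ H ∧ s ∣ Nat.card H := by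
    intro s a b hs ha has hba
    obtain ⟨H, hle, hH, hmax⟩ := exists_maximal_nilpotent_ge (hCN a ha)
    refine ⟨H, hH, hmax, hle (mem_centralizer_singleton_iff.2 rfl),
      hle (mem_centralizer_singleton_iff.2 hba), ?_⟩
    have := Fact.mk hs
    obtain ⟨k, hk⟩ := has.exists_card_eq
    rw [Nat.card_zpowers] at hk
    have hk0 : k ≠ 0 := by rintro rfl; exact ha (orderOf_eq_one_iff.1 (by simpa using hk))
    exact ((dvd_pow_self s hk0).trans hk.symm.dvd).trans
      (H.orderOf_dvd_natCard (hle (mem_centralizer_singleton_iff.2 rfl)))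
  obtain ⟨H, hH, hHm, -, hxH, hqH⟩ := hmem q y x hq hy hyq hxy
  obtain ⟨H', hH', hH'm, -, hzH', hqH'⟩ := hmem q y' z hq hy' hy'q hyz.symm
  obtain ⟨g, rfl⟩ | hcop := conj_or_coprime hG hCN hH hHm hH' hH'm
  swap
  · exact absurd (Nat.eq_one_of_dvd_coprimes hcop hqH hqH') hq.ne_one
  obtain ⟨w, hw, rfl⟩ := hzH'
  have hw1 : w ≠ 1 := fun h => hz (by rw [h, map_one])
  have hwr : IsPGroup r (zpowers w) := by
    obtain ⟨k, hk⟩ := IsPGroup.iff_orderOf.1 hzr ⟨_, mem_zpowers _⟩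
    rw [orderOf_mk] at hk
    refine IsPGroup.of_card (n := k) ?_
    rw [Nat.card_zpowers, ← (MulAut.conj g).orderOf_eq w]
    exact hk
  refine ⟨x, w, hx, hw1, hxp, hwr, CfsgLib.OddLocal.commute_of_mem_nilpotent hH hxH hw ?_⟩
  obtain ⟨i, hi⟩ := IsPGroup.iff_orderOf.1 hxp ⟨x, mem_zpowers x⟩
  obtain ⟨j, hj⟩ := IsPGroup.iff_orderOf.1 hwr ⟨w, mem_zpowers w⟩
  rw [orderOf_mk] at hi hj
  rw [hi, hj]
  exact Nat.Coprime.pow _ _ ((Nat.coprime_primes hp hr).2 hpr)

theorem fittingHallOf_eq {M K : Subgroup G} (hN : normalizer (K : Set G) = M) (hK : Group.IsNilpotent K)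
    (hmax : ∀ L : Subgroup G, Group.IsNilpotent L → K ≤ L → L = K) :
    Cfsg.fittingHallOf M = K := by
  subst hN
  set N := normalizer (K : Set G)
  have hcop := CfsgLib.OddLocal.CN.coprime_index hCN hK hmax
  refine hmax _ ?_ ?_
  · have := (CfsgLib.OddLocal.fittingHall_spec N).1
    exact CfsgLib.Core.isNilpotent_map _ _
  · have hn : (K.subgroupOf N).Normal := normal_in_normalizer
    have hKn : Group.IsNilpotent (K.subgroupOf N) := by
      have := hK
      exact Group.nilpotent_of_mulEquiv (subgroupOfEquivOfLe Subgroup.le_normalizer).symm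
    intro x hx
    refine ⟨⟨x, Subgroup.le_normalizer hx⟩, CfsgLib.OddLocal.le_fittingHall hn hKn ?_ hx, rfl⟩
    rw [Nat.card_congr (subgroupOfEquivOfLe Subgroup.le_normalizer).toEquiv]
    exact hcop.coprime_dvd_right ⟨_, (relIndex_mul_index Subgroup.le_normalizer).symm⟩

/-- The kernels of representatives of the maximal subgroups. -/
theorem partition_kernels (k : ℕ) (Mrep : Fin k → Subgroup G) (hmax : ∀ i, IsCoatom (Mrep i))
    (hnc : ∀ i j, i ≠ j → ∀ g : G, Mrep j ≠ (Mrep i).map (MulAut.conj g).toMonoidHom)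
    (hall : ∀ M : Subgroup G, IsCoatom M → ∃ i, ∃ g : G, M = (Mrep i).map (MulAut.conj g).toMonoidHom) :
    (∀ i j, i ≠ j → (Nat.card (Cfsg.fittingHallOf (Mrep i))).Coprime
        (Nat.card (Cfsg.fittingHallOf (Mrep j)))) ∧
      ∏ i, Nat.card (Cfsg.fittingHallOf (Mrep i)) = Nat.card G ∧
      ∀ x : G, ∃ i, ∃ g : G, g * x * g⁻¹ ∈ Cfsg.fittingHallOf (Mrep i) := by
  have hex : ∀ i, ∃ K : Subgroup G, Cfsg.fittingHallOf (Mrep i) = K ∧ Group.IsNilpotent K ∧
      (∀ L : Subgroup G, Group.IsNilpotent L → K ≤ L → L = K) ∧ normalizer (K : Set G) = Mrep i := by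
    intro i
    obtain ⟨K, E, h, hN, hKmax⟩ := coatom_structure hG hCN (hmax i)
    exact ⟨K, fittingHallOf_eq hG hCN hN h.nil hKmax, h.nil, hKmax, hN⟩
  choose K hK hKn hKmax hKN using hex
  simp only [hK]
  have hpair : ∀ i j, i ≠ j → (Nat.card (K i)).Coprime (Nat.card (K j)) := by
    intro i j hij
    refine (conj_or_coprime hG hCN (hKn i) (hKmax i) (hKn j) (hKmax j)).resolve_left ?_
    rintro ⟨g, hg⟩
    refine hnc i j hij g ?_
    rw [← hKN j, ← hKN i, hg]
    exact (map_equiv_normalizer_eq _ (MulAut.conj g)).symm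
  have hcover : ∀ x : G, ∃ i, ∃ g : G, g * x * g⁻¹ ∈ K i := by
    intro x
    obtain ⟨H, hle, hH, hHm⟩ := exists_maximal_nilpotent_ge
      (show Group.IsNilpotent (zpowers x) by let : CommGroup (zpowers x) := IsCyclic.commGroup; exact CommGroup.isNilpotent)
    obtain ⟨hco, -⟩ := nilpotent_structure hG hCN hH hHm
    obtain ⟨i, g, hg⟩ := hall _ hco
    obtain ⟨hn', hm'⟩ := maximal_map_conj g (hKn i) (hKmax i)
    have hN' : normalizer (((K i).map (MulAut.conj g).toMonoidHom : Subgroup G) : Set G) =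
        normalizer (H : Set G) := by
      rw [hg, ← hKN i]; exact (map_equiv_normalizer_eq _ (MulAut.conj g)).symm
    have heq : H = (K i).map (MulAut.conj g).toMonoidHom :=
      (fittingHallOf_eq hG hCN rfl hH hHm).symm.trans
        (fittingHallOf_eq hG hCN hN' hn' hm')
    obtain ⟨w, hw, hwx⟩ := heq ▸ hle (mem_zpowers x)
    refine ⟨i, g⁻¹, ?_⟩
    have : g⁻¹ * x * g⁻¹⁻¹ = w := by rw [← hwx]; simp [mul_assoc]
    rwa [this]
  refine ⟨hpair, ?_, hcover⟩
  refine Nat.dvd_antisymm ?_ ?_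
  · exact Finset.prod_dvd_of_isRelPrime (fun i _ j _ hij => Nat.coprime_iff_isRelPrime.1 (hpair i j hij))
      fun i _ => (K i).card_subgroup_dvd_card
  · refine (Nat.factorization_prime_le_iff_dvd Nat.card_pos.ne'
      (Finset.prod_ne_zero_iff.2 fun i _ => Nat.card_pos.ne')).1 fun p hp => ?_
    have := Fact.mk hp
    by_cases hpd : p ∣ Nat.card G
    · obtain ⟨x, hx⟩ := exists_prime_orderOf_dvd_card' p hpd
      obtain ⟨i, g, hgx⟩ := hcover x
      have hpi : p ∣ Nat.card (K i) := by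
        rw [← hx, ← (MulAut.conj g).orderOf_eq x]
        exact (K i).orderOf_dvd_natCard hgx
      obtain ⟨P, hP⟩ := CfsgLib.OddLocal.CN.sylow_le hCN (hKn i) (hKmax i) hpi
      have h1 : p ^ (Nat.card G).factorization p ∣ ∏ j, Nat.card (K j) := by
        rw [← P.card_eq_multiplicity]
        exact (card_dvd_of_le hP).trans (Finset.dvd_prod_of_mem _ (Finset.mem_univ i))
      exact (hp.pow_dvd_iff_le_factorization (Finset.prod_ne_zero_iff.2 fun j _ => Nat.card_pos.ne')).1 h1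
    · rw [Nat.factorization_eq_zero_of_not_dvd hpd]; exact Nat.zero_le _

end CfsgLib.OddLocal.CNSimple
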