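import Mathlib.GroupTheory.PGroup
import Mathlib.GroupTheory.GroupAction.ConjAct
import Mathlib.Algebra.Group.Subgroup.Pointwise
import Mathlib.GroupTheory.QuotientGroup.Basic
import Cfsg.Prelude.Def_OddOrderLocal

/-!
The Puig series and maximal normal abelian subgroups of `p`-groups.
-/

set_option autoImplicit false

namespace CfsgLib.OddLocal

open Subgroup

variable {G : Type*} [Group G]

theorem puigStep_antitone {X Y : Subgroup G} (h : X ≤ Y) : Cfsg.puigStep Y ≤ Cfsg.puigStep X :=
  sSup_le_sSup fun _ hA => ⟨hA.1, h.trans hA.2⟩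

theorem puigStep_bot : Cfsg.puigStep (⊥ : Subgroup G) = ⊤ := by
  rw [eq_top_iff]
  intro g _
  exact (le_sSup (show Subgroup.zpowers g ∈ {A : Subgroup G | IsMulCommutative A ∧ ⊥ ≤ Subgroup.normalizer (A : Set G)}
    from ⟨inferInstance, bot_le⟩)) (Subgroup.mem_zpowers g)

theorem puigSeq_even_le_odd (n m : ℕ) : Cfsg.puigSeq G (2 * n) ≤ Cfsg.puigSeq G (2 * m + 1) := by
  induction n generalizing m with
  | zero => exact bot_le
  | succ n ih =>
    show Cfsg.puigStep (Cfsg.puigSeq G (2 * n + 1)) ≤ Cfsg.puigStep (Cfsg.puigSeq G (2 * m))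
    apply puigStep_antitone
    rcases m with _ | m
    · exact bot_le
    · show Cfsg.puigStep (Cfsg.puigSeq G (2 * m + 1)) ≤ Cfsg.puigStep (Cfsg.puigSeq G (2 * n))
      exact puigStep_antitone (ih m)

theorem puigSeq_even_mono : Monotone fun n => Cfsg.puigSeq G (2 * n) := by
  refine monotone_nat_of_le_succ fun n => ?_
  induction n with
  | zero => exact bot_le
  | succ n ih => exact puigStep_antitone (puigStep_antitone ih)

theorem puigSeq_odd_anti : Antitone fun n => Cfsg.puigSeq G (2 * n + 1) := fun _ _ h =>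
  puigStep_antitone (puigSeq_even_mono h)

theorem puig_stable [Finite G] : ∃ k : ℕ, ∀ n, k ≤ n →
    Cfsg.puigSeq G (2 * n) = Cfsg.puigLower G ∧ Cfsg.puigSeq G (2 * n + 1) = Cfsg.puigSubgroup G := by
  obtain ⟨k, hk⟩ := WellFoundedGT.monotone_chain_condition
    (⟨fun n => Cfsg.puigSeq G (2 * n), puigSeq_even_mono⟩ : ℕ →o Subgroup G)
  have hk' : ∀ n, k ≤ n → Cfsg.puigSeq G (2 * k) = Cfsg.puigSeq G (2 * n) := hk
  refine ⟨k, fun n hn => ⟨le_antisymm (le_iSup (fun i => Cfsg.puigSeq G (2 * i)) n) (iSup_le fun i => ?_),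
    le_antisymm (le_iInf fun i => ?_) (iInf_le (fun i => Cfsg.puigSeq G (2 * i + 1)) n)⟩⟩
  · refine (puigSeq_even_mono (le_max_left i k)).trans (le_of_eq ?_)
    exact ((hk' _ (le_max_right i k)).symm).trans (hk' n hn)
  · refine le_trans (le_of_eq ?_) (puigSeq_odd_anti (le_max_left i k))
    exact congrArg Cfsg.puigStep ((hk' n hn).symm.trans (hk' _ (le_max_right i k)))

/-- A nontrivial normal subgroup of a finite `p`-group meets the centre. -/
theorem exists_ne_one_mem_center {p : ℕ} [hp : Fact p.Prime] [Finite G] (hG : IsPGroup p G) {N : Subgroup G}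
    [hN : N.Normal] (hne : N ≠ ⊥) : ∃ x ∈ N, x ≠ 1 ∧ x ∈ Subgroup.center G := by
  have hNp : Nat.card N ≠ 1 := fun h => hne (Subgroup.card_eq_one.mp h)
  obtain ⟨k, hk⟩ := IsPGroup.iff_card.mp (hG.to_subgroup N)
  have hdvd : p ∣ Nat.card N := by
    rcases k with _ | k
    · exact absurd (by simpa using hk) hNp
    · rw [hk]; exact dvd_pow_self p (by omega)
  have hfix : (1 : N) ∈ MulAction.fixedPoints (ConjAct G) N := fun g => smul_one g
  obtain ⟨b, hb, hb1⟩ := (hG.of_equiv ConjAct.toConjAct).exists_fixed_point_of_prime_dvd_card_of_fixed_point N hdvd hfix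
  refine ⟨b, b.2, fun h => hb1 (Subtype.ext h.symm), Subgroup.mem_center_iff.mpr fun g => ?_⟩
  have := congrArg Subtype.val (hb (ConjAct.toConjAct g))
  rw [ConjAct.Subgroup.val_conj_smul, ConjAct.smul_def, ConjAct.ofConjAct_toConjAct] at this
  exact mul_inv_eq_iff_eq_mul.mp this

/-- A finite `p`-group has a normal abelian subgroup that is its own centraliser. -/
theorem exists_selfcentralizing_normal_abelian {p : ℕ} [Fact p.Prime] [Finite G] (hG : IsPGroup p G) :
    ∃ A : Subgroup G, A.Normal ∧ IsMulCommutative A ∧ Subgroup.centralizer (A : Set G) = A := by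
  obtain ⟨A, ⟨hAn, hAc⟩, hmax⟩ := Set.Finite.exists_maximal (Set.toFinite {A : Subgroup G | A.Normal ∧ IsMulCommutative A})
    ⟨⊥, inferInstance, inferInstance⟩
  refine ⟨A, hAn, hAc, le_antisymm ?_ (Subgroup.le_centralizer _)⟩
  by_contra hle
  set C := Subgroup.centralizer (A : Set G)
  have hC : C.Normal := inferInstance
  have : (C.map (QuotientGroup.mk' A)).Normal := hC.map _ (QuotientGroup.mk'_surjective A)
  obtain ⟨xb, hxC, hx1, hxZ⟩ := exists_ne_one_mem_center (hG.to_quotient A) (N := C.map (QuotientGroup.mk' A))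
    (by rw [ne_eq, Subgroup.map_eq_bot_iff, QuotientGroup.ker_mk']; exact hle)
  obtain ⟨x, hx, rfl⟩ := hxC
  have hxA : x ∉ A := fun h => hx1 ((QuotientGroup.eq_one_iff x).mpr h)
  have hBn : (A ⊔ Subgroup.zpowers x).Normal := by
    rw [show A ⊔ Subgroup.zpowers x = (Subgroup.zpowers (QuotientGroup.mk' A x)).comap (QuotientGroup.mk' A) by
      rw [← MonoidHom.map_zpowers, Subgroup.comap_map_eq, QuotientGroup.ker_mk', sup_comm]]
    apply Subgroup.Normal.comap
    refine ⟨fun y hy g => ?_⟩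
    have hzc : Subgroup.zpowers (QuotientGroup.mk' A x) ≤ Subgroup.center (G ⧸ A) := Subgroup.zpowers_le.mpr hxZ
    rw [Subgroup.mem_center_iff.mp (hzc hy) g, mul_inv_cancel_right]
    exact hy
  have hBc : IsMulCommutative ↥(A ⊔ Subgroup.zpowers x) := by
    rw [← Subgroup.le_centralizer_iff_isMulCommutative]
    have h1 : A ≤ Subgroup.centralizer (Subgroup.zpowers x : Set G) := by
      rw [Subgroup.le_centralizer_iff]; exact Subgroup.zpowers_le.mpr hx
    refine sup_le ?_ ?_
    · rw [Subgroup.le_centralizer_iff]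
      exact sup_le (Subgroup.le_centralizer _) (Subgroup.zpowers_le.mpr hx)
    · rw [Subgroup.le_centralizer_iff]
      exact sup_le h1 (Subgroup.le_centralizer _)
  exact hxA (hmax ⟨hBn, hBc⟩ le_sup_left (Subgroup.mem_sup_right (Subgroup.mem_zpowers x)))

theorem centralizer_le_puigStep {p : ℕ} [Fact p.Prime] [Finite G] (hG : IsPGroup p G) (X : Subgroup G) :
    Subgroup.centralizer ((Cfsg.puigStep X : Subgroup G) : Set G) ≤ Cfsg.puigStep X := by
  obtain ⟨A, hA, hAc, hAC⟩ := exists_selfcentralizing_normal_abelian hG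
  have hle : A ≤ Cfsg.puigStep X := le_sSup ⟨hAc, fun x _ => by rw [Subgroup.normalizer_eq_top]; trivial⟩
  exact (Subgroup.centralizer_le hle).trans (hAC.trans_le hle)

end CfsgLib.OddLocal
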