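import Cfsg.Agent.Lib.OddLocal.Supplement
import Cfsg.Agent.Lib.Core.SolvableStruct

/-!
Criteria for `p`-length one.
-/

set_option autoImplicit false

namespace CfsgLib.OddLocal.PLengthOne

open Subgroup

variable {H : Type*} [Group H] [Finite H] {p : ℕ} [hp : Fact p.Prime]

/-- A Sylow subgroup normal modulo `O_{p'}` gives `p`-length at most one. -/
theorem pLengthLE_one (S : Sylow p H) (hn : (Cfsg.pPrimeCore p H ⊔ (S : Subgroup H)).Normal) :
    Cfsg.PLengthLE p 1 H := by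
  set U1 := (Cfsg.upperPSeries p H (0 + 1)).1 with hU1
  have hU : U1 = Cfsg.pPrimeCore p H := upperPSeries_one p
  set V : Subgroup H := (Cfsg.pCore p (H ⧸ U1)).comap (QuotientGroup.mk' U1) with hV
  have hSV : (S : Subgroup H) ≤ V := by
    rw [hV, ← map_le_iff_le_comap]
    have hmap : (Cfsg.pPrimeCore p H ⊔ (S : Subgroup H)).map (QuotientGroup.mk' U1) =
        (S : Subgroup H).map (QuotientGroup.mk' U1) := by
      rw [Subgroup.map_sup, ← hU, QuotientGroup.map_mk'_self, bot_sup_eq]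
    have : ((S : Subgroup H).map (QuotientGroup.mk' U1)).Normal :=
      hmap ▸ hn.map _ (QuotientGroup.mk'_surjective U1)
    exact CfsgLib.Core.le_pCore (S.2.map _)
  have hidx : ¬ p ∣ V.index := fun h => S.not_dvd_index (h.trans (index_dvd_of_le hSV))
  show (Cfsg.pPrimeCore p (H ⧸ V)).comap (QuotientGroup.mk' V) = ⊤
  rw [eq_top_iff, ← comap_top (QuotientGroup.mk' V)]
  refine comap_mono (CfsgLib.Core.le_pPrimeCore ?_)
  rw [card_top, ← index_eq_card]
  exact (hp.out.coprime_iff_not_dvd.2 hidx).symm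

theorem pLengthLE_one_of_normal (S : Sylow p H) (hn : (S : Subgroup H).Normal) :
    Cfsg.PLengthLE p 1 H := pLengthLE_one S inferInstance

/-- `p`-length one lifts over normal `p'`-subgroups. -/
theorem of_pPrime_kernel {H' : Type*} [Group H'] (f : H →* H') (hf : Function.Surjective f)
    (hker : (Nat.card f.ker).Coprime p) (h : Cfsg.PLengthLE p 1 H') : Cfsg.PLengthLE p 1 H := by
  have : Finite H' := Finite.of_surjective f hf
  obtain ⟨S⟩ : Nonempty (Sylow p H) := inferInstance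
  set O' := Cfsg.pPrimeCore p H'
  set U := O'.comap f with hU
  have hUc : (Nat.card U).Coprime p := by
    have h1 := (f.ker.subgroupOf U).card_eq_card_quotient_mul_card_subgroup
    have hle : f.ker ≤ U := fun x hx => by
      show f x ∈ O'
      rw [MonoidHom.mem_ker.1 hx]; exact one_mem _
    rw [Nat.card_congr (subgroupOfEquivOfLe hle).toEquiv, ← index_eq_card] at h1
    have h2 : (f.ker.subgroupOf U).index = Nat.card (U.map f) := relIndex_ker f (K := U)
    rw [h1, h2, hU, map_comap_eq_self_of_surjective hf]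
    exact Nat.Coprime.mul_left (CfsgLib.Core.coprime_card_pPrimeCore p H') hker
  have hUO : U ≤ Cfsg.pPrimeCore p H := CfsgLib.Core.le_pPrimeCore hUc
  have hker' : f.ker ≤ Cfsg.pPrimeCore p H ⊔ (S : Subgroup H) := le_trans
    (CfsgLib.Core.le_pPrimeCore hker) le_sup_left
  have hO' : (Cfsg.pPrimeCore p H).map f = O' := by
    refine le_antisymm ?_ (map_comap_eq_self_of_surjective hf O' ▸ map_mono hUO)
    have : ((Cfsg.pPrimeCore p H).map f).Normal := (inferInstance : (Cfsg.pPrimeCore p H).Normal).map f hf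
    exact CfsgLib.Core.le_pPrimeCore
      ((CfsgLib.Core.coprime_card_pPrimeCore p H).coprime_dvd_left (card_map_dvd _ _))
  refine pLengthLE_one S ?_
  have hn := (pLengthOne_sylow h (S.mapSurjective hf)).1.comap f
  rw [Sylow.coe_mapSurjective, ← (show (Cfsg.pPrimeCore p H).map f = Cfsg.pPrimeCore p H' from hO'), ← Subgroup.map_sup, comap_map_eq_self hker'] at hn
  exact hn

theorem sylow_normal (h : Cfsg.PLengthLE p 1 H) (h0 : Cfsg.pPrimeCore p H = ⊥) (S : Sylow p H) :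
    (S : Subgroup H).Normal := by
  have := (pLengthOne_sylow h S).1
  rwa [h0, bot_sup_eq] at this

/-- Over a normal `p`-subgroup with trivial `O_{p'}` in the quotient. -/
theorem sylow_normal_of_one {H' : Type*} [Group H'] [Finite H'] (f : H →* H') (hf : Function.Surjective f)
    (hker : IsPGroup p f.ker) (h : Cfsg.PLengthLE p 1 H') (h0 : Cfsg.pPrimeCore p H' = ⊥) (S : Sylow p H) :
    (S : Subgroup H).Normal := by
  have hn := (sylow_normal h h0 (S.mapSurjective hf)).comap f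
  rw [Sylow.coe_mapSurjective, comap_map_eq_self (hker.le_sylow_of_normal S)] at hn
  exact hn

theorem exists_pow_mem {K : Type*} [Group K] [Finite K] (T : Subgroup K) (hT : IsPGroup p T) (v : K)
    (hv : v ∈ Cfsg.pPrimeCore p K ⊔ T) : ∃ n : ℕ, v ^ p ^ n ∈ Cfsg.pPrimeCore p K := by
  obtain ⟨a, ha, b, hb, rfl⟩ := mem_sup_of_normal_left.1 hv
  obtain ⟨n, hn⟩ := hT ⟨b, hb⟩
  refine ⟨n, (QuotientGroup.eq_one_iff _).1 ?_⟩
  rw [QuotientGroup.mk_pow, QuotientGroup.mk_mul, (QuotientGroup.eq_one_iff a).2 ha, one_mul,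
    ← QuotientGroup.mk_pow, show b ^ p ^ n = 1 from congrArg Subtype.val hn, QuotientGroup.mk_one]

/-- Two normal `p`-subgroups meeting trivially. -/
theorem sylow_normal_of_two {H₁ H₂ : Type*} [Group H₁] [Group H₂] [Finite H₁] [Finite H₂] (f₁ : H →* H₁)
    (f₂ : H →* H₂) (hf₁ : Function.Surjective f₁) (hf₂ : Function.Surjective f₂)
    (hk₁ : IsPGroup p f₁.ker) (hk₂ : IsPGroup p f₂.ker) (hdis : f₁.ker ⊓ f₂.ker = ⊥)
    (h₁ : Cfsg.PLengthLE p 1 H₁) (h₂ : Cfsg.PLengthLE p 1 H₂) (h0 : Cfsg.pPrimeCore p H = ⊥) (S : Sylow p H) :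
    (S : Subgroup H).Normal := by
  set N₁ := (Cfsg.pPrimeCore p H₁ ⊔ (S : Subgroup H).map f₁).comap f₁ with hN₁
  set N₂ := (Cfsg.pPrimeCore p H₂ ⊔ (S : Subgroup H).map f₂).comap f₂ with hN₂
  have hn₁ : N₁.Normal := (pLengthOne_sylow h₁ (S.mapSurjective hf₁)).1.comap f₁
  have hn₂ : N₂.Normal := (pLengthOne_sylow h₂ (S.mapSurjective hf₂)).1.comap f₂
  set U := (Cfsg.pPrimeCore p H₁).comap f₁ ⊓ (Cfsg.pPrimeCore p H₂).comap f₂ with hU
  have hUb : U = ⊥ := by
    refine le_bot_iff.1 (h0 ▸ CfsgLib.Core.le_pPrimeCore ?_)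
    let g : U →* Cfsg.pPrimeCore p H₁ × Cfsg.pPrimeCore p H₂ :=
      (f₁.subgroupComap _ |>.comp (inclusion inf_le_left)).prod
        (f₂.subgroupComap _ |>.comp (inclusion inf_le_right))
    have hg : Function.Injective g := (injective_iff_map_eq_one g).2 fun x hx => by
      refine Subtype.ext (mem_bot.1 (hdis ▸ ⟨?_, ?_⟩))
      · exact congrArg (fun v : Cfsg.pPrimeCore p H₁ × Cfsg.pPrimeCore p H₂ => (v.1 : H₁)) hx
      · exact congrArg (fun v : Cfsg.pPrimeCore p H₁ × Cfsg.pPrimeCore p H₂ => (v.2 : H₂)) hx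
    refine (Nat.Coprime.coprime_dvd_left (card_dvd_of_injective g hg) ?_)
    rw [Nat.card_prod]
    exact (CfsgLib.Core.coprime_card_pPrimeCore p H₁).mul_left (CfsgLib.Core.coprime_card_pPrimeCore p H₂)
  have hNp : IsPGroup p (N₁ ⊓ N₂ : Subgroup H) := by
    rintro ⟨x, (hx₁ : x ∈ N₁), (hx₂ : x ∈ N₂)⟩
    obtain ⟨n₁, h₁'⟩ := exists_pow_mem _ (S.2.map f₁) _ (show f₁ x ∈ _ from mem_comap.1 (hN₁ ▸ hx₁))
    obtain ⟨n₂, h₂'⟩ := exists_pow_mem _ (S.2.map f₂) _ (show f₂ x ∈ _ from mem_comap.1 (hN₂ ▸ hx₂))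
    refine ⟨n₁ + n₂, Subtype.ext ?_⟩
    show x ^ p ^ (n₁ + n₂) = 1
    refine mem_bot.1 (hUb ▸ ⟨?_, ?_⟩)
    · show f₁ (x ^ p ^ (n₁ + n₂)) ∈ Cfsg.pPrimeCore p H₁
      rw [map_pow, pow_add, pow_mul]
      exact pow_mem h₁' _
    · show f₂ (x ^ p ^ (n₁ + n₂)) ∈ Cfsg.pPrimeCore p H₂
      rw [map_pow, add_comm, pow_add, pow_mul]
      exact pow_mem h₂' _
  have hle : (S : Subgroup H) ≤ N₁ ⊓ N₂ := le_inf
    (map_le_iff_le_comap.1 le_sup_right) (map_le_iff_le_comap.1 le_sup_right)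
  rw [← S.3 hNp hle]
  exact inferInstance

end CfsgLib.OddLocal.PLengthOne
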