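import Cfsg.Agent.Lib.OddLocal.GLTwoDerived
import Cfsg.Agent.Lib.Transfer.CoprimeAut
import Cfsg.Agent.Lib.Transfer.PResidual
import Cfsg.Agent.Lib.PGroups.MaxAbelian
import Cfsg.Agent.S3771
import Cfsg.Prelude.Def_CaseTheorems
import Mathlib.LinearAlgebra.Matrix.GeneralLinearGroup.Card
import Mathlib.LinearAlgebra.Matrix.ToLin
import Mathlib.Algebra.Module.ZMod
import Mathlib.FieldTheory.Finiteness

/-!
Solvable groups of odd order acting on `p`-groups of rank at most two.
-/

set_option autoImplicit false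

namespace CfsgLib.OddLocal.RankTwoAut

open Subgroup
open scoped commutatorElement

variable {p : ℕ} [hp : Fact p.Prime]

theorem exists_hom_GL_aux {V : Type*} [CommGroup V] [Finite V] [Module (ZMod p) (Additive V)]
    (hcard : Nat.card V = p ^ 2) :
    ∃ χ : MulAut V →* GL (Fin 2) (ZMod p), Function.Injective χ := by
  have hfin : Module.Finite (ZMod p) (Additive V) := Module.Finite.of_finite
  have hrank : Module.finrank (ZMod p) (Additive V) = 2 := by
    have h := Module.natCard_eq_pow_finrank (K := ZMod p) (V := Additive V)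
    rw [Nat.card_congr Additive.toMul, hcard, Nat.card_zmod] at h
    exact (Nat.pow_right_injective hp.out.two_le h).symm
  let b := Module.finBasisOfFinrankEq (ZMod p) (Additive V) hrank
  let f : MulAut V →* Matrix (Fin 2) (Fin 2) (ZMod p) :=
    { toFun := fun φ => LinearMap.toMatrix b b ((MonoidHom.toAdditive φ.toMonoidHom).toZModLinearMap p)
      map_one' := by
        rw [← LinearMap.toMatrix_id b]
        rfl
      map_mul' := fun φ ψ => by
        rw [← LinearMap.toMatrix_comp]
        rfl }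
  refine ⟨f.toHomUnits, fun φ ψ h => ?_⟩
  have h1 : f φ = f ψ := congrArg Units.val h
  have h2 := (LinearMap.toMatrix b b).injective h1
  ext v
  exact congrArg Additive.toMul (LinearMap.congr_fun h2 (Additive.ofMul v))

/-- The automorphism group of an elementary abelian group of order `p²` is inside `GL(2, p)`. -/
theorem exists_hom_GL {V : Type*} [CommGroup V] [Finite V] (hexp : ∀ v : V, v ^ p = 1)
    (hcard : Nat.card V = p ^ 2) :
    ∃ χ : MulAut V →* GL (Fin 2) (ZMod p), Function.Injective χ :=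
  @exists_hom_GL_aux p hp V _ _ (AddCommGroup.zmodModule (fun x =>
    Additive.toMul.injective (by
      show (p • x).toMul = _
      rw [toMul_nsmul, hexp]; rfl))) hcard

/-- Prime orders of automorphisms in `GL(2, p)`. -/
theorem orderOf_lt_of_GL (hp2 : p ≠ 2) {q : ℕ} (hq : q.Prime) (hq2 : q ≠ 2) (hqp : q ≠ p)
    (x : GL (Fin 2) (ZMod p)) (hx : orderOf x = q) : q < p := by
  have hd := orderOf_dvd_natCard x
  rw [hx, Matrix.card_GL_field, ZMod.card, Fin.prod_univ_two] at hd
  simp only [Fin.val_zero, pow_zero, Fin.val_one, pow_one] at hd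
  have h3 := hp.out.two_le
  have e1 : p ^ 2 - 1 = (p + 1) * (p - 1) := by rw [← Nat.sq_sub_sq, one_pow]
  have e2 : p ^ 2 - p = p * (p - 1) := by rw [pow_two, Nat.mul_sub, mul_one]
  rw [e1, e2] at hd
  have hodd : p % 2 = 1 := Nat.odd_iff.1 (hp.out.odd_of_ne_two hp2)
  have hcases : q ∣ p + 1 ∨ q ∣ p - 1 := by
    rcases (Nat.Prime.dvd_mul hq).1 hd with h | h
    · exact (Nat.Prime.dvd_mul hq).1 h
    · exact Or.inr (((Nat.Prime.dvd_mul hq).1 h).resolve_left fun h =>
        hqp ((Nat.prime_dvd_prime_iff_eq hq hp.out).1 h))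
  have hqodd : q % 2 = 1 := Nat.odd_iff.1 (hq.odd_of_ne_two hq2)
  rcases hcases with h | h
  · have h' : q ∣ (p + 1) / 2 * 2 := by rwa [Nat.div_mul_cancel (by omega)]
    have h'' := ((Nat.Prime.dvd_mul hq).1 h').resolve_right fun h2 =>
      hq2 ((Nat.prime_dvd_prime_iff_eq hq Nat.prime_two).1 h2)
    have := Nat.le_of_dvd (by omega) h''
    omega
  · have := Nat.le_of_dvd (by omega) h
    omega

/-- Small elementary abelian groups: derived subgroups and prime orders in the automorphism group. -/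
theorem aut_small (hp2 : p ≠ 2) {V : Type*} [CommGroup V] [Finite V] (hexp : ∀ v : V, v ^ p = 1)
    (hcard : Nat.card V ≤ p ^ 2) (H : Subgroup (MulAut V)) [Finite H] [Group.IsSolvable H]
    (hodd : Odd (Nat.card H)) :
    IsPGroup p (_root_.commutator H) ∧
      ∀ (x : H) (q : ℕ), q.Prime → orderOf x = q → q ≠ p → q < p := by
  have hq2 : ∀ (x : H) (q : ℕ), orderOf x = q → q ≠ 2 := by
    rintro x q hx rfl
    have := hx ▸ orderOf_dvd_natCard x
    obtain ⟨w, hw⟩ := hodd
    omega
  have hVp : IsPGroup p V := fun v => ⟨1, by rw [pow_one]; exact hexp v⟩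
  obtain ⟨k, hk⟩ := IsPGroup.iff_card.1 hVp
  have hk2 : k ≤ 2 := (Nat.pow_le_pow_iff_right hp.out.one_lt).1 (hk ▸ hcard)
  rcases (show k ≤ 1 ∨ k = 2 by omega) with hk1 | rfl
  · have : IsCyclic V := by
      rcases (show k = 0 ∨ k = 1 by omega) with rfl | rfl
      · have := (Nat.card_eq_one_iff_unique.1 (by simpa using hk)).1
        exact isCyclic_of_subsingleton
      · exact isCyclic_of_prime_card (p := p) (by simpa using hk)
    let e := IsCyclic.mulAutMulEquiv V
    have hcomm : ∀ a b : MulAut V, a * b = b * a := fun a b =>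
      e.injective (by rw [map_mul, map_mul, mul_comm])
    refine ⟨?_, fun x q hq hx hqp => ?_⟩
    · rw [(commutator_eq_bot_iff_center_eq_top (G := H)).2 (eq_top_iff.2 fun a _ =>
        mem_center_iff.2 fun b => Subtype.ext (hcomm b a))]
      exact IsPGroup.of_bot
    · have hd := (Subgroup.orderOf_coe x).symm ▸ orderOf_dvd_natCard (x : MulAut V)
      rw [hx, IsCyclic.card_mulAut, hk] at hd
      rcases (show k = 0 ∨ k = 1 by omega) with rfl | rfl
      · rw [pow_zero, Nat.totient_one, Nat.dvd_one] at hd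
        exact absurd hd hq.ne_one
      · rw [pow_one, Nat.totient_prime hp.out] at hd
        have := hp.out.two_le
        have := Nat.le_of_dvd (by omega) hd
        omega
  · obtain ⟨χ, hχ⟩ := exists_hom_GL hexp hk
    let e := H.equivMapOfInjective χ hχ
    have : Group.IsSolvable (H.map χ) := Group.isSolvable_of_surjective (f := e.toMonoidHom) e.surjective
    have hodd' : Odd (Nat.card (H.map χ)) := by rwa [← Nat.card_congr e.toEquiv]
    refine ⟨?_, fun x q hq hx hqp => ?_⟩
    · have h1 := CfsgLib.OddLocal.GLTwoDerived.derived_isPGroup (p := p) hp2 (H.map χ) hodd'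
      rintro ⟨a, ha⟩
      have hmem : e a ∈ _root_.commutator (H.map χ) := by
        have := mem_map_of_mem e.toMonoidHom ha
        rw [_root_.commutator_def, map_commutator] at this
        exact commutator_mono le_top le_top this
      obtain ⟨j, hj⟩ := h1 ⟨_, hmem⟩
      refine ⟨j, Subtype.ext (e.injective ?_)⟩
      show e (a ^ p ^ j) = e 1
      rw [map_pow, map_one]
      exact congrArg Subtype.val hj
    · exact orderOf_lt_of_GL hp2 hq (hq2 x q hx) hqp (χ x) (by
        rw [orderOf_injective χ hχ, Subgroup.orderOf_coe, hx])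

/-- Extending by a kernel without nontrivial `p'`-elements. -/
theorem of_hom {A M : Type*} [Group A] [Finite A] [Group M] (χ : A →* M)
    (hker : ∀ a, χ a = 1 → (orderOf a).Coprime p → a = 1)
    (himg : IsPGroup p (_root_.commutator χ.range)) : IsPGroup p (_root_.commutator A) := by
  rintro ⟨a, ha⟩
  have hmem : χ.rangeRestrict a ∈ _root_.commutator χ.range := by
    have := mem_map_of_mem χ.rangeRestrict ha
    rw [_root_.commutator_def, map_commutator] at this
    exact commutator_mono le_top le_top this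
  obtain ⟨j, hj⟩ := himg ⟨_, hmem⟩
  obtain ⟨k, hk⟩ := CfsgLib.Transfer.exists_pow_prime_pow_coprime (p := p) (a ^ p ^ j)
  refine ⟨j + k, Subtype.ext ?_⟩
  show a ^ p ^ (j + k) = 1
  rw [pow_add, pow_mul]
  refine hker _ ?_ hk
  have h1 : χ (a ^ p ^ j) = 1 := by
    rw [map_pow]
    exact congrArg (fun w : _root_.commutator χ.range => ((w : χ.range) : M)) hj
  rw [map_pow, h1, one_pow]

/-- An automorphism of order prime to `p` is pinned on a suitable small section. -/
theorem exists_small_section {R : Type*} [Group R] [Finite R] (hp2 : p ≠ 2) (hR : IsPGroup p R)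
    (hr : Cfsg.PRankLE p 2 R) :
    ∃ (S : Subgroup R) (Z : Subgroup S) (_ : Z.Normal), S.Characteristic ∧ Z.Characteristic ∧
      IsMulCommutative (S ⧸ Z) ∧ (∀ v : S ⧸ Z, v ^ p = 1) ∧ Nat.card (S ⧸ Z) ≤ p ^ 2 ∧
      ∀ a : MulAut R, (orderOf a).Coprime p →
        (∀ x : S, ∃ z ∈ Z, a x = x * z) → a = 1 := by
  obtain ⟨C, hCc, -, hcl, hself⟩ := CfsgLib.Transfer.exists_critical (G := R) hR
  have hcentral : ∀ x y : C, ⁅x, y⁆ ∈ center C := fun x y => mem_center_iff.2 fun z => Subtype.ext
    (mem_centralizer_iff.1 (hcl (commutator_mem_commutator x.2 (mem_top (y : R)))).2 z z.2)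
  have hmul : ∀ x y : C, x ^ p = 1 → y ^ p = 1 → (x * y) ^ p = 1 := fun x y hx hy => by
    rw [CfsgLib.PGroups.mul_pow_of_central_odd (hcentral y x) (hp.out.odd_of_ne_two hp2)
      (by rw [← CfsgLib.PGroups.comm_pow_left_of_central (hcentral y x), hy, commutatorElement_one_left]),
      hx, hy, one_mul]
  let S : Subgroup R :=
    { carrier := {x | x ∈ C ∧ x ^ p = 1}
      one_mem' := ⟨one_mem _, one_pow p⟩
      mul_mem' := fun {a b} ha hb => ⟨mul_mem ha.1 hb.1, congrArg Subtype.val
        (hmul ⟨a, ha.1⟩ ⟨b, hb.1⟩ (Subtype.ext ha.2) (Subtype.ext hb.2))⟩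
      inv_mem' := fun {a} ha => ⟨inv_mem ha.1, by rw [inv_pow, ha.2, inv_one]⟩ }
  have hexp : ∀ x : S, x ^ p = 1 := fun x => Subtype.ext x.2.2
  have hSc : S.Characteristic := characteristic_iff_map_le.2 fun φ => by
    rintro _ ⟨x, hx, rfl⟩
    exact ⟨characteristic_iff_map_le.1 hCc φ ⟨x, hx.1, rfl⟩, by rw [← map_pow, hx.2, map_one]⟩
  have hcard := Cfsg.Agent.S3771.result (hR.to_subgroup S)
    (fun A hA hAp => by
      rw [← card_map_of_injective (K := A) S.subtype_injective]
      refine hr _ inferInstance ?_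
      rintro _ ⟨b, hb, rfl⟩
      rw [← map_pow, hAp b hb, map_one]) hexp
  have hfaith : ∀ a : MulAut R, (orderOf a).Coprime p → (∀ x ∈ S, a x = x) → a = 1 := by
    intro a ha hfix
    refine CfsgLib.Transfer.eq_one_of_fixes_centralizer_le hR a ha (pow_orderOf_eq_one a)
      (H := C) hself fun x hx => ?_
    let b : MulAut C := ((a : R ≃* R).subgroupMap C).trans
      (MulEquiv.subgroupCongr (characteristic_iff_map_eq.1 hCc a))
    have hb : ∀ y : C, ((b y : C) : R) = a y := fun y => rfl
    have hbk : ∀ (k : ℕ) (y : C), (((b ^ k) y : C) : R) = (a ^ k) y := by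
      intro k
      induction k with
      | zero => intro y; simp
      | succ k ih => intro y; rw [pow_succ, pow_succ, MulAut.mul_apply, MulAut.mul_apply, ih, hb]
    have hb1 := CfsgLib.Transfer.eq_one_of_fixes_order_p (p := p) hp2 (Nat.card C) C le_rfl
      (hR.to_subgroup C) b (orderOf a) ha
      (MulEquiv.ext fun y => Subtype.ext (by rw [hbk, pow_orderOf_eq_one]; rfl))
      (fun y hy => Subtype.ext ((hb y).trans (hfix _ ⟨y.2, congrArg Subtype.val hy⟩)))
    have := hb ⟨x, hx⟩
    rw [hb1] at this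
    exact this.symm
  by_cases hab : IsMulCommutative S
  · refine ⟨S, ⊥, inferInstance, hSc, inferInstance, ⟨⟨fun u v => ?_⟩⟩, ?_, ?_, fun a ha hx => ?_⟩
    · obtain ⟨x, rfl⟩ := QuotientGroup.mk_surjective u
      obtain ⟨y, rfl⟩ := QuotientGroup.mk_surjective v
      exact congrArg QuotientGroup.mk (hab.is_comm.comm x y)
    · intro v
      obtain ⟨x, rfl⟩ := QuotientGroup.mk_surjective v
      rw [← QuotientGroup.mk_pow, hexp, QuotientGroup.mk_one]
    · rw [← index_eq_card, index_bot]
      exact hr S hab fun x hx => congrArg Subtype.val (hexp ⟨x, hx⟩)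
    · refine hfaith a ha fun x hx' => ?_
      obtain ⟨z, hz, he⟩ := hx ⟨x, hx'⟩
      rw [mem_bot] at hz
      simpa [hz] using he
  -- `S` is extraspecial of order `p³`
  set Z := center S with hZ
  obtain ⟨m, hm⟩ := IsPGroup.iff_card.1 (hR.to_subgroup S)
  have hm3 : m ≤ 3 := (Nat.pow_le_pow_iff_right hp.out.one_lt).1 (hm ▸ hcard)
  have hZindex : Nat.card (S ⧸ Z) ≤ p ^ 2 ∧ Nat.card Z ≤ p := by
    have hmul := Z.card_eq_card_quotient_mul_card_subgroup
    obtain ⟨i, hi⟩ := IsPGroup.iff_card.1 ((hR.to_subgroup S).to_quotient Z)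
    obtain ⟨j, hj⟩ := IsPGroup.iff_card.1 ((hR.to_subgroup S).to_subgroup Z)
    have hj1 : j ≠ 0 := fun h => by
      have : Nontrivial S := by
        by_contra hn
        rw [not_nontrivial_iff_subsingleton] at hn
        exact hab ⟨⟨fun a b => Subsingleton.elim _ _⟩⟩
      have := (hR.to_subgroup S).center_nontrivial
      exact absurd (hj.trans (by rw [h, pow_zero])) (Finite.one_lt_card (α := Z)).ne'
    have hi1 : 2 ≤ i := by
      by_contra hi2
      have : IsCyclic (S ⧸ Z) := by
        rcases (show i = 0 ∨ i = 1 by omega) with rfl | rfl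
        · have := (Nat.card_eq_one_iff_unique.1 (by simpa using hi)).1
          exact isCyclic_of_subsingleton
        · exact isCyclic_of_prime_card (p := p) (by simpa using hi)
      exact hab ⟨⟨commutative_of_cyclic_center_quotient (QuotientGroup.mk' Z) (by simp [hZ])⟩⟩
    have hij : m = i + j := by
      rw [hm, hi, hj, ← pow_add] at hmul
      exact Nat.pow_right_injective hp.out.two_le hmul
    rw [hi, hj]
    exact ⟨Nat.pow_le_pow_right hp.out.pos (by omega),
      (Nat.pow_le_pow_right hp.out.pos (show j ≤ 1 by omega)).trans (pow_one p).le⟩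
  have hquot : ∀ x y : S, ⁅x, y⁆ ∈ Z := fun x y => by
    refine mem_center_iff.2 fun z => Subtype.ext ?_
    have := mem_center_iff.1 (hcentral ⟨x, x.2.1⟩ ⟨y, y.2.1⟩) ⟨z, z.2.1⟩
    exact congrArg (fun w : C => (w : R)) this
  refine ⟨S, Z, inferInstance, hSc, centerCharacteristic, ?_, ?_, hZindex.1, fun a ha hx => ?_⟩
  · refine ⟨⟨fun u v => ?_⟩⟩
    obtain ⟨x, rfl⟩ := QuotientGroup.mk_surjective u
    obtain ⟨y, rfl⟩ := QuotientGroup.mk_surjective v
    show QuotientGroup.mk' Z x * QuotientGroup.mk' Z y = QuotientGroup.mk' Z y * QuotientGroup.mk' Z x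
    rw [← commutatorElement_eq_one_iff_mul_comm, ← map_commutatorElement]
    exact (QuotientGroup.eq_one_iff _).2 (hquot x y)
  · intro v
    obtain ⟨x, rfl⟩ := QuotientGroup.mk_surjective v
    rw [← QuotientGroup.mk_pow, hexp, QuotientGroup.mk_one]
  -- `a` fixes the commutators, hence the centre, hence everything
  have hcomm : ∀ x y : S, a ((⁅x, y⁆ : S) : R) = ((⁅x, y⁆ : S) : R) := fun x y => by
    obtain ⟨z, hz, hzx⟩ := hx x
    obtain ⟨w, hw, hwy⟩ := hx y
    rw [show ((⁅x, y⁆ : S) : R) = ⁅(x : R), (y : R)⁆ from rfl, map_commutatorElement, hzx, hwy]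
    have h1 : ⁅x * z, y * w⁆ = ⁅x, y⁆ := by
      rw [CfsgLib.PGroups.comm_mul_left_of_central (hquot z (y * w)),
        CfsgLib.PGroups.comm_mul_right_of_central (hquot x w),
        commutatorElement_eq_one_iff_mul_comm.2 (mem_center_iff.1 hw x),
        commutatorElement_eq_one_iff_mul_comm.2 (mem_center_iff.1 hz (y * w)).symm, mul_one, mul_one]
    exact congrArg Subtype.val h1
  obtain ⟨x₀, y₀, hxy⟩ : ∃ x y : S, ⁅x, y⁆ ≠ 1 := by
    by_contra! h
    exact hab ⟨⟨fun u v => commutatorElement_eq_one_iff_mul_comm.1 (h u v)⟩⟩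
  have hZfix : ∀ z : S, z ∈ Z → a z = z := by
    intro z hz
    have hle : zpowers ⁅x₀, y₀⁆ ≤ Z := zpowers_le.2 (hquot _ _)
    have heq := eq_of_le_of_card_ge hle (by
      rw [Nat.card_zpowers, orderOf_eq_prime (hexp _) hxy]; exact hZindex.2)
    obtain ⟨k, rfl⟩ := mem_zpowers_iff.1 (heq ▸ hz)
    rw [SubgroupClass.coe_zpow, map_zpow, hcomm]
  refine hfaith a ha fun x hx' => ?_
  obtain ⟨z, hz, hzx⟩ := hx ⟨x, hx'⟩
  refine CfsgLib.Transfer.eq_of_fixed_diff hR a ha (pow_orderOf_eq_one a) ?_
  change a x = x * (z : R) at hzx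
  rw [hzx, inv_mul_cancel_left]
  exact hZfix z hz

/-- Solvable groups of odd order acting faithfully on `p`-groups of rank at most two. -/
theorem rankTwo_aut {A R : Type*} [Group A] [Finite A] [Group.IsSolvable A] (hodd : Odd (Nat.card A))
    [Group R] [Finite R] (hp2 : p ≠ 2) (hR : IsPGroup p R) (hr : Cfsg.PRankLE p 2 R)
    (ψ : A →* MulAut R) (hψ : ∀ a, ψ a = 1 → (orderOf a).Coprime p → a = 1) :
    IsPGroup p (_root_.commutator A) ∧ ∀ a : A, (orderOf a).Prime → orderOf a ≠ p → orderOf a < p := by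
  obtain ⟨S, Z, hZn, hSc, hZc, hcm, hexp, hcard, hfaith⟩ := exists_small_section hp2 hR hr
  let ρ : MulAut R →* MulAut S :=
    { toFun := fun φ => ((φ : R ≃* R).subgroupMap S).trans
        (MulEquiv.subgroupCongr (characteristic_iff_map_eq.1 hSc φ))
      map_one' := rfl
      map_mul' := fun φ φ' => rfl }
  let σ : MulAut S →* MulAut (S ⧸ Z) :=
    { toFun := fun φ => QuotientGroup.congr Z Z φ (characteristic_iff_map_eq.1 hZc φ)
      map_one' := by ext v; obtain ⟨x, rfl⟩ := QuotientGroup.mk_surjective v; rfl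
      map_mul' := fun φ φ' => by ext v; obtain ⟨x, rfl⟩ := QuotientGroup.mk_surjective v; rfl }
  let χ := σ.comp (ρ.comp ψ)
  have hker : ∀ a, χ a = 1 → (orderOf a).Coprime p → a = 1 := by
    intro a ha hco
    refine hψ a (hfaith (ψ a) (hco.coprime_dvd_left (orderOf_map_dvd ψ a)) fun x => ?_) hco
    have h1 : (QuotientGroup.mk (ρ (ψ a) x) : S ⧸ Z) = QuotientGroup.mk x :=
      DFunLike.congr_fun ha (QuotientGroup.mk x)
    refine ⟨x⁻¹ * ρ (ψ a) x, QuotientGroup.eq.1 h1.symm, ?_⟩
    show ψ a (x : R) = (x : R) * ((x : R)⁻¹ * ψ a (x : R))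
    rw [mul_inv_cancel_left]
  let : CommGroup (S ⧸ Z) := { (inferInstance : Group (S ⧸ Z)) with mul_comm := hcm.is_comm.comm }
  have : Finite χ.range := Finite.of_surjective χ.rangeRestrict χ.rangeRestrict_surjective
  have : Group.IsSolvable χ.range := Group.isSolvable_of_surjective χ.rangeRestrict_surjective
  have hoddr : Odd (Nat.card χ.range) := hodd.of_dvd_nat (card_range_dvd χ)
  obtain ⟨h1, h2⟩ := aut_small hp2 hexp hcard χ.range hoddr
  refine ⟨of_hom χ hker h1, fun a hq hqp => ?_⟩
  refine h2 (χ.rangeRestrict a) _ hq ?_ hqp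
  rcases (Nat.dvd_prime hq).1 (orderOf_map_dvd χ.rangeRestrict a) with h | h
  · exfalso
    have h1 : χ a = 1 := congrArg Subtype.val (orderOf_eq_one_iff.1 h)
    have := hker a h1 ((Nat.coprime_primes hq hp.out).2 hqp)
    rw [this, orderOf_one] at hq
    exact Nat.not_prime_one hq
  · exact h

end CfsgLib.OddLocal.RankTwoAut
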