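import Cfsg.Agent.Lib.OddLocal.RankTwoNoFixed
import Cfsg.Agent.Lib.Core.Coprime

/-!
Metacyclic `p`-groups with coprime operators, `p` odd.
-/

set_option autoImplicit false

namespace CfsgLib.OddLocal.MetacyclicAction

open Subgroup RankTwoNoFixed
open scoped commutatorElement

variable {p : ℕ} [hp : Fact p.Prime]

theorem card_kill_cyclic {H : Type*} [Group H] [Finite H] [IsCyclic H] :
    Nat.card {b : H // b ^ p = 1} ≤ p := by
  classical
  let := Fintype.ofFinite H
  rw [Nat.card_eq_fintype_card, Fintype.card_subtype]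
  exact IsCyclic.card_pow_eq_one_le hp.out.pos

/-- The elements killed by `p` form a subgroup of order at most `p²`. -/
theorem exists_omega (hp2 : p ≠ 2) {R : Type*} [Group R] [Finite R] (hR : IsPGroup p R)
    (hRm : Cfsg.IsMetacyclic R) :
    ∃ S : Subgroup R, (∀ x : R, x ^ p = 1 ↔ x ∈ S) ∧ Nat.card S ≤ p ^ 2 := by
  obtain ⟨N, hNn, hNc, hQc⟩ := hRm
  have hder : _root_.commutator R ≤ N := Subgroup.Normal.quotient_commutative_iff_commutator_le.mp
    ⟨⟨IsCyclic.commGroup.mul_comm⟩⟩
  have hcent : ∀ d ∈ N, d ^ p = 1 → d ∈ center R := by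
    intro d hd hdp
    by_cases hd1 : d = 1
    · rw [hd1]; exact one_mem _
    have hDn : (zpowers d).Normal := by
      refine ⟨fun u hu g => ?_⟩
      have hmem : ∀ w ∈ N, w ^ p = 1 → w ∈ zpowers d := by
        intro w hw hwp
        classical
        let := Fintype.ofFinite N
        by_contra hwd
        have h1 : Nat.card {b : N // b ^ p = 1} ≤ p := card_kill_cyclic
        have hpow : ∀ e : zpowers d, ((⟨(e : R), (zpowers_le.2 hd) e.2⟩ : N)) ^ p = 1 := fun e => by
          obtain ⟨i, hi⟩ := mem_zpowers_iff.1 e.2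
          refine Subtype.ext ?_
          show (e : R) ^ p = 1
          rw [← hi, ← zpow_natCast, ← zpow_mul, mul_comm, zpow_mul, zpow_natCast, hdp, one_zpow]
        have h2 : Nat.card (Option (zpowers d)) ≤ Nat.card {b : N // b ^ p = 1} :=
          Nat.card_le_card_of_injective (fun o => Option.elim o ⟨⟨w, hw⟩, Subtype.ext hwp⟩
            fun e => ⟨⟨(e : R), (zpowers_le.2 hd) e.2⟩, hpow e⟩) (by
            rintro (_ | a) (_ | b) h
            · rfl
            · refine absurd ?_ hwd
              have : w = (b : R) := congrArg (fun q : {b : N // b ^ p = 1} => ((q : N) : R)) h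
              exact this ▸ b.2
            · refine absurd ?_ hwd
              have : (a : R) = w := congrArg (fun q : {b : N // b ^ p = 1} => ((q : N) : R)) h
              exact this ▸ a.2
            · exact congrArg some (Subtype.ext
                (congrArg (fun q : {b : N // b ^ p = 1} => ((q : N) : R)) h :)))
        rw [Finite.card_option, Nat.card_zpowers, orderOf_eq_prime hdp hd1] at h2
        omega
      obtain ⟨i, rfl⟩ := mem_zpowers_iff.1 hu
      rw [← conj_zpow]
      exact zpow_mem (hmem _ (hNn.conj_mem d hd g) (by rw [conj_pow, hdp, mul_one, mul_inv_cancel])) i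
    exact CfsgLib.PGroups.le_center_of_card_prime hR
      (by rw [Nat.card_zpowers, orderOf_eq_prime hdp hd1]) (mem_zpowers d)
  have hmul : ∀ n : ℕ, ∀ H : Subgroup R, Nat.card H ≤ n → ∀ x ∈ H, ∀ y ∈ H, x ^ p = 1 → y ^ p = 1 →
      (x * y) ^ p = 1 := by
    intro n
    induction n with
    | zero => exact fun H hH => absurd hH (Nat.card_pos (α := H)).not_ge
    | succ n ih =>
      intro H hH x hxH y hyH hx hy
      by_cases htop : closure {(⟨x, hxH⟩ : H)} ⊔ frattini H = ⊤
      · have h := CfsgLib.PGroups.closure_eq_top_of_sup_frattini htop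
        rw [← zpowers_eq_closure] at h
        obtain ⟨k, hk⟩ := mem_zpowers_iff.1 (h ▸ mem_top (⟨y, hyH⟩ : H))
        have hk' : x ^ k = y := by simpa using congrArg Subtype.val hk
        have hc : Commute x y := hk' ▸ (Commute.refl x).zpow_right k
        rw [hc.mul_pow, hx, hy, one_mul]
      set M := closure {(⟨x, hxH⟩ : H)} ⊔ frattini H with hM
      have hlt : Nat.card (M.map H.subtype) < Nat.card H := by
        refine CfsgLib.Transfer.card_lt_of_lt (lt_of_le_of_ne (map_subtype_le _) fun he => htop ?_)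
        exact Subgroup.map_injective H.subtype_injective
          (by rw [← MonoidHom.range_eq_map, range_subtype]; exact he)
      have hxM : (⟨x, hxH⟩ : H) ∈ M := le_sup_left (α := Subgroup H) (subset_closure rfl)
      have hx' : (⟨y, hyH⟩ * ⟨x, hxH⟩ * ⟨y, hyH⟩⁻¹ : H) ∈ M := by
        rw [show (⟨y, hyH⟩ * ⟨x, hxH⟩ * ⟨y, hyH⟩⁻¹ : H) = ⁅(⟨y, hyH⟩ : H), ⟨x, hxH⟩⁆ * ⟨x, hxH⟩ by
          rw [commutatorElement_def]; group]
        exact mul_mem (le_sup_right (α := Subgroup H) (CfsgLib.PGroups.commutator_le_frattini'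
          (hR.to_subgroup H) (commutator_mem_commutator (mem_top _) (mem_top _)))) hxM
      have hd : ⁅y, x⁆ ^ p = 1 := by
        rw [show ⁅y, x⁆ = y * x * y⁻¹ * x⁻¹ from commutatorElement_def y x]
        refine ih (M.map H.subtype) (by omega) _ ⟨_, hx', rfl⟩ _ (inv_mem ⟨_, hxM, rfl⟩) ?_ ?_
        · show (y * x * y⁻¹) ^ p = 1
          rw [conj_pow, hx, mul_one, mul_inv_cancel]
        · show x⁻¹ ^ p = 1
          rw [inv_pow, hx, inv_one]
      rw [CfsgLib.PGroups.mul_pow_of_central_odd (hcent _ (hder (commutator_mem_commutator (mem_top y)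
        (mem_top x))) hd) (hp.out.odd_of_ne_two hp2) hd, hx, hy, one_mul]
  let S : Subgroup R :=
    { carrier := {x | x ^ p = 1}
      one_mem' := one_pow p
      mul_mem' := fun {u v} (hu : u ^ p = 1) (hv : v ^ p = 1) =>
        hmul _ ⊤ le_rfl u (mem_top u) v (mem_top v) hu hv
      inv_mem' := fun {u} (hu : u ^ p = 1) => show u⁻¹ ^ p = 1 by rw [inv_pow, hu, inv_one] }
  refine ⟨S, fun x => Iff.rfl, ?_⟩
  have h1 : Nat.card (N.subgroupOf S) ≤ p := by
    refine le_trans (Nat.card_le_card_of_injective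
      (fun e : N.subgroupOf S => (⟨⟨((e : S) : R), mem_subgroupOf.1 e.2⟩, Subtype.ext (e : S).2⟩ :
        {b : N // b ^ p = 1})) ?_) card_kill_cyclic
    exact fun u v h => Subtype.ext (Subtype.ext (congrArg (fun b : {b : N // b ^ p = 1} => ((b : N) : R)) h :))
  have h2 : Nat.card (S ⧸ N.subgroupOf S) ≤ p := by
    let f : S ⧸ N.subgroupOf S → {b : R ⧸ N // b ^ p = 1} := fun v =>
      ⟨(((Quotient.out v : S) : R) : R ⧸ N), by
        rw [← QuotientGroup.mk_pow, (Quotient.out v : S).2, QuotientGroup.mk_one]⟩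
    refine le_trans (Nat.card_le_card_of_injective f ?_) card_kill_cyclic
    intro u v h
    rw [← QuotientGroup.out_eq' u, ← QuotientGroup.out_eq' v, QuotientGroup.eq, mem_subgroupOf]
    exact QuotientGroup.eq.1 (congrArg Subtype.val h :)
  rw [(N.subgroupOf S).card_eq_card_quotient_mul_card_subgroup, pow_two]
  exact Nat.mul_le_mul h2 h1

/-- `|R : ℧₁(R)| ≤ p²`. -/
theorem index_powers_le {R : Type*} [Group R] [Finite R] (hRm : Cfsg.IsMetacyclic R) :
    (closure (Set.range fun x : R => x ^ p)).index ≤ p ^ 2 := by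
  obtain ⟨N, hNn, hNc, hQc⟩ := hRm
  set P := closure (Set.range fun x : R => x ^ p) with hP
  have hPn : P.Normal := by
    refine ⟨fun u hu g => ?_⟩
    induction hu using Subgroup.closure_induction with
    | mem x hx =>
      obtain ⟨y, rfl⟩ := hx
      exact subset_closure ⟨g * y * g⁻¹, conj_pow⟩
    | one => simp
    | mul a b _ _ ha hb => rw [show g * (a * b) * g⁻¹ = g * a * g⁻¹ * (g * b * g⁻¹) by group]; exact mul_mem ha hb
    | inv a _ ha => rw [show g * a⁻¹ * g⁻¹ = (g * a * g⁻¹)⁻¹ by group]; exact inv_mem ha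
  have hkill : ∀ w : R ⧸ P, w ^ p = 1 := fun w => by
    refine QuotientGroup.induction_on w fun x => ?_
    rw [← QuotientGroup.mk_pow]
    exact (QuotientGroup.eq_one_iff _).2 (subset_closure ⟨x, rfl⟩)
  set π := QuotientGroup.mk' P
  set M := N.map π with hM
  have hMn : M.Normal := hNn.map π (QuotientGroup.mk'_surjective P)
  have hMc : IsCyclic M := isCyclic_of_surjective (π.subgroupMap N) (π.subgroupMap_surjective N)
  have h1 : Nat.card M ≤ p := by
    refine le_trans (Nat.card_le_card_of_injective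
      (fun e : M => (⟨e, Subtype.ext (hkill e)⟩ : {b : M // b ^ p = 1})) ?_) card_kill_cyclic
    exact fun u v h => congrArg Subtype.val h
  have hQ : IsCyclic ((R ⧸ P) ⧸ M) := by
    refine isCyclic_of_surjective (QuotientGroup.map N M π (by rw [hM]; exact le_comap_map π N)) ?_
    intro v
    obtain ⟨w, rfl⟩ := QuotientGroup.mk_surjective v
    obtain ⟨x, rfl⟩ := QuotientGroup.mk_surjective w
    exact ⟨(x : R ⧸ N), rfl⟩
  have h2 : Nat.card ((R ⧸ P) ⧸ M) ≤ p := by
    refine le_trans (Nat.card_le_card_of_injective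
      (fun e : (R ⧸ P) ⧸ M => (⟨e, by
        refine QuotientGroup.induction_on e fun x => ?_
        rw [← QuotientGroup.mk_pow, hkill, QuotientGroup.mk_one]⟩ : {b : (R ⧸ P) ⧸ M // b ^ p = 1})) ?_)
      card_kill_cyclic
    exact fun u v h => congrArg Subtype.val h
  rw [index_eq_card, M.card_eq_card_quotient_mul_card_subgroup, pow_two]
  exact Nat.mul_le_mul h2 h1

theorem isMetacyclic_subgroup {R : Type*} [Group R] (hRm : Cfsg.IsMetacyclic R) (T : Subgroup R) :
    Cfsg.IsMetacyclic T := by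
  obtain ⟨N, hNn, hNc, hQc⟩ := hRm
  refine ⟨N.subgroupOf T, inferInstance, ?_, ?_⟩
  · exact isCyclic_of_injective (T.subtype.subgroupComap N) fun u v h =>
      Subtype.ext (T.subtype_injective (congrArg Subtype.val h :))
  · refine isCyclic_of_injective (QuotientGroup.map (N.subgroupOf T) N T.subtype fun x hx => hx) ?_
    refine (injective_iff_map_eq_one _).2 fun v => QuotientGroup.induction_on v fun x hx => ?_
    exact (QuotientGroup.eq_one_iff x).2 ((QuotientGroup.eq_one_iff (x : R)).1 hx)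

/-- BG 4.? : coprime operators on metacyclic groups. -/
theorem structure_thm {G : Type*} [Group G] [Finite G] (hp2 : p ≠ 2) (R A : Subgroup G) (hR : IsPGroup p R)
    (hRm : Cfsg.IsMetacyclic R) (hA : A ≤ normalizer (R : Set G)) (hcop : (Nat.card A).Coprime p) :
    IsMulCommutative ↥⁅R, A⁆ ∧ ⁅R, A⁆ ⊔ (R ⊓ centralizer (A : Set G)) = R ∧
      ⁅R, A⁆ ⊓ (R ⊓ centralizer (A : Set G)) = ⊥ ∧
      (¬ IsMulCommutative R → ¬ A ≤ centralizer (R : Set G) →
        ⁅R, A⁆ ≠ ⊥ ∧ IsCyclic ↥⁅R, A⁆ ∧ (R ⊓ centralizer (A : Set G)) ≠ ⊥ ∧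
          IsCyclic ↥(R ⊓ centralizer (A : Set G)) ∧ ⁅R, R⁆ ≤ ⁅R, A⁆) := by
  have hcop' : (Nat.card A).Coprime (Nat.card R) := by
    obtain ⟨n, hn⟩ := IsPGroup.iff_card.1 hR
    rw [hn]; exact hcop.pow_right n
  have hRs : Group.IsSolvable R := by
    have := hR.isNilpotent
    infer_instance
  set T := ⁅R, A⁆ with hT
  set C := R ⊓ centralizer (A : Set G) with hC
  have hTR : T ≤ R := CfsgLib.Core.commutator_le_of_normalizes hA
  have hsup : T ⊔ C = R := CfsgLib.Core.commutator_sup_centralizer hA hcop' (Or.inr hRs)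
  have hTT : ⁅T, A⁆ = T := CfsgLib.Core.commutator_commutator_eq hA hcop' (Or.inr hRs)
  have hTp : IsPGroup p T := hR.to_le hTR
  have hAT : A ≤ normalizer (T : Set G) := normalizer_commutator_ge_right R A
  have hTm : Cfsg.IsMetacyclic T := by
    obtain ⟨N, hNn, hN1, hN2⟩ := isMetacyclic_subgroup hRm (T.subgroupOf R)
    let e := subgroupOfEquivOfLe hTR
    have hNn' : (N.map e.toMonoidHom).Normal := hNn.map _ e.surjective
    refine ⟨N.map e.toMonoidHom, hNn', isCyclic_of_surjective (e.toMonoidHom.subgroupMap N)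
      (e.toMonoidHom.subgroupMap_surjective N), ?_⟩
    exact isCyclic_of_surjective (QuotientGroup.congr N (N.map e.toMonoidHom) e rfl)
      (QuotientGroup.congr N (N.map e.toMonoidHom) e rfl).surjective
  let ψ : A →* MulAut T := T.normalizerMonoidHom.comp (Subgroup.inclusion hAT)
  have hres : NoFixed ψ := by
    intro N hNn hNa hNd
    have hle : ⁅T, A⁆ ≤ N.map T.subtype := Subgroup.commutator_le.2 fun r hr b hb => by
      refine ⟨⟨r, hr⟩ * ψ ⟨b, hb⟩ (⟨r, hr⟩ : T)⁻¹, ?_, ?_⟩
      · simpa using hNd ⟨b, hb⟩ (⟨r, hr⟩ : T)⁻¹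
      · show r * (b * r⁻¹ * b⁻¹) = ⁅r, b⁆
        simp only [commutatorElement_def, mul_assoc]
    refine eq_top_iff.2 fun r _ => ?_
    obtain ⟨x, hx, hxr⟩ := hle (hTT.ge r.2)
    rwa [← (Subtype.ext hxr : x = r)]
  have hTab : IsMulCommutative T := isMulCommutative_of_index hp2 hTp ψ hcop hres (index_powers_le hTm)
  have hint : T ⊓ C = ⊥ := by
    refine eq_bot_iff.2 fun v hv => ?_
    have hab : IsMulCommutative (T ⧸ (⊥ : Subgroup T)) := ⟨⟨fun a b => by
      refine QuotientGroup.induction_on a fun x => QuotientGroup.induction_on b fun y => ?_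
      exact congrArg QuotientGroup.mk (hTab.is_comm.comm x y)⟩⟩
    have hmem : (⟨v, hv.1⟩ : T) ∈ (⊥ : Subgroup T) :=
      mem_of_fixed hTp hcop hres ⊥ (fun a x hx => by rw [mem_bot] at hx ⊢; rw [hx, map_one]) hab fun a => by
        rw [mem_bot, inv_mul_eq_one]
        refine Subtype.ext ?_
        show v = (a : G) * v * (a : G)⁻¹
        rw [mem_centralizer_iff.1 hv.2.2 a a.2, mul_inv_cancel_right]
    exact mem_bot.2 (congrArg Subtype.val (mem_bot.1 hmem) :)
  refine ⟨hTab, hsup, hint, fun hnc hncent => ?_⟩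
  have hT1 : T ≠ ⊥ := fun h => hncent (le_centralizer_iff.1 (commutator_eq_bot_iff_le_centralizer.1 h))
  have hC1 : C ≠ ⊥ := fun h => hnc (by rw [← hsup, h, sup_bot_eq]; exact hTab)
  obtain ⟨S, hS, hScard⟩ := exists_omega hp2 hR hRm
  have hcyc : ∀ X Y : Subgroup G, X ≤ R → Y ≤ R → X ⊓ Y = ⊥ → Y ≠ ⊥ → IsCyclic X := by
    intro X Y hX hY hXY hY1
    refine CfsgLib.Transfer.isCyclic_of_unique_order_p hp2 (hR.to_le hX) fun x y hx hx1 hy => ?_
    by_contra hyx
    obtain ⟨n, hn⟩ := IsPGroup.iff_card.1 (hR.to_le hY)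
    obtain ⟨w, hw⟩ := exists_prime_orderOf_dvd_card' (G := Y) p (by
      rcases n with _ | n
      · exact absurd (card_eq_one.1 (hn.trans (pow_zero p))) hY1
      · exact hn ▸ dvd_pow_self p n.succ_ne_zero)
    -- `x`, `y` give an elementary subgroup of order `p²`
    set U := (X.subgroupOf R) ⊓ S with hU
    have hxU : (⟨(x : G), hX x.2⟩ : R) ∈ U :=
      ⟨x.2, (hS _).1 (Subtype.ext (congrArg Subtype.val hx :))⟩
    have hyU : (⟨(y : G), hX y.2⟩ : R) ∈ U :=
      ⟨y.2, (hS _).1 (Subtype.ext (congrArg Subtype.val hy :))⟩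
    have hlt : zpowers (⟨(x : G), hX x.2⟩ : R) < U := lt_of_le_of_ne (zpowers_le.2 hxU) fun h => hyx (by
      obtain ⟨i, hi⟩ := mem_zpowers_iff.1 (h.symm ▸ hyU)
      exact mem_zpowers_iff.2 ⟨i, Subtype.ext (by simpa using congrArg Subtype.val hi)⟩)
    have h1 := card_step hR hlt
    have ho : orderOf (⟨(x : G), hX x.2⟩ : R) = p := orderOf_eq_prime
      (Subtype.ext (congrArg Subtype.val hx :))
      (fun h => hx1 (Subtype.ext (congrArg (fun r : R => (r : G)) h :)))
    rw [Nat.card_zpowers, ho] at h1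
    have hUS : U = S := eq_of_le_of_card_ge inf_le_right (hScard.trans (by rwa [pow_two]))
    have hwS : (⟨((w : Y) : G), hY w.2⟩ : R) ∈ S := (hS _).1 (Subtype.ext
      (congrArg Subtype.val (hw ▸ pow_orderOf_eq_one w : w ^ p = 1) :))
    rw [← hUS] at hwS
    have hw1 : ((w : Y) : G) ∈ (⊥ : Subgroup G) := hXY ▸ ⟨hwS.1, w.2⟩
    have : w = 1 := Subtype.ext (mem_bot.1 hw1)
    rw [this, orderOf_one] at hw
    exact hp.out.ne_one hw.symm
  have hTc : IsCyclic T := hcyc T C hTR inf_le_left hint hC1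
  have hCc : IsCyclic C := hcyc C T inf_le_left hTR (by rw [inf_comm]; exact hint) hT1
  refine ⟨hT1, hTc, hC1, hCc, ?_⟩
  have hRT : R ≤ normalizer (T : Set G) := normalizer_commutator_ge_left R A
  have : (T.subgroupOf R).Normal := normal_subgroupOf_of_le_normalizer hRT
  have hab : IsMulCommutative (R ⧸ T.subgroupOf R) := by
    have hsurj : Function.Surjective ((QuotientGroup.mk' (T.subgroupOf R)).comp
        (inclusion (inf_le_left : C ≤ R))) := by
      intro v
      obtain ⟨⟨r, hr⟩, rfl⟩ := QuotientGroup.mk_surjective v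
      obtain ⟨t, ht, c, hc, rfl⟩ := (CfsgLib.Core.mem_sup_iff_mul
        ((inf_le_left : C ≤ R).trans hRT)).1 (by rw [sup_comm, hsup]; exact hr)
      refine ⟨⟨t, ht⟩, QuotientGroup.eq.2 ?_⟩
      show t⁻¹ * (t * c) ∈ T
      rw [inv_mul_cancel_left]; exact hc
    have := isCyclic_of_surjective _ hsurj
    exact ⟨⟨IsCyclic.commGroup.mul_comm⟩⟩
  refine commutator_le.2 fun a ha b hb => ?_
  exact (Subgroup.Normal.quotient_commutative_iff_commutator_le.mp hab)
    (commutator_mem_commutator (mem_top (⟨a, ha⟩ : R)) (mem_top ⟨b, hb⟩))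

end CfsgLib.OddLocal.MetacyclicAction
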