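import Cfsg.Agent.Lib.OddLocal.TauTwoFacts
import Cfsg.Agent.Lib.OddLocal.CyclicPrimeAction
import Cfsg.Agent.Lib.OddLocal.NarrowAut
import Cfsg.Agent.Lib.OddLocal.Coprime
import Cfsg.Agent.Lib.TwoGroups.TauTwoElements
import Cfsg.Agent.Lib.Char.CyclicTI.FrobeniusFormula

/-!
Tools for the prime action theorems (Bender–Glauberman, Section 13).
-/

set_option autoImplicit false
set_option linter.unusedSectionVars false

namespace CfsgLib.OddLocal.PrimeActionTools

open Subgroup
open CfsgLib.TwoGroups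

variable {G : Type*} [Group G] [Finite G] {p q r : ℕ} [Fact p.Prime] [Fact q.Prime] [Fact r.Prime]
  {M L : Subgroup G}

/-- Subgroups of a group of `p`-rank one are cyclic if they are `p`-groups. -/
theorem cyclic_of_rank (hG : Cfsg.IsMinSimpleOddOrder G) (h : Cfsg.PRankLE p 1 M) {X : Subgroup G}
    (hX : IsPGroup p X) (hXM : X ≤ M) : IsCyclic X :=
  TauTwo.sylow_cyclic_of_rank_one hG h hX hXM

/-- A pair does not live in a group of rank one. -/
theorem not_le_of_rank {A : Subgroup G} (hA : TauTwo.IsPair p A) (h : Cfsg.PRankLE p 1 M) : ¬ A ≤ M :=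
  fun hle => hA.not_rank_one hle h

/-- A noncyclic `p`-group contains a pair. -/
theorem exists_pair_of_noncyclic (hG : Cfsg.IsMinSimpleOddOrder G) {S : Subgroup G} (hS : IsPGroup p S)
    (hnc : ¬ IsCyclic S) : ∃ A : Subgroup G, TauTwo.IsPair p A ∧ A ≤ S := by
  have hd : p ∣ Nat.card S := by
    obtain ⟨k, hk⟩ := IsPGroup.iff_card.mp hS
    have : k ≠ 0 := by
      rintro rfl
      exact hnc (by rw [eq_bot_of_card_eq S (hk.trans (pow_zero p))]; infer_instance)
    exact hk ▸ dvd_pow_self p this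
  obtain ⟨A, hAS, hA, hA2⟩ := SigmaEmbedding.exists_elementary_of_not_cyclic
    (Uniqueness.odd_prime hG (hd.trans S.card_subgroup_dvd_card)) hS hnc
  exact ⟨A, ⟨hA, hA2⟩, hAS⟩

/-- In a cyclic `p`-group elements of order dividing `p` lie in any subgroup of order `p`. -/
theorem mem_of_cyclic {S P : Subgroup G} (hc : IsCyclic S) (hP : Nat.card P = p) (hPS : P ≤ S)
    {x : G} (hx : x ∈ S) (hxp : x ^ p = 1) : x ∈ P := by
  by_cases hx1 : x = 1
  · rw [hx1]; exact one_mem P
  have h := NonSigma.eq_of_card_prime hc (p := p) (H := (zpowers x).subgroupOf S) (K := P.subgroupOf S)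
    (by rw [Nat.card_congr (subgroupOfEquivOfLe (zpowers_le.mpr hx)).toEquiv, Nat.card_zpowers,
      orderOf_eq_prime hxp hx1])
    (by rw [Nat.card_congr (subgroupOfEquivOfLe hPS).toEquiv, hP])
  have h2 : (⟨x, hx⟩ : S) ∈ (zpowers x).subgroupOf S := mem_subgroupOf.mpr (mem_zpowers x)
  rw [h] at h2
  exact mem_subgroupOf.mp h2

theorem eq_of_cyclic {S X Y : Subgroup G} (hc : IsCyclic S) (hX : Nat.card X = p) (hY : Nat.card Y = p)
    (hXS : X ≤ S) (hYS : Y ≤ S) : X = Y :=
  eq_of_le_of_card_ge (fun x hx => mem_of_cyclic hc hY hYS (hXS hx)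
    (orderOf_dvd_iff_pow_eq_one.mp (hX ▸ X.orderOf_dvd_natCard hx))) (by rw [hX, hY])

/-- Commuting subgroups of order `p` in a group of `p`-rank one coincide. -/
theorem eq_of_commute (hG : Cfsg.IsMinSimpleOddOrder G) (h : Cfsg.PRankLE p 1 M) {X Y : Subgroup G}
    (hX : Nat.card X = p) (hY : Nat.card Y = p) (hXM : X ≤ M) (hYM : Y ≤ M)
    (hc : X ≤ centralizer (Y : Set G)) : X = Y := by
  have hn : X ≤ normalizer (Y : Set G) := hc.trans (Subgroup.centralizer_le_normalizer _)
  have hd := Core.card_sup_dvd X Y hn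
  rw [hX, hY, ← sq] at hd
  obtain ⟨j, -, hj⟩ := (Nat.dvd_prime_pow Fact.out).mp hd
  exact eq_of_cyclic (cyclic_of_rank hG h (IsPGroup.of_card hj) (sup_le hXM hYM)) hX hY le_sup_left le_sup_right

/-- A `p`-rank bound passes to conjugates. -/
theorem prankLE_conj {k : ℕ} (h : Cfsg.PRankLE p k M) (g : G) :
    Cfsg.PRankLE p k ↥(M.map (MulAut.conj g).toMonoidHom) :=
  CfsgLib.PGroups.prankLE_of_injective h
    (f := (M.equivMapOfInjective (MulAut.conj g).toMonoidHom (MulAut.conj g).injective).symm.toMonoidHom)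
    (MulEquiv.injective _)

theorem map_conj_inv (g : G) :
    (M.map (MulAut.conj g).toMonoidHom).map (MulAut.conj g⁻¹).toMonoidHom = M := by
  ext x
  rw [Transfer.mem_map_conj, Transfer.mem_map_conj]
  simp [mul_assoc]

/-- A prime of rank one with a normaliser of a subgroup of order `p` inside is in `σ`. -/
theorem sigma_of_rank_one (hG : Cfsg.IsMinSimpleOddOrder G) (h : Cfsg.PRankLE p 1 L) {X : Subgroup G}
    (hX : Nat.card X = p) (hNX : normalizer (X : Set G) ≤ L) : p ∈ Cfsg.sigma L := by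
  have hXL : X ≤ L := le_normalizer.trans hNX
  refine ⟨Fact.out, hX ▸ card_dvd_of_le hXL, ?_⟩
  obtain ⟨T, hT⟩ := ((IsPGroup.of_card (G := X) (n := 1) (by rw [hX, pow_one])).comap_subtype
    (K := L)).exists_le_sylow
  refine ⟨T, (SigmaEmbedding.normalizer_le_of_cyclic (cyclic_of_rank hG h (T.2.map _) (map_subtype_le _)) ?_).trans hNX⟩
  exact fun x hx => mem_map.mpr ⟨⟨x, hXL hx⟩, hT (mem_comap.mpr hx), rfl⟩

/-- A prime of rank one outside `σ(L)`, meeting `L'`, has its subgroups of order `p` in `L'`. -/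
theorem le_derived_of_dvd (hG : Cfsg.IsMinSimpleOddOrder G) (h : Cfsg.PRankLE p 1 L)
    (hd : p ∣ Nat.card ↥⁅L, L⁆) (S : Sylow p L) : (S : Subgroup L).map L.subtype ≤ ⁅L, L⁆ := by
  have hSc : IsCyclic (S : Subgroup L) := by
    have := cyclic_of_rank hG h (S.2.map L.subtype) (map_subtype_le _)
    exact isCyclic_of_surjective ((S : Subgroup L).equivMapOfInjective L.subtype L.subtype_injective).symm
      (MulEquiv.surjective _)
  have := hSc
  rw [← map_subtype_commutator, card_map_of_injective L.subtype_injective] at hd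
  have hidx := (Sylow.not_dvd_card_commutator_or_not_dvd_index_commutator S).resolve_left (not_not.mpr hd)
  rw [← map_subtype_commutator]
  refine map_mono fun x hx => ?_
  refine (QuotientGroup.eq_one_iff x).mp (orderOf_eq_one_iff.mp ?_)
  by_contra hne
  obtain ⟨t, ht, htd⟩ := Nat.exists_prime_and_dvd hne
  obtain ⟨k, hk⟩ := IsPGroup.iff_card.mp S.2
  have h1 : t ∣ p ^ k := htd.trans ((orderOf_map_dvd (QuotientGroup.mk' (_root_.commutator ↥L)) x).trans
    (hk ▸ (S : Subgroup L).orderOf_dvd_natCard hx))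
  rw [(Nat.prime_dvd_prime_iff_eq ht Fact.out).mp (ht.dvd_of_dvd_pow h1)] at htd
  exact hidx (htd.trans (orderOf_dvd_natCard _))

/-- An element normalising `X ≤ L` with `p ∤ |L'|` centralises it. -/
theorem le_centralizer_of_not_dvd {X : Subgroup G} (hX : Nat.card X = p) (hXL : X ≤ L)
    (hd : ¬ p ∣ Nat.card ↥⁅L, L⁆) {N : Subgroup G} (hNL : N ≤ L) (hN : N ≤ normalizer (X : Set G)) :
    N ≤ centralizer (X : Set G) := by
  refine commutator_eq_bot_iff_le_centralizer.mp (le_bot_iff.mp ?_)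
  have h1 : ⁅N, X⁆ ≤ X ⊓ ⁅L, L⁆ := le_inf (le_normalizer_iff_commutator_le_right.mp hN) (commutator_mono hNL hXL)
  refine h1.trans (le_of_eq (Subgroup.inf_eq_bot_of_coprime ?_))
  rw [hX]
  exact (Nat.Prime.coprime_iff_not_dvd Fact.out).mpr hd

/-- Two primes of the same kind: a nilpotent `M_σ` and a common `σ` prime make subgroups conjugate. -/
theorem conj_of_pair (hG : Cfsg.IsMinSimpleOddOrder G) (hM : IsCoatom M) (hL : IsCoatom L)
    (hqM : q ∈ Cfsg.sigma M) (hqL : q ∈ Cfsg.sigma L) {A : Subgroup G} (hA : TauTwo.IsPair p A) (hAL : A ≤ L)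
    (hp : p ∉ Cfsg.sigma L) : ∃ g : G, L = M.map (MulAut.conj g).toMonoidHom := by
  obtain ⟨R₀⟩ : Nonempty (Sylow q L) := inferInstance
  obtain ⟨R, hR⟩ := SigmaTrans.sigma_sylow hqL R₀
  have hRL : (R : Subgroup G) ≤ L := hR.le.trans (map_subtype_le _)
  exact SigmaEmbedding.exists_eq_conj hM hL hqM R hRL
    (Or.inr (SylowUnique.le_normalizer_of_nilpotent hG hL hqL
      (TauTwo.isNilpotent_sigmaCore hG hL hA hAL hp) R hRL))

/-- A common `σ` prime of non conjugate maximal subgroups has abelian Sylow subgroups. -/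
theorem sylow_abelian_of_common (hG : Cfsg.IsMinSimpleOddOrder G) (hM : IsCoatom M) (hL : IsCoatom L)
    (hqM : q ∈ Cfsg.sigma M) (hqL : q ∈ Cfsg.sigma L)
    (hnc : ∀ g : G, L ≠ M.map (MulAut.conj g).toMonoidHom) (S : Sylow q G) :
    IsMulCommutative (S : Subgroup G) := by
  obtain ⟨R₀⟩ : Nonempty (Sylow q L) := inferInstance
  obtain ⟨R, hR⟩ := SigmaTrans.sigma_sylow hqL R₀
  have hRL : (R : Subgroup G) ≤ L := hR.le.trans (map_subtype_le _)
  by_contra hS
  have hRna : ¬ IsMulCommutative (R : Subgroup G) := fun h => hS ⟨⟨fun x y => by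
    have := h.is_comm.comm ((S.equiv R) x) ((S.equiv R) y)
    exact (S.equiv R).injective (by rw [map_mul, map_mul, this])⟩⟩
  obtain ⟨g, hg⟩ := SigmaEmbedding.exists_eq_conj hM hL hqM R hRL
    (Or.inl (SylowUnique.inUniqueMaximal (TauTwoFacts.rankTwo hG) hG R hRna))
  exact hnc g hg

/-- Central elements of an abelian Sylow subgroup are outside the derived group. -/
theorem eq_one_of_central {H : Type*} [Group H] [Finite H] (P : Sylow p H)
    (hP : IsMulCommutative (P : Subgroup H)) {c : H} (hcP : c ∈ (P : Subgroup H))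
    (hcc : c ∈ center H) (hcd : c ∈ _root_.commutator H) : c = 1 := by
  letI : CommGroup (P : Subgroup H) :=
    { (inferInstance : Group (P : Subgroup H)) with mul_comm := fun a b => hP.is_comm.comm a b }
  let f : H →* (P : Subgroup H) := MonoidHom.transfer (MonoidHom.id _)
  have key : ∀ (k : ℕ) (g₀ : H), g₀⁻¹ * c ^ k * g₀ ∈ (P : Subgroup H) → g₀⁻¹ * c ^ k * g₀ = c ^ k :=
    fun k g₀ _ => by rw [mul_assoc, ← mem_center_iff.mp (pow_mem hcc k) g₀, inv_mul_cancel_left]
  have h1 : f c = ⟨c ^ (P : Subgroup H).index, MonoidHom.transfer_eq_pow_aux c key⟩ :=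
    MonoidHom.transfer_eq_pow _ c key
  have h2 : f c = 1 := Abelianization.commutator_subset_ker f hcd
  have h3 : c ^ (P : Subgroup H).index = 1 := congrArg Subtype.val (h1.symm.trans h2)
  obtain ⟨k, hk⟩ := IsPGroup.iff_card.mp P.2
  refine orderOf_eq_one_iff.mp (Nat.eq_one_of_dvd_coprimes ?_ (hk ▸ (P : Subgroup H).orderOf_dvd_natCard hcP)
    (orderOf_dvd_of_pow_eq_one h3))
  exact (((Fact.out : p.Prime).coprime_iff_not_dvd.mpr P.not_dvd_index)).pow_left k

/-- Something in the normaliser moves every nontrivial part of an abelian Sylow subgroup. -/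
theorem not_normalizer_le_centralizer (hG : Cfsg.IsMinSimpleOddOrder G) (S : Sylow p G)
    (hS : IsMulCommutative (S : Subgroup G)) {C : Subgroup G} (hCS : C ≤ (S : Subgroup G)) (hC : C ≠ ⊥) :
    ¬ normalizer ((S : Subgroup G) : Set G) ≤ centralizer (C : Set G) := by
  intro h
  refine hC (eq_bot_iff.mpr fun c hc => ?_)
  set N := normalizer ((S : Subgroup G) : Set G) with hN
  have hSN : (S : Subgroup G) ≤ N := le_normalizer
  have hSN' : IsMulCommutative ↥((S : Subgroup G).subgroupOf N) :=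
    ⟨⟨fun a b => Subtype.ext (Subtype.ext (congrArg Subtype.val (hS.is_comm.comm
      (⟨((a : N) : G), mem_subgroupOf.mp a.2⟩ : (S : Subgroup G)) ⟨((b : N) : G), mem_subgroupOf.mp b.2⟩) :))⟩⟩
  have hd : c ∈ (_root_.commutator ↥N).map N.subtype := by
    rw [map_subtype_commutator]
    exact TauTwo.sylow_le_derived_normalizer hG S (hCS hc)
  obtain ⟨c', hc', he⟩ := mem_map.mp hd
  have hcS : c' ∈ ((S.subtype hSN : Sylow p N) : Subgroup N) := by
    rw [Sylow.coe_subtype, mem_subgroupOf]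
    exact (show (c' : G) = c from he) ▸ hCS hc
  have hcent : c' ∈ center ↥N := mem_center_iff.mpr fun n => Subtype.ext (by
    have h1 := mem_centralizer_iff.mp (h n.2) c hc
    rw [← (show (c' : G) = c from he)] at h1
    exact h1.symm)
  have := eq_one_of_central (S.subtype hSN) (by rw [Sylow.coe_subtype]; exact hSN') hcS hcent hc'
  rw [this, map_one] at he
  exact mem_bot.mpr he.symm

/-- A Frobenius group acting with the complement's fixed points fixed by the kernel acts trivially. -/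
theorem centralizes_of_fixed {Q R W : Subgroup G} (hW : IsPGroup p W) (hQ : IsPGroup q Q) (hR : Nat.card R = r)
    (hRQ : R ≤ normalizer (Q : Set G)) (hQR : Q ⊓ centralizer (R : Set G) = ⊥)
    (hQW : Q ≤ normalizer (W : Set G)) (hRW : R ≤ normalizer (W : Set G))
    (hqp : q ≠ p) (hrp : r ≠ p) (hrq : r ≠ q) (hfix : W ⊓ centralizer (R : Set G) ≤ centralizer (Q : Set G)) :
    Q ≤ centralizer (W : Set G) := by
  have hRp : IsPGroup r R := IsPGroup.of_card (n := 1) (by rw [hR, pow_one])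
  have hdis : Q ⊓ R = ⊥ := TauTwo.inf_eq_bot_pGroups (Ne.symm hrq) hQ hRp
  have hd : Nat.card ↥(Q ⊔ R) ∣ Nat.card Q * Nat.card R := by
    rw [sup_comm, mul_comm]; exact Core.card_sup_dvd R Q hRQ
  have hcop : Nat.Coprime (Nat.card W) (Nat.card ↥(Q ⊔ R)) :=
    Nat.Coprime.coprime_dvd_right hd
      ((TauTwo.coprime_pGroups (Ne.symm hqp) hW hQ).mul_right (TauTwo.coprime_pGroups (Ne.symm hrp) hW hRp))
  have hf := CfsgLib.FrobFix.formula_subgroup Q R W hdis
    (fun e he u hu => (mem_normalizer_iff.1 (hRQ he) u).1 hu)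
    (fun e he hne u hu hc => by
      refine mem_bot.1 (hQR ▸ mem_inf.mpr ⟨hu, mem_centralizer_iff.mpr fun a ha => ?_⟩)
      have hgen : zpowers (⟨e, he⟩ : R) = ⊤ :=
        zpowers_eq_top_of_prime_card hR (fun h => hne (congrArg Subtype.val h))
      obtain ⟨i, hi⟩ := mem_zpowers_iff.mp (hgen ▸ mem_top (⟨a, ha⟩ : R))
      have hi' : e ^ i = a := congrArg Subtype.val hi
      rw [← hi']
      exact (Commute.zpow_left hc i).eq)
    (fun x hx h hh => (mem_normalizer_iff.1 ((sup_le hQW hRW) hx) h).1 hh)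
    (have := hW.isNilpotent; inferInstance) hcop
  have e : W ⊓ centralizer ((Q ⊔ R : Subgroup G) : Set G) = W ⊓ centralizer (R : Set G) := by
    refine le_antisymm (inf_le_inf_left _ (centralizer_le (le_sup_right : R ≤ Q ⊔ R))) fun x hx => ?_
    refine ⟨hx.1, ?_⟩
    have h1 : Q ⊔ R ≤ centralizer ({x} : Set G) := sup_le
      (fun a ha => mem_centralizer_singleton_iff.mpr (mem_centralizer_iff.mp (hfix hx) a ha))
      (fun a ha => mem_centralizer_singleton_iff.mpr (mem_centralizer_iff.mp hx.2 a ha))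
    exact mem_centralizer_iff.mpr fun a ha => mem_centralizer_singleton_iff.mp (h1 ha)
  rw [e] at hf
  have hcard : Nat.card W = Nat.card ↥(W ⊓ centralizer (Q : Set G)) :=
    Nat.eq_of_mul_eq_mul_left (pow_pos Nat.card_pos _) hf
  have hle : W ≤ centralizer (Q : Set G) := fun x hx => by
    have h := eq_of_le_of_card_ge (inf_le_left : W ⊓ centralizer (Q : Set G) ≤ W) hcard.le
    rw [← h] at hx
    exact hx.2
  exact le_centralizer_iff.mp hle

/-- The same over a whole `p`-group, looking at elements of order `p` only. -/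
theorem centralizes_of_fixed_omega {Q R V : Subgroup G} (hV : IsPGroup p V) (hQ : IsPGroup q Q)
    (hR : Nat.card R = r) (hRQ : R ≤ normalizer (Q : Set G)) (hQR : Q ⊓ centralizer (R : Set G) = ⊥)
    (hQV : Q ≤ normalizer (V : Set G)) (hRV : R ≤ normalizer (V : Set G))
    (hqp : q ≠ p) (hrp : r ≠ p) (hrq : r ≠ q) (hp2 : p ≠ 2)
    (hfix : ∀ x ∈ V, x ^ p = 1 → x ∈ centralizer (R : Set G) → x ∈ centralizer (Q : Set G)) :
    Q ≤ centralizer (V : Set G) := by
  obtain ⟨S, hSc, hSp, hSdet⟩ := NarrowAut.exists_omega_critical hp2 hV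
  set W := S.map V.subtype with hWdef
  have hWn : normalizer (V : Set G) ≤ normalizer (W : Set G) := fun g hg =>
    PLengthEndgame.normalizer_le_char V S hg
  have hQW := centralizes_of_fixed ((hV.to_subgroup S).map _) hQ hR hRQ hQR (hQV.trans hWn) (hRV.trans hWn)
    hqp hrp hrq (by
      rintro x ⟨hx, hxc⟩
      obtain ⟨y, hy, rfl⟩ := mem_map.mp hx
      exact hfix _ y.2 (by rw [← map_pow, hSp y hy, map_one]) hxc)
  intro a ha
  have hord : (orderOf (V.normalizerMonoidHom ⟨a, hQV ha⟩)).Coprime p := by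
    obtain ⟨k, hk⟩ := IsPGroup.iff_card.mp hQ
    have h1 : orderOf (V.normalizerMonoidHom ⟨a, hQV ha⟩) ∣ q ^ k :=
      (orderOf_map_dvd V.normalizerMonoidHom _).trans (by
        rw [orderOf_mk]; exact hk ▸ Q.orderOf_dvd_natCard ha)
    exact Nat.Coprime.coprime_dvd_left h1 (((Nat.coprime_primes Fact.out Fact.out).mpr hqp).pow_left k)
  have h1 := hSdet _ hord fun x hx => Subtype.ext (by
    show a * (x : G) * a⁻¹ = (x : G)
    rw [← mem_centralizer_iff.mp (hQW ha) (x : G) ⟨x, hx, rfl⟩, mul_inv_cancel_right])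
  refine mem_centralizer_iff.mpr fun v hv => ?_
  have h2 : a * v * a⁻¹ = v := congrArg (fun f : MulAut V => ((f ⟨v, hv⟩ : V) : G)) h1
  exact (mul_inv_eq_iff_eq_mul.mp h2).symm

/-- An abelian group equal to its commutator with a coprime group has no fixed points. -/
theorem eq_one_of_commutator_fix {Q R : Subgroup G} (hQ : IsPGroup q Q) (hR : IsPGroup r R) (hqr : q ≠ r)
    (hn : R ≤ normalizer (Q : Set G)) (hid : ⁅Q, R⁆ = Q) (hc : IsMulCommutative Q) {x : G}
    (hx : x ∈ Q ⊓ centralizer (R : Set G)) : x ∈ (⊥ : Subgroup G) := by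
  set H := Q ⊔ R with hH
  have hQH : Q ≤ H := le_sup_left
  have hidx : ¬ q ∣ (Q.subgroupOf H).index := by
    intro hd
    have h1 : Nat.card (Q.subgroupOf H) * (Q.subgroupOf H).index ∣ Nat.card R * Nat.card Q := by
      rw [card_mul_index, hH, sup_comm]; exact Core.card_sup_dvd R Q hn
    rw [Nat.card_congr (subgroupOfEquivOfLe hQH).toEquiv, mul_comm (Nat.card R)] at h1
    exact TauTwo.not_dvd_pGroup hqr hR (hd.trans (Nat.dvd_of_mul_dvd_mul_left Nat.card_pos h1))
  set S : Sylow q H := (hQ.comap_subtype (K := H)).toSylow hidx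
  have hSc : IsMulCommutative (S : Subgroup H) := ⟨⟨fun a b => Subtype.ext (Subtype.ext
    (congrArg Subtype.val (hc.is_comm.comm
      (⟨((a : H) : G), mem_subgroupOf.mp a.2⟩ : Q) ⟨((b : H) : G), mem_subgroupOf.mp b.2⟩) :))⟩⟩
  have hcent : H ≤ centralizer ({x} : Set G) := sup_le
    (fun a ha => mem_centralizer_singleton_iff.mpr
      (congrArg Subtype.val (hc.is_comm.comm ⟨a, ha⟩ ⟨x, hx.1⟩)))
    (fun a ha => mem_centralizer_singleton_iff.mpr (mem_centralizer_iff.mp hx.2 a ha))
  have hd : x ∈ (_root_.commutator ↥H).map H.subtype := by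
    rw [map_subtype_commutator]
    exact (hid ▸ commutator_mono hQH le_sup_right : Q ≤ ⁅H, H⁆) hx.1
  obtain ⟨x', hx', he⟩ := mem_map.mp hd
  have he' : (x' : G) = x := he
  have h := eq_one_of_central S hSc (c := x') (mem_subgroupOf.mpr (he' ▸ hx.1))
    (mem_center_iff.mpr fun n => Subtype.ext (by
      show (n : G) * (x' : G) = (x' : G) * (n : G)
      rw [he']; exact mem_centralizer_singleton_iff.mp (hcent n.2))) hx'
  rw [h, map_one] at he
  exact mem_bot.mpr he.symm

end CfsgLib.OddLocal.PrimeActionTools
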