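import Cfsg.Agent.Lib.OddLocal.CNSimple
import Cfsg.Agent.Lib.OddLocal.CNGroup
import Cfsg.Agent.S1477
import Cfsg.Agent.Lib.Transfer.Fusion

/-!
Maximal nilpotent and maximal subgroups of minimal simple CN-groups of odd order.
-/

set_option autoImplicit false

namespace CfsgLib.OddLocal.CNSimple

open Subgroup
open scoped commutatorElement

universe u

variable {G : Type u} [Group G] [Finite G] (hG : Cfsg.IsMinSimpleOddOrder G)
  (hCN : Cfsg.IsCNGroup G)

/-- The data of a maximal subgroup `M = K E` with nilpotent kernel `K`. -/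
structure Frob (M K E : Subgroup G) : Prop where
  compl : Cfsg.IsComplIn K E M
  nil : Group.IsNilpotent K
  ne_bot : K ≠ ⊥
  ne_bot' : E ≠ ⊥
  le_normalizer : M ≤ normalizer (K : Set G)
  fpf : ∀ e ∈ E, e ≠ 1 → K ⊓ centralizer ({e} : Set G) = ⊥
  mem_of_commute : ∀ k ∈ K, k ≠ 1 → ∀ g ∈ M, g * k = k * g → g ∈ K
  mem_of_coprime : ∀ g ∈ M, (orderOf g).Coprime (Nat.card E) → g ∈ K
  derived_le : ⁅M, M⁆ ≤ K

include hG hCN

/-- Non-nilpotent proper subgroups are Frobenius. -/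
theorem exists_frob {M : Subgroup G} (hM : M ≠ ⊤) (hn : ¬ Group.IsNilpotent M) :
    ∃ K E : Subgroup G, Frob M K E := by
  obtain ⟨N, E, hN, hE, hF, hc⟩ := (dichotomy hG hCN hM).resolve_left hn
  obtain ⟨hNn, hNb, hcop, hfix, hcomm⟩ := frobenius_facts hE hF
  have hidx : N.index = Nat.card E := hE.symm.index_eq_card
  have hmem : ∀ g : M, (orderOf g).Coprime (Nat.card E) → g ∈ N := fun g hg => by
    refine (QuotientGroup.eq_one_iff g).1 ?_
    refine CfsgLib.OddLocal.eq_one_of_pow_eq_one_coprime (m := orderOf g) (n := Nat.card E) ?_ ?_ hg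
    · exact (map_pow (QuotientGroup.mk' N) g _).symm.trans
        (by rw [pow_orderOf_eq_one, map_one])
    · rw [← hidx, index]; exact pow_card_eq_one'
  refine ⟨N.map M.subtype, E.map M.subtype, ⟨map_subtype_le _, map_subtype_le _, ?_, fun m hm => ?_⟩,
    CfsgLib.Core.isNilpotent_map _ _, ?_, ?_, ?_, ?_, ?_, ?_, ?_⟩
  · rw [← map_inf _ _ _ M.subtype_injective, disjoint_iff.1 hE.disjoint, Subgroup.map_bot]
  · obtain ⟨⟨a, b⟩, hab⟩ := hE.surjective ⟨m, hm⟩
    exact ⟨_, ⟨a, a.2, rfl⟩, _, ⟨b, b.2, rfl⟩, (congrArg Subtype.val hab).symm⟩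
  · rwa [ne_eq, map_eq_bot_iff_of_injective _ M.subtype_injective]
  · rw [ne_eq, map_eq_bot_iff_of_injective _ M.subtype_injective]; exact hF.1
  · intro m hm
    exact (le_normalizer_map M.subtype) ⟨⟨m, hm⟩, by rw [normalizer_eq_top_iff.2 hN]; trivial, rfl⟩
  · rintro _ ⟨e, he, rfl⟩ he1
    rw [eq_bot_iff]
    rintro _ ⟨⟨v, hv, rfl⟩, hvc⟩
    have := (hfix e he fun h => he1 (by rw [h]; rfl)).le
      ⟨hv, mem_centralizer_singleton_iff.2 (Subtype.ext (mem_centralizer_singleton_iff.1 hvc))⟩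
    exact mem_bot.2 (by rw [mem_bot.1 this]; rfl)
  · rintro _ ⟨v, hv, rfl⟩ hv1 g hg hgv
    exact ⟨⟨g, hg⟩, hcomm v hv (fun h => hv1 (by rw [h]; rfl)) _ (Subtype.ext hgv), rfl⟩
  · intro g hg hgc
    exact ⟨⟨g, hg⟩, hmem _ (by rw [orderOf_mk]; rwa [card_map_of_injective M.subtype_injective] at hgc), rfl⟩
  · refine commutator_le.2 fun x hx y hy => ⟨⁅(⟨x, hx⟩ : M), ⟨y, hy⟩⁆, ?_, rfl⟩
    refine (QuotientGroup.eq_one_iff _).1 ?_
    show QuotientGroup.mk' N ⁅(⟨x, hx⟩ : M), ⟨y, hy⟩⁆ = 1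
    rw [map_commutatorElement, commutatorElement_eq_one_iff_mul_comm]
    refine (hE.symm.QuotientMulEquiv).injective ?_
    rw [map_mul, map_mul]
    exact IsCyclic.commGroup.mul_comm _ _

omit hG hCN in
theorem Frob.coprime_or {M K E : Subgroup G} (h : Frob M K E) {g : G} (hg : g ∈ M)
    {r j : ℕ} (hr : r.Prime) (hgo : orderOf g = r ^ j) (hrK : r ∣ Nat.card K) : g ∈ K := by
  refine h.mem_of_coprime g hg ?_
  rw [hgo]
  refine Nat.Coprime.pow_left j (hr.coprime_iff_not_dvd.2 fun hrE => ?_)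
  have := Fact.mk hr
  obtain ⟨e, he⟩ := exists_prime_orderOf_dvd_card' (G := E) r hrE
  have he1 : (e : G) ≠ 1 := fun h1 => hr.ne_one (by rw [← he, ← Subgroup.orderOf_coe, h1, orderOf_one])
  have hEN : E ≤ normalizer (K : Set G) := h.compl.2.1.trans h.le_normalizer
  have hcop := CfsgLib.Core.FPF.coprime_card hEN h.fpf
  exact hr.ne_one (Nat.eq_one_of_dvd_coprimes hcop hrE hrK)

omit hG hCN in
theorem Frob.le_of_inf_ne_bot {M K E L : Subgroup G} (h : Frob M K E) (hL : Group.IsNilpotent L)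
    (hLM : L ≤ M) {x : G} (hx : x ∈ L) (hxK : x ∈ K) (hx1 : x ≠ 1) : L ≤ K := by
  refine CfsgLib.OddLocal.CN.le_of_prime_pow_mem fun g hg hpp => ?_
  obtain ⟨r, j, hr, -, hj⟩ := hpp
  by_cases hrK : r ∣ Nat.card K
  · exact h.coprime_or (hLM hg) hr.nat_prime hj.symm hrK
  · refine h.mem_of_commute x hxK hx1 g (hLM hg)
      (CfsgLib.OddLocal.commute_of_mem_nilpotent hL hg hx ?_)
    rw [← hj]
    exact (Nat.Coprime.coprime_dvd_right (K.orderOf_dvd_natCard hxK)
      (hr.nat_prime.coprime_iff_not_dvd.2 hrK)).pow_left j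

/-- A maximal subgroup is the normaliser of its kernel, which is a maximal nilpotent subgroup. -/
theorem coatom_structure {M : Subgroup G} (hM : IsCoatom M) :
    ∃ K E : Subgroup G, Frob M K E ∧ normalizer (K : Set G) = M ∧
      ∀ L : Subgroup G, Group.IsNilpotent L → K ≤ L → L = K := by
  obtain ⟨K, E, h⟩ := exists_frob hG hCN hM.1 (not_nilpotent_coatom hG hCN hM)
  have hN : normalizer (K : Set G) = M := normalizer_eq_of_isCoatom hG hM h.le_normalizer h.ne_bot h.compl.1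
  refine ⟨K, E, h, hN, fun L hL hKL => le_antisymm ?_ hKL⟩
  have hLM : L ⊓ M ≤ K := by
    obtain ⟨⟨x, hx⟩, hx1⟩ := ne_bot_iff_exists_ne_one.1 h.ne_bot
    exact h.le_of_inf_ne_bot (CfsgLib.Core.isNilpotent_of_le inf_le_left) inf_le_right
      ⟨hKL hx, h.compl.1 hx⟩ hx (fun h => hx1 (Subtype.ext h))
  by_contra hne
  have hlt : K.subgroupOf L < ⊤ := lt_top_iff_ne_top.2 fun ht => hne (subgroupOf_eq_top.1 ht)
  have hnc := Group.normalizerCondition_of_isNilpotent (G := L) _ hlt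
  obtain ⟨⟨g, hgL⟩, hgN, hgK⟩ := SetLike.exists_of_lt hnc
  refine hgK (mem_subgroupOf.2 (hLM ⟨hgL, ?_⟩))
  rw [← hN]
  refine mem_normalizer_iff.2 fun v => ⟨fun hv => ?_, fun hv => ?_⟩
  · exact mem_subgroupOf.1 ((mem_normalizer_iff.1 hgN ⟨v, hKL hv⟩).1 (mem_subgroupOf.2 hv))
  · have hvL : v ∈ L := by
      have := mul_mem (mul_mem (inv_mem hgL) (hKL hv)) hgL
      simpa [mul_assoc] using this
    exact mem_subgroupOf.1 ((mem_normalizer_iff.1 hgN ⟨v, hvL⟩).2 (mem_subgroupOf.2 hv))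

omit hCN in
theorem exists_ne_one_of_maximal_nilpotent {H : Subgroup G}
    (hmax : ∀ L : Subgroup G, Group.IsNilpotent L → H ≤ L → L = H) : H ≠ ⊥ := by
  rintro rfl
  have := hG.2.1
  obtain ⟨x, hx⟩ := exists_ne (1 : G)
  exact hx (zpowers_eq_bot.1 (hmax (zpowers x) (by let : CommGroup (zpowers x) := IsCyclic.commGroup; exact CommGroup.isNilpotent) bot_le))

/-- Every maximal nilpotent subgroup is the kernel of a maximal subgroup. -/
theorem nilpotent_structure {H : Subgroup G} (hH : Group.IsNilpotent H)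
    (hmax : ∀ L : Subgroup G, Group.IsNilpotent L → H ≤ L → L = H) :
    IsCoatom (normalizer (H : Set G)) ∧ ∃ E, Frob (normalizer (H : Set G)) H E := by
  have hHb := exists_ne_one_of_maximal_nilpotent hG hmax
  have hHt : H ≠ ⊤ := ne_top_of_solvable hG inferInstance
  obtain ⟨M, hM, hNM⟩ := (eq_top_or_exists_le_coatom _).resolve_left (normalizer_ne_top hG hHb hHt)
  have hHM : H ≤ M := Subgroup.le_normalizer.trans hNM
  obtain ⟨K, E, h, hN, hKmax⟩ := coatom_structure hG hCN hM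
  by_cases hint : H ⊓ K = ⊥
  · exfalso
    have hab : IsMulCommutative H := le_centralizer_iff_isMulCommutative.1 fun a ha =>
      mem_centralizer_iff.2 fun b hb => commutatorElement_eq_one_iff_mul_comm.1 (mem_bot.1
        (hint.le (mem_inf.2 ⟨mul_mem (mul_mem (mul_mem hb ha) (inv_mem hb)) (inv_mem ha),
          h.derived_le (commutator_mem_commutator (hHM hb) (hHM ha))⟩)))
    have hcen : ∀ z ∈ H, z ≠ 1 → ∀ g, g * z = z * g → g ∈ H := fun z hz hz1 g hg =>
      CfsgLib.OddLocal.CN.mem_of_commute_central hCN hmax hz1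
        (fun w hw => congrArg Subtype.val (hab.is_comm.comm (⟨w, hw⟩ : H) ⟨z, hz⟩)) hg
    have hself : ∀ n ∈ normalizer (H : Set G), n ∈ H := by
      intro n hn
      obtain ⟨⟨z, hz⟩, hz1⟩ := ne_bot_iff_exists_ne_one.1 hHb
      refine hcen z hz (fun h => hz1 (Subtype.ext h)) n
        (commutatorElement_eq_one_iff_mul_comm.1 (mem_bot.1 (hint.le (mem_inf.2 ⟨?_,
          h.derived_le (commutator_mem_commutator (hNM hn) (hHM hz))⟩))))
      exact mul_mem ((mem_normalizer_iff.1 hn z).1 hz) (inv_mem hz)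
    obtain ⟨p, hp, hpd⟩ := Nat.exists_prime_and_dvd (n := Nat.card H) fun h => hHb (card_eq_one.1 h)
    have := Fact.mk hp
    obtain ⟨P, hPH⟩ := CfsgLib.OddLocal.CN.sylow_le hCN hH hmax hpd
    have hfus : _root_.commutator G ⊓ (P : Subgroup G) ≤ ⊥ := by
      refine CfsgLib.Transfer.commutator_inf_le_of_fusion P ⊥ fun x hx g hg => ?_
      rw [mem_bot, inv_mul_eq_one]
      rcases eq_or_ne x 1 with rfl | hx1
      · simp
      have hgH : g ∈ H := hself g (mem_normalizer_iff.2 fun w => by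
        have hy1 : g⁻¹ * x * g ≠ 1 := fun h => hx1 (by
          have := congrArg (fun v => g * v * g⁻¹) h
          simpa [mul_assoc] using this)
        constructor
        · intro hw
          refine hcen x (hPH hx) hx1 _ ?_
          have h1 : w * (g⁻¹ * x * g) = g⁻¹ * x * g * w :=
            congrArg Subtype.val (hab.is_comm.comm (⟨w, hw⟩ : H) ⟨_, hPH hg⟩)
          have := congrArg (fun v => g * v * g⁻¹) h1
          simpa [mul_assoc] using this
        · intro hw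
          refine hcen _ (hPH hg) hy1 _ ?_
          have h1 : (g * w * g⁻¹) * x = x * (g * w * g⁻¹) :=
            congrArg Subtype.val (hab.is_comm.comm (⟨_, hw⟩ : H) ⟨x, hPH hx⟩)
          have := congrArg (fun v => g⁻¹ * v * g) h1
          simpa [mul_assoc] using this)
      have h1 : g * x = x * g := congrArg Subtype.val (hab.is_comm.comm (⟨g, hgH⟩ : H) ⟨x, hPH hx⟩)
      rw [mul_assoc, ← h1, inv_mul_cancel_left]
    rw [_root_.commutator_def, commutator_top hG, top_inf_eq, le_bot_iff] at hfus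
    exact P.ne_bot_of_dvd_card (hpd.trans H.card_subgroup_dvd_card) hfus
  · obtain ⟨⟨x, hxH, hxK⟩, hx1⟩ := ne_bot_iff_exists_ne_one.1 hint
    have hHK : H ≤ K := h.le_of_inf_ne_bot hH hHM hxH hxK (fun h => hx1 (Subtype.ext h))
    have := hmax K h.nil hHK
    subst this
    rw [hN]
    exact ⟨hM, E, h⟩

/-- In a non-trivial `p`-local subgroup the `p`-elements form a subgroup. -/
theorem exists_pGroup_containing {X D : Subgroup G} {p : ℕ} [Fact p.Prime] (hX : X ≠ ⊤)
    (hD : IsPGroup p D) (hDb : D ≠ ⊥) (hDX : D ≤ X) (hXD : X ≤ normalizer (D : Set G)) :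
    ∃ R : Subgroup G, IsPGroup p R ∧ ∀ Q : Subgroup G, Q ≤ X → IsPGroup p Q → Q ≤ R := by
  suffices ∃ R : Sylow p X, (R : Subgroup X).Normal by
    obtain ⟨R, hR⟩ := this
    refine ⟨(R : Subgroup X).map X.subtype, R.2.map _, fun Q hQX hQp x hx => ?_⟩
    obtain ⟨R', hR'⟩ := (hQp.comap_of_injective X.subtype X.subtype_injective).exists_le_sylow
    have := R.unique_of_normal hR
    rw [Subsingleton.elim R' R] at hR'
    exact ⟨⟨x, hQX hx⟩, hR' (show (⟨x, hQX hx⟩ : X) ∈ Q.comap X.subtype from hx), rfl⟩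
  obtain ⟨R⟩ : Nonempty (Sylow p X) := inferInstance
  by_cases hn : Group.IsNilpotent X
  · exact ⟨R, inferInstance⟩
  obtain ⟨K, E, h⟩ := exists_frob hG hCN hX hn
  have hpK : p ∣ Nat.card K := by
    by_contra hpK
    -- `D` centralises `K`
    have hdk : D ⊓ K = ⊥ := by
      obtain ⟨k, hk⟩ := hD.exists_card_eq
      exact inf_eq_bot_of_coprime (hk ▸ (((Fact.out : p.Prime).coprime_iff_not_dvd.2 hpK).pow_left k))
    obtain ⟨⟨d, hd⟩, hd1⟩ := ne_bot_iff_exists_ne_one.1 hDb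
    obtain ⟨⟨k, hk⟩, hk1⟩ := ne_bot_iff_exists_ne_one.1 h.ne_bot
    have hdK : d ∈ K := by
      refine h.mem_of_commute k hk (fun h => hk1 (Subtype.ext h)) d (hDX hd)
        (commutatorElement_eq_one_iff_mul_comm.1 (mem_bot.1 (hdk.le (mem_inf.2 ⟨?_, ?_⟩))))
      · rw [commutatorElement_def, show d * k * d⁻¹ * k⁻¹ = d * (k * d⁻¹ * k⁻¹) by group]
        exact mul_mem hd ((mem_normalizer_iff.1 (hXD (h.compl.1 hk)) _).1 (inv_mem hd))
      · exact mul_mem ((mem_normalizer_iff.1 (h.le_normalizer (hDX hd)) k).1 hk) (inv_mem hk)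
    exact hd1 (Subtype.ext (mem_bot.1 (hdk.le ⟨hd, hdK⟩)))
  refine ⟨R, ?_⟩
  have hRK : (R : Subgroup X) ≤ K.subgroupOf X := fun x hx => by
    obtain ⟨j, hj⟩ := IsPGroup.iff_orderOf.1 R.2 ⟨x, hx⟩
    rw [orderOf_mk, ← Subgroup.orderOf_coe] at hj
    exact mem_subgroupOf.2 (h.coprime_or x.2 (Fact.out : p.Prime) hj hpK)
  have hKn : (K.subgroupOf X).Normal := (normal_subgroupOf_iff_le_normalizer h.compl.1).2 h.le_normalizer
  have : Group.IsNilpotent (K.subgroupOf X) := by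
    have := h.nil
    exact Group.nilpotent_of_mulEquiv (subgroupOfEquivOfLe h.compl.1).symm
  let R' : Sylow p (K.subgroupOf X) := R.subtype hRK
  have hc : (R' : Subgroup (K.subgroupOf X)).Characteristic := R'.characteristic_of_normal inferInstance
  have hmap : (R' : Subgroup (K.subgroupOf X)).map (K.subgroupOf X).subtype = (R : Subgroup X) :=
    map_subgroupOf_eq_of_le hRK
  rw [← hmap]
  infer_instance

theorem ti_of_maximal_nilpotent {H : Subgroup G} (hH : Group.IsNilpotent H)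
    (hmax : ∀ L : Subgroup G, Group.IsNilpotent L → H ≤ L → L = H) (g : G)
    (hg : H.map (MulAut.conj g).toMonoidHom ≠ H) : H ⊓ H.map (MulAut.conj g).toMonoidHom = ⊥ := by
  have hHb := exists_ne_one_of_maximal_nilpotent hG hmax
  by_cases hpp : IsPrimePow (Nat.card H)
  swap
  · exact (Cfsg.Agent.S1477.result hCN H hH hmax).2.1 hpp (fun h => hHb (card_eq_one.1 h)) g hg
  obtain ⟨p, n, hp, hn, hcard⟩ := hpp
  have := Fact.mk hp.nat_prime
  have hHp : IsPGroup p H := IsPGroup.of_card hcard.symm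
  obtain ⟨P, hPH⟩ := CfsgLib.OddLocal.CN.sylow_le hCN hH hmax (hcard ▸ dvd_pow_self p hn.ne')
  have hPeq : (P : Subgroup G) = H := (P.3 hHp hPH).symm
  by_contra hne
  -- maximal intersections of distinct conjugates of `H`
  obtain ⟨a, ⟨ha1, ha2⟩, hamax⟩ := Set.exists_max_image
    {a : G | H.map (MulAut.conj a).toMonoidHom ≠ H ∧ H ⊓ H.map (MulAut.conj a).toMonoidHom ≠ ⊥}
    (fun a => Nat.card ↥(H ⊓ H.map (MulAut.conj a).toMonoidHom)) (Set.toFinite _) ⟨g, hg, hne⟩
  set Q := H.map (MulAut.conj a).toMonoidHom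
  set D := H ⊓ Q
  have hQp : IsPGroup p Q := hHp.map _
  have hDp : IsPGroup p D := hHp.to_le inf_le_left
  have hcardQ : Nat.card Q = Nat.card H := card_map_of_injective (MulAut.conj a).injective
  have hDH : D < H := inf_le_left.lt_of_ne fun h =>
    ha1 (eq_of_le_of_card_ge (inf_eq_left.1 h) hcardQ.le).symm
  have hDQ : D < Q := inf_le_right.lt_of_ne fun h =>
    ha1 (eq_of_le_of_card_ge (inf_eq_right.1 h) hcardQ.ge)
  have hDt : D ≠ ⊤ := ne_top_of_lt hDH
  obtain ⟨R, hRp, hR⟩ := exists_pGroup_containing hG hCN (normalizer_ne_top hG ha2 hDt) hDp ha2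
    Subgroup.le_normalizer le_rfl
  obtain ⟨S, hRS⟩ := hRp.exists_le_sylow
  obtain ⟨b, hb⟩ := MulAction.exists_smul_eq G P S
  have hS : (S : Subgroup G) = H.map (MulAut.conj b).toMonoidHom := by
    rw [← hb, ← hPeq]; rfl
  have hNH := CfsgLib.Transfer.lt_inf_normalizer hHp hDH
  have hNQ := CfsgLib.Transfer.lt_inf_normalizer hQp hDQ
  have h1 : H ⊓ normalizer (D : Set G) ≤ (S : Subgroup G) :=
    (hR _ inf_le_right (hHp.to_le inf_le_left)).trans hRS
  have h2 : Q ⊓ normalizer (D : Set G) ≤ (S : Subgroup G) :=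
    (hR _ inf_le_right (hQp.to_le inf_le_left)).trans hRS
  by_cases hbH : H.map (MulAut.conj b).toMonoidHom = H
  · exact hNQ.ne (le_antisymm hNQ.le (le_inf ((h2.trans (hS.le.trans hbH.le))) inf_le_left))
  · have h3 : D < H ⊓ H.map (MulAut.conj b).toMonoidHom :=
      lt_of_lt_of_le hNH (le_inf inf_le_left (hS ▸ h1))
    refine absurd (hamax b ⟨hbH, ne_bot_of_gt h3⟩) (not_le.2 ?_)
    exact lt_of_le_of_ne (Nat.le_of_dvd Nat.card_pos (card_dvd_of_le h3.le))
      fun h => h3.ne (eq_of_le_of_card_ge h3.le h.ge)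

end CfsgLib.OddLocal.CNSimple
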