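import Cfsg.Agent.Lib.OddLocal.PrimeActionTools

/-!
The configuration refuted by Bender–Glauberman, Theorem 13.4: an element of order `r` moving a
`q`-subgroup of `C_{M_σ}(P)`, for `|P| = p ∈ τ₁(M)`. This file derives its first consequences in a
maximal subgroup over `N(P)`.
-/

set_option autoImplicit false
set_option linter.unusedSectionVars false

namespace CfsgLib.OddLocal.CentTauOne

open Subgroup
open CfsgLib.TwoGroups
open PrimeActionTools
open SigmaOrderP (sigmaCore_le le_normalizer_sigmaCore le_sigmaCore)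

variable {G : Type*} [Group G] [Finite G] {p q r : ℕ} [Fact p.Prime] [Fact q.Prime] [Fact r.Prime]

/-- The configuration to be refuted. -/
structure Bad (M P R Q : Subgroup G) (p r q : ℕ) : Prop where
  max : IsCoatom M
  tau : p ∈ Cfsg.tau1 M
  rσ : r ∉ Cfsg.sigma M
  rp : r ≠ p
  cardP : Nat.card P = p
  cardR : Nat.card R = r
  leP : P ≤ M
  leR : R ≤ M
  commRP : R ≤ centralizer (P : Set G)
  pgroup : IsPGroup q Q
  qσ : q ∈ Cfsg.sigma M
  leQ : Q ≤ Cfsg.sigmaCore M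
  commQP : Q ≤ centralizer (P : Set G)
  norm : R ≤ normalizer (Q : Set G)
  idem : ⁅Q, R⁆ = Q
  ne : Q ≠ ⊥

variable {M P R Q L : Subgroup G}

theorem Bad.QM (h : Bad M P R Q p r q) : Q ≤ M := h.leQ.trans (sigmaCore_le M)

theorem Bad.qp (h : Bad M P R Q p r q) : q ≠ p := fun e => h.tau.2.1 (e ▸ h.qσ)

theorem Bad.qr (h : Bad M P R Q p r q) : q ≠ r := fun e => h.rσ (e ▸ h.qσ)

theorem Bad.P_ne (h : Bad M P R Q p r q) : P ≠ ⊥ := fun e =>
  (Fact.out : p.Prime).ne_one (by rw [← h.cardP, e, card_bot])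

theorem Bad.Ppgroup (h : Bad M P R Q p r q) : IsPGroup p P := IsPGroup.of_card (n := 1) (by rw [h.cardP, pow_one])

theorem Bad.Rpgroup (h : Bad M P R Q p r q) : IsPGroup r R := IsPGroup.of_card (n := 1) (by rw [h.cardR, pow_one])

theorem Bad.not_centralizes (h : Bad M P R Q p r q) : ¬ R ≤ centralizer (Q : Set G) := fun hc =>
  h.ne (h.idem.symm.trans (commutator_eq_bot_iff_le_centralizer.mpr (le_centralizer_iff.mp hc)))

theorem Bad.CP_le (_h : Bad M P R Q p r q) (hNP : normalizer (P : Set G) ≤ L) :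
    centralizer (P : Set G) ≤ L := (Subgroup.centralizer_le_normalizer _).trans hNP

theorem Bad.nonconj (h : Bad M P R Q p r q) (hG : Cfsg.IsMinSimpleOddOrder G)
    (hNP : normalizer (P : Set G) ≤ L) (g : G) : L ≠ M.map (MulAut.conj g).toMonoidHom := by
  intro e
  have hs := sigma_of_rank_one hG (prankLE_conj h.tau.2.2.2.2 g) h.cardP (e ▸ hNP)
  exact h.tau.2.1 (SigmaEmbedding.sigma_of_conj hs)

/-- In a maximal subgroup sharing the `q`-element `X` with nilpotent core: Sylow trick. -/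
theorem sylow_trick (hG : Cfsg.IsMinSimpleOddOrder G) {H X : Subgroup G} {A : Subgroup G} (hM : IsCoatom M)
    (hqM : q ∈ Cfsg.sigma M) (hpq : p ≠ q) (hM1 : Cfsg.PRankLE p 1 M)
    (hX : IsPGroup q X) (hX1 : X ≠ ⊥) (hXM : X ≤ M) (hH : IsCoatom H) (hne : H ≠ M)
    (hNX : normalizer (X : Set G) ≤ H) (hXd : X ≤ ⁅H, H⁆)
    (hP : Nat.card P = p) (hPM : P ≤ M) (hPH : P ≤ H) (hpσ : p ∈ Cfsg.sigma H) (hpβ : p ∉ Cfsg.beta H)
    (hA : TauTwo.IsPair p A) (hAH : A ≤ H) : False := by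
  have hXH : X ≤ H := le_normalizer.trans hNX
  obtain ⟨S, hS, hXS, hSM, hSH, hmax⟩ := SigmaEmbedding.exists_max hX hXM hXH
  obtain ⟨hNS, hnd⟩ := SigmaEmbedding.sylow_inf hG hM hqM hX1 hNX hS hXS hSM hSH hmax
  have hnconj := SigmaEmbedding.not_conj hG hM hqM hX hX1 hXM hne hNX
  have hqβ : q ∉ Cfsg.beta H := fun hb => by
    obtain ⟨g, hg⟩ := SigmaEmbedding.exists_eq_conj_of_alpha hG hM hH hqM hb.1
    exact hnconj g hg
  set T : Sylow q H := (hS.comap_subtype (K := H)).toSylow hnd with hTdef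
  have hT : (T : Subgroup H).map H.subtype = S := map_subgroupOf_eq_of_le hSH
  -- `S` lies in `H'`
  have hSd : S ≤ ⁅H, H⁆ := by
    by_cases hqσ : q ∈ Cfsg.sigma H
    · exact TauTwo.le_derived_of_sigma hG hH hqσ hS hSH
    by_cases hSc : IsCyclic S
    · have hd : q ∣ Nat.card ↥⁅H, H⁆ := by
        refine dvd_trans ?_ (card_dvd_of_le hXd)
        obtain ⟨k, hk⟩ := IsPGroup.iff_card.mp hX
        have : k ≠ 0 := by
          rintro rfl
          exact hX1 (eq_bot_of_card_eq X (hk.trans (pow_zero q)))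
        exact hk ▸ dvd_pow_self q this
      exact hT ▸ le_derived_of_dvd hG (CyclicPrimeAction.prankLE_one hSH hnd hS hSc) hd T
    · obtain ⟨B, hB, hBS⟩ := exists_pair_of_noncyclic hG hS hSc
      have hbot := TauTwo.sigmaCore_inf_eq_bot hG hH hB (hBS.trans hSH) hqσ hM hne.symm (hBS.trans hSM)
      have hle : P ≤ Cfsg.sigmaCore H ⊓ M :=
        le_inf (le_sigmaCore hG hH hpσ (IsPGroup.of_card (n := 1) (by rw [hP, pow_one])) hPH) hPM
      rw [hbot, le_bot_iff] at hle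
      exact absurd (hP ▸ hle ▸ card_bot) (Fact.out : p.Prime).ne_one
  -- an `S`-invariant Sylow subgroup of the `q`-complement of `H'`
  have hc := BetaCore.complement_derived hG hH hqβ
  set O := (Cfsg.pPrimeCore q ↥⁅H, H⁆).map (⁅H, H⁆).subtype with hO
  have hHO : H ≤ normalizer (O : Set G) := fun g hg =>
    PLengthEndgame.normalizer_le_char ⁅H, H⁆ (Cfsg.pPrimeCore q ↥⁅H, H⁆) (normalizer_commutator_ge_left H H hg)
  have hAd : A ≤ ⁅H, H⁆ := TauTwo.le_derived_of_sigma hG hH hpσ hA.isPGroup hAH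
  have hAO : A ≤ O := by
    rw [← map_subgroupOf_eq_of_le hAd]
    refine map_mono (BetaCore.le_pPrimeCore_of_complement hc ?_)
    rw [Nat.card_congr (subgroupOfEquivOfLe hAd).toEquiv]
    exact ((Fact.out : q.Prime).coprime_iff_not_dvd.mpr (TauTwo.not_dvd_pGroup (Ne.symm hpq) hA.isPGroup)).symm
  obtain ⟨P₂, hP₂⟩ := Core.exists_invariant_sylow (A := S) (K := O) (hSH.trans hHO)
    (by
      obtain ⟨k, hk⟩ := IsPGroup.iff_card.mp hS
      rw [hk, hO, card_map_of_injective (⁅H, H⁆).subtype_injective]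
      exact (CfsgLib.Core.coprime_card_pPrimeCore q _).symm.pow_left k)
    (Or.inl (hG.2.2.2 S (Uniqueness.ne_top_of_pGroup hG hS))) p
  set V := (P₂ : Subgroup O).map O.subtype with hV
  have hVH : V ≤ H := (map_subtype_le _).trans ((map_subtype_le _).trans (commutator_le_self H))
  have hSV : S ≤ centralizer (V : Set G) :=
    TauTwo.centralizes_of_derived hG hH (p := q) (q := p) hpq hpβ hS hSd (P₂.2.map _) hVH hP₂
  have hVM : V ≤ M := ((le_centralizer_iff.mp hSV).trans (Subgroup.centralizer_le_normalizer _)).trans hNS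
  obtain ⟨R', hR'⟩ := (hA.isPGroup.comap_subtype (K := O)).exists_le_sylow
  have hVc : IsCyclic (P₂ : Subgroup O) := by
    have := cyclic_of_rank hG hM1 (P₂.2.map O.subtype) hVM
    exact isCyclic_of_surjective ((P₂ : Subgroup O).equivMapOfInjective O.subtype O.subtype_injective).symm
      (MulEquiv.surjective _)
  have : IsCyclic (R' : Subgroup O) := isCyclic_of_surjective (P₂.equiv R') (P₂.equiv R').surjective
  have : IsCyclic ((R' : Subgroup O).map O.subtype) := isCyclic_of_surjective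
    ((R' : Subgroup O).equivMapOfInjective O.subtype O.subtype_injective) (MulEquiv.surjective _)
  have hle : A ≤ (R' : Subgroup O).map O.subtype := fun x hx => ⟨⟨x, hAO hx⟩, hR' hx, rfl⟩
  exact hA.not_isCyclic (isCyclic_of_injective (inclusion hle) (inclusion_injective _))

/-- The facts about a maximal subgroup over `N(P)`. -/
structure Over (M P R Q L : Subgroup G) (p r q : ℕ) : Prop where
  max : IsCoatom L
  nle : normalizer (P : Set G) ≤ L
  leP : P ≤ L
  leR : R ≤ L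
  leQ : Q ≤ L
  qα : q ∉ Cfsg.alpha L
  leQ' : Q ≤ ⁅L, L⁆
  rσ : r ∉ Cfsg.sigma L
  r1 : Cfsg.PRankLE r 1 L
  rd : ¬ r ∣ Nat.card ↥⁅L, L⁆
  pσ : p ∈ Cfsg.sigma L
  Qc : IsMulCommutative Q

theorem Bad.over (h : Bad M P R Q p r q) (hG : Cfsg.IsMinSimpleOddOrder G) (hL : IsCoatom L)
    (hNP : normalizer (P : Set G) ≤ L) : Over M P R Q L p r q := by
  have hM := h.max
  have hPL : P ≤ L := le_normalizer.trans hNP
  have hRL : R ≤ L := h.commRP.trans (h.CP_le hNP)
  have hQL : Q ≤ L := h.commQP.trans (h.CP_le hNP)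
  have hqα : q ∉ Cfsg.alpha L := fun hα => by
    obtain ⟨g, hg⟩ := SigmaEmbedding.exists_eq_conj_of_alpha hG hM hL h.qσ hα
    exact h.nonconj hG hNP g hg
  have hQd : Q ≤ ⁅L, L⁆ := h.idem ▸ commutator_mono hQL hRL
  have hRd : ¬ R ≤ ⁅L, L⁆ := fun hle => h.not_centralizes
    (TauTwo.centralizes_of_derived hG hL h.qr (fun hb => hqα hb.1) h.Rpgroup hle h.pgroup hQL h.norm)
  have hrσ : r ∉ Cfsg.sigma L := fun hr => hRd (TauTwo.le_derived_of_sigma hG hL hr h.Rpgroup hRL)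
  have hQRd : ∀ t : ℕ, t.Prime → t ∣ Nat.card ↥(R ⊔ Q) → t = r ∨ t = q := fun t ht hd => by
    rcases ht.dvd_mul.1 (hd.trans (Core.card_sup_dvd R Q h.norm)) with h' | h'
    · rw [h.cardR] at h'
      exact Or.inl ((Nat.prime_dvd_prime_iff_eq ht Fact.out).mp h')
    · obtain ⟨k, hk⟩ := IsPGroup.iff_card.mp h.pgroup
      exact Or.inr ((Nat.prime_dvd_prime_iff_eq ht Fact.out).mp (ht.dvd_of_dvd_pow (hk ▸ h')))
  -- the rank of `r`
  have hr1 : Cfsg.PRankLE r 1 L := by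
    by_contra hr1
    obtain ⟨B₀, hB₀, hB₀L⟩ := TauTwo.exists_isPair hr1
    by_cases hqσ : q ∈ Cfsg.sigma L
    · obtain ⟨g, hg⟩ := conj_of_pair hG hM hL h.qσ hqσ hB₀ hB₀L hrσ
      exact h.nonconj hG hNP g hg
    obtain ⟨E, hE, hKE⟩ := TauTwo.exists_complement_ge hG hL (sup_le hRL hQL)
      fun t ht hd => (hQRd t ht hd).elim (fun e => e ▸ hrσ) fun e => e ▸ hqσ
    obtain ⟨B, hB, hBE⟩ := TauTwo.exists_pair_complement hG hL hE (hB₀.tau2_of_not_sigma hG hL hB₀L hrσ)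
    obtain ⟨hEB, hΩ, -⟩ := TauTwo.le_normalizer_pair hG hL hB hrσ hE hBE
    have hRB : R ≤ B := fun x hx => hΩ x (hKE (mem_sup_left hx))
      (orderOf_dvd_iff_pow_eq_one.mp (h.cardR ▸ R.orderOf_dvd_natCard hx))
    have h1 : Q ≤ Q ⊓ B := le_inf le_rfl (h.idem.symm.le.trans ((commutator_mono le_rfl hRB).trans
      (le_normalizer_iff_commutator_le_right.mp ((le_sup_right.trans hKE).trans hEB))))
    rw [TauTwo.inf_eq_bot_pGroups h.qr h.pgroup hB.isPGroup] at h1
    exact h.ne (le_bot_iff.mp h1)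
  have hrd : ¬ r ∣ Nat.card ↥⁅L, L⁆ := fun hd => by
    obtain ⟨T, hT⟩ := (h.Rpgroup.comap_subtype (K := L)).exists_le_sylow
    exact hRd (fun x hx => le_derived_of_dvd hG hr1 hd T ⟨⟨x, hRL hx⟩, hT hx, rfl⟩)
  have hPd : ∀ t : ℕ, t.Prime → t ∣ Nat.card ↥(P ⊔ (R ⊔ Q)) → t = p ∨ t = r ∨ t = q := fun t ht hd => by
    have hn : P ≤ normalizer ((R ⊔ Q : Subgroup G) : Set G) :=
      (le_centralizer_iff.mp (sup_le h.commRP h.commQP)).trans (Subgroup.centralizer_le_normalizer _)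
    rcases ht.dvd_mul.1 (hd.trans (Core.card_sup_dvd P (R ⊔ Q) hn)) with h' | h'
    · rw [h.cardP] at h'
      exact Or.inl ((Nat.prime_dvd_prime_iff_eq ht Fact.out).mp h')
    · exact Or.inr (hQRd t ht h')
  have hpσ : p ∈ Cfsg.sigma L := by
    by_contra hpσ
    have hp1 : ¬ Cfsg.PRankLE p 1 L := fun hp1 => hpσ (sigma_of_rank_one hG hp1 h.cardP hNP)
    obtain ⟨A₀, hA₀, hA₀L⟩ := TauTwo.exists_isPair hp1
    have hqσ : q ∉ Cfsg.sigma L := fun hqσ => by
      obtain ⟨g, hg⟩ := conj_of_pair hG hM hL h.qσ hqσ hA₀ hA₀L hpσ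
      exact h.nonconj hG hNP g hg
    obtain ⟨E, hE, hKE⟩ := TauTwo.exists_complement_ge hG hL (sup_le hPL (sup_le hRL hQL))
      fun t ht hd => (hPd t ht hd).elim (fun e => e ▸ hpσ) fun e => e.elim (fun e => e ▸ hrσ) fun e => e ▸ hqσ
    obtain ⟨A, hA, hAE⟩ := TauTwo.exists_pair_complement hG hL hE (hA₀.tau2_of_not_sigma hG hL hA₀L hpσ)
    obtain ⟨hEA, -, -⟩ := TauTwo.le_normalizer_pair hG hL hA hpσ hE hAE
    -- `A` centralises `Q`
    have hQE : Q ≤ E := (le_sup_right.trans le_sup_right).trans hKE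
    have hQEd : Q ≤ ⁅E, E⁆ :=
      h.idem ▸ commutator_mono hQE ((le_sup_left.trans le_sup_right).trans hKE)
    set W := (Cfsg.pCore q ↥⁅E, E⁆).map (⁅E, E⁆).subtype with hW
    have hnil := SigmaComplement.isNilpotent_derived hG hL hE
    have hEW : E ≤ normalizer (W : Set G) := fun g hg =>
      PLengthEndgame.normalizer_le_char ⁅E, E⁆ (Cfsg.pCore q ↥⁅E, E⁆) (normalizer_commutator_ge_left E E hg)
    have hQW : Q ≤ W := by
      intro d hd
      obtain ⟨k, hk⟩ := IsPGroup.iff_card.mp h.pgroup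
      obtain ⟨j, -, hj⟩ := (Nat.dvd_prime_pow Fact.out).mp
        (hk ▸ orderOf_dvd_natCard Q hd : orderOf d ∣ q ^ k)
      exact mem_map.mpr ⟨⟨d, hQEd hd⟩, HallGen.mem_pCore_of_mem_nilpotent_normal (k := j)
        (inferInstance : (⊤ : Subgroup ↥⁅E, E⁆).Normal)
        (Group.nilpotent_of_mulEquiv topEquiv.symm) (mem_top _) (by rw [orderOf_mk]; exact hj), rfl⟩
    have hWE : W ≤ E := (map_subtype_le _).trans (commutator_le_self E)
    have hAW : ⁅A, W⁆ = ⊥ := by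
      refine le_bot_iff.mp ((le_inf ?_ ?_).trans
        (TauTwo.inf_eq_bot_pGroups (Ne.symm h.qp) hA.isPGroup ((Core.isPGroup_pCore q ↥⁅E, E⁆).map (⁅E, E⁆).subtype)).le)
      · exact le_normalizer_iff_commutator_le_left.mp (hWE.trans hEA)
      · exact le_normalizer_iff_commutator_le_right.mp (hAE.trans hEW)
    have hAQ : A ≤ centralizer (Q : Set G) :=
      (commutator_eq_bot_iff_le_centralizer.mp hAW).trans (Subgroup.centralizer_le hQW)
    obtain ⟨H, hH, hNH⟩ := (eq_top_or_exists_le_coatom _).resolve_left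
      (TransitivityHyp.normalizer_ne_top hG h.ne (Uniqueness.ne_top_of_pGroup hG h.pgroup))
    have hAH : A ≤ H := (hAQ.trans (Subgroup.centralizer_le_normalizer _)).trans hNH
    have hPH : P ≤ H := ((le_centralizer_iff.mp h.commQP).trans (Subgroup.centralizer_le_normalizer _)).trans hNH
    have hne : H ≠ M := fun e => not_le_of_rank hA h.tau.2.2.2.2 (e ▸ hAH)
    obtain ⟨K, hK, hKn, hsup, hKpi⟩ := SigmaEmbedding.exists_supplement (TauTwoFacts.structure_tau2 hG) hG hM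
      h.qσ h.pgroup h.ne h.QM hH hne hNH
    have hpσH : p ∈ Cfsg.sigma H := by
      by_contra hn
      exact CyclicPrimeAction.false_of_supplement h.tau.2.2.2.2 (fun h1 => hA.not_rank_one hAH h1) hK hKn hsup
        fun hd => hn (hKpi p Fact.out hd).1
    exact sylow_trick hG hM h.qσ (Ne.symm h.qp) h.tau.2.2.2.2 h.pgroup h.ne h.QM hH hne hNH
      (h.idem ▸ commutator_mono (le_normalizer.trans hNH) (h.norm.trans hNH)) h.cardP h.leP hPH hpσH
      (hA.not_beta hG (TauTwo.not_inUniqueMaximal hG hL hA (hAE.trans hE.1) hpσ) H) hA hAH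
  refine ⟨hL, hNP, hPL, hRL, hQL, hqα, hQd, hrσ, hr1, hrd, hpσ, ?_⟩
  by_cases hqσ : q ∈ Cfsg.sigma L
  · obtain ⟨S, hS⟩ := h.pgroup.exists_le_sylow
    have hSc := sylow_abelian_of_common hG hM hL h.qσ hqσ (h.nonconj hG hNP) S
    exact ⟨⟨fun a b => Subtype.ext (congrArg Subtype.val
      (hSc.is_comm.comm ⟨_, hS a.2⟩ ⟨_, hS b.2⟩) :)⟩⟩
  · exact TauTwo.nilpotent_commutative hG hL hQL h.pgroup.isNilpotent fun t ht hd => by
      obtain ⟨k, hk⟩ := IsPGroup.iff_card.mp h.pgroup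
      rw [(Nat.prime_dvd_prime_iff_eq ht Fact.out).mp (ht.dvd_of_dvd_pow (hk ▸ hd))]
      exact hqσ

/-- `R` fixes no noncyclic part of a `p`-group of `L` when `p ∈ α(L)`. -/
theorem Over.no_pair (o : Over M P R Q L p r q) (h : Bad M P R Q p r q) (hG : Cfsg.IsMinSimpleOddOrder G)
    (hpα : p ∈ Cfsg.alpha L) {A : Subgroup G} (hA : TauTwo.IsPair p A) (hAL : A ≤ L)
    (hAR : A ≤ centralizer (R : Set G)) : False := by
  have hR1 : R ≠ ⊥ := fun e => (Fact.out : r.Prime).ne_one (by rw [← h.cardR, e, card_bot])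
  obtain ⟨H, hH, hNH⟩ := (eq_top_or_exists_le_coatom _).resolve_left
    (TransitivityHyp.normalizer_ne_top hG hR1 (Uniqueness.ne_top_of_pGroup hG h.Rpgroup))
  have hRH : R ≤ H := le_normalizer.trans hNH
  have hAH : A ≤ H := (hAR.trans (Subgroup.centralizer_le_normalizer _)).trans hNH
  by_cases hpσ : p ∈ Cfsg.sigma H
  · obtain ⟨g, hg⟩ := SigmaEmbedding.exists_eq_conj_of_alpha hG hH o.max hpσ hpα
    have hHL : L.map (MulAut.conj g⁻¹).toMonoidHom = H := by rw [hg]; exact map_conj_inv g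
    have hr1 : Cfsg.PRankLE r 1 H := hHL ▸ prankLE_conj o.r1 g⁻¹
    exact o.rσ (SigmaEmbedding.sigma_of_conj (g := g⁻¹) (hHL ▸ sigma_of_rank_one hG hr1 h.cardR hNH))
  have hrσ : r ∉ Cfsg.sigma H := fun hr => by
    have hle : R ≤ Cfsg.sigmaCore H ⊓ centralizer (A : Set G) :=
      le_inf (le_sigmaCore hG hH hr h.Rpgroup hRH) (le_centralizer_iff.mp hAR)
    rw [TauTwo.sigma_inf_centralizer hG hH hA hAH hpσ, le_bot_iff] at hle
    exact hR1 hle
  have hr1 : ¬ Cfsg.PRankLE r 1 H := fun hr1 => hrσ (sigma_of_rank_one hG hr1 h.cardR hNH)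
  obtain ⟨B₀, hB₀, hB₀H⟩ := TauTwo.exists_isPair hr1
  obtain ⟨E, hE, hAE⟩ := TauTwo.exists_complement_ge hG hH hAH fun t ht hd => by
    obtain ⟨k, hk⟩ := IsPGroup.iff_card.mp hA.isPGroup
    rw [(Nat.prime_dvd_prime_iff_eq ht Fact.out).mp (ht.dvd_of_dvd_pow (hk ▸ hd))]
    exact hpσ
  obtain ⟨B, hB, hBE⟩ := TauTwo.exists_pair_complement hG hH hE (hB₀.tau2_of_not_sigma hG hH hB₀H hrσ)
  have hAB : ⁅B, A⁆ = ⊥ := by
    refine le_bot_iff.mp ((le_inf ?_ ?_).trans (TauTwo.inf_eq_bot_pGroups h.rp hB.isPGroup hA.isPGroup).le)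
    · exact le_normalizer_iff_commutator_le_left.mp
        (hAE.trans (TauTwo.le_normalizer_pair hG hH hB hrσ hE hBE).1)
    · exact le_normalizer_iff_commutator_le_right.mp
        (hBE.trans (TauTwo.le_normalizer_pair hG hH hA hpσ hE hAE).1)
  exact not_le_of_rank hB o.r1 ((commutator_eq_bot_iff_le_centralizer.mp hAB).trans
    (TauTwo.centralizer_le hG o.max hA hAL))

/-- A Sylow `p`-subgroup of `G` inside `L` centralised by `Q`, normalised by `R`. -/
theorem Over.exists_sylow (o : Over M P R Q L p r q) (h : Bad M P R Q p r q) (hG : Cfsg.IsMinSimpleOddOrder G) :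
    ∃ V : Sylow p G, P ≤ (V : Subgroup G) ∧ (V : Subgroup G) ≤ L ∧
      R ≤ normalizer ((V : Subgroup G) : Set G) ∧ Q ≤ centralizer ((V : Subgroup G) : Set G) := by
  have hL := o.max
  have hc := BetaCore.complement_derived hG hL (fun hb => o.qα hb.1)
  set O := (Cfsg.pPrimeCore q ↥⁅L, L⁆).map (⁅L, L⁆).subtype with hO
  have hLO : L ≤ normalizer (O : Set G) := fun g hg =>
    PLengthEndgame.normalizer_le_char ⁅L, L⁆ (Cfsg.pPrimeCore q ↥⁅L, L⁆) (normalizer_commutator_ge_left L L hg)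
  have hOle : O ≤ L := (map_subtype_le _).trans (commutator_le_self L)
  have hinO : ∀ T : Subgroup G, IsPGroup p T → T ≤ L → T ≤ O := fun T hT hTL => by
    have hTd : T ≤ ⁅L, L⁆ := TauTwo.le_derived_of_sigma hG hL o.pσ hT hTL
    rw [← map_subgroupOf_eq_of_le hTd]
    refine map_mono (BetaCore.le_pPrimeCore_of_complement hc ?_)
    rw [Nat.card_congr (subgroupOfEquivOfLe hTd).toEquiv]
    exact ((Fact.out : q.Prime).coprime_iff_not_dvd.mpr (TauTwo.not_dvd_pGroup h.qp hT)).symm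
  have hPO : P ≤ O := hinO P h.Ppgroup o.leP
  have hcq : (Nat.card Q).Coprime (Nat.card O) := by
    obtain ⟨k, hk⟩ := IsPGroup.iff_card.mp h.pgroup
    rw [hk, hO, card_map_of_injective (⁅L, L⁆).subtype_injective]
    exact (CfsgLib.Core.coprime_card_pPrimeCore q _).symm.pow_left k
  have hcr : (Nat.card R).Coprime (Nat.card O) := by
    rw [h.cardR]
    exact (Fact.out : r.Prime).coprime_iff_not_dvd.mpr fun hd => o.rd (hd.trans (card_dvd_of_le (map_subtype_le _)))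
  have hcop : (Nat.card ↥(R ⊔ Q)).Coprime (Nat.card O) :=
    Nat.Coprime.coprime_dvd_left (Core.card_sup_dvd R Q h.norm) (hcr.mul_left hcq)
  obtain ⟨V₀, hPV, hAV⟩ := Core.exists_invariant_sylow_ge ((sup_le o.leR o.leQ).trans hLO) hcop
    (Or.inl (CfsgLib.Core.isSolvable_of_le (hG.2.2.2 L hL.1) (sup_le o.leR o.leQ))) hPO h.Ppgroup
    ((sup_le h.commRP h.commQP).trans (Subgroup.centralizer_le_normalizer _))
  set V' := (V₀ : Subgroup O).map O.subtype with hV'
  have hV'L : V' ≤ L := (map_subtype_le _).trans hOle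
  obtain ⟨T, hT⟩ := ((V₀.2.map O.subtype).comap_subtype (K := L)).exists_le_sylow
  obtain ⟨V, hV⟩ := SigmaTrans.sigma_sylow o.pσ T
  have hTV : (T : Subgroup L).map L.subtype ≤ V' := by
    have hTO := hinO _ (T.2.map L.subtype) (map_subtype_le _)
    have h1 : (V₀ : Subgroup O) ≤ ((T : Subgroup L).map L.subtype).subgroupOf O := fun x hx =>
      mem_subgroupOf.mpr ⟨⟨x, hV'L ⟨x, hx, rfl⟩⟩, hT (mem_subgroupOf.mpr ⟨x, hx, rfl⟩), rfl⟩
    have h2 := V₀.3 ((T.2.map L.subtype).comap_subtype (K := O)) h1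
    intro x hx
    exact ⟨⟨x, hTO hx⟩, h2 ▸ (mem_subgroupOf.mpr hx : (⟨x, hTO hx⟩ : O) ∈ ((T : Subgroup L).map L.subtype).subgroupOf O), rfl⟩
  have heq : (V : Subgroup G) = V' := hV.trans (le_antisymm hTV
    fun x hx => ⟨⟨x, hV'L hx⟩, hT (mem_subgroupOf.mpr hx), rfl⟩)
  refine ⟨V, heq ▸ hPV, heq ▸ hV'L, heq ▸ (le_sup_left.trans hAV), ?_⟩
  have hQn : Q ≤ normalizer ((V : Subgroup G) : Set G) := heq ▸ (le_sup_right.trans hAV)
  have hRn : R ≤ normalizer ((V : Subgroup G) : Set G) := heq ▸ (le_sup_left.trans hAV)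
  have hVL : (V : Subgroup G) ≤ L := heq ▸ hV'L
  have hPV' : P ≤ (V : Subgroup G) := heq ▸ hPV
  by_cases hpβ : p ∈ Cfsg.beta L
  swap
  · exact TauTwo.centralizes_of_derived hG hL (Ne.symm h.qp) hpβ h.pgroup o.leQ' V.2 hVL hQn
  have hp2 : p ≠ 2 := Uniqueness.odd_prime hG (h.cardP ▸ P.card_subgroup_dvd_card)
  have hQfix : Q ⊓ centralizer (R : Set G) = ⊥ := by
    have hcc := o.Qc
    refine eq_bot_iff.mpr fun x hx => ?_
    exact CfsgLib.OddLocal.PrimeActionTools.eq_one_of_commutator_fix h.pgroup h.Rpgroup h.qr h.norm h.idem hcc hx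
  refine centralizes_of_fixed_omega V.2 h.pgroup h.cardR h.norm hQfix hQn hRn h.qp h.rp (Ne.symm h.qr) hp2
    fun x hx hxp hxR => ?_
  set C := (V : Subgroup G) ⊓ centralizer (R : Set G) with hC
  have hCc : IsCyclic C := by
    by_contra hnc
    obtain ⟨A, hA, hAC⟩ := exists_pair_of_noncyclic hG (V.2.to_le inf_le_left) hnc
    exact o.no_pair h hG hpβ.1 hA ((hAC.trans inf_le_left).trans hVL) (hAC.trans inf_le_right)
  exact le_centralizer_iff.mp h.commQP
    (mem_of_cyclic hCc h.cardP (le_inf hPV' (le_centralizer_iff.mp h.commRP)) ⟨hx, hxR⟩ hxp)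

end CfsgLib.OddLocal.CentTauOne
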