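import Cfsg.Agent.Lib.OddLocal.CentTauOne

/-!
The cyclic and the noncyclic case in the proof of Bender–Glauberman, Theorem 13.4.
-/

set_option autoImplicit false
set_option linter.unusedSectionVars false

namespace CfsgLib.OddLocal.CentTauOne

open Subgroup
open CfsgLib.TwoGroups
open PrimeActionTools
open SigmaOrderP (sigmaCore_le le_normalizer_sigmaCore le_sigmaCore)

variable {G : Type*} [Group G] [Finite G] {p q r : ℕ} [Fact p.Prime] [Fact q.Prime] [Fact r.Prime]
  {M P R Q L : Subgroup G}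

/-- Some prime order part of `N` stays outside `C`. -/
theorem exists_pgroup_not_le {N C : Subgroup G} (h : ¬ N ≤ C) :
    ∃ (s : ℕ) (Y : Subgroup G), s.Prime ∧ IsPGroup s Y ∧ Y ≤ N ∧ ¬ Y ≤ C := by
  by_contra hno
  push Not at hno
  refine h (subgroupOf_eq_top.mp (Core.eq_top_of_forall_exists_sylow_le _ fun s hs _ => ?_))
  have := Fact.mk hs
  obtain ⟨T⟩ : Nonempty (Sylow s N) := inferInstance
  exact ⟨T, fun x hx => mem_subgroupOf.mpr
    (hno s _ hs (T.2.map N.subtype) (map_subtype_le _) ⟨x, hx, rfl⟩)⟩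

/-- Frattini argument for a line of a cyclic Sylow subgroup. -/
theorem frattini_line (hG : Cfsg.IsMinSimpleOddOrder G) {N K X : Subgroup G} (hr1 : Cfsg.PRankLE p 1 L)
    (hNL : N ≤ L) (hKN : K ≤ N) (hn : N ≤ normalizer (K : Set G)) (hX : Nat.card X = p) (hXK : X ≤ K) :
    N ≤ K ⊔ (N ⊓ normalizer (X : Set G)) := by
  have hXN : X ≤ N := hXK.trans hKN
  set K' := K.subgroupOf N with hK'
  have : K'.Normal := (normal_subgroupOf_iff_le_normalizer hKN).mpr hn
  have hXp : IsPGroup p X := IsPGroup.of_card (n := 1) (by rw [hX, pow_one])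
  set X' := (X.subgroupOf N).subgroupOf K' with hX'
  have hX'p : IsPGroup p X' := (hXp.comap_subtype (K := N)).comap_subtype (K := K')
  obtain ⟨T, hT⟩ := hX'p.exists_le_sylow
  set T₀ := ((T : Subgroup K').map K'.subtype).map N.subtype with hT₀
  have hXT : X ≤ T₀ := fun x hx =>
    ⟨⟨x, hXN hx⟩, ⟨⟨⟨x, hXN hx⟩, mem_subgroupOf.mpr (hXK hx)⟩,
      hT (mem_subgroupOf.mpr (mem_subgroupOf.mpr hx)), rfl⟩, rfl⟩
  have hc : IsCyclic T₀ := cyclic_of_rank hG hr1 ((T.2.map _).map _) ((map_subtype_le _).trans hNL)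
  intro n hn'
  have htop := T.normalizer_sup_eq_top
  have h1 : (⟨n, hn'⟩ : N) ∈ normalizer (((T : Subgroup K').map K'.subtype : Subgroup N) : Set N) ⊔ K' := by
    rw [htop]; exact mem_top _
  obtain ⟨a, ha, b, hb, he⟩ := (Core.mem_sup_iff_mul
    (fun x _ => Core.le_normalizer_of_normal ⊤ K' (mem_top x))).mp h1
  have he' : (a : G) * (b : G) = n := (congrArg Subtype.val he).symm
  rw [← he']
  refine mul_mem (mem_sup_right ⟨a.2, SigmaEmbedding.normalizer_le_of_cyclic hc hXT ?_⟩)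
    (mem_sup_left (mem_subgroupOf.mp hb))
  exact le_normalizer_map N.subtype ⟨a, ha, rfl⟩

theorem Over.tau (o : Over M P R Q L p r q) (h : Bad M P R Q p r q) : r ∈ Cfsg.tau1 L :=
  ⟨Fact.out, o.rσ, h.cardR ▸ card_dvd_of_le o.leR, o.rd, o.r1⟩

theorem Over.ne_M (o : Over M P R Q L p r q) (h : Bad M P R Q p r q) (hG : Cfsg.IsMinSimpleOddOrder G) :
    L ≠ M := fun e => h.nonconj hG o.nle 1 (by
  rw [e]; ext x; rw [Transfer.mem_map_conj]; simp)

/-- With a cyclic Sylow subgroup a new configuration arises in `L`, for a smaller prime. -/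
theorem Over.descend (o : Over M P R Q L p r q) (h : Bad M P R Q p r q) (hG : Cfsg.IsMinSimpleOddOrder G)
    (V : Sylow p G) (hPV : P ≤ (V : Subgroup G)) (hVL : (V : Subgroup G) ≤ L)
    (hRV : R ≤ normalizer ((V : Subgroup G) : Set G)) (hc : IsCyclic (V : Subgroup G)) :
    ∃ (s : ℕ) (_ : Fact s.Prime) (X Q' : Subgroup G), s < p ∧ Bad L R X Q' r s p := by
  have hL := o.max
  have hp2 : p ≠ 2 := Uniqueness.odd_prime hG (h.cardP ▸ P.card_subgroup_dvd_card)
  have hV1 : (V : Subgroup G) ≠ ⊥ := fun e => h.P_ne (le_bot_iff.mp (e ▸ hPV))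
  have hVc : IsMulCommutative (V : Subgroup G) := by have := hc; exact IsCyclic.isMulCommutative
  set N := normalizer ((V : Subgroup G) : Set G) with hN
  have hNL : N ≤ L := SylowUnique.normalizer_le o.pσ V hVL
  have hRC : R ≤ centralizer ((V : Subgroup G) : Set G) := fun a ha =>
    centralizes_of_fixes_order_p hp2 (n := r)
      (orderOf_dvd_iff_pow_eq_one.mp (h.cardR ▸ R.orderOf_dvd_natCard ha))
      ((Nat.coprime_primes Fact.out Fact.out).mpr h.rp) V.2 (hRV ha) fun x hx hxo =>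
        (mem_centralizer_iff.mp (le_centralizer_iff.mp h.commRP
          (mem_of_cyclic hc h.cardP hPV hx (hxo ▸ pow_orderOf_eq_one x))) a ha)
  have hnd : ¬ p ∣ (V : Subgroup G).relIndex L := fun hd => V.not_dvd_index (hd.trans (relIndex_dvd_index_of_le hVL))
  have hp1 : Cfsg.PRankLE p 1 L := CyclicPrimeAction.prankLE_one hVL hnd V.2 hc
  have hpβ : p ∉ Cfsg.beta L := fun hb => hb.1.2 fun B hBc hBp =>
    (hp1 B hBc hBp).trans (Nat.pow_le_pow_right (Fact.out : p.Prime).pos (by norm_num))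
  have hCN : centralizer ((V : Subgroup G) : Set G) ≤ N := Subgroup.centralizer_le_normalizer _
  have hfr := frattini_line hG o.r1 hNL hCN
    (fun g hg => CfsgLib.Signalizer.normalizer_le_normalizer_centralizer_set _ hg) h.cardR hRC
  have hnot : ¬ N ⊓ normalizer (R : Set G) ≤ centralizer ((V : Subgroup G) : Set G) := fun hle =>
    not_normalizer_le_centralizer hG V hVc le_rfl hV1 (hfr.trans (sup_le le_rfl hle))
  obtain ⟨s, Y, hs, hYs, hYN, hYC⟩ := exists_pgroup_not_le hnot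
  have := Fact.mk hs
  have hYR : Y ≤ centralizer (R : Set G) :=
    le_centralizer_of_not_dvd h.cardR o.leR o.rd ((hYN.trans inf_le_left).trans hNL) (hYN.trans inf_le_right)
  have hYV : Y ≤ N := hYN.trans inf_le_left
  have hYL : Y ≤ L := hYV.trans hNL
  have hsp : s ≠ p := by
    rintro rfl
    refine hYC fun y hy => ?_
    have hd := Core.card_sup_dvd Y (V : Subgroup G) hYV
    obtain ⟨a, ha⟩ := IsPGroup.iff_card.mp hYs
    obtain ⟨b, hb⟩ := IsPGroup.iff_card.mp V.2
    rw [ha, hb, ← pow_add] at hd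
    obtain ⟨j, -, hj⟩ := (Nat.dvd_prime_pow Fact.out).mp hd
    have he := V.3 (IsPGroup.of_card hj) le_sup_right
    exact mem_centralizer_iff.mpr fun v hv =>
      (congrArg Subtype.val (hVc.is_comm.comm ⟨v, hv⟩ ⟨y, he ▸ mem_sup_left hy⟩) :)
  have hsσ : s ∉ Cfsg.sigma L := fun hsσ => hYC (TauTwo.centralizes_of_derived hG hL (Ne.symm hsp) hpβ hYs
    (TauTwo.le_derived_of_sigma hG hL hsσ hYs hYL) V.2 hVL hYV)
  obtain ⟨X, hX, hXL, hXR, hXV, hXC⟩ : ∃ X : Subgroup G, Nat.card X = s ∧ X ≤ L ∧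
      X ≤ centralizer (R : Set G) ∧ X ≤ N ∧ ¬ X ≤ centralizer ((V : Subgroup G) : Set G) := by
    by_cases hs1 : Cfsg.PRankLE s 1 L
    · have hYc := cyclic_of_rank hG hs1 hYs hYL
      have hY1 : Y ≠ ⊥ := fun e => hYC (e ▸ bot_le)
      have hdY : s ∣ Nat.card Y := by
        obtain ⟨k, hk⟩ := IsPGroup.iff_card.mp hYs
        have : k ≠ 0 := by
          rintro rfl
          exact hY1 (eq_bot_of_card_eq Y (hk.trans (pow_zero s)))
        exact hk ▸ dvd_pow_self s this
      obtain ⟨y, hy⟩ := exists_prime_orderOf_dvd_card' (G := Y) s hdY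
      have hXY : zpowers (y : G) ≤ Y := zpowers_le.mpr y.2
      have hXc : Nat.card (zpowers (y : G)) = s := by rw [Nat.card_zpowers, Subgroup.orderOf_coe, hy]
      refine ⟨zpowers (y : G), hXc, hXY.trans hYL, hXY.trans hYR, hXY.trans hYV, fun hXC => hYC ?_⟩
      have hYX : Y ≤ centralizer ((zpowers (y : G) : Subgroup G) : Set G) := fun a ha =>
        mem_centralizer_iff.mpr fun b hb => by
          have := hYc
          exact (congrArg Subtype.val
            (IsCyclic.isMulCommutative.is_comm.comm (⟨b, hXY hb⟩ : Y) ⟨a, ha⟩) :)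
      exact le_centralizer_iff.mp (commutator_eq_bot_iff_le_centralizer.mp
        (CyclicPrimeAction.commutator_eq_bot (TauTwoFacts.structure_tau2 hG) hG hL hsσ hs1 o.pσ hYs hYL hYX
          hXc (hXY.trans hYL) V.2 hVL hYV (le_centralizer_iff.mp hXC)))
    · obtain ⟨A₀, hA₀, hA₀L⟩ := TauTwo.exists_isPair hs1
      obtain ⟨E, hE, hRE⟩ := TauTwo.exists_complement_ge hG hL o.leR fun t ht hd => by
        rw [(Nat.prime_dvd_prime_iff_eq ht Fact.out).mp (h.cardR ▸ hd)]
        exact o.rσ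
      obtain ⟨A, hA, hAE⟩ := TauTwo.exists_pair_complement hG hL hE (hA₀.tau2_of_not_sigma hG hL hA₀L hsσ)
      have hAL : A ≤ L := hAE.trans hE.1
      have hsr : s ≠ r := fun e => hs1 (e ▸ o.r1)
      have hAV : A ≤ N := hAL.trans
        (SylowUnique.le_normalizer_of_nilpotent hG hL o.pσ (TauTwo.isNilpotent_sigmaCore hG hL hA hAL hsσ) V hVL)
      have hRA : R ≤ normalizer (A : Set G) := hRE.trans (TauTwo.le_normalizer_pair hG hL hA hsσ hE hAE).1
      have hdec := Core.commutator_sup_centralizer hRA (TauTwo.coprime_pGroups (Ne.symm hsr) h.Rpgroup hA.isPGroup)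
        (Or.inl (hG.2.2.2 R (Uniqueness.ne_top_of_pGroup hG h.Rpgroup)))
      have hcomm : ⁅A, R⁆ ≤ centralizer ((V : Subgroup G) : Set G) := by
        rw [commutator_le]
        intro a ha b hb
        rw [commutatorElement_def]
        exact mul_mem ((mem_normalizer_iff.mp (CfsgLib.Signalizer.normalizer_le_normalizer_centralizer_set _ (hAV ha)) b).mp (hRC hb))
          (inv_mem (hRC hb))
      obtain ⟨a, ha, haC⟩ : ∃ a ∈ A ⊓ centralizer (R : Set G), a ∉ centralizer ((V : Subgroup G) : Set G) := by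
        by_contra hno
        push Not at hno
        have hle : A ≤ centralizer ((V : Subgroup G) : Set G) := hdec ▸ sup_le hcomm hno
        have : (V : Subgroup G) ≤ Cfsg.sigmaCore L ⊓ centralizer (A : Set G) :=
          le_inf (le_sigmaCore hG hL o.pσ V.2 hVL) (le_centralizer_iff.mp hle)
        rw [TauTwo.sigma_inf_centralizer hG hL hA hAL hsσ, le_bot_iff] at this
        exact hV1 this
      have ha1 : a ≠ 1 := fun e => haC (e ▸ one_mem _)
      exact ⟨zpowers a, by rw [Nat.card_zpowers, orderOf_eq_prime (hA.1.2 a ha.1) ha1],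
        zpowers_le.mpr (hAL ha.1), zpowers_le.mpr ha.2, zpowers_le.mpr (hAV ha.1),
        fun hle => haC (hle (mem_zpowers a))⟩
  have hXp : IsPGroup s X := IsPGroup.of_card (n := 1) (by rw [hX, pow_one])
  have hsr : s ≠ r := by
    rintro rfl
    exact hXC (eq_of_commute hG o.r1 hX h.cardR hXL o.leR hXR ▸ hRC)
  -- `s < p`
  have hslt : s < p := by
    obtain ⟨x, hx, hxC⟩ := SetLike.not_le_iff_exists.mp hXC
    set φ := (V : Subgroup G).normalizerMonoidHom ⟨x, hXV hx⟩ with hφ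
    have hφ1 : φ ≠ 1 := fun e => hxC (mem_centralizer_iff.mpr fun v hv => by
      have h2 : x * v * x⁻¹ = v := congrArg (fun f : MulAut (V : Subgroup G) => ((f ⟨v, hv⟩ : (V : Subgroup G)) : G)) e
      exact (mul_inv_eq_iff_eq_mul.mp h2).symm)
    have hd1 : orderOf φ ∣ s := (orderOf_map_dvd _ _).trans (by
      rw [orderOf_mk]; exact hX ▸ X.orderOf_dvd_natCard hx)
    have hd2 : s ∣ Nat.card (MulAut (V : Subgroup G)) := by
      rcases (Nat.dvd_prime hs).mp hd1 with h1 | h1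
      · exact absurd (orderOf_eq_one_iff.mp h1) hφ1
      · exact h1 ▸ orderOf_dvd_natCard φ
    obtain ⟨k, hk⟩ := IsPGroup.iff_card.mp V.2
    have hk0 : 0 < k := Nat.pos_of_ne_zero fun e => hV1 (eq_bot_of_card_eq _ (by rw [hk, e, pow_zero]))
    rw [hc.card_mulAut, hk, Nat.totient_prime_pow Fact.out hk0] at hd2
    have h3 : s ∣ p - 1 := by
      rcases hs.dvd_mul.mp hd2 with h4 | h4
      · exact absurd ((Nat.prime_dvd_prime_iff_eq hs Fact.out).mp (hs.dvd_of_dvd_pow h4)) hsp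
      · exact h4
    have hp1' := (Fact.out : p.Prime).one_lt
    exact (Nat.le_of_dvd (by omega) h3).trans_lt (by omega)
  have hcop := TauTwo.coprime_pGroups hsp hXp V.2
  have hsol : Group.IsSolvable X := hG.2.2.2 X (Uniqueness.ne_top_of_pGroup hG hXp)
  have hQ'V : ⁅(V : Subgroup G), X⁆ ≤ (V : Subgroup G) := Core.commutator_le_of_normalizes hXV
  exact ⟨s, inferInstance, X, ⁅(V : Subgroup G), X⁆, hslt,
    { max := hL
      tau := o.tau h
      rσ := hsσ
      rp := hsr
      cardP := h.cardR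
      cardR := hX
      leP := o.leR
      leR := hXL
      commRP := hXR
      pgroup := V.2.to_le hQ'V
      qσ := o.pσ
      leQ := hQ'V.trans (le_sigmaCore hG hL o.pσ V.2 hVL)
      commQP := hQ'V.trans (le_centralizer_iff.mp hRC)
      norm := normalizer_commutator_ge_right _ _
      idem := Core.commutator_commutator_eq hXV hcop (Or.inl hsol)
      ne := fun e => hXC (le_centralizer_iff.mp (commutator_eq_bot_iff_le_centralizer.mp e)) }⟩

/-- The facts in the noncyclic case. -/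
structure Split (M P R Q L : Subgroup G) (V : Sylow p G) (S : Sylow q G) : Prop where
  nQ : normalizer (Q : Set G) ≤ L
  qσ : q ∈ Cfsg.sigma L
  uniq : Cfsg.InUniqueMaximal (V : Subgroup G)
  SM : (S : Subgroup G) ≤ M
  SL : (S : Subgroup G) ≤ L
  NS : normalizer ((S : Subgroup G) : Set G) ≤ M ⊓ L
  Sc : IsMulCommutative (S : Subgroup G)
  cP : P ≤ centralizer ((S : Subgroup G) : Set G)
  nR : R ≤ normalizer ((S : Subgroup G) : Set G)
  QS : Q ≤ (S : Subgroup G)
  cR : (S : Subgroup G) ⊓ centralizer (R : Set G) ≠ ⊥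

/-- With `S = [S, R]` no Sylow `p`-subgroup is noncyclic. -/
theorem false_of_full (hG : Cfsg.IsMinSimpleOddOrder G) {X : Subgroup G} {s : ℕ} [Fact s.Prime]
    {S : Sylow q G} (h : Bad M P X (S : Subgroup G) p s q) (hNS : normalizer ((S : Subgroup G) : Set G) ≤ M)
    {V : Sylow p G} (hnc : ¬ IsCyclic (V : Subgroup G)) : False := by
  obtain ⟨L', hL', hNP⟩ := (eq_top_or_exists_le_coatom _).resolve_left
    (TransitivityHyp.normalizer_ne_top hG h.P_ne (Uniqueness.ne_top_of_pGroup hG h.Ppgroup))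
  obtain ⟨V', -, -, -, hSV⟩ := (h.over hG hL' hNP).exists_sylow h hG
  have hV'M : (V' : Subgroup G) ≤ M :=
    ((le_centralizer_iff.mp hSV).trans (Subgroup.centralizer_le_normalizer _)).trans hNS
  have := cyclic_of_rank hG h.tau.2.2.2.2 V'.2 hV'M
  exact hnc (isCyclic_of_surjective (V'.equiv V) (V'.equiv V).surjective)

theorem Over.split (o : Over M P R Q L p r q) (h : Bad M P R Q p r q) (hG : Cfsg.IsMinSimpleOddOrder G)
    (V : Sylow p G) (hPV : P ≤ (V : Subgroup G)) (hVL : (V : Subgroup G) ≤ L)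
    (hQV : Q ≤ centralizer ((V : Subgroup G) : Set G)) (hnc : ¬ IsCyclic (V : Subgroup G)) :
    ∃ S : Sylow q G, Split M P R Q L V S := by
  have hM := h.max
  have hL := o.max
  obtain ⟨A, hA, hAV⟩ := exists_pair_of_noncyclic hG V.2 hnc
  obtain ⟨H, hH, hNH⟩ := (eq_top_or_exists_le_coatom _).resolve_left
    (TransitivityHyp.normalizer_ne_top hG h.ne (Uniqueness.ne_top_of_pGroup hG h.pgroup))
  have hVH : (V : Subgroup G) ≤ H :=
    ((le_centralizer_iff.mp hQV).trans (Subgroup.centralizer_le_normalizer _)).trans hNH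
  have hne : H ≠ M := fun e => not_le_of_rank hA h.tau.2.2.2.2 (hAV.trans (e ▸ hVH))
  obtain ⟨K, hK, hKn, hsup, hKpi⟩ := SigmaEmbedding.exists_supplement (TauTwoFacts.structure_tau2 hG) hG hM
    h.qσ h.pgroup h.ne h.QM hH hne hNH
  have hpσH : p ∈ Cfsg.sigma H := by
    by_contra hn
    exact CyclicPrimeAction.false_of_supplement h.tau.2.2.2.2 (fun h1 => hA.not_rank_one (hAV.trans hVH) h1)
      hK hKn hsup fun hd => hn (hKpi p Fact.out hd).1
  have hpβ : p ∈ Cfsg.beta H := by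
    by_contra hpβ
    exact sylow_trick hG hM h.qσ (Ne.symm h.qp) h.tau.2.2.2.2 h.pgroup h.ne h.QM hH hne hNH
      (h.idem ▸ commutator_mono (le_normalizer.trans hNH) (h.norm.trans hNH)) h.cardP h.leP (hPV.trans hVH)
      hpσH hpβ hA (hAV.trans hVH)
  obtain ⟨B, hBV, hBe, hB3⟩ := Uniqueness.exists_elementary_of_not_rank
    (fun h' => hpβ.1.2 (SigmaOrderP.prankLE_of_sylow V hVH h') : ¬ Cfsg.PRankLE p 2 (V : Subgroup G))
  have huniq : Cfsg.InUniqueMaximal (V : Subgroup G) := Uniqueness.inUniqueMaximal_mono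
    (SCNUnique.inUniqueMaximal_elementary hG hBe hB3) (Uniqueness.ne_top_of_pGroup hG V.2) hBV
  have hHL : H = L := huniq.unique ⟨hH, hVH⟩ ⟨hL, hVL⟩
  subst hHL
  have hLM : H ≠ M := hne
  have hqσ : q ∈ Cfsg.sigma H := by
    by_contra hqσ
    obtain ⟨S, hS, hQS, hSM, hSH, hmax⟩ := SigmaEmbedding.exists_max h.pgroup h.QM o.leQ
    obtain ⟨-, hnd⟩ := SigmaEmbedding.sylow_inf hG hM h.qσ h.ne hNH hS hQS hSM hSH hmax
    by_cases hSc : IsCyclic S
    · refine hqσ ⟨Fact.out, ?_, (hS.comap_subtype (K := H)).toSylow hnd, ?_⟩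
      · obtain ⟨k, hk⟩ := IsPGroup.iff_card.mp h.pgroup
        have : k ≠ 0 := by
          rintro rfl
          exact h.ne (eq_bot_of_card_eq Q (hk.trans (pow_zero q)))
        exact ((dvd_pow_self q this).trans hk.symm.dvd).trans (card_dvd_of_le o.leQ)
      · show normalizer (((S.subgroupOf H).map H.subtype : Subgroup G) : Set G) ≤ H
        rw [map_subgroupOf_eq_of_le hSH]
        exact (SigmaEmbedding.normalizer_le_of_cyclic hSc hQS).trans hNH
    · obtain ⟨B', hB', hB'S⟩ := exists_pair_of_noncyclic hG hS hSc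
      have hbot := TauTwo.sigmaCore_inf_eq_bot hG hL hB' (hB'S.trans hSH) hqσ hM hLM.symm (hB'S.trans hSM)
      have hle : P ≤ Cfsg.sigmaCore H ⊓ M := le_inf (le_sigmaCore hG hL hpσH h.Ppgroup o.leP) h.leP
      rw [hbot, le_bot_iff] at hle
      exact h.P_ne hle
  -- an invariant Sylow subgroup of `M_σ ∩ L`
  set D := Cfsg.sigmaCore M ⊓ H with hD
  have hPR : P ⊔ R ≤ normalizer (D : Set G) :=
    (le_inf ((sup_le h.leP h.leR).trans (le_normalizer_sigmaCore M))
      ((sup_le o.leP o.leR).trans le_normalizer)).trans inf_normalizer_le_normalizer_inf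
  have hcop : (Nat.card ↥(P ⊔ R)).Coprime (Nat.card D) := by
    refine Nat.Coprime.coprime_dvd_left (Core.card_sup_dvd P R
      ((le_centralizer_iff.mp h.commRP).trans (Subgroup.centralizer_le_normalizer _))) ?_
    rw [h.cardP, h.cardR]
    refine Nat.Coprime.mul_left ?_ ?_
    · exact (Fact.out : p.Prime).coprime_iff_not_dvd.mpr fun hd =>
        h.tau.2.1 (TauTwo.mem_sigma_of_dvd Fact.out (hd.trans (card_dvd_of_le inf_le_left)) hG hM)
    · exact (Fact.out : r.Prime).coprime_iff_not_dvd.mpr fun hd =>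
        h.rσ (TauTwo.mem_sigma_of_dvd Fact.out (hd.trans (card_dvd_of_le inf_le_left)) hG hM)
  obtain ⟨S₀, hQS, hinv⟩ := Core.exists_invariant_sylow_ge hPR hcop
    (Or.inl (CfsgLib.Core.isSolvable_of_le (hG.2.2.2 M hM.1) (sup_le h.leP h.leR)))
    (le_inf h.leQ o.leQ) h.pgroup
    (sup_le ((le_centralizer_iff.mp h.commQP).trans (Subgroup.centralizer_le_normalizer _)) h.norm)
  set S' := (S₀ : Subgroup D).map D.subtype with hS'
  have hS'M : S' ≤ M := (map_subtype_le _).trans (inf_le_left.trans (sigmaCore_le M))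
  have hS'H : S' ≤ H := (map_subtype_le _).trans inf_le_right
  have hmax : ∀ T : Subgroup G, IsPGroup q T → T ≤ M → T ≤ H → S' ≤ T → T = S' := by
    intro T hT hTM hTH hle
    have hTD : T ≤ D := le_inf (le_sigmaCore hG hM h.qσ hT hTM) hTH
    have h1 := S₀.3 (hT.comap_subtype (K := D)) fun x hx => mem_subgroupOf.mpr (hle ⟨x, hx, rfl⟩)
    rw [hS', ← h1]
    exact (map_subgroupOf_eq_of_le hTD).symm
  obtain ⟨hNS, hnd⟩ := SigmaEmbedding.sylow_inf hG hM h.qσ h.ne hNH (S₀.2.map _) hQS hS'M hS'H hmax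
  obtain ⟨S, hS⟩ := SigmaTrans.sigma_sylow hqσ (((S₀.2.map D.subtype).comap_subtype (K := H)).toSylow hnd)
  have hSS : (S : Subgroup G) = S' := hS.trans (map_subgroupOf_eq_of_le hS'H)
  have hSc := sylow_abelian_of_common hG hM hL h.qσ hqσ (h.nonconj hG o.nle) S
  have hcP : P ≤ centralizer ((S : Subgroup G) : Set G) := hSS ▸
    TauTwo.centralizes_of_derived hG hL h.qp (fun hb => o.qα hb.1) h.Ppgroup
      (TauTwo.le_derived_of_sigma hG hL o.pσ h.Ppgroup o.leP) (S₀.2.map _) hS'H (le_sup_left.trans hinv)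
  have hnR : R ≤ normalizer ((S : Subgroup G) : Set G) := hSS ▸ (le_sup_right.trans hinv)
  have hQSS : Q ≤ (S : Subgroup G) := hSS ▸ hQS
  have hcR : (S : Subgroup G) ⊓ centralizer (R : Set G) ≠ ⊥ := by
    intro hb
    have hdec := Core.commutator_sup_centralizer hnR (TauTwo.coprime_pGroups (Ne.symm h.qr) h.Rpgroup S.2)
      (Or.inl (hG.2.2.2 R (Uniqueness.ne_top_of_pGroup hG h.Rpgroup)))
    rw [hb, sup_bot_eq] at hdec
    exact false_of_full hG (S := S)
      { h with
        pgroup := S.2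
        leQ := le_sigmaCore hG hM h.qσ S.2 (hSS ▸ hS'M)
        commQP := le_centralizer_iff.mp hcP
        norm := hnR
        idem := hdec
        ne := fun e => h.ne (le_bot_iff.mp (e ▸ hQSS)) } (hSS ▸ hNS) hnc
  exact ⟨S, hNH, hqσ, huniq, hSS ▸ hS'M, hSS ▸ hS'H,
    le_inf (hSS ▸ hNS) (SylowUnique.normalizer_le hqσ S (hSS ▸ hS'H)), hSc, hcP, hnR, hQSS, hcR⟩

/-- The parts of `S` under `R` are disjoint and nontrivial. -/
theorem Split.parts {V : Sylow p G} {S : Sylow q G} (sp : Split M P R Q L V S) (h : Bad M P R Q p r q)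
    (hG : Cfsg.IsMinSimpleOddOrder G) :
    ⁅(S : Subgroup G), R⁆ ≤ (S : Subgroup G) ∧ ⁅⁅(S : Subgroup G), R⁆, R⁆ = ⁅(S : Subgroup G), R⁆ ∧
      ⁅(S : Subgroup G), R⁆ ≠ ⊥ ∧ ⁅(S : Subgroup G), R⁆ ⊓ centralizer (R : Set G) = ⊥ := by
  have hle := Core.commutator_le_of_normalizes sp.nR
  have hid := Core.commutator_commutator_eq sp.nR (TauTwo.coprime_pGroups (Ne.symm h.qr) h.Rpgroup S.2)
    (Or.inl (hG.2.2.2 R (Uniqueness.ne_top_of_pGroup hG h.Rpgroup)))
  refine ⟨hle, hid, fun e => h.ne (le_bot_iff.mp (e ▸ h.idem.symm.le.trans (commutator_mono sp.QS le_rfl))),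
    eq_bot_iff.mpr fun x hx => ?_⟩
  exact eq_one_of_commutator_fix (S.2.to_le hle) h.Rpgroup h.qr (normalizer_commutator_ge_right _ _) hid
    ⟨⟨fun a b => Subtype.ext (congrArg Subtype.val
      (sp.Sc.is_comm.comm ⟨_, hle a.2⟩ ⟨_, hle b.2⟩) :)⟩⟩ hx

/-- No configuration has cyclic Sylow `p`-subgroups. -/
theorem no_cyclic (hG : Cfsg.IsMinSimpleOddOrder G) (h : Bad M P R Q p r q)
    (hc : ∀ V : Sylow p G, IsCyclic (V : Subgroup G)) : False := by
  suffices ∀ (n : ℕ) (p r q : ℕ) [Fact p.Prime] [Fact r.Prime] [Fact q.Prime] (M P R Q : Subgroup G),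
      p = n → Bad M P R Q p r q → (∀ V : Sylow p G, IsCyclic (V : Subgroup G)) → False from
    this p p r q M P R Q rfl h hc
  intro n
  induction n using Nat.strong_induction_on with
  | _ n ih =>
  intro p r q _ _ _ M P R Q hn h hc
  -- from cyclic Sylow `q`-subgroups to cyclic Sylow `p`-subgroups
  have key : ∀ (p r q : ℕ) [Fact p.Prime] [Fact r.Prime] [Fact q.Prime] (M P R Q : Subgroup G),
      Bad M P R Q p r q → (∀ S : Sylow q G, IsCyclic (S : Subgroup G)) →
      ∀ V : Sylow p G, IsCyclic (V : Subgroup G) := by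
    intro p r q _ _ _ M P R Q h hq V₀
    obtain ⟨L, hL, hNP⟩ := (eq_top_or_exists_le_coatom _).resolve_left
      (TransitivityHyp.normalizer_ne_top hG h.P_ne (Uniqueness.ne_top_of_pGroup hG h.Ppgroup))
    obtain ⟨V, hPV, hVL, -, hQV⟩ := (h.over hG hL hNP).exists_sylow h hG
    by_contra hnc
    obtain ⟨S, sp⟩ := (h.over hG hL hNP).split h hG V hPV hVL hQV fun hV =>
      hnc (isCyclic_of_surjective (V.equiv V₀) (V.equiv V₀).surjective)
    obtain ⟨hle, -, hne, hbot⟩ := sp.parts h hG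
    refine TauTwo.inf_ne_bot_of_cyclic (r := q) S.2 (hq S) hle (inf_le_left : (S : Subgroup G) ⊓ centralizer (R : Set G) ≤ _)
      hne sp.cR (le_bot_iff.mp ?_)
    exact hbot ▸ inf_le_inf_left _ inf_le_right
  have step : ∀ (p r q : ℕ) [Fact p.Prime] [Fact r.Prime] [Fact q.Prime] (M P R Q : Subgroup G),
      Bad M P R Q p r q → (∀ V : Sylow p G, IsCyclic (V : Subgroup G)) →
      ∃ (s : ℕ) (_ : Fact s.Prime) (L X Q' : Subgroup G), s < p ∧ Bad L R X Q' r s p := by
    intro p r q _ _ _ M P R Q h hc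
    obtain ⟨L, hL, hNP⟩ := (eq_top_or_exists_le_coatom _).resolve_left
      (TransitivityHyp.normalizer_ne_top hG h.P_ne (Uniqueness.ne_top_of_pGroup hG h.Ppgroup))
    obtain ⟨V, hPV, hVL, hRV, -⟩ := (h.over hG hL hNP).exists_sylow h hG
    obtain ⟨s, hs, X, Q', hlt, hB⟩ := (h.over hG hL hNP).descend h hG V hPV hVL hRV (hc V)
    exact ⟨s, hs, L, X, Q', hlt, hB⟩
  obtain ⟨s, hs, L, X, Q', hlt, h₂⟩ := step p r q M P R Q h hc
  have hr := key r s p L R X Q' h₂ hc
  obtain ⟨t, ht, L₂, X₂, Q₂, -, h₃⟩ := step r s p L R X Q' h₂ hr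
  exact ih s (hn ▸ hlt) s t r L₂ X X₂ Q₂ rfl h₃ (key s t r L₂ X X₂ Q₂ h₃ hr)

end CfsgLib.OddLocal.CentTauOne
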