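import Cfsg.Agent.Lib.OddLocal.CentTauOneCases

/-!
Bender–Glauberman, Theorem 13.4 (S1428): `C_{M_σ}(P) ≤ C_{M_σ}(R)`.
-/

set_option autoImplicit false
set_option linter.unusedSectionVars false

namespace CfsgLib.OddLocal.CentTauOne

open Subgroup
open CfsgLib.TwoGroups
open PrimeActionTools
open SigmaOrderP (sigmaCore_le le_normalizer_sigmaCore le_sigmaCore)
open scoped commutatorElement

variable {G : Type*} [Group G] [Finite G] {p q r : ℕ} [Fact p.Prime] [Fact q.Prime] [Fact r.Prime]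
  {M P R Q L : Subgroup G}

/-- In an abelian `q`-group of rank at most two, independent nontrivial parts are cyclic. -/
theorem isCyclic_of_inf (hG : Cfsg.IsMinSimpleOddOrder G) (hM2 : Cfsg.PRankLE q 2 M) {S X Y : Subgroup G}
    (hS : IsPGroup q S) (hSc : IsMulCommutative S) (hSM : S ≤ M) (hX : X ≤ S) (hY : Y ≤ S) (hX1 : X ≠ ⊥)
    (hXY : X ⊓ Y = ⊥) : IsCyclic Y := by
  by_contra hnc
  obtain ⟨B, hB, hBY⟩ := exists_pair_of_noncyclic hG (hS.to_le hY) hnc
  have hd : q ∣ Nat.card X := by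
    obtain ⟨k, hk⟩ := IsPGroup.iff_card.mp (hS.to_le hX)
    have : k ≠ 0 := by
      rintro rfl
      exact hX1 (eq_bot_of_card_eq X (hk.trans (pow_zero q)))
    exact hk ▸ dvd_pow_self q this
  obtain ⟨x, hx⟩ := exists_prime_orderOf_dvd_card' (G := X) q hd
  set Z := B ⊔ zpowers (x : G) with hZ
  have hZS : Z ≤ S := sup_le (hBY.trans hY) (zpowers_le.mpr (hX x.2))
  have hcomm : ∀ a ∈ S, ∀ b ∈ S, a * b = b * a := fun a ha b hb =>
    congrArg Subtype.val (hSc.is_comm.comm ⟨a, ha⟩ ⟨b, hb⟩)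
  let W : Subgroup G :=
    { carrier := {a | a ∈ S ∧ a ^ q = 1}
      one_mem' := ⟨one_mem _, one_pow q⟩
      mul_mem' := fun {a b} ha hb => ⟨mul_mem ha.1 hb.1, by
        rw [(show Commute a b from hcomm a ha.1 b hb.1).mul_pow, ha.2, hb.2, one_mul]⟩
      inv_mem' := fun {a} ha => ⟨inv_mem ha.1, by rw [inv_pow, ha.2, inv_one]⟩ }
  have hxo : orderOf (x : G) = q := by rw [Subgroup.orderOf_coe, hx]
  have hZW : Z ≤ W := sup_le (fun b hb => ⟨hY (hBY hb), hB.1.2 b hb⟩)
    (zpowers_le.mpr ⟨hX x.2, by rw [← hxo]; exact pow_orderOf_eq_one _⟩)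
  have hdis : B ⊓ zpowers (x : G) = ⊥ :=
    le_bot_iff.mp (((inf_le_inf (hBY : B ≤ Y) (zpowers_le.mpr x.2 : zpowers (x : G) ≤ X)).trans
      (inf_comm Y X).le).trans hXY.le)
  have hcard := Core.card_sup_mul_card_inf B (zpowers (x : G)) (fun b hb => mem_normalizer_iff.mpr fun z => by
    have hbS := hY (hBY hb)
    constructor
    · intro hz
      rw [hcomm b hbS z (zpowers_le.mpr (hX x.2) hz), mul_inv_cancel_right]
      exact hz
    · intro hz
      have hz' : b * z * b⁻¹ ∈ S := zpowers_le.mpr (hX x.2) hz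
      have hzS : z ∈ S := by simpa [mul_assoc] using mul_mem (mul_mem (inv_mem hbS) hz') hbS
      rwa [hcomm b hbS z hzS, mul_inv_cancel_right] at hz)
  rw [hdis, card_bot, mul_one, hB.2, Nat.card_zpowers, hxo, ← pow_succ] at hcard
  have h := hM2 (Z.subgroupOf M)
    ⟨⟨fun a b => Subtype.ext (Subtype.ext (hcomm _ (hZS (mem_subgroupOf.mp a.2)) _ (hZS (mem_subgroupOf.mp b.2))))⟩⟩
    (fun a ha => Subtype.ext (hZW (mem_subgroupOf.mp ha)).2)
  rw [Nat.card_congr (subgroupOfEquivOfLe (hZS.trans hSM)).toEquiv, hcard] at h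
  exact absurd h (not_le.mpr (Nat.pow_lt_pow_right (Fact.out : q.Prime).one_lt (by norm_num)))

theorem not_bad (hG : Cfsg.IsMinSimpleOddOrder G) (h : Bad M P R Q p r q) : False := by
  have hM := h.max
  obtain ⟨L, hL, hNP⟩ := (eq_top_or_exists_le_coatom _).resolve_left
    (TransitivityHyp.normalizer_ne_top hG h.P_ne (Uniqueness.ne_top_of_pGroup hG h.Ppgroup))
  have o := h.over hG hL hNP
  obtain ⟨V, hPV, hVL, -, hQV⟩ := o.exists_sylow h hG
  have hnc : ¬ IsCyclic (V : Subgroup G) := fun hc => no_cyclic hG h fun V' =>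
    isCyclic_of_surjective (V.equiv V') (V.equiv V').surjective
  obtain ⟨S, sp⟩ := o.split h hG V hPV hVL hQV hnc
  obtain ⟨hQ₁S, hQ₁id, hQ₁ne, hQ₁fix⟩ := sp.parts h hG
  set Q₁ := ⁅(S : Subgroup G), R⁆ with hQ₁
  set Q₂ := (S : Subgroup G) ⊓ centralizer (R : Set G) with hQ₂
  have hS := S.2
  have hQ₂S : Q₂ ≤ (S : Subgroup G) := inf_le_left
  set N := normalizer ((S : Subgroup G) : Set G) with hN
  have hNM : N ≤ M := sp.NS.trans inf_le_left
  have hNL : N ≤ L := sp.NS.trans inf_le_right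
  have hqαM : q ∉ Cfsg.alpha M := fun hα => by
    obtain ⟨g, hg⟩ := SigmaEmbedding.exists_eq_conj_of_alpha hG hL hM sp.qσ hα
    exact h.nonconj hG hNP g⁻¹ (by rw [hg]; exact (map_conj_inv g).symm)
  have hM2 : Cfsg.PRankLE q 2 M := not_not.mp fun h' => hqαM ⟨Fact.out, h'⟩
  have hSS : ∀ T : Subgroup G, IsPGroup q T → T ≤ N → T ≤ (S : Subgroup G) := fun T hT hTN => by
    have hd := Core.card_sup_dvd T (S : Subgroup G) hTN
    obtain ⟨a, ha⟩ := IsPGroup.iff_card.mp hT
    obtain ⟨b, hb⟩ := IsPGroup.iff_card.mp hS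
    rw [ha, hb, ← pow_add] at hd
    obtain ⟨j, -, hj⟩ := (Nat.dvd_prime_pow Fact.out).mp hd
    exact le_sup_left.trans (S.3 (IsPGroup.of_card hj) le_sup_right).le
  have hder : ∀ Y : Subgroup G, Y ≤ N → Y ≤ ⁅M, M⁆ → Y ≤ centralizer ((S : Subgroup G) : Set G) := by
    intro Y hYN hYd
    by_contra hY
    obtain ⟨t, T, ht, hT, hTY, hTC⟩ := exists_pgroup_not_le hY
    have := Fact.mk ht
    by_cases htq : t = q
    · subst htq
      exact hTC fun a ha => mem_centralizer_iff.mpr fun b hb =>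
        congrArg Subtype.val (sp.Sc.is_comm.comm ⟨b, hb⟩ ⟨a, hSS T hT (hTY.trans hYN) ha⟩)
    · exact hTC (TauTwo.centralizes_of_derived hG hM (Ne.symm htq) (fun hb => hqαM hb.1) hT (hTY.trans hYd)
        hS sp.SM (hTY.trans hYN))
  set K := centralizer ((S : Subgroup G) : Set G) ⊔ R with hK
  have hKN : K ≤ N := sup_le (Subgroup.centralizer_le_normalizer _) sp.nR
  have hNC : N ≤ normalizer ((centralizer ((S : Subgroup G) : Set G) : Subgroup G) : Set G) :=
    CfsgLib.Signalizer.normalizer_le_normalizer_centralizer_set _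
  have hcomm : ⁅N, R⁆ ≤ centralizer ((S : Subgroup G) : Set G) :=
    hder _ ((commutator_mono le_rfl sp.nR).trans (commutator_le_self N)) (commutator_mono hNM h.leR)
  have hNK : N ≤ normalizer (K : Set G) := by
    intro n hn
    refine Transfer.map_conj_eq_self_iff.mp (eq_of_le_of_card_ge ?_ (Transfer.card_map_conj n K).ge)
    rw [hK, Subgroup.map_sup, Transfer.map_conj_eq_self_iff.mpr (hNC hn)]
    refine sup_le le_sup_left ?_
    rintro _ ⟨x, hx, rfl⟩
    have h1 : n * x * n⁻¹ = ⁅n, x⁆ * x := by rw [commutatorElement_def, inv_mul_cancel_right]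
    show n * x * n⁻¹ ∈ _
    rw [h1]
    exact mul_mem (mem_sup_left (hcomm (commutator_mem_commutator hn hx))) (mem_sup_right hx)
  set N₁ := N ⊓ normalizer (P : Set G) with hN₁
  have hRN₁ : R ≤ N₁ := le_inf sp.nR (h.commRP.trans (Subgroup.centralizer_le_normalizer _))
  have hN₁K : N₁ ≤ normalizer ((K ⊓ N₁ : Subgroup G) : Set G) :=
    (le_inf (inf_le_left.trans hNK) le_normalizer).trans inf_normalizer_le_normalizer_inf
  have hf1 := frattini_line hG h.tau.2.2.2.2 hNM (Subgroup.centralizer_le_normalizer _) hNC h.cardP sp.cP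
  have hf2 := frattini_line hG o.r1 (inf_le_left.trans hNL : N₁ ≤ L) inf_le_right hN₁K h.cardR
    (le_inf le_sup_right hRN₁)
  set N₂ := N₁ ⊓ normalizer (R : Set G) with hN₂
  have hQ₂1 : Q₂ ≠ ⊥ := sp.cR
  have hnot : ¬ N₂ ≤ centralizer (Q₂ : Set G) := fun hle => by
    refine not_normalizer_le_centralizer hG S sp.Sc hQ₂S hQ₂1 (hf1.trans (sup_le (centralizer_le hQ₂S) ?_))
    refine hf2.trans (sup_le (inf_le_left.trans (sup_le (centralizer_le hQ₂S) ?_)) hle)
    exact le_centralizer_iff.mp inf_le_right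
  obtain ⟨s, Y, hs, hYs, hYN, hYC⟩ := exists_pgroup_not_le hnot
  have := Fact.mk hs
  have hYS : Y ≤ N := (hYN.trans inf_le_left).trans inf_le_left
  have hYM : Y ≤ M := hYS.trans hNM
  have hYL : Y ≤ L := hYS.trans hNL
  have hYP : Y ≤ centralizer (P : Set G) := le_centralizer_of_not_dvd h.cardP h.leP h.tau.2.2.2.1 hYM
    ((hYN.trans inf_le_left).trans inf_le_right)
  have hYR : Y ≤ centralizer (R : Set G) :=
    le_centralizer_of_not_dvd h.cardR o.leR o.rd hYL (hYN.trans inf_le_right)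
  have hYCS : ¬ Y ≤ centralizer ((S : Subgroup G) : Set G) := fun hle => hYC (hle.trans (centralizer_le hQ₂S))
  have hYd : ¬ Y ≤ ⁅M, M⁆ := fun hle => hYCS (hder Y hYS hle)
  have hsq : s ≠ q := by
    rintro rfl
    exact hYCS fun a ha => mem_centralizer_iff.mpr fun b hb =>
      congrArg Subtype.val (sp.Sc.is_comm.comm ⟨b, hb⟩ ⟨a, hSS Y hYs hYS ha⟩)
  have hsσ : s ∉ Cfsg.sigma M := fun hsσ => hYd (TauTwo.le_derived_of_sigma hG hM hsσ hYs hYM)
  have hs1 : Cfsg.PRankLE s 1 M := by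
    by_contra hs1
    obtain ⟨A₀, hA₀, hA₀M⟩ := TauTwo.exists_isPair hs1
    obtain ⟨g, hg⟩ := conj_of_pair hG hL hM sp.qσ h.qσ hA₀ hA₀M hsσ
    exact h.nonconj hG hNP g⁻¹ (by rw [hg]; exact (map_conj_inv g).symm)
  have hsd : ¬ s ∣ Nat.card ↥⁅M, M⁆ := fun hd => by
    obtain ⟨T, hT⟩ := (hYs.comap_subtype (K := M)).exists_le_sylow
    exact hYd fun x hx => le_derived_of_dvd hG hs1 hd T ⟨⟨x, hYM hx⟩, hT hx, rfl⟩
  have hY1 : Y ≠ ⊥ := fun e => hYC (e ▸ bot_le)
  have hdY : s ∣ Nat.card Y := by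
    obtain ⟨k, hk⟩ := IsPGroup.iff_card.mp hYs
    have : k ≠ 0 := by
      rintro rfl
      exact hY1 (eq_bot_of_card_eq Y (hk.trans (pow_zero s)))
    exact hk ▸ dvd_pow_self s this
  obtain ⟨y, hy⟩ := exists_prime_orderOf_dvd_card' (G := Y) s hdY
  set X := zpowers (y : G) with hXdef
  have hXY : X ≤ Y := zpowers_le.mpr y.2
  have hX : Nat.card X = s := by rw [hXdef, Nat.card_zpowers, Subgroup.orderOf_coe, hy]
  have hXp : IsPGroup s X := hYs.to_le hXY
  have hXM : X ≤ M := hXY.trans hYM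
  have hXL : X ≤ L := hXY.trans hYL
  have hYQ₂ : Y ≤ normalizer (Q₂ : Set G) :=
    (le_inf hYS ((hYR.trans le_normalizer).trans le_rfl)).trans inf_normalizer_le_normalizer_inf
  have hXQ₂ : ¬ X ≤ centralizer (Q₂ : Set G) := fun hle => hYC <| by
    have hYX : Y ≤ centralizer (X : Set G) := fun a ha => mem_centralizer_iff.mpr fun b hb => by
      have := cyclic_of_rank hG hs1 hYs hYM
      exact (congrArg Subtype.val
        (IsCyclic.isMulCommutative.is_comm.comm (⟨b, hXY hb⟩ : Y) ⟨a, ha⟩) :)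
    exact le_centralizer_iff.mp (commutator_eq_bot_iff_le_centralizer.mp
      (CyclicPrimeAction.commutator_eq_bot (TauTwoFacts.structure_tau2 hG) hG hM hsσ hs1 h.qσ hYs hYM hYX
        hX hXM (hS.to_le hQ₂S) (hQ₂S.trans sp.SM) hYQ₂ (le_centralizer_iff.mp hle)))
  have hXS : X ≤ normalizer ((S : Subgroup G) : Set G) := hXY.trans hYS
  have hsp : s ≠ p := by
    rintro rfl
    refine hXQ₂ ?_
    rw [eq_of_commute hG h.tau.2.2.2.2 hX h.cardP hXM h.leP (hXY.trans hYP)]
    exact sp.cP.trans (centralizer_le hQ₂S)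
  have hsr : s ≠ r := by
    rintro rfl
    refine hXQ₂ ?_
    rw [eq_of_commute hG o.r1 hX h.cardR hXL o.leR (hXY.trans hYR)]
    exact le_centralizer_iff.mp inf_le_right
  have hsσL : s ∉ Cfsg.sigma L := fun hsσL => hXQ₂ <|
    (TauTwo.centralizes_of_derived hG hL (Ne.symm hsq) (fun hb => o.qα hb.1) hXp
      (TauTwo.le_derived_of_sigma hG hL hsσL hXp hXL) hS sp.SL hXS).trans (centralizer_le hQ₂S)
  have hXsol : Group.IsSolvable X := hG.2.2.2 X (Uniqueness.ne_top_of_pGroup hG hXp)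
  have hcop : ∀ T : Subgroup G, T ≤ (S : Subgroup G) → (Nat.card X).Coprime (Nat.card T) := fun T hT =>
    TauTwo.coprime_pGroups hsq hXp (hS.to_le hT)
  have hXQ₁ : X ≤ normalizer (Q₁ : Set G) := by
    intro x hx
    refine Transfer.map_conj_eq_self_iff.mp ?_
    rw [hQ₁, map_commutator, Transfer.map_conj_eq_self_iff.mpr (hXS hx),
      Transfer.map_conj_eq_self_iff.mpr (((hXY.trans hYR).trans (Subgroup.centralizer_le_normalizer _)) hx)]
  have hSsplit : Q₁ ⊔ Q₂ = (S : Subgroup G) := Core.commutator_sup_centralizer sp.nR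
    (TauTwo.coprime_pGroups (Ne.symm h.qr) h.Rpgroup hS) (Or.inl (hG.2.2.2 R (Uniqueness.ne_top_of_pGroup hG h.Rpgroup)))
  have hdis : Q₁ ⊓ Q₂ = ⊥ := le_bot_iff.mp ((inf_le_inf_left _ inf_le_right).trans hQ₁fix.le)
  set Z := Q₁ ⊓ centralizer (X : Set G) with hZ
  have hcomS : ∀ a ∈ (S : Subgroup G), ∀ b ∈ (S : Subgroup G), a * b = b * a := fun a ha b hb =>
    congrArg Subtype.val (sp.Sc.is_comm.comm ⟨a, ha⟩ ⟨b, hb⟩)
  by_cases hZ1 : Z = ⊥
  · -- `[S, X] = S`
    have e1 : ⁅Q₁, X⁆ = Q₁ := by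
      have := Core.commutator_sup_centralizer hXQ₁ (hcop _ hQ₁S) (Or.inl hXsol)
      rwa [← hZ, hZ1, sup_bot_eq] at this
    have hQ₂c : IsCyclic Q₂ := isCyclic_of_inf hG hM2 hS sp.Sc sp.SM hQ₁S hQ₂S hQ₁ne hdis
    have e2 : ⁅Q₂, X⁆ = Q₂ := by
      have hXn := hXY.trans hYQ₂
      have hsup := Core.commutator_sup_centralizer hXn (hcop _ hQ₂S) (Or.inl hXsol)
      suffices hb : Q₂ ⊓ centralizer (X : Set G) = ⊥ by rwa [hb, sup_bot_eq] at hsup
      by_contra hb
      refine TauTwo.inf_ne_bot_of_cyclic (r := q) (hS.to_le hQ₂S) hQ₂c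
        (Core.commutator_le_of_normalizes hXn) (inf_le_left : Q₂ ⊓ centralizer (X : Set G) ≤ Q₂)
        (fun e => hXQ₂ (le_centralizer_iff.mp (commutator_eq_bot_iff_le_centralizer.mp e))) hb ?_
      refine le_bot_iff.mp fun a ha => ?_
      exact eq_one_of_commutator_fix ((hS.to_le hQ₂S).to_le (Core.commutator_le_of_normalizes hXn)) hXp
        (Ne.symm hsq) (normalizer_commutator_ge_right _ _)
        (Core.commutator_commutator_eq hXn (hcop _ hQ₂S) (Or.inl hXsol))
        ⟨⟨fun u v => Subtype.ext (hcomS _ (hQ₂S (Core.commutator_le_of_normalizes hXn u.2))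
          _ (hQ₂S (Core.commutator_le_of_normalizes hXn v.2)))⟩⟩ ⟨ha.1, ha.2.2⟩
    have eS : ⁅(S : Subgroup G), X⁆ = (S : Subgroup G) := by
      refine le_antisymm (Core.commutator_le_of_normalizes hXS) (hSsplit.symm.le.trans ?_)
      exact sup_le (e1.symm.le.trans (commutator_mono hQ₁S le_rfl)) (e2.symm.le.trans (commutator_mono hQ₂S le_rfl))
    exact false_of_full hG (S := S)
      { max := hM
        tau := h.tau
        rσ := hsσ
        rp := hsp
        cardP := h.cardP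
        cardR := hX
        leP := h.leP
        leR := hXM
        commRP := hXY.trans hYP
        pgroup := hS
        qσ := h.qσ
        leQ := le_sigmaCore hG hM h.qσ hS sp.SM
        commQP := le_centralizer_iff.mp sp.cP
        norm := hXS
        idem := eS
        ne := fun e => h.ne (le_bot_iff.mp (e ▸ sp.QS)) } hNM hnc
  -- the part of `Q₁` fixed by `X`
  have hZS : Z ≤ (S : Subgroup G) := inf_le_left.trans hQ₁S
  have hRZ : R ≤ normalizer (Z : Set G) :=
    (le_inf (normalizer_commutator_ge_right _ _)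
      ((le_centralizer_iff.mp (hXY.trans hYR)).trans le_normalizer)).trans inf_normalizer_le_normalizer_inf
  have hsolR : Group.IsSolvable R := hG.2.2.2 R (Uniqueness.ne_top_of_pGroup hG h.Rpgroup)
  have hcR : (Nat.card R).Coprime (Nat.card Z) := TauTwo.coprime_pGroups (Ne.symm h.qr) h.Rpgroup (hS.to_le hZS)
  have hZid : ⁅Z, R⁆ = Z := by
    have hsup := Core.commutator_sup_centralizer hRZ hcR (Or.inl hsolR)
    rwa [le_bot_iff.mp ((inf_le_inf_right _ (inf_le_left : Z ≤ Q₁)).trans hQ₁fix.le), sup_bot_eq] at hsup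
  have hP : Bad M P R Z p r q :=
    { h with
      pgroup := hS.to_le hZS
      leQ := hZS.trans (le_sigmaCore hG hM h.qσ hS sp.SM)
      commQP := hZS.trans (le_centralizer_iff.mp sp.cP)
      norm := hRZ
      idem := hZid
      ne := hZ1 }
  have hXb : Bad M X R Z s r q :=
    { h with
      tau := ⟨hs, hsσ, hX ▸ card_dvd_of_le hXM, hsd, hs1⟩
      rp := Ne.symm hsr
      cardP := hX
      leP := hXM
      commRP := le_centralizer_iff.mp (hXY.trans hYR)
      pgroup := hS.to_le hZS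
      leQ := hZS.trans (le_sigmaCore hG hM h.qσ hS sp.SM)
      commQP := inf_le_right
      norm := hRZ
      idem := hZid
      ne := hZ1 }
  obtain ⟨V₁, hPV₁, hV₁L, -, hZV₁⟩ := (hP.over hG hL hNP).exists_sylow hP hG
  obtain ⟨L', hL', hNX⟩ := (eq_top_or_exists_le_coatom _).resolve_left
    (TransitivityHyp.normalizer_ne_top hG hXb.P_ne (Uniqueness.ne_top_of_pGroup hG hXp))
  have o' := hXb.over hG hL' hNX
  obtain ⟨U, hXU, hUL, -, hZU⟩ := o'.exists_sylow hXb hG
  have hnc' : ¬ IsCyclic (U : Subgroup G) := fun hc => no_cyclic hG hXb fun U' =>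
    isCyclic_of_surjective (U.equiv U') (U.equiv U').surjective
  obtain ⟨S', sp'⟩ := o'.split hXb hG U hXU hUL hZU hnc'
  have hnc₁ : ¬ IsCyclic (V₁ : Subgroup G) := fun hc =>
    hnc (isCyclic_of_surjective (V₁.equiv V) (V₁.equiv V).surjective)
  obtain ⟨S₁, sp₁⟩ := (hP.over hG hL hNP).split hP hG V₁ hPV₁ hV₁L hZV₁ hnc₁
  have hV₁L' : (V₁ : Subgroup G) ≤ L' :=
    ((le_centralizer_iff.mp hZV₁).trans (Subgroup.centralizer_le_normalizer _)).trans sp'.nQ
  have e := sp₁.uniq.unique ⟨hL, hV₁L⟩ ⟨hL', hV₁L'⟩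
  exact hsσL (e ▸ o'.pσ)

omit [Fact p.Prime] [Fact q.Prime] [Fact r.Prime] in
/-- S1428. -/
theorem centralizer_le_centralizer (hG : Cfsg.IsMinSimpleOddOrder G) (hM : IsCoatom M) {E : Subgroup G}
    (hE : Cfsg.IsComplIn E (Cfsg.sigmaCore M) M) (hp : p ∈ Cfsg.tau1 M) (hPE : P ≤ E) (hP : Nat.card P = p)
    (hRE : R ≤ E ⊓ centralizer (P : Set G)) (hR : (Nat.card R).Prime) :
    Cfsg.sigmaCore M ⊓ centralizer (P : Set G) ≤ Cfsg.sigmaCore M ⊓ centralizer (R : Set G) := by
  have := Fact.mk hp.1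
  obtain ⟨r, hr⟩ : ∃ r, Nat.card R = r := ⟨_, rfl⟩
  rw [hr] at hR
  have := Fact.mk hR
  refine le_inf inf_le_left ?_
  have hPM : P ≤ M := hPE.trans hE.1
  have hRM : R ≤ M := (hRE.trans inf_le_left).trans hE.1
  by_cases hrp : r = p
  · subst hrp
    rw [eq_of_commute hG hp.2.2.2.2 hr hP hRM hPM (hRE.trans inf_le_right)]
    exact inf_le_right
  have hrσ : r ∉ Cfsg.sigma M :=
    SigmaComplement.not_mem_sigma hG hM hE (hr ▸ card_dvd_of_le (hRE.trans inf_le_left))
  set C := Cfsg.sigmaCore M ⊓ centralizer (P : Set G) with hC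
  have hRC : R ≤ normalizer (C : Set G) :=
    (le_inf (hRM.trans (le_normalizer_sigmaCore M)) ((hRE.trans inf_le_right).trans le_normalizer)).trans
      inf_normalizer_le_normalizer_inf
  have hcop : (Nat.card R).Coprime (Nat.card C) := by
    rw [hr]
    exact hR.coprime_iff_not_dvd.mpr fun hd =>
      hrσ (TauTwo.mem_sigma_of_dvd hR (hd.trans (card_dvd_of_le inf_le_left)) hG hM)
  have hRp : IsPGroup r R := IsPGroup.of_card (n := 1) (by rw [hr, pow_one])
  have hsol : Group.IsSolvable R := hG.2.2.2 R (Uniqueness.ne_top_of_pGroup hG hRp)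
  rw [← subgroupOf_eq_top]
  refine Core.eq_top_of_forall_exists_sylow_le _ fun t ht htd => ?_
  have := Fact.mk ht
  obtain ⟨T, hT⟩ := Core.exists_invariant_sylow (A := R) (K := C) hRC hcop (Or.inl hsol) t
  refine ⟨T, fun x hx => mem_subgroupOf.mpr ?_⟩
  set T' := (T : Subgroup C).map C.subtype with hT'
  have hT'C : T' ≤ C := map_subtype_le _
  have hc : (Nat.card R).Coprime (Nat.card T') := hcop.coprime_dvd_right (card_dvd_of_le hT'C)
  by_contra hne
  refine not_bad hG (M := M) (P := P) (R := R) (Q := ⁅T', R⁆) (p := p) (r := r) (q := t)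
    { max := hM
      tau := hp
      rσ := hrσ
      rp := hrp
      cardP := hP
      cardR := hr
      leP := hPM
      leR := hRM
      commRP := hRE.trans inf_le_right
      pgroup := (T.2.map C.subtype).to_le (Core.commutator_le_of_normalizes hT)
      qσ := TauTwo.mem_sigma_of_dvd ht (htd.trans (card_dvd_of_le inf_le_left)) hG hM
      leQ := ((Core.commutator_le_of_normalizes hT).trans hT'C).trans inf_le_left
      commQP := ((Core.commutator_le_of_normalizes hT).trans hT'C).trans inf_le_right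
      norm := normalizer_commutator_ge_right _ _
      idem := Core.commutator_commutator_eq hT hc (Or.inl hsol)
      ne := fun e => hne (commutator_eq_bot_iff_le_centralizer.mp e ⟨x, hx, rfl⟩) }

end CfsgLib.OddLocal.CentTauOne
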