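import Mathlib.FieldTheory.Finite.Basic
import Mathlib.FieldTheory.Finite.GaloisField
import Mathlib.GroupTheory.OrderOfElement
import Mathlib.Tactic.Abel
import Cfsg.Agent.Lib.OddLocal.Basic

/-!
The final configuration of the odd order theorem: a field of `p ^ q` elements acted on by its norm one
group `U`, and an abelian `Q` tied to the prime field.
-/

set_option autoImplicit false
set_option linter.unusedSectionVars false

namespace CfsgLib.OddLocal.FinalField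

open Subgroup

/-- The configuration, with `x` the inverse of the bijection `P → F`. -/
structure Config (G : Type*) [Group G] (p : ℕ) (F : Type*) [Field F] [Algebra (ZMod p) F] where
  P : Subgroup G
  U : Subgroup G
  Q : Subgroup G
  x : F → G
  ψ : G → F
  y : G
  x_mem : ∀ α, x α ∈ P
  x_add : ∀ α β, x (α + β) = x α * x β
  x_surj : ∀ g ∈ P, ∃ α, x α = g
  x_inj : Function.Injective x
  conj_x : ∀ u ∈ U, ∀ α, u * x α * u⁻¹ = x (ψ u * α)
  ψ_mul : ∀ u ∈ U, ∀ v ∈ U, ψ (u * v) = ψ u * ψ v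
  ψ_ne : ∀ u ∈ U, ψ u ≠ 0
  ψ_inj : Set.InjOn ψ (U : Set G)
  ψ_range : ∀ z : F, z ^ Nat.card U = 1 → ∃ v ∈ U, ψ v = z
  u_coprime : (Nat.card U).Coprime p
  u_coprime' : (Nat.card U).Coprime (p - 1)
  one_lt_u : 1 < Nat.card U
  decomp : ∀ z : F, z ≠ 0 → ∃ l : ZMod p, l ≠ 0 ∧ ∃ D ∈ U, z = algebraMap (ZMod p) F l * ψ D
  Q_comm : ∀ a ∈ Q, ∀ b ∈ Q, a * b = b * a
  Q_coprime : (Nat.card Q).Coprime p
  y_mem : y ∈ Q
  S_norm : ∀ k : ZMod p, x (algebraMap (ZMod p) F k) ∈ normalizer (Q : Set G)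
  T_norm : ∀ k : ZMod p, y * x (algebraMap (ZMod p) F k) * y⁻¹ ∈ normalizer (U : Set G)

variable {G : Type*} [Group G] {p : ℕ} [hp : Fact p.Prime] {F : Type*} [Field F]
  [Algebra (ZMod p) F] (c : Config G p F)

namespace Config

/-- The prime field part of `P`. -/
def S (k : ZMod p) : G := c.x (algebraMap (ZMod p) F k)

/-- Its conjugate by `y`, normalising `U`. -/
def T (k : ZMod p) : G := c.y * c.S k * c.y⁻¹

theorem conj_mem {K : Subgroup G} {g h : G} (hg : g ∈ normalizer (K : Set G)) (hh : h ∈ K) :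
    g * h * g⁻¹ ∈ K :=
  (Subgroup.mem_normalizer_iff.mp hg h).mp hh

theorem conj_mem' {K : Subgroup G} {g h : G} (hg : g ∈ normalizer (K : Set G)) (hh : h ∈ K) :
    g⁻¹ * h * g ∈ K := by
  simpa using conj_mem (inv_mem hg) hh

theorem mem_normalizer_of_le [Finite G] {K : Subgroup G} {g : G} (h : ∀ k ∈ K, g * k * g⁻¹ ∈ K) :
    g ∈ normalizer (K : Set G) := by
  let e : K → K := fun k => ⟨g * k.1 * g⁻¹, h k.1 k.2⟩
  have he : Function.Injective e := by
    intro a b hab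
    exact Subtype.ext (mul_right_injective g (mul_left_injective g⁻¹ (congrArg Subtype.val hab)))
  rw [Subgroup.mem_normalizer_iff]
  refine fun k => ⟨h k, fun hk => ?_⟩
  obtain ⟨⟨m, hm⟩, hme⟩ := Finite.surjective_of_injective he ⟨_, hk⟩
  have : m = k := mul_right_injective g (mul_left_injective g⁻¹ (congrArg Subtype.val hme))
  exact this ▸ hm

theorem x_zero : c.x 0 = 1 := by
  have h := c.x_add 0 0
  rw [add_zero] at h
  exact left_eq_mul.mp h

theorem x_neg (α : F) : c.x (-α) = (c.x α)⁻¹ := by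
  refine eq_inv_of_mul_eq_one_left ?_
  rw [← c.x_add, neg_add_cancel, c.x_zero]

theorem x_nsmul (n : ℕ) (α : F) : c.x (n • α) = c.x α ^ n := by
  induction n with
  | zero => rw [zero_smul, pow_zero, c.x_zero]
  | succ n ih => rw [succ_nsmul, c.x_add, ih, pow_succ]

theorem x_pow_p (α : F) : c.x α ^ p = 1 := by
  have : CharP F p := charP_of_injective_algebraMap (algebraMap (ZMod p) F).injective p
  rw [← c.x_nsmul, nsmul_eq_mul, CharP.cast_eq_zero, zero_mul, c.x_zero]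

theorem x_eq_one {α : F} : c.x α = 1 ↔ α = 0 :=
  ⟨fun h => c.x_inj (h.trans c.x_zero.symm), fun h => h ▸ c.x_zero⟩

theorem S_zero : c.S 0 = 1 := by rw [S, map_zero, c.x_zero]

theorem S_add (a b : ZMod p) : c.S (a + b) = c.S a * c.S b := by rw [S, map_add, c.x_add]; rfl

theorem S_neg (a : ZMod p) : c.S (-a) = (c.S a)⁻¹ := by rw [S, map_neg, c.x_neg]; rfl

theorem S_comm (a b : ZMod p) : c.S a * c.S b = c.S b * c.S a := by
  rw [← c.S_add, ← c.S_add, add_comm]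

theorem T_zero : c.T 0 = 1 := by rw [T, c.S_zero]; group

theorem T_add (a b : ZMod p) : c.T (a + b) = c.T a * c.T b := by
  simp only [T, c.S_add]; group

theorem T_neg (a : ZMod p) : c.T (-a) = (c.T a)⁻¹ := by
  simp only [T, c.S_neg]; group

theorem T_nsmul (n : ℕ) (a : ZMod p) : c.T (n • a) = c.T a ^ n := by
  induction n with
  | zero => rw [zero_smul, pow_zero, c.T_zero]
  | succ n ih => rw [succ_nsmul, c.T_add, ih, pow_succ]

theorem T_pow_p (a : ZMod p) : c.T a ^ p = 1 := by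
  rw [← c.T_nsmul, nsmul_eq_mul, ZMod.natCast_self, zero_mul, c.T_zero]

theorem T_mem_normalizer (a : ZMod p) : c.T a ∈ normalizer (c.U : Set G) := c.T_norm a

theorem ψ_one : c.ψ 1 = 1 := by
  have h := c.ψ_mul 1 c.U.one_mem 1 c.U.one_mem
  rw [mul_one] at h
  exact (mul_eq_left₀ (c.ψ_ne 1 c.U.one_mem)).mp h.symm

theorem ψ_pow {v : G} (hv : v ∈ c.U) (n : ℕ) : c.ψ (v ^ n) = c.ψ v ^ n := by
  induction n with
  | zero => rw [pow_zero, pow_zero, c.ψ_one]
  | succ n ih => rw [pow_succ, pow_succ, c.ψ_mul _ (pow_mem hv n) _ hv, ih]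

theorem ψ_inv {v : G} (hv : v ∈ c.U) : c.ψ v⁻¹ = (c.ψ v)⁻¹ := by
  refine eq_inv_of_mul_eq_one_left ?_
  rw [← c.ψ_mul _ (inv_mem hv) _ hv, inv_mul_cancel, c.ψ_one]

theorem ψ_pow_card {v : G} (hv : v ∈ c.U) : c.ψ v ^ Nat.card c.U = 1 := by
  rw [← c.ψ_pow hv, pow_card_eq_one_of_mem hv, c.ψ_one]

theorem move_x {v : G} (hv : v ∈ c.U) (α : F) : v * c.x α = c.x (c.ψ v * α) * v := by
  rw [← c.conj_x v hv α]; group

theorem eq_one_of_mem_U_of_pow {v : G} (hv : v ∈ c.U) (h : v ^ p = 1) : v = 1 :=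
  eq_one_of_pow_eq_one_coprime (pow_card_eq_one_of_mem hv) h c.u_coprime

theorem x_mem_U {α : F} (h : c.x α ∈ c.U) : α = 0 :=
  c.x_eq_one.mp (c.eq_one_of_mem_U_of_pow h (c.x_pow_p α))

/-- `PU`. -/
def H : Subgroup G where
  carrier := {g | ∃ α, ∃ v ∈ c.U, g = c.x α * v}
  one_mem' := ⟨0, 1, c.U.one_mem, by rw [c.x_zero, one_mul]⟩
  mul_mem' := by
    rintro _ _ ⟨α, v, hv, rfl⟩ ⟨β, w, hw, rfl⟩
    refine ⟨α + c.ψ v * β, v * w, mul_mem hv hw, ?_⟩
    rw [c.x_add, ← c.conj_x v hv β]; group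
  inv_mem' := by
    rintro _ ⟨α, v, hv, rfl⟩
    refine ⟨c.ψ v⁻¹ * -α, v⁻¹, inv_mem hv, ?_⟩
    rw [← c.conj_x v⁻¹ (inv_mem hv), c.x_neg]; group

theorem U_le_H {v : G} (hv : v ∈ c.U) : v ∈ c.H := ⟨0, v, hv, by rw [c.x_zero, one_mul]⟩

theorem x_mem_H (α : F) : c.x α ∈ c.H := ⟨α, 1, c.U.one_mem, (mul_one _).symm⟩

theorem S_mem_H (k : ZMod p) : c.S k ∈ c.H := c.x_mem_H _

/-- The powers of an element of `H`. -/
theorem pow_H (α : F) {v : G} (hv : v ∈ c.U) (n : ℕ) :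
    ∃ β, (c.x α * v) ^ n = c.x β * v ^ n := by
  induction n with
  | zero => exact ⟨0, by rw [pow_zero, pow_zero, c.x_zero, one_mul]⟩
  | succ n ih =>
    obtain ⟨β, hβ⟩ := ih
    refine ⟨β + c.ψ (v ^ n) * α, ?_⟩
    rw [pow_succ, hβ, pow_succ, c.x_add, ← c.conj_x _ (pow_mem hv n) α]
    group

theorem mem_P_of_pow {g : G} (hg : g ∈ c.H) (h : g ^ p = 1) : g ∈ c.P := by
  obtain ⟨α, v, hv, rfl⟩ := hg
  obtain ⟨β, hβ⟩ := c.pow_H α hv p
  rw [h] at hβ
  have hvp : v ^ p = c.x (-β) := by rw [c.x_neg]; exact eq_inv_of_mul_eq_one_right hβ.symm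
  have h0 := c.x_mem_U (hvp ▸ pow_mem hv p)
  rw [h0, c.x_zero] at hvp
  rw [c.eq_one_of_mem_U_of_pow hv hvp, mul_one]
  exact c.x_mem α

/-- `N_H(U) = U`. -/
theorem mem_U_of_normalizes {g : G} (hg : g ∈ c.H) (hn : g ∈ normalizer (c.U : Set G)) : g ∈ c.U := by
  obtain ⟨α, v, hv, rfl⟩ := hg
  have hx : c.x α ∈ normalizer (c.U : Set G) := by
    have := mul_mem hn (inv_mem (Subgroup.le_normalizer hv))
    rwa [mul_inv_cancel_right] at this
  have hne : c.U ≠ ⊥ := fun h => by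
    have := c.one_lt_u; rw [h, Subgroup.card_bot] at this; omega
  obtain ⟨w, hw, hw1⟩ := (Subgroup.ne_bot_iff_exists_ne_one.mp hne)|> fun ⟨w, hw1⟩ =>
    (⟨w.1, w.2, fun h => hw1 (Subtype.ext h)⟩ : ∃ w, w ∈ c.U ∧ w ≠ 1)
  have hψ1 : c.ψ w ≠ 1 := fun h => hw1 (c.ψ_inj hw c.U.one_mem (h.trans c.ψ_one.symm))
  have hmem : c.x (α + c.ψ w * -α) ∈ c.U := by
    have := mul_mem (conj_mem hx hw) (inv_mem hw)
    have he : c.x α * w * (c.x α)⁻¹ * w⁻¹ = c.x (α + c.ψ w * -α) := by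
      rw [c.x_add, ← c.conj_x w hw, c.x_neg]; group
    rwa [he] at this
  have h0 := c.x_mem_U hmem
  have hα : α = 0 := by
    have : α * (1 - c.ψ w) = 0 := by linear_combination h0
    exact (mul_eq_zero.mp this).resolve_right (sub_ne_zero.mpr (Ne.symm hψ1))
  rw [hα, c.x_zero, one_mul]
  exact hv

theorem S_mem_U {k : ZMod p} (h : c.S k ∈ c.U) : k = 0 :=
  (algebraMap (ZMod p) F).injective ((c.x_mem_U h).trans (map_zero _).symm)

theorem eq_zero_of_T_mem_H {a : ZMod p} (h : c.T a ∈ c.H) : a = 0 := by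
  have h1 := c.eq_one_of_mem_U_of_pow (c.mem_U_of_normalizes h (c.T_mem_normalizer a)) (c.T_pow_p a)
  refine c.S_mem_U ?_
  have : c.S a = 1 := by
    have := congrArg (fun g => c.y⁻¹ * g * c.y) h1
    simpa [T, mul_assoc] using this
  rw [this]; exact c.U.one_mem

theorem eq_one_of_mem_P_Q {g : G} (hP : g ∈ c.P) (hQ : g ∈ c.Q) : g = 1 := by
  obtain ⟨α, rfl⟩ := c.x_surj g hP
  exact eq_one_of_pow_eq_one_coprime (pow_card_eq_one_of_mem hQ) (c.x_pow_p α) c.Q_coprime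

/-- `H ∩ Q = 1`. -/
theorem eq_one_of_mem_H_Q {g : G} (hH : g ∈ c.H) (hQ : g ∈ c.Q) : g = 1 := by
  obtain ⟨α, v, hv, rfl⟩ := hH
  have hq := mul_mem (conj_mem (c.S_norm 1) hQ) (inv_mem hQ)
  rw [map_one] at hq
  have he : c.x 1 * (c.x α * v) * (c.x 1)⁻¹ * (c.x α * v)⁻¹
      = c.x (1 + α + c.ψ v * (-1) + -α) := by
    rw [c.x_add, c.x_add, c.x_add, ← c.conj_x v hv, c.x_neg, c.x_neg]; group
  rw [he] at hq
  have h0 := c.x_eq_one.mp (c.eq_one_of_mem_P_Q (c.x_mem _) hq)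
  have hv1 : c.ψ v = 1 := by linear_combination -h0
  have : v = 1 := c.ψ_inj hv c.U.one_mem (hv1.trans c.ψ_one.symm)
  subst this
  rw [mul_one] at hQ ⊢
  exact c.eq_one_of_mem_P_Q (c.x_mem α) hQ

theorem T_one_not_comm (hw : c.S 1 * c.T 1 = c.T 1 * c.S 1) : False := by
  have hwQ : c.T 1 * (c.S 1)⁻¹ ∈ c.Q := by
    have : c.T 1 * (c.S 1)⁻¹ = c.y * (c.S 1 * c.y⁻¹ * (c.S 1)⁻¹) := by rw [T]; group
    rw [this]
    exact mul_mem c.y_mem (conj_mem (c.S_norm 1) (inv_mem c.y_mem))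
  have hwp : (c.T 1 * (c.S 1)⁻¹) ^ p = 1 := by
    have hc : Commute (c.T 1) (c.S 1)⁻¹ := (Commute.inv_right (Commute.symm hw))
    rw [hc.mul_pow, c.T_pow_p, inv_pow, S, c.x_pow_p, inv_one, mul_one]
  have h1 := eq_one_of_pow_eq_one_coprime (pow_card_eq_one_of_mem hwQ) hwp c.Q_coprime
  have h2 : c.S 1 ∈ c.U := c.mem_U_of_normalizes (c.S_mem_H 1)
    ((mul_inv_eq_one.mp h1) ▸ c.T_mem_normalizer 1)
  exact one_ne_zero (c.S_mem_U h2)

/-- `H ∩ T(a)HT(-a) = U` for `a ≠ 0`. -/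
theorem mem_U_of_conj_mem_H [Finite G] {a : ZMod p} (ha : a ≠ 0) {g : G} (hg : g ∈ c.H)
    (h : c.T a * g * (c.T a)⁻¹ ∈ c.H) : g ∈ c.U := by
  obtain ⟨α, v, hv, rfl⟩ := hg
  suffices α = 0 by rw [this, c.x_zero, one_mul]; exact hv
  by_contra hα
  have hTv : c.T a * v * (c.T a)⁻¹ ∈ c.U := conj_mem (c.T_mem_normalizer a) hv
  have hα1 : c.T a * c.x α * (c.T a)⁻¹ ∈ c.P := by
    refine c.mem_P_of_pow ?_ ?_
    · have := mul_mem h (c.H.inv_mem (c.U_le_H hTv))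
      convert this using 1; group
    · rw [conj_pow, c.x_pow_p, mul_one, mul_inv_cancel]
  have hall : ∀ β, c.T a * c.x β * (c.T a)⁻¹ ∈ c.P := by
    intro β
    by_cases hβ : β = 0
    · rw [hβ, c.x_zero, mul_one, mul_inv_cancel]; exact c.P.one_mem
    obtain ⟨l, -, D, hD, hl⟩ := c.decomp (β / α) (div_ne_zero hβ hα)
    have hβ' : β = l.val • (c.ψ D * α) := by
      rw [nsmul_eq_mul, ← map_natCast (algebraMap (ZMod p) F), ZMod.natCast_zmod_val, ← mul_assoc,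
        ← hl, div_mul_cancel₀ _ hα]
    rw [hβ', c.x_nsmul, ← conj_pow]
    refine pow_mem ?_ _
    rw [← c.conj_x D hD]
    obtain ⟨γ, hγ⟩ := c.x_surj _ hα1
    have hTD : c.T a * D * (c.T a)⁻¹ ∈ c.U := conj_mem (c.T_mem_normalizer a) hD
    have := c.conj_x _ hTD γ
    rw [hγ] at this
    convert c.x_mem (c.ψ (c.T a * D * (c.T a)⁻¹) * γ) using 1
    rw [← this]; group
  have hTa : c.T a ∈ normalizer (c.P : Set G) := mem_normalizer_of_le fun g hg => by
    obtain ⟨β, rfl⟩ := c.x_surj g hg; exact hall β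
  have hT1 : c.T 1 ∈ normalizer (c.P : Set G) := by
    have : (1 : ZMod p) = (a⁻¹).val • a := by
      rw [nsmul_eq_mul, ZMod.natCast_zmod_val, inv_mul_cancel₀ ha]
    rw [this, c.T_nsmul]; exact pow_mem hTa _
  have hwQ : c.T 1 * (c.S 1)⁻¹ ∈ c.Q := by
    have : c.T 1 * (c.S 1)⁻¹ = c.y * (c.S 1 * c.y⁻¹ * (c.S 1)⁻¹) := by rw [T]; group
    rw [this]
    exact mul_mem c.y_mem (conj_mem (c.S_norm 1) (inv_mem c.y_mem))
  have hwP : c.T 1 * (c.S 1)⁻¹ ∈ normalizer (c.P : Set G) :=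
    mul_mem hT1 (inv_mem (Subgroup.le_normalizer (c.x_mem _)))
  set w := c.T 1 * (c.S 1)⁻¹ with hw
  have hcQ : c.S 1 * w * (c.S 1)⁻¹ * w⁻¹ ∈ c.Q := mul_mem (conj_mem (c.S_norm 1) hwQ) (inv_mem hwQ)
  have hcP : c.S 1 * w * (c.S 1)⁻¹ * w⁻¹ ∈ c.P := by
    have : c.S 1 * w * (c.S 1)⁻¹ * w⁻¹ = c.S 1 * (w * (c.S 1)⁻¹ * w⁻¹) := by group
    rw [this]
    exact mul_mem (c.x_mem _) (conj_mem hwP (inv_mem (c.x_mem _)))
  have h1 := c.eq_one_of_mem_P_Q hcP hcQ
  refine c.T_one_not_comm ?_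
  have h2 : c.S 1 * w * (c.S 1)⁻¹ = w := mul_inv_eq_one.mp h1
  rw [hw] at h2
  have h3 := congrArg (fun g => g * c.S 1 * c.S 1) h2
  simpa [mul_assoc] using h3

/-- Double cosets `H T(a) H` are distinct. -/
theorem double_coset [Finite G] {h h' : G} (hh : h ∈ c.H) (hh' : h' ∈ c.H) {a b : ZMod p} (ha : a ≠ 0)
    (he : c.T b = h * c.T a * h') : b = a ∧ h ∈ c.U ∧ h' ∈ c.U := by
  have hh'U : h' ∈ c.U := by
    refine c.mem_U_of_normalizes hh' (mem_normalizer_of_le fun v hv => ?_)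
    refine c.mem_U_of_conj_mem_H ha (mul_mem (mul_mem hh' (c.U_le_H hv)) (inv_mem hh')) ?_
    have hv' := c.U_le_H (conj_mem (c.T_mem_normalizer b) hv)
    have : c.T a * (h' * v * h'⁻¹) * (c.T a)⁻¹ = h⁻¹ * (c.T b * v * (c.T b)⁻¹) * h := by
      rw [he]; group
    rw [this]
    exact mul_mem (mul_mem (inv_mem hh) hv') hh
  have hT : c.T a * h'⁻¹ * (c.T a)⁻¹ ∈ c.U := conj_mem (c.T_mem_normalizer a) (inv_mem hh'U)
  have hd : c.T (b + -a) = h * (c.T a * h'⁻¹ * (c.T a)⁻¹)⁻¹ := by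
    rw [c.T_add, c.T_neg, he]; group
  have hba : b = a := by
    have := c.eq_zero_of_T_mem_H (hd ▸ mul_mem hh (inv_mem (c.U_le_H hT)))
    linear_combination this
  refine ⟨hba, ?_, hh'U⟩
  have h1 : h = c.T a * h'⁻¹ * (c.T a)⁻¹ := by
    have := congrArg (fun g => g * h'⁻¹ * (c.T a)⁻¹) he
    simpa [hba, mul_assoc] using this.symm
  rw [h1]; exact hT

theorem red (a b : ZMod p) :
    c.T a * (c.S (a + b))⁻¹ * c.T b = (c.S b)⁻¹ * c.T (a + b) * (c.S a)⁻¹ := by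
  have hQ : ∀ i, c.T i * (c.S i)⁻¹ ∈ c.Q := fun i => by
    have : c.T i * (c.S i)⁻¹ = c.y * (c.S i * c.y⁻¹ * (c.S i)⁻¹) := by rw [T]; group
    rw [this]
    exact mul_mem c.y_mem (conj_mem (c.S_norm i) (inv_mem c.y_mem))
  have hc := c.Q_comm _ (hQ (a + b)) _ (hQ b)
  have e1 : c.T (a + b) = c.T b * c.T a := by rw [add_comm, c.T_add]
  have e2 : c.S (a + b) = c.S b * c.S a := by rw [add_comm, c.S_add]
  calc c.T a * (c.S (a + b))⁻¹ * c.T b
      = (c.T b)⁻¹ * (c.T (a + b) * (c.S (a + b))⁻¹ * (c.T b * (c.S b)⁻¹)) * c.S b := by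
        rw [e1]; group
    _ = (c.T b)⁻¹ * (c.T b * (c.S b)⁻¹ * (c.T (a + b) * (c.S (a + b))⁻¹)) * c.S b := by rw [hc]
    _ = (c.S b)⁻¹ * c.T (a + b) * ((c.S (a + b))⁻¹ * c.S b) := by group
    _ = (c.S b)⁻¹ * c.T (a + b) * (c.S a)⁻¹ := by rw [e2]; group

theorem k_periodic_const {A : Type*} {k : ZMod p} (hk : k ≠ 0) {W : ZMod p → A}
    (h : ∀ i, W (i + k) = W i) (i : ZMod p) : W i = W 0 := by
  have hn : ∀ n : ℕ, W (n • k) = W 0 := by
    intro n
    induction n with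
    | zero => rw [zero_smul]
    | succ n ih => rw [succ_nsmul, h, ih]
  have : i = (i / k).val • k := by
    rw [nsmul_eq_mul, ZMod.natCast_zmod_val, div_mul_cancel₀ _ hk]
  rw [this, hn]

/-- The relation in the module `Q` over the prime field part of `P`. -/
theorem module_lemma [Finite G] {k l α : ZMod p} (h2 : (2 : ZMod p) ≠ 0) (hk : k ≠ 0) (hl : l ≠ 0)
    (he : c.T k * c.S l * c.T k = c.S α * c.T (k + k) * c.S (l - α)) : l = -(k + k) := by
  let d : ZMod p → G := fun i => c.S i * c.y * (c.S i)⁻¹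
  have hd : ∀ i, d i ∈ c.Q := fun i => conj_mem (c.S_norm i) c.y_mem
  have hE : ∀ i, d i * (d (i + k))⁻¹ * (d (i + k + l) * (d (i + k + l + k))⁻¹)
      = d (i + α) * (d (i + α + (k + k)))⁻¹ := by
    intro i
    have h1 : d i * (d (i + k))⁻¹ * (d (i + k + l) * (d (i + k + l + k))⁻¹)
        = c.S i * (c.T k * c.S l * c.T k) * (c.S k * c.S l * c.S k)⁻¹ * (c.S i)⁻¹ := by
      simp only [d, T, c.S_add]; group
    have h2 : c.S k * c.S l * c.S k = c.S α * c.S (k + k) * c.S (l - α) := by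
      rw [← c.S_add, ← c.S_add, ← c.S_add, ← c.S_add]; congr 1; ring
    rw [h1, he, h2]
    simp only [d, T, c.S_add i α, c.S_add (i + α) (k + k)]; group
  let D : ZMod p → Additive c.Q := fun i => Additive.ofMul ⟨d i, hd i⟩
  let : AddCommGroup (Additive c.Q) :=
    { (inferInstance : AddGroup (Additive c.Q)) with
      add_comm := fun a b => by
        apply Additive.toMul.injective
        exact Subtype.ext (c.Q_comm _ a.toMul.2 _ b.toMul.2) }
  have hE' : ∀ i, D i - D (i + k) + (D (i + k + l) - D (i + k + l + k))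
      = D (i + α) - D (i + α + (k + k)) := by
    intro i
    apply Additive.toMul.injective
    apply Subtype.ext
    simpa [D, div_eq_mul_inv] using hE i
  let W : ZMod p → Additive c.Q := fun i => D i + D (i + k + l) - D (i + α) - D (i + α + k)
  have hper : ∀ i, W (i + k) = W i := by
    intro i
    have h := sub_eq_zero.mpr (hE' i)
    refine (sub_eq_zero.mp ?_).symm
    rw [← h]
    simp only [W]
    rw [show i + k + k + l = i + k + l + k by ring, show i + k + α = i + α + k by ring,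
      show i + α + k + k = i + α + (k + k) by ring]
    abel
  have hsum : ∀ a : ZMod p, ∑ i, D (i + a) = ∑ i, D i := fun a =>
    Fintype.sum_equiv (Equiv.addRight a) _ _ (fun i => rfl)
  have hW : p • W 0 = 0 := by
    have h1 : ∑ i, W i = p • W 0 := by
      rw [Finset.sum_congr rfl (fun i _ => k_periodic_const hk hper i), Finset.sum_const, Finset.card_univ, ZMod.card]
    have h2 : ∑ i, W i = 0 := by
      simp only [W, Finset.sum_sub_distrib, Finset.sum_add_distrib, add_assoc, hsum]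
      abel
    rw [← h1, h2]
  have hW0 : W 0 = 0 := by
    apply Additive.toMul.injective
    apply Subtype.ext
    have hp1 : ((W 0).toMul : G) ^ p = 1 := by
      have := congrArg (fun a : Additive c.Q => (a.toMul : G)) hW
      simpa using this
    exact eq_one_of_pow_eq_one_coprime (pow_card_eq_one_of_mem (W 0).toMul.2) hp1 c.Q_coprime
  have h3 : D 0 - D α = D (α + k) - D (k + l) := by
    rw [← sub_eq_zero, ← hW0]
    simp only [W, zero_add]
    abel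
  have h4 : d 0 * (d α)⁻¹ = d (α + k) * (d (k + l))⁻¹ := by
    have := congrArg (fun a : Additive c.Q => (a.toMul : G)) h3
    simpa [D, div_eq_mul_inv] using this
  have h5 : c.T α = c.S (α + k) * c.T (l - α) * c.S (α - (k + l)) := by
    have hT : c.T α = d 0 * (d α)⁻¹ * c.S α := by simp only [d, T, c.S_zero]; group
    have hla : c.S (l - α) = (c.S (α + k))⁻¹ * c.S (k + l) := by
      rw [← c.S_neg, ← c.S_add]; congr 1; ring
    have hlb : c.S (α - (k + l)) = (c.S (k + l))⁻¹ * c.S α := by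
      rw [← c.S_neg, ← c.S_add]; congr 1; ring
    rw [hT, h4, hlb]
    simp only [d, T, hla]; group
  by_cases hla : l - α = 0
  · rw [hla, c.T_zero, mul_one] at h5
    have h6 := c.eq_zero_of_T_mem_H (h5 ▸ mul_mem (c.S_mem_H _) (c.S_mem_H _))
    exact absurd (by linear_combination hla + h6) hl
  · obtain ⟨h7, h8, -⟩ := c.double_coset (c.S_mem_H _) (c.S_mem_H _) hla h5
    have h9 := c.S_mem_U h8
    linear_combination -h7 + 2 * h9

/-- Conjugation by `T a` on `U`. -/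
def τ (a : ZMod p) (v : G) : G := c.T a * v * (c.T a)⁻¹

theorem τ_mem (a : ZMod p) {v : G} (hv : v ∈ c.U) : c.τ a v ∈ c.U := conj_mem (c.T_mem_normalizer a) hv

theorem τ_pow (a : ZMod p) (v : G) (n : ℕ) : c.τ a (v ^ n) = c.τ a v ^ n := conj_pow.symm

theorem τ_eq_one {a : ZMod p} {v : G} : c.τ a v = 1 ↔ v = 1 := by
  rw [τ, mul_inv_eq_one, mul_eq_left]

/-- The main identity, read as a decomposition of `T k * S l * T k` in `H T(2k) H`. -/
theorem main_decomp {ζ σ D : G} (hζ : ζ ∈ c.U) (hσ : σ ∈ c.U) (hD : D ∈ c.U)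
    (hrel : 1 + c.ψ ζ = 2 * c.ψ σ) {k b l : ZMod p}
    (hl : -(algebraMap (ZMod p) F (k + b) + algebraMap (ZMod p) F (k - b) * c.ψ (c.τ b ζ))
      = algebraMap (ZMod p) F l * c.ψ D) :
    ∃ v ∈ c.U, ∃ h ∈ c.H, c.T k * c.S l * c.T k
      = c.x ((c.ψ (c.τ k D))⁻¹ * (-algebraMap (ZMod p) F b
          + c.ψ (c.τ (k + b) σ) * -algebraMap (ZMod p) F (k - b))) * v * c.T (k + k) * h := by
  set cc := k - b with hcc
  have hbc : k = b + cc := by rw [hcc]; ring
  set ξ := c.τ b ζ with hξ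
  set σ1 := c.τ (k + b) σ with hσ1
  set ρ1 := c.τ (-cc) (σ⁻¹ * ζ) with hρ1
  set D1 := c.τ k D with hD1
  set D2 := c.τ (-k) (D⁻¹ * ξ) with hD2
  have hξU : ξ ∈ c.U := c.τ_mem _ hζ
  have hσ1U : σ1 ∈ c.U := c.τ_mem _ hσ
  have hρ1U : ρ1 ∈ c.U := c.τ_mem _ (mul_mem (inv_mem hσ) hζ)
  have hD1U : D1 ∈ c.U := c.τ_mem _ hD
  have hD2U : D2 ∈ c.U := c.τ_mem _ (mul_mem (inv_mem hD) hξU)
  refine ⟨D1⁻¹ * σ1, mul_mem (inv_mem hD1U) hσ1U,
    (c.S (k + b))⁻¹ * ρ1 * c.S b * D2⁻¹, mul_mem (mul_mem (mul_mem (inv_mem (c.S_mem_H _))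
      (c.U_le_H hρ1U)) (c.S_mem_H _)) (inv_mem (c.U_le_H hD2U)), ?_⟩
  -- move `σ` past `S(-k) ζ S(-k)`
  have key1 : (c.S k)⁻¹ * ζ * (c.S k)⁻¹ = σ * (c.S (k + k))⁻¹ * (σ⁻¹ * ζ) := by
    simp only [S, ← c.x_neg]
    rw [mul_assoc, c.move_x hζ, ← mul_assoc, ← c.x_add, c.move_x hσ, mul_assoc,
      mul_inv_cancel_left, map_add]
    congr 2
    linear_combination (-algebraMap (ZMod p) F k) * hrel
  have key2 : (c.S (k + b))⁻¹ * ξ * (c.S cc)⁻¹ = D * c.S l * (D⁻¹ * ξ) := by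
    simp only [S, ← c.x_neg]
    rw [mul_assoc, c.move_x hξU, ← mul_assoc, ← c.x_add, c.move_x hD, mul_assoc,
      mul_inv_cancel_left]
    congr 2
    linear_combination hl
  -- the two evaluations
  have left : c.T k * (c.S (k + b))⁻¹ * c.T b * ζ * (c.S k)⁻¹ * c.T cc
      = (c.S b)⁻¹ * σ1 * (c.S cc)⁻¹ * c.T (k + k) * (c.S (k + b))⁻¹ * ρ1 := by
    have r2 := c.red (k + b) cc
    rw [show k + b + cc = k + k by rw [hcc]; ring] at r2
    calc c.T k * (c.S (k + b))⁻¹ * c.T b * ζ * (c.S k)⁻¹ * c.T cc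
        = (c.S b)⁻¹ * c.T (k + b) * ((c.S k)⁻¹ * ζ * (c.S k)⁻¹) * c.T cc := by
          rw [c.red k b]; group
      _ = (c.S b)⁻¹ * σ1 * (c.T (k + b) * (c.S (k + k))⁻¹ * c.T cc) * ρ1 := by
          rw [key1, hσ1, hρ1, τ, τ, c.T_neg]; group
      _ = _ := by rw [r2]; group
  have right : c.T k * (c.S (k + b))⁻¹ * c.T b * ζ * (c.S k)⁻¹ * c.T cc
      = D1 * (c.T k * c.S l * c.T k) * D2 * (c.S b)⁻¹ := by
    have r := c.red b cc
    rw [← hbc] at r
    calc c.T k * (c.S (k + b))⁻¹ * c.T b * ζ * (c.S k)⁻¹ * c.T cc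
        = c.T k * (c.S (k + b))⁻¹ * ξ * (c.T b * (c.S k)⁻¹ * c.T cc) := by
          rw [hξ, τ]; group
      _ = c.T k * ((c.S (k + b))⁻¹ * ξ * (c.S cc)⁻¹) * c.T k * (c.S b)⁻¹ := by rw [r]; group
      _ = _ := by rw [key2, hD1, hD2, τ, τ, c.T_neg]; group
  have hA : c.x ((c.ψ D1)⁻¹ * (-algebraMap (ZMod p) F b + c.ψ σ1 * -algebraMap (ZMod p) F cc))
      * (D1⁻¹ * σ1) = D1⁻¹ * ((c.S b)⁻¹ * σ1 * (c.S cc)⁻¹) := by
    simp only [S, ← c.x_neg]
    rw [mul_assoc (c.x _) σ1, c.move_x hσ1U, ← mul_assoc (c.x _) (c.x _), ← c.x_add,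
      ← mul_assoc D1⁻¹, c.move_x (inv_mem hD1U), c.ψ_inv hD1U, mul_assoc]
  rw [hA]
  have := right.symm.trans left
  have h2 := congrArg (fun g => D1⁻¹ * g * c.S b * D2⁻¹) this
  simpa [mul_assoc] using h2

/-- The key consequence. -/
theorem main_eq [Finite G] (h2 : (2 : ZMod p) ≠ 0) {ζ σ : G} (hζ : ζ ∈ c.U) (hσ : σ ∈ c.U)
    (hζ1 : ζ ≠ 1) (hrel : 1 + c.ψ ζ = 2 * c.ψ σ) {k : ZMod p} (hk : k ≠ 0) (b : ZMod p) :
    (algebraMap (ZMod p) F (k + b) + algebraMap (ZMod p) F (k - b) * c.ψ (c.τ b ζ)) ^ Nat.card c.U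
      = algebraMap (ZMod p) F (k + k) ^ Nat.card c.U := by
  have hchar : CharP F p := charP_of_injective_algebraMap (algebraMap (ZMod p) F).injective p
  have hkk : k + k ≠ 0 := by rw [← two_mul]; exact mul_ne_zero h2 hk
  have hfix : ∀ j : ZMod p, algebraMap (ZMod p) F j ^ p = algebraMap (ZMod p) F j := fun j => by
    rw [← map_pow, ZMod.pow_card]
  set ι := algebraMap (ZMod p) F with hι
  have hξU := c.τ_mem b hζ
  have hξfix : ∀ j : ZMod p, c.ψ (c.τ b ζ) ≠ ι j := by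
    intro j hj
    have hj0 : j ≠ 0 := fun h => c.ψ_ne _ hξU (by rw [hj, h, map_zero])
    have h1 : c.ψ (c.τ b ζ) ^ (p - 1) = 1 := by
      rw [hj, ← map_pow, ZMod.pow_card_sub_one_eq_one hj0, map_one]
    have h3 : c.τ b ζ ^ (p - 1) = 1 :=
      c.ψ_inj (pow_mem hξU _) c.U.one_mem (by rw [c.ψ_pow hξU, h1, c.ψ_one])
    exact hζ1 (c.τ_eq_one.mp
      (eq_one_of_pow_eq_one_coprime (pow_card_eq_one_of_mem hξU) h3 c.u_coprime'))
  set z := ι (k + b) + ι (k - b) * c.ψ (c.τ b ζ) with hz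
  have hz0 : z ≠ 0 := by
    intro h
    by_cases hkb : k - b = 0
    · rw [hz, hkb, map_zero, zero_mul, add_zero, map_eq_zero] at h
      exact hkk (by linear_combination h + hkb)
    · refine hξfix (-(k + b) / (k - b)) ?_
      have : ι (k - b) ≠ 0 := (map_ne_zero ι).mpr hkb
      rw [map_div₀, map_neg, eq_div_iff this]
      linear_combination h
  obtain ⟨l, hl0, D, hD, hlD⟩ := c.decomp (-z) (neg_ne_zero.mpr hz0)
  rw [← hι] at hlD
  -- the same with all elements replaced by their `p`th powers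
  have hlp : -(ι (k + b) + ι (k - b) * c.ψ (c.τ b (ζ ^ p))) = ι l * c.ψ (D ^ p) := by
    rw [c.τ_pow, c.ψ_pow hξU, c.ψ_pow hD]
    have h := congrArg (fun e => e ^ p) hlD
    simp only [mul_pow, hfix] at h
    rw [neg_pow, neg_one_pow_char] at h
    rw [hz, add_pow_char, mul_pow, hfix, hfix] at h
    linear_combination h
  have hrelp : 1 + c.ψ (ζ ^ p) = 2 * c.ψ (σ ^ p) := by
    rw [c.ψ_pow hζ, c.ψ_pow hσ]
    have h := congrArg (fun e => e ^ p) hrel
    simp only [add_pow_char, one_pow, mul_pow] at h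
    have h22 : (2 : F) ^ p = 2 := by
      have := hfix 2; rwa [map_ofNat] at this
    rwa [h22] at h
  obtain ⟨v, hv, g, hg, hX⟩ := c.main_decomp hζ hσ hD hrel hlD
  obtain ⟨v', hv', g', hg', hX'⟩ :=
    c.main_decomp (pow_mem hζ p) (pow_mem hσ p) (pow_mem hD p) hrelp hlp
  set A := (c.ψ (c.τ k D))⁻¹ * (-ι b + c.ψ (c.τ (k + b) σ) * -ι (k - b)) with hA
  have hAp : (c.ψ (c.τ k (D ^ p)))⁻¹ * (-ι b + c.ψ (c.τ (k + b) (σ ^ p)) * -ι (k - b)) = A ^ p := by
    rw [hA, mul_pow, add_pow_char, mul_pow, inv_pow, c.τ_pow, c.τ_pow, c.ψ_pow (c.τ_mem _ hD),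
      c.ψ_pow (c.τ_mem _ hσ), ← map_neg, ← map_neg, hfix, hfix]
  rw [hAp] at hX'
  -- uniqueness of the double coset forces `A` into the prime field
  have hAfix : A ^ p = A := by
    have h0 : c.T (k + k) = ((c.x A * v)⁻¹ * (c.x (A ^ p) * v')) * c.T (k + k) * (g' * g⁻¹) := by
      have h := congrArg (fun e => (c.x A * v)⁻¹ * e * g⁻¹) (hX.symm.trans hX')
      simpa [mul_assoc] using h
    obtain ⟨-, hU, -⟩ := c.double_coset (mul_mem (inv_mem (mul_mem (c.x_mem_H _) (c.U_le_H hv)))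
      (mul_mem (c.x_mem_H _) (c.U_le_H hv'))) (mul_mem hg' (inv_mem hg)) hkk h0
    have h1 : c.x (-A + A ^ p) ∈ c.U := by
      have := mul_mem (mul_mem hv hU) (inv_mem hv')
      rw [c.x_add, c.x_neg]
      simpa [mul_assoc] using this
    linear_combination c.x_mem_U h1
  have hbot := (Subfield.mem_bot_iff_pow_eq_self (p := p) (x := A)).mpr hAfix
  obtain ⟨a, ha⟩ : ∃ a : ZMod p, ι a = A := by
    have hr : (⊥ : Subfield F) ≤ ι.fieldRange := bot_le
    exact hr hbot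
  -- collect the factor in `U` on the right
  set g3 := c.τ (-(k + k)) v * g with hg3
  have hg3H : g3 ∈ c.H := mul_mem (c.U_le_H (c.τ_mem _ hv)) hg
  have hX3 : c.T k * c.S l * c.T k = c.S a * c.T (k + k) * g3 := by
    rw [hX, hg3, τ, c.T_neg, S, ha]; group
  have hg3e : g3 = c.S (l - a) := by
    refine mul_inv_eq_one.mp (c.eq_one_of_mem_H_Q (mul_mem hg3H (inv_mem (c.S_mem_H _))) ?_)
    have hN : ∀ i, c.S i ∈ normalizer (c.Q : Set G) := c.S_norm
    have hTQ : ∀ i, c.T i * (c.S i)⁻¹ ∈ c.Q := fun i => by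
      have : c.T i * (c.S i)⁻¹ = c.y * (c.S i * c.y⁻¹ * (c.S i)⁻¹) := by rw [T]; group
      rw [this]
      exact mul_mem c.y_mem (conj_mem (hN i) (inv_mem c.y_mem))
    have e3 : g3 = (c.T (k + k))⁻¹ * (c.S a)⁻¹ * (c.T k * c.S l * c.T k) := by rw [hX3]; group
    have e4 : g3 * (c.S (l - a))⁻¹ = (c.T (k + k) * (c.S (k + k))⁻¹ * c.S (k + k))⁻¹ * (c.S a)⁻¹ *
        ((c.T k * (c.S k)⁻¹) * c.S k * c.S l * (c.T k * (c.S k)⁻¹) * c.S k) * (c.S (l - a))⁻¹ := by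
      rw [e3]; group
    have e5 : ∀ m n : ZMod p, ∀ q ∈ c.Q, c.S m * q * c.S n = (c.S m * q * (c.S m)⁻¹) * c.S (m + n) :=
      fun m n q _ => by rw [c.S_add]; group
    rw [e4]
    set qa := c.T (k + k) * (c.S (k + k))⁻¹
    set qb := c.T k * (c.S k)⁻¹
    have eS : c.S (l - a) = (c.S (k + k))⁻¹ * (c.S a)⁻¹ * (c.S k * c.S l * c.S k) := by
      simp only [← c.S_neg, ← c.S_add]; congr 1; ring
    have e6 : (qa * c.S (k + k))⁻¹ * (c.S a)⁻¹ * (qb * c.S k * c.S l * qb * c.S k) * (c.S (l - a))⁻¹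
        = ((c.S (k + k))⁻¹ * qa⁻¹ * c.S (k + k))
          * ((c.S (a + (k + k)))⁻¹ * qb * c.S (a + (k + k)))
          * ((c.S (a + (k + k)))⁻¹ * (c.S (k + l) * qb * (c.S (k + l))⁻¹) * c.S (a + (k + k))) := by
      rw [eS, c.S_add a, c.S_add k l]; group
    rw [e6]
    exact mul_mem (mul_mem (conj_mem' (hN _) (inv_mem (hTQ _))) (conj_mem' (hN _) (hTQ _)))
      (conj_mem' (hN _) (conj_mem (hN _) (hTQ _)))
  rw [hg3e] at hX3
  have hl2 := c.module_lemma h2 hk hl0 hX3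
  rw [hl2, map_neg, neg_mul, neg_inj] at hlD
  rw [hlD, mul_pow, c.ψ_pow_card hD, mul_one]

end Config

open Polynomial in
/-- The polynomial argument ending the proof. -/
theorem prime_le_of_pow_eq {q : ℕ} [Fintype F] {X' : F} (hX1 : X' ≠ 1)
    (hq : 0 < q) {u : ℕ} (hu : u = ∑ i ∈ Finset.range q, p ^ i) (C2 : F)
    (h : ∀ e : ZMod p, e ≠ 0 →
      ((1 + algebraMap (ZMod p) F e) + (1 - algebraMap (ZMod p) F e) * X') ^ u = C2) :
    p - 1 ≤ q := by
  classical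
  have hchar : CharP F p := charP_of_injective_algebraMap (algebraMap (ZMod p) F).injective p
  set ι := algebraMap (ZMod p) F with hι
  let L : ℕ → F[X] := fun i => C (1 - X' ^ p ^ i) * X + C (1 + X' ^ p ^ i)
  have hne : ∀ i, 1 - X' ^ p ^ i ≠ 0 := by
    intro i h
    have : (X' - 1) ^ p ^ i = 0 := by
      rw [sub_pow_char_pow, one_pow, ← neg_eq_zero]; linear_combination h
    exact hX1 (sub_eq_zero.mp (eq_zero_of_pow_eq_zero this))
  have hdegL : ∀ i, (L i).natDegree = 1 := fun i => natDegree_linear (hne i)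
  set f : F[X] := ∏ i ∈ Finset.range q, L i - C C2 with hf
  have hdeg : f.natDegree = q := by
    rw [hf, natDegree_sub_C, natDegree_prod _ _ (fun i _ h => by
      have := hdegL i; rw [h, natDegree_zero] at this; exact zero_ne_one this)]
    simp [hdegL]
  have hf0 : f ≠ 0 := fun h => by rw [h, natDegree_zero] at hdeg; omega
  have hroots : ∀ e : ZMod p, e ≠ 0 → f.eval (ι e) = 0 := by
    intro e he
    have hfix : ∀ i, ι e ^ p ^ i = ι e := fun i => by rw [← map_pow, ZMod.pow_card_pow]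
    rw [hf, eval_sub, eval_C, eval_prod, sub_eq_zero, ← h e he, hu, ← Finset.prod_pow_eq_pow_sum]
    refine Finset.prod_congr rfl fun i _ => ?_
    simp only [L, eval_add, eval_mul, eval_C, eval_X, add_pow_char_pow, sub_pow_char_pow, mul_pow,
      one_pow, hfix]
    ring
  have hsub : (Finset.univ.filter fun e : ZMod p => e ≠ 0).image ι ⊆ f.roots.toFinset := by
    intro z hz
    obtain ⟨e, he, rfl⟩ := Finset.mem_image.mp hz
    exact Multiset.mem_toFinset.mpr (mem_roots'.mpr ⟨hf0, hroots e (Finset.mem_filter.mp he).2⟩)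
  have hcard : ((Finset.univ.filter fun e : ZMod p => e ≠ 0).image ι).card = p - 1 := by
    rw [Finset.card_image_of_injective _ ι.injective, Finset.filter_ne', Finset.card_erase_of_mem
      (Finset.mem_univ _), Finset.card_univ, ZMod.card]
  calc p - 1 = _ := hcard.symm
    _ ≤ f.roots.toFinset.card := Finset.card_le_card hsub
    _ ≤ Multiset.card f.roots := Multiset.toFinset_card_le _
    _ ≤ f.natDegree := card_roots' f
    _ = q := hdeg

end CfsgLib.OddLocal.FinalField
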