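import Mathlib
import Cfsg.Agent.Lib.Core.Basic

/-!
Components of an abelian group under an elementary abelian operator group, and their translates.
-/

set_option autoImplicit false

namespace CfsgLib.OddLocal.FixedComponents

open Subgroup
open scoped Pointwise

/-- Two commuting fixed point free automorphisms of the same prime order. -/
theorem eq_one_of_commute {U : Type*} [CommGroup U] {q : ℕ} (hq : q.Prime) (α β : MulAut U)
    (hc : Commute α β) (hα : α ^ q = 1) (hβ : β ^ q = 1) (hcop : ∀ u : U, u ^ q = 1 → u = 1)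
    (hfαβ : ∀ (j : ℕ) (u : U), (α * β ^ j) u = u → u = 1) (hfβ : ∀ u, β u = u → u = 1) (v : U) : v = 1 := by
  have hN : ∀ γ : MulAut U, γ ^ q = 1 → (∀ u, γ u = u → u = 1) → ∀ w, ∏ i ∈ Finset.range q, (γ ^ i) w = 1 := by
    intro γ hγ hf w
    refine hf _ ?_
    rw [map_prod]
    have h1 := Finset.prod_range_succ (fun i => (γ ^ i) w) q
    rw [Finset.prod_range_succ', hγ, pow_zero] at h1
    have h2 := mul_right_cancel h1
    simpa [pow_succ', MulAut.mul_apply] using h2
  have h0 : ∏ j ∈ Finset.range q, ∏ i ∈ Finset.range q, ((α * β ^ j) ^ i) v = 1 :=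
    Finset.prod_eq_one fun j _ => hN _ (by rw [(hc.pow_right j).mul_pow, hα, ← pow_mul, mul_comm, pow_mul,
      hβ, one_pow, one_mul]) (hfαβ j) v
  rw [Finset.prod_comm, Finset.prod_eq_single 0] at h0
  · simp only [pow_zero, MulAut.one_apply, Finset.prod_const, Finset.card_range] at h0
    exact hcop v h0
  · intro i hi hi0
    have hiq : i < q := Finset.mem_range.1 hi
    have hcop' : i.Coprime q := ((hq.coprime_iff_not_dvd).2 fun h => absurd (Nat.le_of_dvd (by omega) h) (by omega)).symm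
    obtain ⟨k, hk⟩ := Nat.exists_mul_mod_eq_one_of_coprime hcop' hq.one_lt
    have hgen : (β ^ i) ^ k = β := by
      rw [← pow_mul, pow_eq_pow_mod _ hβ, hk.2, pow_one]
    have hfi : ∀ u, (β ^ i) u = u → u = 1 := by
      intro u hu
      refine hfβ u ?_
      rw [← hgen]
      generalize k = m
      induction m with
      | zero => simp
      | succ m ih => rw [pow_succ, MulAut.mul_apply, hu, ih]
    have hi' := hN (β ^ i) (by rw [← pow_mul, mul_comm, pow_mul, hβ, one_pow]) hfi v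
    rw [← map_one (α ^ i : MulAut U), ← hi', map_prod]
    refine Finset.prod_congr rfl fun j _ => ?_
    rw [(hc.pow_right j).mul_pow, MulAut.mul_apply, ← pow_mul, ← pow_mul, mul_comm j i]
  · intro h
    exact absurd (Finset.mem_range.2 hq.pos) h

/-- A normalised automorphism of prime order without fixed points. -/
theorem eq_one_of_semidirect {U : Type*} [CommGroup U] {q r : ℕ} (hq : q.Prime) [hr : Fact r.Prime]
    (β γ : MulAut U) (n : ℕ) (hβ : β ^ q = 1) (hγ : γ ^ r = 1) (hconj : γ * β * γ⁻¹ = β ^ n)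
    (hn : ((n : ZMod q)) ≠ 1) (hcop : ∀ u : U, u ^ q = 1 → u = 1)
    (hfβ : ∀ u, β u = u → u = 1) (hfγ : ∀ u, γ u = u → u = 1) (v : U) : v = 1 := by
  have := Fact.mk hq
  by_contra hv
  have hβ1 : β ≠ 1 := fun h => hv (hfβ v (by rw [h, MulAut.one_apply]))
  have hord : orderOf β = q := orderOf_eq_prime hβ hβ1
  have hpow : ∀ i k : ℕ, γ ^ i * β ^ k = β ^ (k * n ^ i) * γ ^ i := by
    intro i
    induction i with
    | zero => simp
    | succ i ih =>
      intro k
      have h1 : γ * β ^ (k * n ^ i) = β ^ (k * n ^ (i + 1)) * γ := by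
        rw [← mul_inv_eq_iff_eq_mul, ← conj_pow, hconj, ← pow_mul]
        ring_nf
      rw [pow_succ' γ, mul_assoc, ih, ← mul_assoc, h1, mul_assoc]
  have hnr : ((n : ZMod q)) ^ r = 1 := by
    have h1 := hpow r 1
    rw [hγ, one_mul, mul_one, pow_one, one_mul] at h1
    have h2 : β ^ (n ^ r) = β ^ 1 := by rw [pow_one]; exact h1.symm
    rw [pow_eq_pow_iff_modEq, hord, ← ZMod.natCast_eq_natCast_iff] at h2
    simpa using h2
  have hnord : orderOf (n : ZMod q) = r := orderOf_eq_prime hnr hn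
  have hN : ∀ w : U, ∏ i ∈ Finset.range r, (γ ^ i) w = 1 := by
    intro w
    refine hfγ _ ?_
    rw [map_prod]
    have h1 := Finset.prod_range_succ (fun i => (γ ^ i) w) r
    rw [Finset.prod_range_succ', hγ, pow_zero] at h1
    have h2 := mul_right_cancel h1
    simpa [pow_succ', MulAut.mul_apply] using h2
  have hM : ∀ δ : MulAut U, δ ^ q = 1 → (∀ u, δ u = u → u = 1) → ∀ w, ∏ k ∈ Finset.range q, (δ ^ k) w = 1 := by
    intro δ hδ hf w
    refine hf _ ?_
    rw [map_prod]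
    have h1 := Finset.prod_range_succ (fun i => (δ ^ i) w) q
    rw [Finset.prod_range_succ', hδ, pow_zero] at h1
    have h2 := mul_right_cancel h1
    simpa [pow_succ', MulAut.mul_apply] using h2
  have h0 : ∏ k ∈ Finset.range q, ((β ^ k)⁻¹) (∏ i ∈ Finset.range r, (γ ^ i) ((β ^ k) v)) = 1 :=
    Finset.prod_eq_one fun k _ => by rw [hN, map_one]
  simp only [map_prod] at h0
  rw [Finset.prod_comm, Finset.prod_eq_single 0] at h0
  · simp only [pow_zero, ← MulAut.mul_apply, one_mul, inv_mul_cancel, MulAut.one_apply, Finset.prod_const,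
      Finset.card_range] at h0
    exact hv (hcop v h0)
  · intro i hi hi0
    have hne : ((n : ZMod q)) ^ i ≠ 1 :=
      pow_ne_one_of_lt_orderOf hi0 (hnord.symm ▸ Finset.mem_range.1 hi)
    set e : ℕ := ((n : ZMod q) ^ i - 1).val with he
    have hecast : (e : ZMod q) = (n : ZMod q) ^ i - 1 := ZMod.natCast_zmod_val _
    have he0 : ¬ q ∣ e := fun h => hne (sub_eq_zero.1 (hecast ▸ (ZMod.natCast_eq_zero_iff e q).2 h))
    have hδq : (β ^ e) ^ q = 1 := by rw [← pow_mul, mul_comm, pow_mul, hβ, one_pow]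
    have hδf : ∀ u, (β ^ e) u = u → u = 1 := by
      intro u hu
      obtain ⟨k, hk⟩ := Nat.exists_mul_mod_eq_one_of_coprime
        ((hq.coprime_iff_not_dvd).2 he0).symm hq.one_lt
      refine hfβ u ?_
      rw [← show (β ^ e) ^ k = β by rw [← pow_mul, pow_eq_pow_mod _ hβ, hk.2, pow_one]]
      generalize k = m
      induction m with
      | zero => simp
      | succ m ih => rw [pow_succ, MulAut.mul_apply, hu, ih]
    rw [← hM (β ^ e) hδq hδf ((γ ^ i) v)]
    refine Finset.prod_congr rfl fun k _ => ?_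
    rw [← MulAut.mul_apply, ← MulAut.mul_apply, ← MulAut.mul_apply, mul_assoc, hpow, ← mul_assoc, ← pow_mul]
    congr 2
    rw [inv_mul_eq_iff_eq_mul, ← pow_add, pow_eq_pow_iff_modEq, hord, ← ZMod.natCast_eq_natCast_iff]
    push_cast
    rw [hecast]
    ring
  · intro h
    exact absurd (Finset.mem_range.2 hr.out.pos) h

variable {A W : Type*} [Group A] [CommGroup W] (ψ : A →* MulAut W)

/-- The common fixed points of a set of operators. -/
def fixed (H : Subgroup A) : Subgroup W where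
  carrier := {u | ∀ h ∈ H, ψ h u = u}
  one_mem' h _ := map_one (ψ h)
  mul_mem' {u v} hu hv h hh := by rw [map_mul, hu h hh, hv h hh]
  inv_mem' {u} hu h hh := by rw [map_inv, hu h hh]

/-- The operators fixing one element. -/
def fixer (u : W) : Subgroup A where
  carrier := {a | ψ a u = u}
  one_mem' := by simp
  mul_mem' {a b} (ha : ψ a u = u) (hb : ψ b u = u) := by
    show ψ (a * b) u = u
    rw [map_mul, MulAut.mul_apply, hb, ha]
  inv_mem' {a} (ha : ψ a u = u) := by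
    show ψ a⁻¹ u = u
    conv_lhs => rw [← ha]
    rw [← MulAut.mul_apply, ← map_mul, inv_mul_cancel, map_one, MulAut.one_apply]

variable {ψ}

theorem mem_fixed {H : Subgroup A} {u : W} : u ∈ fixed ψ H ↔ H ≤ fixer ψ u := Iff.rfl

theorem fixed_anti {H K : Subgroup A} (h : H ≤ K) : fixed ψ K ≤ fixed ψ H := fun _ hu =>
  mem_fixed.2 (h.trans (mem_fixed.1 hu))

theorem fixed_sup {H K : Subgroup A} {u : W} (h₁ : u ∈ fixed ψ H) (h₂ : u ∈ fixed ψ K) :
    u ∈ fixed ψ (H ⊔ K) := mem_fixed.2 (sup_le (mem_fixed.1 h₁) (mem_fixed.1 h₂))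

theorem mem_fixed_zpowers {a : A} {u : W} (h : ψ a u = u) : u ∈ fixed ψ (zpowers a) :=
  mem_fixed.2 (zpowers_le.2 h)

/-- The translate of a subgroup. -/
def cj (a : A) (H : Subgroup A) : Subgroup A := MulAut.conj a • H

theorem mem_cj {a : A} {H : Subgroup A} {x : A} : x ∈ cj a H ↔ a⁻¹ * x * a ∈ H := by
  rw [cj, mem_pointwise_smul_iff_inv_smul_mem]
  simp

theorem cj_mul (a b : A) (H : Subgroup A) : cj (a * b) H = cj a (cj b H) := by
  rw [cj, cj, cj, map_mul, mul_smul]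

theorem cj_one (H : Subgroup A) : cj 1 H = H := by rw [cj, map_one, one_smul]

theorem card_cj (a : A) (H : Subgroup A) : Nat.card (cj a H) = Nat.card H :=
  (Nat.card_congr (Subgroup.equivSMul (MulAut.conj a) H).toEquiv).symm

theorem cj_le {a : A} {H Z : Subgroup A} (h : H ≤ Z) (ha : a ∈ normalizer (Z : Set A)) : cj a H ≤ Z := by
  intro x hx
  have := (mem_normalizer_iff.1 ha _).1 (h (mem_cj.1 hx))
  simpa [mul_assoc] using this

theorem apply_mem_fixed (a : A) {H : Subgroup A} {u : W} (hu : u ∈ fixed ψ H) :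
    ψ a u ∈ fixed ψ (cj a H) := by
  intro x hx
  have h1 := hu _ (mem_cj.1 hx)
  rw [map_mul, map_mul, MulAut.mul_apply, MulAut.mul_apply, map_inv] at h1
  simpa using congrArg (ψ a) h1

/-- Conjugation preserves fixed points. -/
theorem card_fixed_cj [Finite W] (a : A) (H : Subgroup A) : Nat.card (fixed ψ (cj a H)) = Nat.card (fixed ψ H) := by
  refine le_antisymm ?_ ?_
  · refine Nat.card_le_card_of_injective (fun u : fixed ψ (cj a H) => (⟨ψ a⁻¹ u, ?_⟩ : fixed ψ H)) fun u v h => ?_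
    · have := apply_mem_fixed a⁻¹ u.2
      rwa [← cj_mul, inv_mul_cancel, cj_one] at this
    · exact Subtype.ext ((ψ a⁻¹).injective (congrArg Subtype.val h))
  · exact Nat.card_le_card_of_injective (fun u : fixed ψ H => (⟨ψ a u, apply_mem_fixed a u.2⟩ : fixed ψ (cj a H)))
      fun u v h => Subtype.ext ((ψ a).injective (congrArg Subtype.val h))

variable [Finite A]

variable (ψ) in
/-- The norm of an element over a group of operators. -/
noncomputable def nrm (H : Subgroup A) : W →* W :=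
  letI := Fintype.ofFinite H
  MonoidHom.mk' (fun u => ∏ h : H, ψ h u) fun u v => by simp [map_mul, Finset.prod_mul_distrib]

theorem nrm_self {H : Subgroup A} {u : W} (hu : u ∈ fixed ψ H) : nrm ψ H u = u ^ Nat.card H := by
  let := Fintype.ofFinite H
  show ∏ h : H, ψ h u = _
  rw [Finset.prod_congr rfl fun (x : H) _ => hu x x.2, Finset.prod_const, Finset.card_univ, Nat.card_eq_fintype_card]

theorem nrm_mem (H : Subgroup A) (u : W) : nrm ψ H u ∈ fixed ψ H := by
  let := Fintype.ofFinite H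
  intro h hh
  show ψ h (∏ x : H, ψ x u) = ∏ x : H, ψ x u
  rw [map_prod]
  exact Fintype.prod_equiv (Equiv.mulLeft (⟨h, hh⟩ : H)) _ _ fun x => by
    simp [MulAut.mul_apply]

theorem nrm_mem_of_commute {H : Subgroup A} {u : W} {K : Subgroup A} (hc : ∀ k ∈ K, ∀ h ∈ H, k * h = h * k)
    (hu : u ∈ fixed ψ K) : nrm ψ H u ∈ fixed ψ K := by
  let := Fintype.ofFinite H
  intro k hk
  show ψ k (∏ x : H, ψ x u) = ∏ x : H, ψ x u
  rw [map_prod]
  refine Finset.prod_congr rfl fun x _ => ?_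
  rw [← MulAut.mul_apply, ← map_mul, hc k hk x x.2, map_mul, MulAut.mul_apply, hu k hk]

/-- Subgroups of index `q`. -/
def IsHyper (Z : Subgroup A) (q : ℕ) (H : Subgroup A) : Prop := H ≤ Z ∧ Nat.card H * q = Nat.card Z

variable {q : ℕ} (hq : q.Prime) {Z : Subgroup A}

omit [Finite A] in
theorem IsHyper.cj {H : Subgroup A} (h : IsHyper Z q H) {a : A} (ha : a ∈ normalizer (Z : Set A)) :
    IsHyper Z q (cj a H) := ⟨cj_le h.1 ha, by rw [card_cj]; exact h.2⟩

include hq in
theorem IsHyper.sup_eq {H K : Subgroup A} (h : IsHyper Z q H) (hk : IsHyper Z q K) (hne : H ≠ K) : H ⊔ K = Z := by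
  have hlt : H < H ⊔ K := by
    refine lt_of_le_of_ne le_sup_left fun he => hne (eq_of_le_of_card_ge ?_ ?_).symm
    · exact le_sup_right.trans he.ge
    · exact (Nat.eq_of_mul_eq_mul_right hq.pos (h.2.trans hk.2.symm)).le
  refine eq_of_le_of_card_ge (sup_le h.1 hk.1) ?_
  obtain ⟨c, hc⟩ := card_dvd_of_le hlt.le
  have hcq : c ∣ q := (Nat.mul_dvd_mul_iff_left (Nat.card_pos (α := H))).1
    (hc ▸ h.2.symm ▸ card_dvd_of_le (sup_le h.1 hk.1))
  rcases (Nat.dvd_prime hq).1 hcq with rfl | rfl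
  · exact absurd (eq_of_le_of_card_ge hlt.le (by rw [hc, mul_one])) hlt.ne
  · rw [hc, h.2]

include hq in
theorem eq_one_of_two (hfix : fixed ψ Z = ⊥) {H K : Subgroup A} (h : IsHyper Z q H) (hk : IsHyper Z q K)
    (hne : H ≠ K) {u : W} (h₁ : u ∈ fixed ψ H) (h₂ : u ∈ fixed ψ K) : u = 1 := by
  have := fixed_sup h₁ h₂
  rwa [h.sup_eq hq hk hne, hfix, mem_bot] at this

include hq in
theorem nrm_other (hfix : fixed ψ Z = ⊥) (hZc : ∀ a ∈ Z, ∀ b ∈ Z, a * b = b * a) {H K : Subgroup A}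
    (h : IsHyper Z q H) (hk : IsHyper Z q K) (hne : H ≠ K) {u : W} (hu : u ∈ fixed ψ K) : nrm ψ H u = 1 :=
  eq_one_of_two hq hfix h hk hne (nrm_mem H u)
    (nrm_mem_of_commute (fun k hk' x hx => hZc k (hk.1 hk') x (h.1 hx)) hu)

include hq in
/-- An elementary group of operators has a component in each invariant subgroup. -/
theorem exists_component [Finite W] (hZc : ∀ a ∈ Z, ∀ b ∈ Z, a * b = b * a) (hZq : ∀ z ∈ Z, z ^ q = 1)
    (hcop : ∀ u : W, u ^ q = 1 → u = 1) (hfix : fixed ψ Z = ⊥) (U : Subgroup W) (hU : U ≠ ⊥)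
    (hUZ : ∀ z ∈ Z, ∀ u ∈ U, ψ z u ∈ U) : ∃ H, IsHyper Z q H ∧ U ⊓ fixed ψ H ≠ ⊥ := by
  have := Fact.mk hq
  obtain ⟨H, -, ⟨hHZ, hH1⟩, hmax⟩ := (Set.toFinite {H : Subgroup A | H ≤ Z ∧ U ⊓ fixed ψ H ≠ ⊥}).exists_le_maximal
    (a := (⊥ : Subgroup A)) ⟨bot_le, by
      rwa [show fixed ψ (⊥ : Subgroup A) = ⊤ from eq_top_iff.2 fun u _ h hh => by
        rw [mem_bot.1 hh, map_one, MulAut.one_apply], inf_top_eq]⟩
  refine ⟨H, ⟨hHZ, ?_⟩, hH1⟩
  obtain ⟨a, haZ, haH⟩ : ∃ a ∈ Z, a ∉ H := SetLike.not_le_iff_exists.1 fun h => hH1 (by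
    rw [le_antisymm hHZ h, hfix, inf_bot_eq])
  have hnot : ∀ z ∈ Z, z ∉ H → ∀ u ∈ U ⊓ fixed ψ H, ψ z u = u → u = 1 := by
    intro z hz hzH u hu hzu
    by_contra hu1
    have hne : U ⊓ fixed ψ (H ⊔ zpowers z) ≠ ⊥ := fun h => hu1 (mem_bot.1 (h ▸
      ⟨hu.1, fixed_sup hu.2 (mem_fixed_zpowers hzu)⟩))
    exact hzH (hmax ⟨sup_le hHZ (zpowers_le.2 hz), hne⟩ le_sup_left
      (le_sup_right (α := Subgroup A) (mem_zpowers z)))
  have hZ : IsPGroup q Z := fun z => ⟨1, Subtype.ext (by rw [pow_one]; exact hZq z z.2)⟩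
  by_cases hK : H ⊔ zpowers a = Z
  · have hn : zpowers a ≤ normalizer (H : Set A) := zpowers_le.2 (mem_normalizer_iff.2 fun x =>
      ⟨fun hx => by rwa [hZc a haZ x (hHZ hx), mul_inv_cancel_right],
        fun hx => by
          have h2 := hZc a⁻¹ (inv_mem haZ) _ (hHZ hx)
          rw [show a⁻¹ * (a * x * a⁻¹) = x * a⁻¹ by group] at h2
          rwa [← mul_right_cancel h2] at hx⟩)
    have hdis : H ⊓ zpowers a = ⊥ := by
      refine eq_bot_iff.2 fun x hx => mem_bot.2 ?_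
      by_contra hx1
      obtain ⟨k, rfl⟩ := mem_powers_iff_mem_zpowers.2 hx.2
      by_cases hkq : q ∣ k
      · obtain ⟨c, rfl⟩ := hkq
        exact hx1 (by show a ^ (q * c) = 1; rw [pow_mul, hZq a haZ, one_pow])
      · obtain ⟨c, hc⟩ := Nat.exists_mul_mod_eq_one_of_coprime ((hq.coprime_iff_not_dvd).2 hkq).symm hq.one_lt
        refine haH ?_
        rw [show a = (a ^ k) ^ c by rw [← pow_mul, pow_eq_pow_mod _ (hZq a haZ), hc.2, pow_one]]
        exact pow_mem hx.1 c
    rw [← hK, sup_comm, CfsgLib.Core.card_sup_of_disjoint (zpowers a) H hn (by rwa [inf_comm]), Nat.card_zpowers, mul_comm (orderOf a),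
      orderOf_eq_prime (hZq a haZ) fun h => haH (h ▸ one_mem H)]
  obtain ⟨b, hbZ, hbK⟩ : ∃ b ∈ Z, b ∉ H ⊔ zpowers a := SetLike.not_le_iff_exists.1 fun h =>
    hK (le_antisymm (sup_le hHZ (zpowers_le.2 haZ)) h)
  let Φ : Z →* MulAut ↥(U ⊓ fixed ψ H : Subgroup W) :=
    { toFun := fun z =>
        { toFun := fun u => ⟨ψ z u, hUZ z z.2 u u.2.1, fun h hh => by
            rw [← MulAut.mul_apply, ← map_mul, hZc h (hHZ hh) z z.2, map_mul, MulAut.mul_apply, u.2.2 h hh]⟩
          invFun := fun u => ⟨ψ (z : A)⁻¹ u, hUZ _ (inv_mem z.2) u u.2.1, fun h hh => by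
            rw [← MulAut.mul_apply, ← map_mul, hZc h (hHZ hh) _ (inv_mem z.2), map_mul, MulAut.mul_apply,
              u.2.2 h hh]⟩
          left_inv := fun u => Subtype.ext (by simp)
          right_inv := fun u => Subtype.ext (by simp)
          map_mul' := fun u v => Subtype.ext (map_mul (ψ z) (u : W) (v : W)) }
      map_one' := MulEquiv.ext fun u => Subtype.ext (show ψ 1 (u : W) = u by simp)
      map_mul' := fun y z => MulEquiv.ext fun u => Subtype.ext
        (show ψ ((y : A) * z) (u : W) = ψ y (ψ z u) by simp) }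
  refine absurd ((eq_bot_iff_forall _).2 fun u hu => ?_) hH1
  refine congrArg Subtype.val (eq_one_of_commute hq (Φ ⟨a, haZ⟩) (Φ ⟨b, hbZ⟩)
    ((show Commute (⟨a, haZ⟩ : Z) ⟨b, hbZ⟩ from Subtype.ext (hZc a haZ b hbZ)).map Φ)
    (by rw [← map_pow, show (⟨a, haZ⟩ : Z) ^ q = 1 from Subtype.ext (hZq a haZ), map_one])
    (by rw [← map_pow, show (⟨b, hbZ⟩ : Z) ^ q = 1 from Subtype.ext (hZq b hbZ), map_one])
    (fun v hv => Subtype.ext (hcop v (congrArg Subtype.val hv)))
    (fun j v hv => Subtype.ext (hnot (a * b ^ j) (mul_mem haZ (pow_mem hbZ j)) (fun h => ?_) v v.2 (by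
      rw [← map_pow, ← map_mul] at hv
      exact congrArg Subtype.val hv)))
    (fun v hv => Subtype.ext (hnot b hbZ (fun h => hbK (le_sup_left (α := Subgroup A) h)) v v.2
      (congrArg Subtype.val hv))) (⟨u, hu⟩ : ↥(U ⊓ fixed ψ H)))
  -- `a * b ^ j ∈ H`
  have hj : b ^ j ∈ H ⊔ zpowers a := by
    rw [show b ^ j = a⁻¹ * (a * b ^ j) by group]
    exact mul_mem (inv_mem (le_sup_right (α := Subgroup A) (mem_zpowers a))) (le_sup_left (α := Subgroup A) h)
  by_cases hjq : q ∣ j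
  · obtain ⟨c, rfl⟩ := hjq
    rw [pow_mul, hZq b hbZ, one_pow, mul_one] at h
    exact haH h
  · obtain ⟨k, hk⟩ := Nat.exists_mul_mod_eq_one_of_coprime ((hq.coprime_iff_not_dvd).2 hjq).symm hq.one_lt
    refine hbK ?_
    rw [show b = (b ^ j) ^ k by rw [← pow_mul, pow_eq_pow_mod _ (hZq b hbZ), hk.2, pow_one]]
    exact pow_mem hj k

include hq in
/-- A moved subgroup has fixed points no more than the moving operator. -/
theorem card_le_of_moved [Finite W] {r : ℕ} [hr : Fact r.Prime] {σ : A} (hσ : σ ^ r = 1)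
    (hσZ : σ ∈ normalizer (Z : Set A)) (hfix : fixed ψ Z = ⊥) (hZc : ∀ a ∈ Z, ∀ b ∈ Z, a * b = b * a)
    (hcop : ∀ u : W, u ^ Nat.card Z = 1 → u = 1) {H : Subgroup A} (hH : IsHyper Z q H) (hmv : cj σ H ≠ H) :
    Nat.card (fixed ψ H) ≤ Nat.card (fixed ψ (zpowers σ)) ∧
      ∀ K, IsHyper Z q K → cj σ K ≠ K → fixed ψ H ≠ ⊥ → fixed ψ K ≠ ⊥ →
        (Nat.card (fixed ψ (zpowers σ))).Prime ∨ Nat.card (fixed ψ (zpowers σ)) ≤ 1 → ∃ i < r, K = cj (σ ^ i) H := by
  have hcop' : ∀ (K : Subgroup A), IsHyper Z q K → ∀ u : W, u ^ Nat.card K = 1 → u = 1 := fun K hK u hu =>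
    hcop u (by rw [← hK.2, pow_mul, hu, one_pow])
  let N : W →* W := MonoidHom.mk' (fun u => ∏ i ∈ Finset.range r, ψ (σ ^ i) u) fun u v => by
    simp [map_mul, Finset.prod_mul_distrib]
  have hNfix : ∀ u, N u ∈ fixed ψ (zpowers σ) := by
    intro u
    refine mem_fixed_zpowers ?_
    show ψ σ (∏ i ∈ Finset.range r, ψ (σ ^ i) u) = ∏ i ∈ Finset.range r, ψ (σ ^ i) u
    rw [map_prod]
    have h1 := Finset.prod_range_succ (fun i => ψ (σ ^ i) u) r
    rw [Finset.prod_range_succ', hσ, pow_zero] at h1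
    have h2 := mul_right_cancel h1
    simpa [pow_succ', MulAut.mul_apply] using h2
  have hhyp : ∀ (K : Subgroup A), IsHyper Z q K → ∀ i : ℕ, IsHyper Z q (cj (σ ^ i) K) :=
    fun K hK i => hK.cj (pow_mem hσZ i)
  have hne : ∀ K : Subgroup A, cj σ K ≠ K → ∀ i, i < r → i ≠ 0 → cj (σ ^ i) K ≠ K := by
    intro K hK i hi hi0 he
    obtain ⟨k, hk⟩ := Nat.exists_mul_mod_eq_one_of_coprime
      ((hr.out.coprime_iff_not_dvd).2 fun h => absurd (Nat.le_of_dvd (Nat.pos_of_ne_zero hi0) h) (not_le.2 hi)).symm hr.out.one_lt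
    refine hK ?_
    rw [show σ = (σ ^ i) ^ k by rw [← pow_mul, pow_eq_pow_mod _ hσ, hk.2, pow_one]]
    generalize k = m
    induction m with
    | zero => rw [pow_zero, cj_one]
    | succ m ih => rw [pow_succ, cj_mul, he, ih]
  have hT : ∀ (K : Subgroup A), IsHyper Z q K → cj σ K ≠ K → ∀ u ∈ fixed ψ K,
      nrm ψ K (N u) = u ^ Nat.card K := by
    intro K hK hKm u hu
    show nrm ψ K (∏ i ∈ Finset.range r, ψ (σ ^ i) u) = _
    rw [map_prod, Finset.prod_eq_single 0, pow_zero, map_one, MulAut.one_apply, nrm_self hu]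
    · exact fun i hi hi0 => nrm_other hq hfix hZc hK (hhyp K hK i)
        (Ne.symm (hne K hKm i (Finset.mem_range.1 hi) hi0)) (apply_mem_fixed _ hu)
    · exact fun h => absurd (Finset.mem_range.2 hr.out.pos) h
  have hinj : ∀ (K : Subgroup A), IsHyper Z q K → cj σ K ≠ K → ∀ u ∈ fixed ψ K, N u = 1 → u = 1 := by
    intro K hK hKm u hu h1
    exact hcop' K hK u (by rw [← hT K hK hKm u hu, h1, map_one])
  refine ⟨Nat.card_le_card_of_injective (fun u : fixed ψ H => (⟨N u, hNfix u⟩ : fixed ψ (zpowers σ)))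
    fun u v huv => Subtype.ext (mul_inv_eq_one.1 (hinj H hH hmv _ (mul_mem u.2 (inv_mem v.2)) ?_)), ?_⟩
  · rw [map_mul, map_inv, show N u = N v from congrArg Subtype.val huv, mul_inv_cancel]
  intro K hK hKm hH1 hK1 hcard
  by_contra! hno
  obtain ⟨⟨u, hu⟩, hu1⟩ := (ne_bot_iff_exists_ne_one).1 hH1
  obtain ⟨⟨v, hv⟩, hv1⟩ := (ne_bot_iff_exists_ne_one).1 hK1
  have hu1' : u ≠ 1 := fun h => hu1 (Subtype.ext h)
  have hne1 : (⟨N u, hNfix u⟩ : fixed ψ (zpowers σ)) ≠ 1 := fun h =>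
    hu1' (hinj H hH hmv u hu (congrArg Subtype.val h))
  rcases hcard with hp | hle
  · have := Fact.mk hp
    obtain ⟨k, hk⟩ := Submonoid.mem_powers_iff _ _ |>.1
      (mem_powers_of_prime_card (G := fixed ψ (zpowers σ)) rfl hne1 (g' := ⟨N v, hNfix v⟩))
    have hk' : N u ^ k = N v := congrArg Subtype.val hk
    have h1 := congrArg (nrm ψ K) hk'
    rw [hT K hK hKm v hv, map_pow] at h1
    rw [show nrm ψ K (N u) = 1 from ?_, one_pow] at h1
    · exact hv1 (Subtype.ext (hcop' K hK v h1.symm))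
    · show nrm ψ K (∏ i ∈ Finset.range r, ψ (σ ^ i) u) = 1
      rw [map_prod]
      exact Finset.prod_eq_one fun i hi => nrm_other hq hfix hZc hK (hhyp H hH i)
        (hno i (Finset.mem_range.1 hi)) (apply_mem_fixed _ hu)
  · exact hne1 ((Finite.card_le_one_iff_subsingleton.1 hle).elim _ _)

end CfsgLib.OddLocal.FixedComponents
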