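import Cfsg.Agent.Lib.OddLocal.CentTauOneMain
import Cfsg.Agent.Lib.OddLocal.SigmaIntersection
import Cfsg.Agent.Lib.TwoGroups.TauTwoElements

/-!
Fixed points in `M_σ` of an element of prime order in `τ₁(M)` (Bender–Glauberman, 13.1 and 13.6).
-/

set_option autoImplicit false
set_option linter.unusedSectionVars false

namespace CfsgLib.OddLocal.FixedTauOne

open Subgroup
open CfsgLib.TwoGroups
open PrimeActionTools
open SylowUnique (Only)
open TauTwoFacts (rankTwo structure_tau2)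
open SigmaOrderP (sigmaCore_le le_normalizer_sigmaCore le_sigmaCore)
open scoped commutatorElement

variable {G : Type*} [Group G] [Finite G] {p q r s : ℕ} [Fact p.Prime] [Fact q.Prime] [Fact r.Prime] [Fact s.Prime]
  {M E P Q L X Y : Subgroup G}

/-- A nontrivial subgroup contains a subgroup of prime order. -/
theorem exists_prime_sub {H : Subgroup G} (h : H ≠ ⊥) :
    ∃ (t : ℕ) (Z : Subgroup G), t.Prime ∧ Nat.card Z = t ∧ Z ≤ H := by
  obtain ⟨t, ht, hd⟩ := Nat.exists_prime_and_dvd (fun h1 => h (eq_bot_of_card_eq _ h1))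
  have := Fact.mk ht
  obtain ⟨z, hz⟩ := exists_prime_orderOf_dvd_card' t hd
  exact ⟨t, zpowers (z : G), ht, by rw [Nat.card_zpowers, orderOf_coe, hz], zpowers_le.mpr z.2⟩

/-- A nontrivial `s`-group contains a subgroup of order `s`. -/
theorem exists_line {T : Subgroup G} (hT : IsPGroup s T) (h : T ≠ ⊥) :
    ∃ Z : Subgroup G, Nat.card Z = s ∧ Z ≤ T := by
  obtain ⟨k, hk⟩ := IsPGroup.iff_card.mp hT
  have : k ≠ 0 := by
    rintro rfl
    exact h (eq_bot_of_card_eq T (hk.trans (pow_zero s)))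
  obtain ⟨z, hz⟩ := exists_prime_orderOf_dvd_card' s (hk ▸ dvd_pow_self s this)
  exact ⟨zpowers (z : G), by rw [Nat.card_zpowers, orderOf_coe, hz], zpowers_le.mpr z.2⟩

theorem isPGroup_of_card_eq (hX : Nat.card X = p) : IsPGroup p X :=
  IsPGroup.of_card (n := 1) (by rw [hX, pow_one])

theorem ne_bot_of_card_eq (hX : Nat.card X = p) : X ≠ ⊥ := fun e =>
  (Fact.out : p.Prime).ne_one (by rw [← hX, e, card_bot])

/-- A group normalizing a `q`-group of `L`, `q` prime to `|L'|`, centralizes it. -/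
theorem centralizes_of_not_dvd {T N : Subgroup G} (hT : IsPGroup q T) (hTL : T ≤ L)
    (hd : ¬ q ∣ Nat.card ↥⁅L, L⁆) (hNL : N ≤ L) (hN : N ≤ normalizer (T : Set G)) :
    N ≤ centralizer (T : Set G) := by
  refine commutator_eq_bot_iff_le_centralizer.mp (le_bot_iff.mp ?_)
  refine (le_inf (le_normalizer_iff_commutator_le_right.mp hN) (commutator_mono hNL hTL)).trans ?_
  refine (inf_eq_bot_of_coprime ?_).le
  obtain ⟨k, hk⟩ := IsPGroup.iff_card.mp hT
  rw [hk]
  exact (((Fact.out : q.Prime).coprime_iff_not_dvd).mpr hd).pow_left k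

theorem coprime_complement (hG : Cfsg.IsMinSimpleOddOrder G) (hM : IsCoatom M)
    (hE : Cfsg.IsComplIn E (Cfsg.sigmaCore M) M) :
    (Nat.card E).Coprime (Nat.card (Cfsg.sigmaCore M)) := by
  refine Nat.coprime_of_dvd fun t ht h1 h2 => ?_
  have := Fact.mk ht
  exact SigmaComplement.not_mem_sigma hG hM hE h1 (TauTwo.mem_sigma_of_dvd ht h2 hG hM)

/-- A complement is the join of its derived subgroup and the centralizer of a `τ₁`-line. -/
theorem complement_le (hG : Cfsg.IsMinSimpleOddOrder G) (hE : E ≤ M) (hp : p ∈ Cfsg.tau1 M) (hPE : P ≤ E)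
    (hP : Nat.card P = p) : E ≤ (⁅E, E⁆ ⊔ P) ⊔ (E ⊓ centralizer (P : Set G)) := by
  set K := ⁅E, E⁆ ⊔ P with hK
  have hKE : K ≤ E := sup_le (commutator_le_self E) hPE
  have hEK : E ≤ normalizer (K : Set G) := le_normalizer_iff_commutator_le_right.mpr
    ((commutator_mono le_rfl hKE).trans le_sup_left)
  refine (CentTauOne.frattini_line hG hp.2.2.2.2 hE hKE hEK hP le_sup_right).trans (sup_le_sup le_rfl ?_)
  exact le_inf inf_le_left (le_centralizer_of_not_dvd hP (hPE.trans hE) hp.2.2.2.1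
    (inf_le_left.trans hE) inf_le_right)

/-- The centralizer in `E` of a `τ₁`-line centralizes its `q`-fixed points in `M_σ`, or there are none. -/
theorem centralizer_fixes (hG : Cfsg.IsMinSimpleOddOrder G) (hM : IsCoatom M)
    (hE : Cfsg.IsComplIn E (Cfsg.sigmaCore M) M) (hp : p ∈ Cfsg.tau1 M) (hPE : P ≤ E) (hP : Nat.card P = p)
    (hXP : X ≤ Cfsg.sigmaCore M ⊓ centralizer (P : Set G)) (hder : ⁅E, E⁆ ≤ centralizer (X : Set G)) :
    E ⊓ centralizer (P : Set G) ≤ centralizer (X : Set G) := by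
  set D := E ⊓ centralizer (P : Set G) with hD
  rw [← subgroupOf_eq_top]
  refine Core.eq_top_of_forall_exists_sylow_le _ fun t ht htd => ?_
  have := Fact.mk ht
  obtain ⟨T₀⟩ : Nonempty (Sylow t D) := inferInstance
  refine ⟨T₀, fun x hx => mem_subgroupOf.mpr ?_⟩
  set T := (T₀ : Subgroup D).map D.subtype with hT
  have hTE : T ≤ E := (map_subtype_le _).trans inf_le_left
  have hTp : IsPGroup t T := T₀.2.map _
  have hxT : (x : G) ∈ T := ⟨x, hx, rfl⟩
  suffices hs : T ≤ centralizer (X : Set G) from hs hxT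
  by_cases hTb : T = ⊥
  · rw [hTb]; exact bot_le
  have hdE : t ∣ Nat.card E := htd.trans (card_dvd_of_le inf_le_left)
  have htσ := SigmaComplement.not_mem_sigma hG hM hE hdE
  by_cases hr1 : Cfsg.PRankLE t 1 M
  · obtain ⟨Z, hZ, hZT⟩ := exists_line hTp hTb
    have hZD : Z ≤ E ⊓ centralizer (P : Set G) := hZT.trans (map_subtype_le _)
    have hXZ : X ≤ Cfsg.sigmaCore M ⊓ centralizer (Z : Set G) :=
      hXP.trans (CentTauOne.centralizer_le_centralizer hG hM hE hp hPE hP hZD (hZ.symm ▸ ht))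
    obtain ⟨S, hS⟩ := (hTp.comap_subtype (K := E)).exists_le_sylow
    have hTS : T ≤ (S : Subgroup E).map E.subtype := fun y hy => ⟨⟨y, hTE hy⟩, hS hy, rfl⟩
    have hS1 : (S : Subgroup E) ≠ ⊥ := fun h => hTb (le_bot_iff.mp (hTS.trans (by rw [h, Subgroup.map_bot])))
    have hSc : IsCyclic (S : Subgroup E) := SigmaComplement.sylow_cyclic hG hM hE hdE hr1 S
    obtain ⟨⟨z, hz⟩, hz1⟩ := Z.ne_bot_iff_exists_ne_one.mp (ne_bot_of_card_eq hZ)
    have h1 := CyclicPrimeAction.prime_action (structure_tau2 hG) hG hM hE S hS1 hSc z (hTS (hZT hz))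
      (fun e => hz1 (Subtype.ext e))
    have h2 : Cfsg.sigmaCore M ⊓ centralizer (Z : Set G) ≤ centralizer (T : Set G) :=
      ((inf_le_inf_left _ (Subgroup.centralizer_le (Set.singleton_subset_iff.mpr hz))).trans h1.le).trans
        (inf_le_right.trans (Subgroup.centralizer_le hTS))
    exact le_centralizer_iff.mp (hXZ.trans h2)
  · have hτ : t ∈ Cfsg.tau2 M :=
      ⟨ht, htσ, not_not.mp fun h => htσ (SigmaTrans.alpha_subset_sigma hG hM ⟨ht, h⟩), hr1⟩
    obtain ⟨A, hA, hAE⟩ := TauTwo.exists_pair_complement hG hM hE hτ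
    obtain ⟨hEA, -, -⟩ := TauTwo.le_normalizer_pair hG hM hA htσ hE hAE
    have hAX : A ≤ centralizer (X : Set G) := by
      rw [← Core.commutator_sup_centralizer (hPE.trans hEA)
        (TauTwo.coprime_pGroups (fun e => hr1 (by rw [← e]; exact hp.2.2.2.2)) (isPGroup_of_card_eq hP) hA.isPGroup)
        (Or.inl (hG.2.2.2 P (Uniqueness.ne_top_of_pGroup hG (isPGroup_of_card_eq hP))))]
      refine sup_le ((commutator_mono hAE hPE).trans hder) fun a ha => ?_
      by_cases ha1 : a = 1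
      · rw [ha1]; exact one_mem _
      have hao : orderOf a = t := orderOf_eq_prime (hA.1.2 a ha.1) ha1
      have h1 := hXP.trans (CentTauOne.centralizer_le_centralizer hG hM hE hp hPE hP (R := zpowers a)
        (zpowers_le.mpr ⟨hAE ha.1, ha.2⟩) (by rw [Nat.card_zpowers, hao]; exact ht))
      exact le_centralizer_iff.mp (h1.trans inf_le_right) (mem_zpowers a)
    have hX : X ≤ ⊥ := by
      rw [← TauTwo.sigma_inf_centralizer hG hM hA (hAE.trans hE.1) htσ]
      exact le_inf (hXP.trans inf_le_left) (le_centralizer_iff.mp hAX)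
    intro y _
    exact mem_centralizer_iff.mpr fun z hz => by simp [mem_bot.mp (hX hz)]

/-- BG 13.6, first part: for `q ∉ β(M)` fixed `q`-groups of a `τ₁`-line lie in `M_σ'`. -/
theorem le_derived_core (hG : Cfsg.IsMinSimpleOddOrder G) (hM : IsCoatom M) (hp : p ∈ Cfsg.tau1 M)
    (hP : Nat.card P = p) (hPM : P ≤ M) (hQ : IsPGroup q Q)
    (hQP : Q ≤ Cfsg.sigmaCore M ⊓ centralizer (P : Set G)) (hqβ : q ∉ Cfsg.beta M) :
    Q ≤ ⁅Cfsg.sigmaCore M, Cfsg.sigmaCore M⁆ := by
  set O := Cfsg.sigmaCore M with hO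
  obtain ⟨E, hE, hPE⟩ := TauTwo.exists_complement_ge hG hM hPM fun t ht hd =>
    (Nat.prime_dvd_prime_iff_eq ht hp.1).mp (hP ▸ hd) ▸ hp.2.1
  have hEO : E ≤ normalizer (O : Set G) := hE.1.trans (le_normalizer_sigmaCore M)
  have hcop := coprime_complement hG hM hE
  have hEs : Group.IsSolvable E := CfsgLib.Core.isSolvable_of_le (hG.2.2.2 M hM.1) hE.1
  obtain ⟨S₀, hS₀⟩ := Core.exists_invariant_sylow (A := E) (K := O) hEO hcop (Or.inl hEs) q
  set S := (S₀ : Subgroup O).map O.subtype with hS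
  have hPs : Group.IsSolvable P := hG.2.2.2 P (Uniqueness.ne_top_of_pGroup hG (isPGroup_of_card_eq hP))
  have hcopP : (Nat.card P).Coprime (Nat.card O) := hcop.coprime_dvd_left (card_dvd_of_le hPE)
  obtain ⟨S₁, hQS₁, hS₁⟩ := Core.exists_invariant_sylow_ge (U := Q) (hPE.trans hEO) hcopP (Or.inl hPs)
    (hQP.trans inf_le_left) hQ ((le_centralizer_iff.mp (hQP.trans inf_le_right)).trans
      (Subgroup.centralizer_le_normalizer _))
  obtain ⟨c, hc, hcS⟩ := Core.invariant_sylow_conj (hPE.trans hEO) hcopP (Or.inl hPs) S₀ S₁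
    (hPE.trans hS₀) hS₁
  set X := S ⊓ centralizer (P : Set G) with hX
  have hXO : X ≤ O := inf_le_left.trans (map_subtype_le _)
  have hEX : E ≤ centralizer (X : Set G) := by
    have hder : ⁅E, E⁆ ≤ centralizer (X : Set G) := by
      refine le_trans ?_ (Subgroup.centralizer_le (inf_le_left : X ≤ S))
      rw [← subgroupOf_eq_top]
      refine Core.eq_top_of_forall_exists_sylow_le _ fun t ht htd => ?_
      have := Fact.mk ht
      obtain ⟨T⟩ : Nonempty (Sylow t ↥⁅E, E⁆) := inferInstance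
      refine ⟨T, fun x hx => mem_subgroupOf.mpr ?_⟩
      by_cases hSb : S = ⊥
      · rw [hSb]; exact mem_centralizer_iff.mpr fun z hz => by simp [mem_bot.mp hz]
      obtain ⟨Z, hZ, hZS⟩ := exists_line (S₀.2.map O.subtype) hSb
      have hqt : q ≠ t := fun e => SigmaComplement.not_mem_sigma hG hM hE
        (htd.trans (card_dvd_of_le (commutator_le_self E))) (e ▸ TauTwo.mem_sigma_of_dvd Fact.out
          (hZ ▸ card_dvd_of_le (hZS.trans (map_subtype_le _))) hG hM)
      exact TauTwo.centralizes_of_derived hG hM hqt hqβ (T.2.map ⁅E, E⁆.subtype)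
        ((map_subtype_le _).trans (commutator_mono hE.1 hE.1)) (S₀.2.map O.subtype)
        ((map_subtype_le _).trans (sigmaCore_le M))
        (((map_subtype_le _).trans (commutator_le_self E)).trans hS₀) ⟨x, hx, rfl⟩
    exact (complement_le hG hE.1 hp hPE hP).trans
      (sup_le (sup_le hder (le_centralizer_iff.mp inf_le_right))
        (centralizer_fixes hG hM hE hp hPE hP (le_inf hXO inf_le_right) hder))
  have hXd : X ≤ ⁅O, O⁆ :=
    (le_inf hXO (le_centralizer_iff.mp hEX)).trans (SigmaIntersection.commutator_eq hG hM hE).2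
  intro y hy
  have h1 : y ∈ (S₁ : Subgroup O).map O.subtype := hQS₁ hy
  rw [← hcS, ← Core.sylow_map_conj_smul] at h1
  rw [Subgroup.mem_pointwise_smul_iff_inv_smul_mem, ← map_inv, MulAut.smul_def, MulAut.conj_apply, inv_inv] at h1
  have hyP : y ∈ centralizer (P : Set G) := (hQP hy).2
  have h2 : (c : G)⁻¹ * y * c ∈ X :=
    ⟨h1, (centralizer (P : Set G)).mul_mem ((centralizer (P : Set G)).mul_mem ((centralizer (P : Set G)).inv_mem hc) hyP) hc⟩
  have h3 : (c : G) ∈ normalizer ((⁅O, O⁆ : Subgroup G) : Set G) := normalizer_commutator_ge_left O O c.2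
  have h4 := (mem_normalizer_iff.mp h3 ((c : G)⁻¹ * y * c)).mp (hXd h2)
  simpa [mul_assoc] using h4

/-- BG 13.6: the centralizer of a fixed point of a `τ₁`-line lies only in `M`. -/
theorem only_of_fixed (hG : Cfsg.IsMinSimpleOddOrder G) (hM : IsCoatom M) (hp : p ∈ Cfsg.tau1 M)
    (hP : Nat.card P = p) (hPM : P ≤ M) (hX : Nat.card X = q)
    (hXP : X ≤ Cfsg.sigmaCore M ⊓ centralizer (P : Set G)) :
    Only M (centralizer (X : Set G)) := by
  have hXO : X ≤ Cfsg.sigmaCore M := hXP.trans inf_le_left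
  have hqσ : q ∈ Cfsg.sigma M := TauTwo.mem_sigma_of_dvd Fact.out (hX ▸ card_dvd_of_le hXO) hG hM
  obtain ⟨S⟩ : Nonempty (Sylow q ↥(Cfsg.sigmaCore M)) := inferInstance
  refine (SigmaOrderP.centralizer_only (rankTwo hG) hG hM hqσ (hXO.trans (sigmaCore_le M)) hX S ?_).1
  by_cases hqβ : q ∈ Cfsg.beta M
  · exact Or.inl hqβ
  · exact Or.inr (le_derived_core hG hM hp hP hPM (isPGroup_of_card_eq hX) hXP hqβ)

/-- An element of order `q` of `M_σ'` needs a nonabelian Sylow `q`-subgroup, if `q ∉ β(M)`. -/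
theorem sylow_not_commutative_of_derived (hG : Cfsg.IsMinSimpleOddOrder G) (hM : IsCoatom M)
    (hqβ : q ∉ Cfsg.beta M) (hX : Nat.card X = q) (hXd : X ≤ ⁅Cfsg.sigmaCore M, Cfsg.sigmaCore M⁆)
    (S : Sylow q G) : ¬ IsMulCommutative (S : Subgroup G) := by
  intro hS
  set O := Cfsg.sigmaCore M with hO
  have hXO : X ≤ O := hXd.trans (commutator_le_self O)
  have hqd : q ∣ Nat.card M := hX ▸ card_dvd_of_le (hXO.trans (sigmaCore_le M))
  obtain ⟨-, -, -, -, hβ⟩ := BetaCore.betaCore_facts hG hM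
  obtain ⟨-, hnc, -⟩ := hβ q Fact.out hqd hqβ
  obtain ⟨P₀, hP₀⟩ := ((isPGroup_of_card_eq hX).comap_subtype (K := O)).exists_le_sylow
  obtain ⟨T, hT⟩ := (P₀.2.map O.subtype).exists_le_sylow
  have hTc : IsMulCommutative (T : Subgroup G) := by
    refine ⟨⟨fun a b => ?_⟩⟩
    set e := Sylow.equiv T S
    exact e.injective (by rw [map_mul, map_mul]; exact hS.is_comm.comm (e a) (e b))
  have hPc : ⁅(P₀ : Subgroup O), (P₀ : Subgroup O)⁆ = ⊥ := by
    refine commutator_eq_bot_iff_le_centralizer.mpr fun a ha => mem_centralizer_iff.mpr fun b hb => ?_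
    exact Subtype.ext (congrArg Subtype.val (hTc.is_comm.comm ⟨(b : G), hT ⟨b, hb, rfl⟩⟩ ⟨(a : G), hT ⟨a, ha, rfl⟩⟩) :)
  obtain ⟨⟨x, hx⟩, hx1⟩ := X.ne_bot_iff_exists_ne_one.mp (ne_bot_of_card_eq hX)
  have hxd : (⟨x, hXO hx⟩ : O) ∈ _root_.commutator O := by
    have h1 := hXd hx
    rw [← map_subtype_commutator] at h1
    obtain ⟨w, hw, e⟩ := h1
    rwa [← (O.subtype_injective (show O.subtype w = O.subtype ⟨x, hXO hx⟩ from e))]
  have := SigmaOrderP.inf_derived_le hnc P₀ (hP₀ (mem_subgroupOf.mpr hx)) hxd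
  rw [hPc, mem_bot] at this
  exact hx1 (Subtype.ext (congrArg Subtype.val this :))

/-- A prime of `σ(M) ∩ σ(L)`, `L` not conjugate to `M`, lies outside `β(M)`. -/
theorem not_beta_of_common (hG : Cfsg.IsMinSimpleOddOrder G) (hM : IsCoatom M) (hL : IsCoatom L)
    (hqL : q ∈ Cfsg.sigma L) (hnc : ∀ g : G, L ≠ M.map (MulAut.conj g).toMonoidHom) : q ∉ Cfsg.beta M := by
  intro hb
  obtain ⟨g, hg⟩ := SigmaEmbedding.exists_eq_conj_of_alpha hG hL hM hqL hb.1
  refine hnc g⁻¹ ?_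
  rw [hg, map_conj_inv]

/-- A fixed point of a `τ₁`-line of prime order is no `σ(L)`-element, `L` not conjugate to `M`. -/
theorem not_sigma_of_fixed (hG : Cfsg.IsMinSimpleOddOrder G) (hM : IsCoatom M) (hp : p ∈ Cfsg.tau1 M)
    (hP : Nat.card P = p) (hPM : P ≤ M) (hX : Nat.card X = q)
    (hXP : X ≤ Cfsg.sigmaCore M ⊓ centralizer (P : Set G)) (hL : IsCoatom L)
    (hnc : ∀ g : G, L ≠ M.map (MulAut.conj g).toMonoidHom) : q ∉ Cfsg.sigma L := by
  intro hqL
  have hqσ : q ∈ Cfsg.sigma M :=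
    TauTwo.mem_sigma_of_dvd Fact.out (hX ▸ card_dvd_of_le (hXP.trans inf_le_left)) hG hM
  obtain ⟨S⟩ : Nonempty (Sylow q G) := inferInstance
  have hqβ := not_beta_of_common hG hM hL hqL hnc
  exact sylow_not_commutative_of_derived hG hM hqβ hX
    (le_derived_core hG hM hp hP hPM (isPGroup_of_card_eq hX) hXP hqβ) S
    (sylow_abelian_of_common hG hM hL hqσ hqL hnc S)

/-- BG 13.1: an `s`-group of `M ⊓ L`, `s ∈ σ(L) \ σ(M)`, centralizes `M_σ ⊓ L`. -/
theorem centralizes_inf (hG : Cfsg.IsMinSimpleOddOrder G) (hM : IsCoatom M) (hL : IsCoatom L)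
    (hnc : ∀ g : G, L ≠ M.map (MulAut.conj g).toMonoidHom) (hsL : s ∈ Cfsg.sigma L) (hsM : s ∉ Cfsg.sigma M)
    (hY : IsPGroup s Y) (hYM : Y ≤ M) (hYL : Y ≤ L) :
    Y ≤ centralizer ((Cfsg.sigmaCore M ⊓ L : Subgroup G) : Set G) := by
  set W := Cfsg.sigmaCore M ⊓ L with hW
  have hYW : Y ≤ normalizer (W : Set G) :=
    (le_inf (hYM.trans (le_normalizer_sigmaCore M)) (hYL.trans le_normalizer)).trans
      inf_normalizer_le_normalizer_inf
  have hcop : (Nat.card Y).Coprime (Nat.card W) :=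
    (TauTwo.coprime_sigmaCore hG hM hsM hY).coprime_dvd_right (card_dvd_of_le inf_le_left)
  rw [le_centralizer_iff, ← subgroupOf_eq_top]
  refine Core.eq_top_of_forall_exists_sylow_le _ fun t ht htd => ?_
  have := Fact.mk ht
  obtain ⟨T, hT⟩ := Core.exists_invariant_sylow (A := Y) (K := W) hYW hcop
    (Or.inl (hG.2.2.2 Y (Uniqueness.ne_top_of_pGroup hG hY))) t
  refine ⟨T, fun x hx => mem_subgroupOf.mpr ?_⟩
  have htσ : t ∈ Cfsg.sigma M := TauTwo.mem_sigma_of_dvd ht (htd.trans (card_dvd_of_le inf_le_left)) hG hM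
  have htβ : t ∉ Cfsg.beta L := fun hb => by
    obtain ⟨g, hg⟩ := SigmaEmbedding.exists_eq_conj_of_alpha hG hM hL htσ hb.1
    exact hnc g hg
  exact le_centralizer_iff.mp (TauTwo.centralizes_of_derived hG hL (fun e => hsM (by rw [← e]; exact htσ)) htβ hY
    (TauTwo.le_derived_of_sigma hG hL hsL hY hYL) (T.2.map W.subtype)
    ((map_subtype_le _).trans inf_le_right) hT) ⟨x, hx, rfl⟩

end CfsgLib.OddLocal.FixedTauOne
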