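import Cfsg.Agent.Lib.OddLocal.TauThreeRigid

/-!
The Hall `κ(M)`-subgroups of a maximal subgroup (Bender–Glauberman, 14.2).
-/

set_option autoImplicit false
set_option linter.unusedSectionVars false

namespace CfsgLib.OddLocal.Kappa

open Subgroup
open CfsgLib.TwoGroups
open PrimeActionTools FixedTauOne TauThree
open SylowUnique (Only)
open TauTwoFacts (rankTwo structure_tau2)
open SigmaOrderP (sigmaCore_le le_normalizer_sigmaCore le_sigmaCore)
open scoped commutatorElement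

variable {G : Type*} [Group G] [Finite G] {p q r : ℕ} [Fact p.Prime] [Fact q.Prime] [Fact r.Prime]
  {M E K L H P R X Y Z : Subgroup G}

theorem rank_one_of_kappa (hp : p ∈ Cfsg.kappa M) : Cfsg.PRankLE p 1 M := by
  obtain ⟨S⟩ : Nonempty (Sylow p M) := inferInstance
  refine CyclicPrimeAction.prankLE_one (S := (S : Subgroup M).map M.subtype) (map_subtype_le _) ?_ (S.2.map _) ?_
  · rw [relIndex, subgroupOf, comap_map_eq_self_of_injective M.subtype_injective]; exact S.not_dvd_index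
  · have := (hp.2.2.2 S).1
    exact isCyclic_of_surjective ((S : Subgroup M).equivMapOfInjective M.subtype M.subtype_injective)
      ((S : Subgroup M).equivMapOfInjective M.subtype M.subtype_injective).surjective

theorem tau_of_kappa (hp : p ∈ Cfsg.kappa M) : p ∈ Cfsg.tau1 M ∨ p ∈ Cfsg.tau3 M :=
  tau_of_rank_one hp.2.1 hp.2.2.1 (rank_one_of_kappa hp)

theorem nonregular_conj {m : G} (hm : m ∈ M) (h : R = P.map (MulAut.conj m).toMonoidHom)
    (hne : Cfsg.sigmaCore M ⊓ centralizer (P : Set G) ≠ ⊥) :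
    Cfsg.sigmaCore M ⊓ centralizer (R : Set G) ≠ ⊥ := by
  intro e
  refine hne (eq_bot_iff.mpr fun y hy => ?_)
  have h1 : m * y * m⁻¹ ∈ Cfsg.sigmaCore M ⊓ centralizer (R : Set G) := by
    refine ⟨(mem_normalizer_iff.mp (le_normalizer_sigmaCore M hm) y).mp hy.1, mem_centralizer_iff.mpr ?_⟩
    rw [h]
    rintro _ ⟨x, hx, rfl⟩
    show m * x * m⁻¹ * (m * y * m⁻¹) = m * y * m⁻¹ * (m * x * m⁻¹)
    have := mem_centralizer_iff.mp hy.2 x hx
    calc m * x * m⁻¹ * (m * y * m⁻¹) = m * (x * y) * m⁻¹ := by group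
      _ = m * (y * x) * m⁻¹ := by rw [this]
      _ = _ := by group
  rw [e, mem_bot, conj_eq_one_iff] at h1
  exact mem_bot.mpr h1

/-- All lines of a prime in `κ(M)` have nontrivial fixed points in `M_σ`. -/
theorem nonregular_of_kappa (hG : Cfsg.IsMinSimpleOddOrder G) (hp : p ∈ Cfsg.kappa M) (hP : Nat.card P = p)
    (hPM : P ≤ M) : Cfsg.sigmaCore M ⊓ centralizer (P : Set G) ≠ ⊥ := by
  obtain ⟨S⟩ : Nonempty (Sylow p M) := inferInstance
  obtain ⟨-, x, hxS, hx1, y, hy, hy1, hxy⟩ := hp.2.2.2 S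
  have hxS' : (x : G) ∈ (S : Subgroup M).map M.subtype := ⟨x, hxS, rfl⟩
  obtain ⟨Z, hZ, hZx⟩ := exists_line ((S.2.map M.subtype).to_le (zpowers_le.mpr hxS'))
    fun e => hx1 (Subtype.ext (zpowers_eq_bot.mp e))
  obtain ⟨m, hm, hmeq⟩ := exists_conj_of_rank_one hG (rank_one_of_kappa hp) hZ
    (hZx.trans (zpowers_le.mpr x.2)) hP hPM
  refine nonregular_conj hm hmeq fun e => hy1 (mem_bot.mp (e ▸ mem_inf.mpr ⟨hy, mem_centralizer_iff.mpr ?_⟩))
  intro z hz
  obtain ⟨n, rfl⟩ := mem_zpowers_iff.mp (hZx hz)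
  exact ((show Commute (x : G) y from hxy).zpow_left n).eq

theorem mem_kappa (hG : Cfsg.IsMinSimpleOddOrder G) (hσ : q ∉ Cfsg.sigma M) (hr : Cfsg.PRankLE q 1 M)
    (hX : Nat.card X = q) (hXM : X ≤ M) (hne : Cfsg.sigmaCore M ⊓ centralizer (X : Set G) ≠ ⊥) :
    q ∈ Cfsg.kappa M := by
  refine ⟨Fact.out, hX ▸ card_dvd_of_le hXM, hσ, fun S => ?_⟩
  have hc := cyclic_of_rank hG hr (S.2.map M.subtype) (map_subtype_le _)
  refine ⟨isCyclic_of_surjective ((S : Subgroup M).equivMapOfInjective M.subtype M.subtype_injective).symm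
    (MulEquiv.surjective _), ?_⟩
  have hSb : (S : Subgroup M).map M.subtype ≠ ⊥ := fun e => by
    have h0 : (S : Subgroup M) = ⊥ := (map_eq_bot_iff_of_injective _ M.subtype_injective).mp e
    have := S.not_dvd_index
    rw [h0, index_bot] at this
    exact this (hX ▸ card_dvd_of_le hXM)
  obtain ⟨Z, hZ, hZS⟩ := exists_line (S.2.map M.subtype) hSb
  obtain ⟨m, hm, hmeq⟩ := exists_conj_of_rank_one hG hr hX hXM hZ (hZS.trans (map_subtype_le _))
  obtain ⟨⟨y, hy⟩, hy1⟩ := ((Cfsg.sigmaCore M ⊓ centralizer (Z : Set G))).ne_bot_iff_exists_ne_one.mp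
    (nonregular_conj hm hmeq hne)
  obtain ⟨⟨z, hz⟩, hz1⟩ := Z.ne_bot_iff_exists_ne_one.mp (ne_bot_of_card_eq hZ)
  obtain ⟨w, hw, hwz⟩ := hZS hz
  exact ⟨w, hw, fun e => hz1 (Subtype.ext (hwz.symm.trans (by rw [e]; rfl))), y, hy.1,
    fun e => hy1 (Subtype.ext e), by rw [show (w : G) = z from hwz]; exact mem_centralizer_iff.mp hy.2 z hz⟩

/-- If a line of `E` for `τ₃(M)` fixes a point then all primes of `E` are in `κ(M)`. -/
theorem mem_kappa_of_tau3 (hG : Cfsg.IsMinSimpleOddOrder G) (hM : IsCoatom M)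
    (hE : Cfsg.IsComplIn E (Cfsg.sigmaCore M) M) (hp : p ∈ Cfsg.tau3 M) (hP : Nat.card P = p) (hPE : P ≤ E)
    (hne : Cfsg.sigmaCore M ⊓ centralizer (P : Set G) ≠ ⊥) (hd : q ∣ Nat.card E) : q ∈ Cfsg.kappa M := by
  obtain ⟨z, hz⟩ := exists_prime_orderOf_dvd_card' q hd
  have hZ : Nat.card (zpowers (z : G)) = q := by rw [Nat.card_zpowers, orderOf_coe, hz]
  obtain ⟨L, c⟩ := exists_cfg hG hM hE hp hP hPE hne
  refine mem_kappa hG (SigmaComplement.not_mem_sigma hG hM hE hd) (c.rank_one hG hd) hZ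
    ((zpowers_le.mpr z.2).trans hE.1) ?_
  rw [(rigid hG p M E P hM hE hp hP hPE hne _ (hZ.symm ▸ Fact.out) (zpowers_le.mpr z.2)).2]
  exact hne

/-- A line commuting with a nonregular `τ₁`-line is no `τ₂`-line (BG 13.12). -/
theorem not_tau2_of_commute (hG : Cfsg.IsMinSimpleOddOrder G) (hM : IsCoatom M)
    (hE : Cfsg.IsComplIn E (Cfsg.sigmaCore M) M) (hp : p ∈ Cfsg.tau1 M) (hX : Nat.card X = p) (hXE : X ≤ E)
    (hne : Cfsg.sigmaCore M ⊓ centralizer (X : Set G) ≠ ⊥) (hR : Nat.card R = r)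
    (hRX : R ≤ E ⊓ centralizer (X : Set G)) : r ∉ Cfsg.tau2 M := by
  intro hr
  have hRE : R ≤ E := hRX.trans inf_le_left
  obtain ⟨A, hA, hAE⟩ := TauTwo.exists_pair_complement hG hM hE hr
  obtain ⟨-, hmem, -⟩ := TauTwo.le_normalizer_pair hG hM hA hr.2.1 hE hAE
  have hle : Cfsg.sigmaCore M ⊓ centralizer (X : Set G) ≤ centralizer (R : Set G) :=
    (CentTauOne.centralizer_le_centralizer hG hM hE hp hXE hX hRX (hR.symm ▸ (Fact.out : r.Prime))).trans
      inf_le_right
  have hRne : Cfsg.sigmaCore M ⊓ centralizer (R : Set G) ≠ ⊥ := fun e =>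
    hne (le_bot_iff.mp (e ▸ le_inf inf_le_left hle))
  have honlyR := TauTwo.centralizer_line_unique hG hM hA (hAE.trans hE.1) hr.2.1
    (fun x hx => hmem x (hRE hx) (orderOf_dvd_iff_pow_eq_one.mp (hR ▸ R.orderOf_dvd_natCard hx)))
    (ne_bot_of_card_eq hR) hRne
  have hXM : X ≤ M := hXE.trans hE.1
  have hRM : R ≤ M := hRE.trans hE.1
  obtain ⟨H, hH, hNH⟩ := (eq_top_or_exists_le_coatom _).resolve_left
    (TransitivityHyp.normalizer_ne_top hG (ne_bot_of_card_eq hX)
      (Uniqueness.ne_top_of_pGroup hG (isPGroup_of_card_eq hX)))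
  have hpH := KappaSigma.sigma_of_normalizer hG hM hp.2.1 hp.2.2.2.2 hX hXM hne hH hNH
  have hneH : H ≠ M := fun e => hp.2.1 (e ▸ hpH)
  have hnc : ∀ g : G, H ≠ M.map (MulAut.conj g).toMonoidHom := fun g e =>
    hp.2.1 (SigmaEmbedding.sigma_of_conj (e ▸ hpH))
  have hCH : centralizer (X : Set G) ≤ H := (Subgroup.centralizer_le_normalizer _).trans hNH
  have hRH : R ≤ H := (hRX.trans inf_le_right).trans hCH
  have hXO : X ≤ Cfsg.sigmaCore H := le_sigmaCore hG hH hpH (isPGroup_of_card_eq hX) (le_normalizer.trans hNH)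
  have hneR' : Cfsg.sigmaCore H ⊓ centralizer (R : Set G) ≠ ⊥ := fun e => ne_bot_of_card_eq hX
    (le_bot_iff.mp (e ▸ le_inf hXO (le_centralizer_iff.mp (hRX.trans inf_le_right))))
  by_cases hrH : r ∈ Cfsg.sigma H
  · obtain ⟨t, Y, ht, hY, hYle⟩ := exists_prime_sub hne
    have := Fact.mk ht
    have htH := not_sigma_of_fixed hG hM hp hX hXM hY hYle hH hnc
    have honlyY := only_of_fixed hG hM hp hX hXM hY hYle
    have hYH : Y ≤ H := (hYle.trans inf_le_right).trans hCH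
    have hYX : X ≤ Cfsg.sigmaCore H ⊓ centralizer (Y : Set G) :=
      le_inf hXO (le_centralizer_iff.mp (hYle.trans inf_le_right))
    have hneY : Cfsg.sigmaCore H ⊓ centralizer (Y : Set G) ≠ ⊥ := fun e =>
      ne_bot_of_card_eq hX (le_bot_iff.mp (e ▸ hYX))
    have ht1 : Cfsg.PRankLE t 1 H := by
      by_contra h
      obtain ⟨F, hF, hYF⟩ := TauTwo.exists_complement_ge hG hH hYH fun v hv hd => by
        rw [(Nat.prime_dvd_prime_iff_eq hv ht).mp (hY ▸ hd)]; exact htH
      obtain ⟨B, hB, hBF⟩ := TauTwo.exists_pair_complement hG hH hF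
        ⟨ht, htH, not_not.mp fun h' => htH (SigmaTrans.alpha_subset_sigma hG hH ⟨ht, h'⟩), h⟩
      obtain ⟨-, hmemB, -⟩ := TauTwo.le_normalizer_pair hG hH hB htH hF hBF
      exact hneH (honlyY.2 H hH (TauTwo.centralizer_line_unique hG hH hB (hBF.trans hF.1) htH
        (fun x hx => hmemB x (hYF hx) (orderOf_dvd_iff_pow_eq_one.mp (hY ▸ Y.orderOf_dvd_natCard hx)))
        (ne_bot_of_card_eq hY) hneY).1)
    have hRY : R ≤ centralizer (Y : Set G) :=
      le_centralizer_iff.mp ((hYle.trans inf_le_right |> fun h => le_inf (hYle.trans inf_le_left) h).trans hle)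
    have := ((pack_of_rank_one hG hH hY hYH htH ht1 hneY (rigid hG t)).1 r R Fact.out hR
      (le_inf (le_sigmaCore hG hH hrH (isPGroup_of_card_eq hR) hRH) hRY)).1
    exact hneH (honlyR.2 H hH this.1)
  by_cases hr1 : Cfsg.PRankLE r 1 H
  · obtain ⟨M', hM', hNM⟩ := (eq_top_or_exists_le_coatom _).resolve_left
      (TransitivityHyp.normalizer_ne_top hG (ne_bot_of_card_eq hR)
        (Uniqueness.ne_top_of_pGroup hG (isPGroup_of_card_eq hR)))
    have := KappaSigma.sigma_of_normalizer hG hH hrH hr1 hR hRH hneR' hM' hNM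
    exact hr.2.1 (honlyR.2 M' hM' ((Subgroup.centralizer_le_normalizer _).trans hNM) ▸ this)
  · obtain ⟨F, hF, hRF⟩ := TauTwo.exists_complement_ge hG hH hRH fun v hv hd => by
      rw [(Nat.prime_dvd_prime_iff_eq hv Fact.out).mp (hR ▸ hd)]; exact hrH
    obtain ⟨B, hB, hBF⟩ := TauTwo.exists_pair_complement hG hH hF
      ⟨Fact.out, hrH, not_not.mp fun h' => hrH (SigmaTrans.alpha_subset_sigma hG hH ⟨Fact.out, h'⟩), hr1⟩
    obtain ⟨-, hmemB, -⟩ := TauTwo.le_normalizer_pair hG hH hB hrH hF hBF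
    exact hneH (honlyR.2 H hH (TauTwo.centralizer_line_unique hG hH hB (hBF.trans hF.1) hrH
      (fun x hx => hmemB x (hRF hx) (orderOf_dvd_iff_pow_eq_one.mp (hR ▸ R.orderOf_dvd_natCard hx)))
      (ne_bot_of_card_eq hR) hneR').1)

/-- A `π`-group of `E` containing a Hall `π`-subgroup of `M` equals it. -/
theorem eq_of_hall {π : Set ℕ} (hK : Cfsg.IsPiHallOf π K M) {T : Subgroup G} (hKT : K ≤ T) (hTM : T ≤ M)
    (hT : ∀ t : ℕ, t.Prime → t ∣ Nat.card T → t ∈ π) : T = K := by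
  refine le_antisymm (relIndex_eq_one.mp ?_) hKT
  by_contra hne
  obtain ⟨t, ht, hd⟩ := Nat.exists_prime_and_dvd hne
  refine hK.2.2 t ht (hT t ht (hd.trans ((K.subgroupOf T).index_dvd_card))) ?_
  rw [← relIndex_mul_relIndex K T M hKT hTM]
  exact hd.mul_right _

/-- The data attached to a nontrivial Hall `κ(M)`-subgroup `K`. -/
structure Data (M K E : Subgroup G) : Prop where
  max : IsCoatom M
  hall : Cfsg.IsPiHallOf (Cfsg.kappa M) K M
  compl : Cfsg.IsComplIn E (Cfsg.sigmaCore M) M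
  le : K ≤ E
  nonregular : ∀ X : Subgroup G, (Nat.card X).Prime → X ≤ K → Cfsg.sigmaCore M ⊓ centralizer (X : Set G) ≠ ⊥
  fixed : ∀ X : Subgroup G, (Nat.card X).Prime → X ≤ K →
    Cfsg.sigmaCore M ⊓ centralizer (X : Set G) = Cfsg.sigmaCore M ⊓ centralizer (K : Set G)
  tau1_line : ∃ (s : ℕ) (X : Subgroup G), s ∈ Cfsg.tau1 M ∧ Nat.card X = s ∧ X ≤ K
  normalizer_line : ∀ X : Subgroup G, (Nat.card X).Prime → X ≤ K → E ⊓ normalizer (X : Set G) = K
  alt : K = E ∨ (IsCyclic K ∧ ∀ t ∈ Cfsg.kappa M, t ∈ Cfsg.tau1 M)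

theorem exists_line_tau3 (hG : Cfsg.IsMinSimpleOddOrder G) (hM : IsCoatom M)
    (hE : Cfsg.IsComplIn E (Cfsg.sigmaCore M) M) (hp : p ∈ Cfsg.kappa M) :
    ∃ P : Subgroup G, Nat.card P = p ∧ P ≤ E := by
  have hd : p ∣ Nat.card E := by
    have h1 : Nat.card M ∣ Nat.card E * Nat.card (Cfsg.sigmaCore M) :=
      (card_dvd_of_le (fun m hm => by
        obtain ⟨a, ha, b, hb, rfl⟩ := hE.2.2.2 m hm
        exact mul_mem (mem_sup_left ha) (mem_sup_right hb) : M ≤ E ⊔ Cfsg.sigmaCore M)).trans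
        (Core.card_sup_dvd E (Cfsg.sigmaCore M) (hE.1.trans (le_normalizer_sigmaCore M)))
    rcases (Fact.out : p.Prime).dvd_mul.mp (hp.2.1.trans h1) with h | h
    · exact h
    · exact absurd (TauTwo.mem_sigma_of_dvd Fact.out h hG hM) hp.2.2.1
  obtain ⟨z, hz⟩ := exists_prime_orderOf_dvd_card' p hd
  exact ⟨zpowers (z : G), by rw [Nat.card_zpowers, orderOf_coe, hz], zpowers_le.mpr z.2⟩

/-- If all lines of `K` have the same fixed points then `K` centralizes them. -/
theorem fixed_eq_of_lines (hG : Cfsg.IsMinSimpleOddOrder G) (hM : IsCoatom M)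
    (hE : Cfsg.IsComplIn E (Cfsg.sigmaCore M) M) (hKE : K ≤ E)
    (hrank : ∀ t : ℕ, t.Prime → t ∣ Nat.card K → Cfsg.PRankLE t 1 M)
    (hsame : ∀ X Y : Subgroup G, (Nat.card X).Prime → X ≤ K → (Nat.card Y).Prime → Y ≤ K →
      Cfsg.sigmaCore M ⊓ centralizer (X : Set G) = Cfsg.sigmaCore M ⊓ centralizer (Y : Set G))
    (hX : (Nat.card X).Prime) (hXK : X ≤ K) :
    Cfsg.sigmaCore M ⊓ centralizer (X : Set G) = Cfsg.sigmaCore M ⊓ centralizer (K : Set G) := by
  refine le_antisymm (le_inf inf_le_left (le_centralizer_iff.mp ?_)) (inf_le_inf_left _ (Subgroup.centralizer_le hXK))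
  rw [← subgroupOf_eq_top]
  refine Core.eq_top_of_forall_exists_sylow_le _ fun t ht htd => ?_
  have := Fact.mk ht
  obtain ⟨T₀⟩ : Nonempty (Sylow t K) := inferInstance
  refine ⟨T₀, fun x hx => mem_subgroupOf.mpr ?_⟩
  set T := (T₀ : Subgroup K).map K.subtype with hT
  suffices hs : T ≤ centralizer ((Cfsg.sigmaCore M ⊓ centralizer (X : Set G) : Subgroup G) : Set G) from
    hs ⟨x, hx, rfl⟩
  have hTne : T ≠ ⊥ := fun e => by
    have h0 : (T₀ : Subgroup K) = ⊥ := (map_eq_bot_iff_of_injective _ K.subtype_injective).mp e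
    have := T₀.not_dvd_index
    rw [h0, index_bot] at this
    exact this htd
  obtain ⟨Z, hZ, hZT⟩ := exists_line (T₀.2.map K.subtype) hTne
  rw [hsame X Z hX hXK (hZ.symm ▸ ht) (hZT.trans (map_subtype_le _))]
  exact le_centralizer_iff.mp (inf_centralizer_line hG hM hE (hrank t ht htd) (T₀.2.map _)
    ((map_subtype_le _).trans hKE) hZ hZT)

theorem exists_data (hG : Cfsg.IsMinSimpleOddOrder G) (hM : IsCoatom M)
    (hK : Cfsg.IsPiHallOf (Cfsg.kappa M) K M) (hK1 : K ≠ ⊥) : ∃ E, Data M K E := by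
  obtain ⟨E, hE, hKE⟩ := TauTwo.exists_complement_ge hG hM hK.1 fun t ht hd => (hK.2.1 t ht hd).2.2.1
  have hrank : ∀ t : ℕ, t.Prime → t ∣ Nat.card K → Cfsg.PRankLE t 1 M := fun t ht hd => by
    have := Fact.mk ht
    exact rank_one_of_kappa (hK.2.1 t ht hd)
  have hnr : ∀ X : Subgroup G, (Nat.card X).Prime → X ≤ K → Cfsg.sigmaCore M ⊓ centralizer (X : Set G) ≠ ⊥ :=
    fun X hX hXK => by
      have := Fact.mk hX
      exact nonregular_of_kappa hG (hK.2.1 _ hX (card_dvd_of_le hXK)) rfl (hXK.trans hK.1)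
  refine ⟨E, ?_⟩
  by_cases h3 : ∃ p, p ∈ Cfsg.tau3 M ∧ p ∈ Cfsg.kappa M
  · obtain ⟨p, hp3, hpk⟩ := h3
    have := Fact.mk hp3.1
    obtain ⟨P, hP, hPE⟩ := exists_line_tau3 hG hM hE hpk
    have hne := nonregular_of_kappa hG hpk hP (hPE.trans hE.1)
    have hEK : E = K := eq_of_hall hK hKE hE.1 fun t ht hd => by
      have := Fact.mk ht
      exact mem_kappa_of_tau3 hG hM hE hp3 hP hPE hne hd
    have hr : ∀ R : Subgroup G, (Nat.card R).Prime → R ≤ K →
        R ≤ centralizer (P : Set G) ∧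
          Cfsg.sigmaCore M ⊓ centralizer (R : Set G) = Cfsg.sigmaCore M ⊓ centralizer (P : Set G) :=
      fun R hR hRK => rigid hG p M E P hM hE hp3 hP hPE hne R hR (hRK.trans hKE)
    have hfix := fun X hX hXK => fixed_eq_of_lines hG hM hE hKE hrank
      (fun A B hA hAK hB hBK => (hr A hA hAK).2.trans (hr B hB hBK).2.symm) (X := X) hX hXK
    obtain ⟨L, c⟩ := exists_cfg hG hM hE hp3 hP hPE hne
    obtain ⟨s, Y, hs, hY, hYE, hmove⟩ := c.exists_mover hG
    have := Fact.mk hs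
    obtain ⟨Z, hZ, hZY⟩ := exists_line hY fun e => hmove (e ▸ bot_le)
    refine ⟨hM, hK, hE, hKE, hnr, hfix, ⟨s, Z, c.tau1_of_moves hG hY hYE hmove, hZ, hEK ▸ hZY.trans hYE⟩,
      fun X hX hXK => ?_, Or.inl hEK.symm⟩
    have hXn : E ≤ normalizer (X : Set G) := by
      have := Fact.mk hX
      have hXE : X ≤ E := hXK.trans hKE
      rcases tau_of_rank_one (card_dvd_of_le (hXE.trans hE.1))
          (SigmaComplement.not_mem_sigma hG hM hE (card_dvd_of_le hXE)) (hrank _ hX (card_dvd_of_le hXK)) with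
        hτ | hτ
      swap
      · exact le_normalizer_line hG hM hE hτ rfl hXE
      refine le_trans ?_ (Subgroup.centralizer_le_normalizer _)
      set D := ⁅E, E⁆ with hD
      have hDE : D ≤ E := commutator_le_self E
      have : IsMulCommutative D := le_centralizer_iff_isMulCommutative.mp (derived_commutes hG hM hE le_rfl le_rfl)
      have hDX : D ≤ centralizer (X : Set G) := le_centralizer_iff.mp (Core.abelian_centralizes_of_prime_order
        (hXE.trans (normalizer_commutator_ge_left E E))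
        (hX.coprime_iff_not_dvd.mpr fun h => hτ.2.2.2.1 (h.trans (card_dvd_of_le (commutator_mono hE.1 hE.1))))
        fun v hv hvp a ha => by
          have hV : Nat.card (zpowers v) = orderOf v := Nat.card_zpowers v
          have := Fact.mk hvp
          have hvE : zpowers v ≤ E := zpowers_le.mpr (hDE hv)
          have hvd : orderOf v ∣ Nat.card E := hV ▸ card_dvd_of_le hvE
          rcases tau_of_rank_one (hvd.trans (card_dvd_of_le hE.1)) (SigmaComplement.not_mem_sigma hG hM hE hvd)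
              (c.rank_one hG hvd) with h | h
          · exact absurd ((hV.symm.trans rfl).dvd.trans (hV ▸ (card_dvd_of_le (zpowers_le.mpr hv)).trans
              (card_dvd_of_le (commutator_mono hE.1 hE.1)))) h.2.2.2.1
          · have hne' : Cfsg.sigmaCore M ⊓ centralizer ((zpowers v : Subgroup G) : Set G) ≠ ⊥ :=
              hnr _ (hV ▸ hvp) (hvE.trans hEK.le)
            exact (mem_centralizer_iff.mp ((rigid hG (orderOf v) M E _ hM hE h hV hvE hne' X hX hXE).1 ha) v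
              (mem_zpowers v)).symm)
      exact (complement_le hG hE.1 hτ hXE rfl).trans (sup_le (sup_le hDX
        (le_centralizer_iff_isMulCommutative.mpr (have : IsCyclic X := isCyclic_of_prime_card rfl; IsCyclic.isMulCommutative)))
        inf_le_right)
    rw [inf_eq_left.mpr hXn, hEK]
  · push Not at h3
    have hκ : ∀ t ∈ Cfsg.kappa M, t ∈ Cfsg.tau1 M := fun t ht => by
      have := Fact.mk ht.1
      exact (tau_of_kappa ht).resolve_right fun h => h3 t h ht
    have : Group.IsSolvable E := CfsgLib.Core.isSolvable_of_le (hG.2.2.2 M hM.1) hE.1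
    obtain ⟨H₁, hH₁, hKH⟩ := Core.exists_piHall_ge (G := ↥E) (π := Cfsg.tau1 M) (K := K.subgroupOf E) fun t ht hd => by
      rw [Nat.card_congr (subgroupOfEquivOfLe hKE).toEquiv] at hd
      exact hκ t (hK.2.1 t ht hd)
    set E₁ := H₁.map E.subtype with hE₁
    have hE₁c : IsCyclic E₁ := (SigmaComplement.complement_structure hG hM hE).2.1 E₁ ⟨map_subtype_le _,
      fun t ht hd => by
        rw [card_map_of_injective E.subtype_injective] at hd
        exact hH₁.1 t ht hd, fun t ht htπ => by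
        rw [relIndex, subgroupOf, comap_map_eq_self_of_injective E.subtype_injective]
        exact hH₁.2 t ht htπ⟩
    have hKE₁ : K ≤ E₁ := fun x hx => ⟨⟨x, hKE hx⟩, hKH (mem_subgroupOf.mpr hx), rfl⟩
    have hKc : IsCyclic K := isCyclic_of_injective (inclusion hKE₁) (inclusion_injective _)
    have hcomm : ∀ A B : Subgroup G, A ≤ K → B ≤ K → A ≤ E ⊓ centralizer (B : Set G) := fun A B hA hB =>
      le_inf (hA.trans hKE) fun a ha => mem_centralizer_iff.mpr fun b hb =>
        congrArg Subtype.val ((IsCyclic.isMulCommutative (α := K)).is_comm.comm ⟨b, hB hb⟩ ⟨a, hA ha⟩)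
    have hone : ∀ A : Subgroup G, (Nat.card A).Prime → A ≤ K → Nat.card A ∈ Cfsg.tau1 M :=
      fun A hA hAK => hκ _ (hK.2.1 _ hA (card_dvd_of_le hAK))
    have hsame : ∀ A B : Subgroup G, (Nat.card A).Prime → A ≤ K → (Nat.card B).Prime → B ≤ K →
        Cfsg.sigmaCore M ⊓ centralizer (A : Set G) = Cfsg.sigmaCore M ⊓ centralizer (B : Set G) := by
      intro A B hA hAK hB hBK
      have := Fact.mk hA
      have := Fact.mk hB
      exact le_antisymm
        (CentTauOne.centralizer_le_centralizer hG hM hE (hone A hA hAK) (hAK.trans hKE) rfl (hcomm B A hBK hAK) hB)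
        (CentTauOne.centralizer_le_centralizer hG hM hE (hone B hB hBK) (hBK.trans hKE) rfl (hcomm A B hAK hBK) hA)
    obtain ⟨t, X₀, ht, hX₀, hX₀K⟩ := exists_prime_sub hK1
    have := Fact.mk ht
    refine ⟨hM, hK, hE, hKE, hnr, fun X hX hXK => fixed_eq_of_lines hG hM hE hKE hrank hsame hX hXK,
      ⟨t, X₀, hX₀ ▸ hone X₀ (hX₀.symm ▸ ht) hX₀K, hX₀, hX₀K⟩, fun X hX hXK => ?_, Or.inr ⟨hKc, hκ⟩⟩
    have := Fact.mk hX
    have hτ := hone X hX hXK
    have hle : E ⊓ normalizer (X : Set G) ≤ E ⊓ centralizer (X : Set G) := le_inf inf_le_left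
      (le_centralizer_of_not_dvd rfl (hXK.trans hK.1) hτ.2.2.2.1 (inf_le_left.trans hE.1) inf_le_right)
    refine le_antisymm (hle.trans ?_) (le_inf hKE ((hcomm K X le_rfl hXK).trans
      (inf_le_right.trans (Subgroup.centralizer_le_normalizer _))))
    refine (eq_of_hall hK (hcomm K X le_rfl hXK) (inf_le_left.trans hE.1) fun v hv hd => ?_).le
    have := Fact.mk hv
    obtain ⟨z, hz⟩ := exists_prime_orderOf_dvd_card' v hd
    have hV : Nat.card (zpowers (z : G)) = v := by rw [Nat.card_zpowers, orderOf_coe, hz]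
    have hVle : zpowers (z : G) ≤ E ⊓ centralizer (X : Set G) := zpowers_le.mpr z.2
    have hvσ := SigmaComplement.not_mem_sigma hG hM hE (hd.trans (card_dvd_of_le inf_le_left))
    have hv1 : Cfsg.PRankLE v 1 M := by
      by_contra h
      exact not_tau2_of_commute hG hM hE hτ rfl (hXK.trans hKE) (hnr X hX hXK) hV hVle
        ⟨hv, hvσ, not_not.mp fun h' => hvσ (SigmaTrans.alpha_subset_sigma hG hM ⟨hv, h'⟩), h⟩
    refine mem_kappa hG hvσ hv1 hV (hVle.trans (inf_le_left.trans hE.1)) fun e => hnr X hX hXK ?_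
    exact le_bot_iff.mp (e ▸ CentTauOne.centralizer_le_centralizer hG hM hE hτ (hXK.trans hKE) rfl hVle
      (hV.symm ▸ hv))

end CfsgLib.OddLocal.Kappa
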