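import Cfsg.Agent.Lib.Char.CyclicTI.FrobeniusFormula
import Cfsg.Agent.Lib.Core.Coprime
import Cfsg.Agent.Lib.OddLocal.Coprime
import Cfsg.Agent.Lib.PGroups.Basic
import Cfsg.Agent.S0033
import Mathlib.GroupTheory.SemidirectProduct

/-!
Frobenius groups acting on nilpotent groups with small fixed points of the complement.
-/

set_option autoImplicit false

namespace CfsgLib.OddLocal.FrobeniusModule

open Subgroup
open scoped commutatorElement

universe u

/-- The fixed point formula for an invariant subgroup of an abelian group. -/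
theorem card_eq_pow {V : Type*} [CommGroup V] [Finite V] {p : ℕ} (hp : p.Prime) (U : Subgroup V)
    (L : Subgroup (MulAut V)) (r : MulAut V) (hr : r ^ p = 1) (hr1 : r ≠ 1)
    (hnorm : ∀ k ∈ L, r * k * r⁻¹ ∈ L) (hfp : ∀ k ∈ L, r * k = k * r → k = 1)
    (hcopp : (Nat.card L).Coprime p) (hcop : (Nat.card V).Coprime (Nat.card L * p))
    (hUL : ∀ k ∈ L, ∀ u ∈ U, k u ∈ U) (hUr : ∀ u ∈ U, r u ∈ U)
    (hfix : ∀ u ∈ U, (∀ k ∈ L, k u = u) → u = 1) :
    ∃ C : Subgroup V, (∀ u, u ∈ C ↔ u ∈ U ∧ r u = u) ∧ Nat.card U = Nat.card C ^ p := by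
  have := Fact.mk hp
  let X := V ⋊[MonoidHom.id (MulAut V)] MulAut V
  have : Finite X := Finite.of_equiv _ SemidirectProduct.equivProd.symm
  let il : V →* X := SemidirectProduct.inl
  let ir : MulAut V →* X := SemidirectProduct.inr
  have hil : Function.Injective il := SemidirectProduct.inl_injective
  have hir : Function.Injective ir := SemidirectProduct.inr_injective
  have hord : orderOf r = p := orderOf_eq_prime hr hr1
  have hact : ∀ (k : MulAut V) (u : V), ir k * il u * (ir k)⁻¹ = il (k u) := fun k u => by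
    show SemidirectProduct.inr k * SemidirectProduct.inl u * (SemidirectProduct.inr k)⁻¹ = SemidirectProduct.inl (k u)
    rw [← map_inv, ← SemidirectProduct.inl_aut]
    rfl
  set U' := L.map ir
  set E' := (zpowers r).map ir
  set H' := U.map il
  have hUn : ∀ e ∈ E', ∀ x ∈ U', e * x * e⁻¹ ∈ U' := by
    rintro _ ⟨e, he, rfl⟩ _ ⟨k, hk, rfl⟩
    rw [← map_inv, ← map_mul, ← map_mul]
    refine mem_map_of_mem ir ?_
    obtain ⟨i, rfl⟩ := mem_powers_iff_mem_zpowers.2 he
    clear he
    induction i generalizing k with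
    | zero => simpa using hk
    | succ i ih =>
      have := hnorm _ (ih k hk)
      rwa [show r ^ (i + 1) * k * (r ^ (i + 1))⁻¹ = r * (r ^ i * k * (r ^ i)⁻¹) * r⁻¹ by
        rw [pow_succ']; group]
  have hfpf : ∀ e ∈ E', e ≠ 1 → ∀ x ∈ U', e * x = x * e → x = 1 := by
    rintro _ ⟨e, he, rfl⟩ hne _ ⟨k, hk, rfl⟩ hc
    rw [← map_mul, ← map_mul] at hc
    have hc' : Commute e k := hir hc
    have he1 : e ≠ 1 := fun h => hne (by rw [h, map_one])
    have hgen : r ∈ zpowers e := by
      have : zpowers e = zpowers r := eq_of_le_of_card_ge (zpowers_le.2 he) (by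
        rw [Nat.card_zpowers, Nat.card_zpowers, hord]
        exact le_of_eq (orderOf_eq_prime (by
          obtain ⟨i, rfl⟩ := mem_zpowers_iff.1 he
          rw [← zpow_natCast, ← zpow_mul, mul_comm, zpow_mul, zpow_natCast, hr, one_zpow]) he1).symm)
      rw [this]; exact mem_zpowers r
    obtain ⟨j, hj⟩ := mem_zpowers_iff.1 hgen
    rw [hfp k hk (hj ▸ (hc'.zpow_left j).eq), map_one]
  have hnormU : ∀ k : MulAut V, (∀ u ∈ U, k u ∈ U) → ir k ∈ normalizer (H' : Set X) := by
    intro k hk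
    have himg : U.map k.toMonoidHom = U := eq_of_le_of_card_ge (by
      rintro _ ⟨u, hu, rfl⟩; exact hk u hu) (card_map_of_injective k.injective).ge
    refine mem_normalizer_iff.2 fun x => ⟨?_, fun h => ?_⟩
    · rintro ⟨u, hu, rfl⟩
      exact ⟨k u, hk u hu, (hact k u).symm⟩
    · obtain ⟨w, hw, hwx⟩ := h
      obtain ⟨u, hu, rfl⟩ := himg.ge hw
      refine ⟨u, hu, ?_⟩
      have h2 : ir k * il u * (ir k)⁻¹ = ir k * x * (ir k)⁻¹ := (hact k u).trans hwx
      exact mul_left_cancel (mul_right_cancel h2)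
  have hN : U' ⊔ E' ≤ normalizer (H' : Set X) := by
    refine sup_le ?_ ?_
    · rintro _ ⟨k, hk, rfl⟩
      exact hnormU k (hUL k hk)
    · rw [show E' = zpowers (ir r) from MonoidHom.map_zpowers ir r, zpowers_le]
      exact hnormU r hUr
  have hHn : ∀ x ∈ U' ⊔ E', ∀ h ∈ H', x * h * x⁻¹ ∈ H' := fun x hx h hh =>
    (mem_normalizer_iff.1 (hN hx) h).1 hh
  have hUE : U' ⊓ E' = ⊥ := by
    refine eq_bot_iff.2 fun x hx => ?_
    obtain ⟨k, hk, rfl⟩ := hx.1
    obtain ⟨e, he, hek⟩ := hx.2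
    obtain rfl := hir hek
    obtain ⟨i, rfl⟩ := mem_zpowers_iff.1 he
    rw [hfp _ hk ((Commute.refl r).zpow_right i).eq, map_one]
    exact one_mem _
  have hEcard : Nat.card E' = p := by
    rw [card_map_of_injective hir, Nat.card_zpowers, hord]
  have hcop' : (Nat.card H').Coprime (Nat.card ↥(U' ⊔ E')) := by
    rw [card_map_of_injective hil]
    refine (hcop.coprime_dvd_left (card_subgroup_dvd_card U)).coprime_dvd_right ?_
    have hnU : E' ≤ normalizer (U' : Set X) := fun e he => mem_normalizer_iff.2 fun x =>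
      ⟨fun hx => hUn e he x hx, fun hx => by
        have := hUn e⁻¹ (inv_mem he) _ hx
        simpa [mul_assoc] using this⟩
    have := CfsgLib.Core.card_sup_dvd _ _ hnU
    rw [hEcard, card_map_of_injective hir, sup_comm, mul_comm] at this
    exact this
  have hsolv : Group.IsSolvable H' := Group.isSolvable_of_comm fun a b => by
    obtain ⟨u, hu, hau⟩ := a.2
    obtain ⟨v, hv, hbv⟩ := b.2
    refine Subtype.ext ?_
    show (a : X) * b = b * a
    rw [← hau, ← hbv, ← map_mul, ← map_mul, mul_comm]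
  have hf := CfsgLib.FrobFix.formula_subgroup U' E' H' hUE hUn hfpf hHn hsolv hcop'
  have hCU : H' ⊓ centralizer (U' : Set X) = ⊥ := by
    refine eq_bot_iff.2 fun x hx => ?_
    obtain ⟨u, hu, rfl⟩ := hx.1
    refine mem_bot.2 ((congrArg il (hfix u hu fun k hk => hil ?_)).trans il.map_one)
    rw [← hact, mem_centralizer_iff.1 hx.2 _ (mem_map_of_mem ir hk), mul_inv_cancel_right]
  rw [hCU, show H' ⊓ centralizer ((U' ⊔ E' : Subgroup X) : Set X) = ⊥ from eq_bot_iff.2
    ((inf_le_inf_left H' (centralizer_le (le_sup_left : U' ≤ U' ⊔ E'))).trans hCU.le), card_bot, hEcard,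
    one_pow, one_mul, mul_one, card_map_of_injective hil] at hf
  refine ⟨(H' ⊓ centralizer (E' : Set X)).comap il, fun u => ?_, ?_⟩
  · rw [mem_comap, mem_inf, show E' = zpowers (ir r) from MonoidHom.map_zpowers ir r]
    refine and_congr ⟨fun ⟨v, hv, h⟩ => hil h ▸ hv, fun h => ⟨u, h, rfl⟩⟩ ⟨fun h => hil ?_, fun h => ?_⟩
    · rw [← hact, mem_centralizer_iff.1 h _ (mem_zpowers _), mul_inv_cancel_right]
    · refine mem_centralizer_iff.2 fun e he => ?_
      obtain ⟨i, rfl⟩ := mem_zpowers_iff.1 he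
      have h1 : Commute (ir r) (il u) := by
        have := hact r u
        rw [h] at this
        exact (mul_inv_eq_iff_eq_mul.1 this)
      exact (h1.zpow_left i).eq
  · rw [hf, ← card_map_of_injective (K := (H' ⊓ centralizer (E' : Set X)).comap il) hil, map_comap_eq_self]
    exact inf_le_left.trans (map_le_range il U)

/-- An element commuting with everything that a cyclic module sees. -/
theorem commute_of_cyclic_vector {V : Type*} [CommGroup V] {A : Subgroup (MulAut V)}
    (hAc : ∀ a ∈ A, ∀ b ∈ A, a * b = b * a) {v : V}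
    (hv : closure {w | ∃ a ∈ A, a v = w} = ⊤) {g h : MulAut V}
    (hg : ∀ a ∈ A, g * a = a * g) (hh : ∀ a ∈ A, h * a = a * h) : g * h = h * g := by
  let P : V → Prop := fun w => ∃ e : V →* V, e v = w ∧
    ∀ f : V →* V, (∀ a ∈ A, ∀ x, f (a x) = a (f x)) → ∀ x, e (f x) = f (e x)
  have hP : ∀ w, P w := by
    intro w
    have hw : w ∈ closure {w | ∃ a ∈ A, a v = w} := hv ▸ mem_top w
    induction hw using Subgroup.closure_induction with
    | mem x hx =>
      obtain ⟨a, ha, rfl⟩ := hx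
      exact ⟨a.toMonoidHom, rfl, fun f hf x => (hf a ha x).symm⟩
    | one => exact ⟨1, rfl, fun f _ x => (map_one f).symm⟩
    | mul x y _ _ hx hy =>
      obtain ⟨e, he, hec⟩ := hx
      obtain ⟨e', he', hec'⟩ := hy
      refine ⟨e * e', by rw [MonoidHom.mul_apply, he, he'], fun f hf z => ?_⟩
      rw [MonoidHom.mul_apply, MonoidHom.mul_apply, map_mul, hec f hf, hec' f hf]
    | inv x _ hx =>
      obtain ⟨e, he, hec⟩ := hx
      refine ⟨e⁻¹, by rw [MonoidHom.inv_apply, he], fun f hf z => ?_⟩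
      rw [MonoidHom.inv_apply, MonoidHom.inv_apply, map_inv, hec f hf]
  have hcomm : ∀ {k : MulAut V}, (∀ a ∈ A, k * a = a * k) → ∀ a ∈ A, ∀ x, k (a x) = a (k x) :=
    fun hk a ha x => DFunLike.congr_fun (hk a ha) x
  have hext : ∀ φ ψ : V →* V, (∀ a ∈ A, φ (a v) = ψ (a v)) → φ = ψ := fun φ ψ hφ => by
    refine MonoidHom.eq_of_eqOn_top (fun x _ => ?_)
    have hle : closure {w | ∃ a ∈ A, a v = w} ≤ φ.eqLocus ψ :=
      (closure_le _).2 (by rintro _ ⟨a, ha, rfl⟩; exact hφ a ha)
    exact hle (hv ▸ mem_top x)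
  obtain ⟨e, he, hec⟩ := hP (g v)
  have hAe : ∀ a ∈ A, ∀ x, e (a x) = a (e x) := fun a ha x =>
    hec a.toMonoidHom (fun b hb y => DFunLike.congr_fun (hAc a ha b hb) y) x
  have hge : g.toMonoidHom = e := hext _ _ fun a ha => by
    show g (a v) = e (a v)
    rw [hcomm hg a ha, hAe a ha, he]
  refine MulEquiv.ext fun x => ?_
  rw [MulAut.mul_apply, MulAut.mul_apply]
  show g.toMonoidHom (h x) = h (g.toMonoidHom x)
  rw [hge]
  exact hec h.toMonoidHom (fun a ha y => hcomm hh a ha y) x

/-- Conjugation by an element normalising a finite subgroup is onto it. -/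
theorem exists_conj_eq {M : Type*} [Group M] {B : Subgroup M} [Finite B] {r : M}
    (h : ∀ b ∈ B, r * b * r⁻¹ ∈ B) {c : M} (hc : c ∈ B) : ∃ b ∈ B, r * b * r⁻¹ = c := by
  let f : B → B := fun x => ⟨r * x * r⁻¹, h x x.2⟩
  have hf : Function.Injective f := fun x y hxy => Subtype.ext (by simpa [f] using congrArg Subtype.val hxy)
  obtain ⟨y, hy⟩ := Finite.injective_iff_surjective.1 hf ⟨c, hc⟩
  exact ⟨y, y.2, congrArg Subtype.val hy⟩

/-- With fixed points of order `q`, the kernel acts as an abelian group. -/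
theorem commutative_on_module {V : Type u} [CommGroup V] [Finite V] {p q : ℕ} (hp : p.Prime) (hq : q.Prime)
    (hexp : ∀ v : V, v ^ q = 1) (hcard : Nat.card V = q ^ p) (L : Subgroup (MulAut V)) (r : MulAut V)
    (hr : r ^ p = 1) (hnorm : ∀ k ∈ L, r * k * r⁻¹ ∈ L) (hfp : ∀ k ∈ L, r * k = k * r → k = 1)
    (hcopp : (Nat.card L).Coprime p) (hcop : (Nat.card V).Coprime (Nat.card L * p))
    (hfix : ∀ v, (∀ k ∈ L, k v = v) → v = 1) : ∀ a ∈ L, ∀ b ∈ L, a * b = b * a := by
  have := Fact.mk hp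
  have := Fact.mk hq
  by_cases hr1 : r = 1
  · intro a ha b hb
    rw [hfp a ha (by rw [hr1, one_mul, mul_one]), one_mul, mul_one]
  by_cases hL : L = ⊥
  · intro a ha b hb
    rw [show a = 1 from mem_bot.1 (hL ▸ ha), one_mul, mul_one]
  -- `L` is nilpotent
  have hnil : Group.IsNilpotent L := by
    let φ : MulAut L :=
      { toFun := fun k => ⟨r * k * r⁻¹, hnorm k k.2⟩
        invFun := fun k => ⟨r⁻¹ * k * r, by
          obtain ⟨y, hyL, hy⟩ := exists_conj_eq hnorm k.2
          rw [show r⁻¹ * (k : MulAut V) * r = y by rw [← hy]; group]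
          exact hyL⟩
        left_inv := fun k => Subtype.ext (by simp [mul_assoc])
        right_inv := fun k => Subtype.ext (by simp [mul_assoc])
        map_mul' := fun a b => Subtype.ext (by simp [mul_assoc]) }
    have hφk : ∀ (i : ℕ) (k : L), (((φ ^ i) k : L) : MulAut V) = r ^ i * k * (r ^ i)⁻¹ := by
      intro i
      induction i with
      | zero => intro k; simp
      | succ i ih =>
        intro k
        rw [pow_succ φ, MulAut.mul_apply, ih, pow_succ r]
        show r ^ i * (r * k * r⁻¹) * (r ^ i)⁻¹ = _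
        group
    refine Cfsg.Agent.S0033.result φ (fun k hk => Subtype.ext (hfp k k.2 ?_)) p hp ?_
    · exact mul_inv_eq_iff_eq_mul.1 (congrArg Subtype.val hk)
    · refine orderOf_eq_prime (MulEquiv.ext fun k => Subtype.ext ?_) fun h => hL ?_
      · rw [hφk, hr]; simp
      · refine eq_bot_iff.2 fun k hk => mem_bot.2 (hfp k hk ?_)
        have := congrArg Subtype.val (DFunLike.congr_fun h (⟨k, hk⟩ : L))
        exact mul_inv_eq_iff_eq_mul.1 this
  set A := (center L).map L.subtype with hA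
  have hAL : A ≤ L := map_subtype_le _
  have hA1 : A ≠ ⊥ := by
    intro h
    have : Nontrivial L := (Subgroup.nontrivial_iff_ne_bot L).2 hL
    have := hnil
    have h2 : center L = ⊥ := (map_eq_bot_iff_of_injective _ L.subtype_injective).1 h
    exact CfsgLib.Core.inf_center_ne_bot_of_isNilpotent (⊤ : Subgroup L) top_ne_bot (by rw [top_inf_eq, h2])
  have hcA : ∀ a ∈ A, ∀ k ∈ L, k * a = a * k := by
    rintro _ ⟨a, ha, rfl⟩ k hk
    exact congrArg Subtype.val (mem_center_iff.1 ha ⟨k, hk⟩)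
  have hnA : ∀ a ∈ A, r * a * r⁻¹ ∈ A := by
    intro a ha
    refine ⟨⟨_, hnorm a (hAL ha)⟩, mem_center_iff.2 fun k => Subtype.ext ?_, rfl⟩
    obtain ⟨y, hyL, hy⟩ := exists_conj_eq hnorm k.2
    show (k : MulAut V) * (r * a * r⁻¹) = r * a * r⁻¹ * k
    rw [← hy]
    calc r * y * r⁻¹ * (r * a * r⁻¹) = r * (y * a) * r⁻¹ := by group
      _ = r * (a * y) * r⁻¹ := by rw [hcA a ha y hyL]
      _ = _ := by group
  have hbig : ∀ (U : Subgroup V) (B : Subgroup (MulAut V)), B ≤ L → (∀ b ∈ B, r * b * r⁻¹ ∈ B) →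
      (∀ b ∈ B, ∀ u ∈ U, b u ∈ U) → (∀ u ∈ U, r u ∈ U) → (∀ u ∈ U, (∀ b ∈ B, b u = u) → u = 1) →
      U ≠ ⊥ → U = ⊤ := by
    intro U B hBL hBn hUB hUr hUfix hU1
    obtain ⟨C, hC, hCU⟩ := card_eq_pow hp U B r hr hr1 hBn (fun b hb => hfp b (hBL hb))
      (hcopp.coprime_dvd_left (card_dvd_of_le hBL))
      (hcop.coprime_dvd_right (Nat.mul_dvd_mul_right (card_dvd_of_le hBL) p)) hUB hUr hUfix
    refine eq_top_of_le_card U ?_
    have hCq : IsPGroup q C := fun c => ⟨1, Subtype.ext (by rw [pow_one]; exact hexp c)⟩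
    obtain ⟨j, hj⟩ := IsPGroup.iff_card.1 hCq
    rcases j with _ | j
    · rw [hj, pow_zero, one_pow] at hCU
      exact absurd (card_eq_one.1 hCU) hU1
    · rw [hcard, hCU, hj]
      exact Nat.pow_le_pow_left (Nat.le_self_pow j.succ_ne_zero q) p
  -- no fixed points of `A`
  let F : Subgroup V :=
    { carrier := {v | ∀ a ∈ A, a v = v}
      one_mem' := fun a _ => map_one a
      mul_mem' := fun {x y} hx hy a ha => by rw [map_mul, hx a ha, hy a ha]
      inv_mem' := fun {x} hx a ha => by rw [map_inv, hx a ha] }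
  have hF : F = ⊥ := by
    by_contra hF
    have hFtop := hbig F L le_rfl hnorm ?_ ?_ (fun u _ => hfix u) hF
    · refine hA1 (eq_bot_iff.2 fun a ha => mem_bot.2 (MulEquiv.ext fun v => ?_))
      have hv : v ∈ F := hFtop ▸ mem_top v
      exact hv a ha
    · intro k hk u hu a ha
      rw [← MulAut.mul_apply, ← hcA a ha k hk, MulAut.mul_apply, hu a ha]
    · intro u hu a ha
      obtain ⟨y, hyA, hy'⟩ := exists_conj_eq hnA ha
      rw [← hy', ← MulAut.mul_apply, inv_mul_cancel_right, MulAut.mul_apply, hu y hyA]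
  -- a fixed point of `r` generates
  obtain ⟨C, hC, hCV⟩ := card_eq_pow hp ⊤ L r hr hr1 hnorm hfp hcopp hcop (fun _ _ _ _ => mem_top _)
    (fun _ _ => mem_top _) fun u _ => hfix u
  obtain ⟨v, hvC, hv1⟩ : ∃ v ∈ C, v ≠ (1 : V) := by
    by_contra! h
    rw [card_top, hcard, card_eq_one.2 ((eq_bot_iff_forall _).2 h), one_pow] at hCV
    exact (Nat.one_lt_pow hp.ne_zero hq.one_lt).ne' hCV
  set U := closure {w | ∃ a ∈ A, a v = w} with hU
  have hUtop : U = ⊤ := by
    refine hbig U A hAL hnA ?_ ?_ (fun u _ hu => mem_bot.1 (hF ▸ hu)) fun h => hv1 ?_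
    · intro b hb u hu
      induction hu using Subgroup.closure_induction with
      | mem x hx =>
        obtain ⟨a, ha, rfl⟩ := hx
        exact subset_closure ⟨b * a, mul_mem hb ha, rfl⟩
      | one => rw [map_one]; exact one_mem _
      | mul x y _ _ hx hy => rw [map_mul]; exact mul_mem hx hy
      | inv x _ hx => rw [map_inv]; exact inv_mem hx
    · intro u hu
      induction hu using Subgroup.closure_induction with
      | mem x hx =>
        obtain ⟨a, ha, rfl⟩ := hx
        refine subset_closure ⟨r * a * r⁻¹, hnA a ha, ?_⟩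
        have hrv : r⁻¹ v = v := by
          conv_lhs => rw [← ((hC v).1 hvC).2]
          rw [← MulAut.mul_apply, inv_mul_cancel, MulAut.one_apply]
        rw [MulAut.mul_apply, MulAut.mul_apply, hrv]
      | one => rw [map_one]; exact one_mem _
      | mul x y _ _ hx hy => rw [map_mul]; exact mul_mem hx hy
      | inv x _ hx => rw [map_inv]; exact inv_mem hx
    · have hmem : v ∈ U := subset_closure ⟨1, one_mem _, rfl⟩
      rw [h, mem_bot] at hmem
      exact hmem
  exact fun a ha b hb => commute_of_cyclic_vector (fun x hx y hy => hcA y hy x (hAL hx)) hUtop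
    (fun c hc => hcA c hc a ha) (fun c hc => hcA c hc b hb)

end CfsgLib.OddLocal.FrobeniusModule
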