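import Mathlib.GroupTheory.Sylow
import Mathlib.GroupTheory.Index
import Mathlib.Data.Fintype.Sigma
import Mathlib.LinearAlgebra.Matrix.GeneralLinearGroup.Defs
import Mathlib.Tactic.LinearCombination
import Mathlib.Tactic.FinCases
import Cfsg.Agent.Lib.OddLocal.Basic

/-!
An irreducible subgroup of odd order of `GL(2, F)` has order prime to the characteristic: the centralisers
of the nonidentity elements of its intersection with `SL(2, F)` partition it, and a count shows that the
Sylow `p`-subgroup is normal.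
-/

set_option autoImplicit false

namespace CfsgLib.OddLocal.GLTwoOdd

open Subgroup

section Count

variable {K : Type*} [Group K] [Finite K] {p : ℕ} [hp : Fact p.Prime]
  (hab : ∀ g : K, g ≠ 1 → IsMulCommutative (centralizer ({g} : Set K)))
  (hss : ∀ g h : K, g ^ p ≠ 1 → h * g * h⁻¹ ∈ centralizer ({g} : Set K) → h ∈ centralizer ({g} : Set K))
  (hun : ∀ g : K, g ≠ 1 → g ^ p = 1 → ∀ x ∈ centralizer ({g} : Set K), x ^ p = 1)

include hab

omit [Finite K] hp in
theorem centralizer_eq {g x : K} (hg : g ≠ 1) (hx : x ∈ centralizer ({g} : Set K)) (hx1 : x ≠ 1) :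
    centralizer ({x} : Set K) = centralizer ({g} : Set K) := by
  have key : ∀ {a b : K}, a ≠ 1 → b ∈ centralizer ({a} : Set K) →
      centralizer ({a} : Set K) ≤ centralizer ({b} : Set K) := by
    intro a b ha hb y hy
    refine mem_centralizer_singleton_iff.mpr ?_
    have := hab a ha
    exact congrArg Subtype.val (mul_comm' (⟨y, hy⟩ : centralizer ({a} : Set K)) ⟨b, hb⟩)
  refine le_antisymm (key hx1 ?_) (key hg hx)
  exact mem_centralizer_singleton_iff.mpr (mem_centralizer_singleton_iff.mp hx).symm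

omit [Finite K] hp in
theorem self_mem (g : K) : g ∈ centralizer ({g} : Set K) := mem_centralizer_singleton_iff.mpr rfl

include hun

theorem sylow_eq_centralizer (P : Sylow p K) {z : K} (hz : z ∈ P) (hz1 : z ≠ 1) :
    z ^ p = 1 ∧ (P : Subgroup K) = centralizer ({z} : Set K) := by
  have : Nontrivial (P : Subgroup K) :=
    (P : Subgroup K).nontrivial_iff_ne_bot.mpr fun h => hz1 (mem_bot.mp (h ▸ hz))
  have hd : p ∣ Nat.card (center (P : Subgroup K)) := by
    rcases (P.isPGroup'.to_subgroup (center (P : Subgroup K))).card_eq_or_dvd with h | h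
    · exact absurd (card_eq_one.mp h) P.isPGroup'.bot_lt_center.ne'
    · exact h
  obtain ⟨⟨c, hc⟩, hco⟩ := exists_prime_orderOf_dvd_card' (G := center (P : Subgroup K)) p hd
  rw [Subgroup.orderOf_mk, ← Subgroup.orderOf_coe] at hco
  have hc1' : (c : K) ≠ 1 := fun h => hp.out.ne_one (by rw [← hco, h, orderOf_one])
  have hcp : (c : K) ^ p = 1 := orderOf_dvd_iff_pow_eq_one.mp (dvd_of_eq hco)
  have hPC : (P : Subgroup K) ≤ centralizer ({(c : K)} : Set K) := fun y hy =>
    mem_centralizer_singleton_iff.mpr (congrArg Subtype.val (mem_center_iff.mp hc ⟨y, hy⟩))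
  have hexp : ∀ y ∈ centralizer ({(c : K)} : Set K), y ^ p = 1 := fun y hy =>
    hun c hc1' hcp y hy
  have hpg : IsPGroup p (centralizer ({(c : K)} : Set K)) :=
    fun y => ⟨1, Subtype.ext (by simpa using hexp y y.2)⟩
  refine ⟨hexp z (hPC hz), ?_⟩
  rw [centralizer_eq hab hc1' (hPC hz) hz1]
  exact (P.is_maximal' hpg hPC).symm

theorem card_normalizer_le (P : Sylow p K) (hP : (P : Subgroup K) ≠ ⊥) :
    Nat.card (normalizer ((P : Subgroup K) : Set K)) ≤ (Nat.card P - 1) * Nat.card P := by
  classical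
  have := Fintype.ofFinite K
  obtain ⟨⟨z, hz⟩, hz'⟩ := ne_bot_iff_exists_ne_one.mp hP
  have hz1 : z ≠ 1 := fun h => hz' (Subtype.ext h)
  let N : Finset K := Finset.univ.filter (· ∈ normalizer ((P : Subgroup K) : Set K))
  let Pf : Finset K := Finset.univ.filter (· ∈ (P : Subgroup K))
  have hN : N.card = Nat.card (normalizer ((P : Subgroup K) : Set K)) := by
    rw [Nat.card_eq_fintype_card, Fintype.card_subtype]
  have hPf : Pf.card = Nat.card P := by
    rw [Nat.card_eq_fintype_card, Fintype.card_subtype]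
  have himg : N.image (fun h => h * z * h⁻¹) ⊆ Pf.erase 1 := by
    intro y hy
    obtain ⟨h, hh, rfl⟩ := Finset.mem_image.mp hy
    refine Finset.mem_erase.mpr ⟨fun he => hz1 ?_, Finset.mem_filter.mpr ⟨Finset.mem_univ _, ?_⟩⟩
    · have := congrArg (fun w => h⁻¹ * w * h) he; simpa [mul_assoc] using this
    · exact (mem_normalizer_iff.mp (Finset.mem_filter.mp hh).2 z).mp hz
  have hfib := Finset.card_le_mul_card_image (f := fun h => h * z * h⁻¹) N (Nat.card P) fun y hy => by
    obtain ⟨h₀, -, rfl⟩ := Finset.mem_image.mp hy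
    calc (N.filter fun h => h * z * h⁻¹ = h₀ * z * h₀⁻¹).card
        ≤ (Pf.image fun x => h₀ * x).card := by
          refine Finset.card_le_card fun h hh => ?_
          have he := (Finset.mem_filter.mp hh).2
          refine Finset.mem_image.mpr ⟨h₀⁻¹ * h, Finset.mem_filter.mpr ⟨Finset.mem_univ _, ?_⟩, by group⟩
          rw [(sylow_eq_centralizer hab hun P hz hz1).2]
          refine mem_centralizer_singleton_iff.mpr ?_
          have := congrArg (fun w => h₀⁻¹ * w * h) he
          simpa [mul_assoc] using this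
      _ ≤ Pf.card := Finset.card_image_le
      _ = Nat.card P := hPf
  rw [hN] at hfib
  refine hfib.trans ((Nat.mul_le_mul_left _ (Finset.card_le_card himg)).trans (le_of_eq ?_))
  rw [Finset.card_erase_of_mem (Finset.mem_filter.mpr ⟨Finset.mem_univ _, one_mem _⟩), hPf, mul_comm]

theorem card_pElements (P : Sylow p K) :
    Nat.card {g : K // g ^ p = 1 ∧ g ≠ 1} = Nat.card (Sylow p K) * (Nat.card P - 1) := by
  have := Fintype.ofFinite K
  have := Fintype.ofFinite (Sylow p K)
  classical
  let f : (Σ Q : Sylow p K, {x : Q // x ≠ 1}) → {g : K // g ^ p = 1 ∧ g ≠ 1} := fun a =>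
    ⟨a.2.1.1, (sylow_eq_centralizer hab hun a.1 a.2.1.2 fun h => a.2.2 (Subtype.ext h)).1,
      fun h => a.2.2 (Subtype.ext h)⟩
  have hinj : Function.Injective f := by
    rintro ⟨Q, ⟨x, hx⟩, hx1⟩ ⟨R, ⟨y, hy⟩, hy1⟩ h
    have hxy : x = y := congrArg Subtype.val h
    subst hxy
    have h1 : x ≠ 1 := fun h => hx1 (Subtype.ext h)
    have hQR : Q = R := Sylow.ext
      ((sylow_eq_centralizer hab hun Q hx h1).2.trans (sylow_eq_centralizer hab hun R hy h1).2.symm)
    subst hQR
    rfl
  have hsurj : Function.Surjective f := by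
    rintro ⟨g, hg, hg1⟩
    have hpg : IsPGroup p (zpowers g) := by
      refine IsPGroup.of_card (n := 1) ?_
      rw [Nat.card_zpowers, orderOf_eq_prime hg hg1, pow_one]
    obtain ⟨Q, hQ⟩ := hpg.exists_le_sylow
    exact ⟨⟨Q, ⟨g, hQ (mem_zpowers g)⟩, fun h => hg1 (congrArg Subtype.val h)⟩, rfl⟩
  rw [← Nat.card_eq_of_bijective f ⟨hinj, hsurj⟩, Nat.card_sigma]
  have : ∀ Q : Sylow p K, Nat.card {x : Q // x ≠ 1} = Nat.card P - 1 := fun Q => by
    have := Fintype.ofFinite Q
    rw [Nat.card_eq_fintype_card, Fintype.card_subtype_compl, Fintype.card_subtype_eq,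
      ← Nat.card_eq_fintype_card]
    exact congrArg (· - 1) (Nat.card_congr (Q.equiv P).toEquiv)
  rw [Finset.sum_congr rfl (fun Q _ => this Q), Finset.sum_const, Finset.card_univ,
    ← Nat.card_eq_fintype_card, smul_eq_mul]

include hss

omit hun hp in
theorem card_conjugates {g : K} (hg : g ^ p ≠ 1) :
    Nat.card {y : K | ∃ k : K, ∃ x ∈ centralizer ({g} : Set K), x ≠ 1 ∧ k * x * k⁻¹ = y}
      = (centralizer ({g} : Set K)).index * (Nat.card (centralizer ({g} : Set K)) - 1) := by
  classical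
  set A := centralizer ({g} : Set K) with hA
  have hg1 : g ≠ 1 := fun h => hg (by rw [h, one_pow])
  have := Fintype.ofFinite A
  let f : (K ⧸ A) × {x : A // x ≠ 1} → {y : K | ∃ k : K, ∃ x ∈ A, x ≠ 1 ∧ k * x * k⁻¹ = y} :=
    fun a => ⟨a.1.out * a.2.1 * a.1.out⁻¹, a.1.out, a.2.1, a.2.1.2, fun h => a.2.2 (Subtype.ext h), rfl⟩
  have key : ∀ m x : K, x ∈ A → x ≠ 1 → m * x * m⁻¹ ∈ A → m ∈ A := by
    intro m x hx hx1 hm
    have e1 : centralizer ({x} : Set K) = A := centralizer_eq hab hg1 hx hx1
    have hm1 : m * x * m⁻¹ ≠ 1 := fun h => hx1 (by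
      have := congrArg (fun w => m⁻¹ * w * m) h; simpa [mul_assoc] using this)
    have e2 : centralizer ({m * x * m⁻¹} : Set K) = A := centralizer_eq hab hg1 hm hm1
    refine hss g m hg ?_
    rw [← hA, ← e2]
    refine mem_centralizer_singleton_iff.mpr ?_
    have h3 : g * x = x * g := (mem_centralizer_singleton_iff.mp hx).symm
    calc m * g * m⁻¹ * (m * x * m⁻¹) = m * (g * x) * m⁻¹ := by group
      _ = m * (x * g) * m⁻¹ := by rw [h3]
      _ = _ := by group
  have hinj : Function.Injective f := by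
    rintro ⟨a, ⟨x, hx⟩, hx1⟩ ⟨b, ⟨y, hy⟩, hy1⟩ h
    have h' : a.out * x * a.out⁻¹ = b.out * y * b.out⁻¹ := congrArg Subtype.val h
    have hm : b.out⁻¹ * a.out * x * (b.out⁻¹ * a.out)⁻¹ = y := by
      have := congrArg (fun w => b.out⁻¹ * w * b.out) h'
      simpa [mul_assoc] using this
    have hmA := key _ x hx (fun h => hx1 (Subtype.ext h)) (hm ▸ hy)
    have hab' : a = b := by
      rw [← a.out_eq', ← b.out_eq']
      exact (QuotientGroup.eq.mpr hmA).symm
    subst hab'
    rw [inv_mul_cancel, one_mul, inv_one, mul_one] at hm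
    subst hm
    rfl
  have hsurj : Function.Surjective f := by
    rintro ⟨y, k, x, hx, hx1, rfl⟩
    obtain ⟨⟨m, hm⟩, hmk⟩ := QuotientGroup.mk_out_eq_mul A k
    have hcx : m * x = x * m := by
      have := hab g hg1
      exact congrArg Subtype.val (mul_comm' (⟨m, hm⟩ : A) ⟨x, hx⟩)
    refine ⟨⟨(k : K ⧸ A), ⟨x, hx⟩, fun h => hx1 (congrArg Subtype.val h)⟩, Subtype.ext ?_⟩
    show (k : K ⧸ A).out * x * (k : K ⧸ A).out⁻¹ = k * x * k⁻¹
    rw [hmk]
    calc k * m * x * (k * m)⁻¹ = k * (m * x) * m⁻¹ * k⁻¹ := by group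
      _ = k * (x * m) * m⁻¹ * k⁻¹ := by rw [hcx]
      _ = _ := by group
  rw [← Nat.card_eq_of_bijective f ⟨hinj, hsurj⟩, Nat.card_prod, ← Subgroup.index_eq_card]
  congr 1
  rw [Nat.card_eq_fintype_card, Fintype.card_subtype_compl, Fintype.card_subtype_eq,
    ← Nat.card_eq_fintype_card]

include hun

/-- The Sylow `p`-subgroup is normal. -/
theorem sylow_unique (hodd : Odd (Nat.card K)) (P : Sylow p K) (hP : (P : Subgroup K) ≠ ⊥) :
    Nat.card (Sylow p K) = 1 := by
  classical
  have := Fintype.ofFinite K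
  by_cases hall : ∀ g : K, g ^ p = 1
  · have hpg : IsPGroup p K := fun g => ⟨1, by rw [pow_one]; exact hall g⟩
    have : Subsingleton (Sylow p K) := ⟨fun Q R => Sylow.ext <| by
      have key : ∀ Q : Sylow p K, (Q : Subgroup K) = ⊤ := fun Q =>
        (Q.is_maximal' (hpg.to_subgroup ⊤) le_top).symm
      rw [key Q, key R]⟩
    exact Nat.card_unique
  push Not at hall
  obtain ⟨g, hg⟩ := hall
  set A := centralizer ({g} : Set K) with hA
  have hg1 : g ≠ 1 := fun h => hg (by rw [h, one_pow])
  let T : K → Finset K := fun a => Finset.univ.filter fun y =>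
    ∃ k : K, ∃ x ∈ centralizer ({a} : Set K), x ≠ 1 ∧ k * x * k⁻¹ = y
  have hT : ∀ a : K, a ^ p ≠ 1 →
      (T a).card + (centralizer ({a} : Set K)).index = Nat.card K ∧
        3 * (centralizer ({a} : Set K)).index ≤ Nat.card K := by
    intro a ha
    have hc := card_conjugates hab hss ha
    rw [Nat.card_eq_fintype_card, Fintype.card_subtype] at hc
    simp only [Set.mem_setOf_eq] at hc
    have hc' : (T a).card
        = (centralizer ({a} : Set K)).index * (Nat.card (centralizer ({a} : Set K)) - 1) := by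
      convert hc
    have h1 := (centralizer ({a} : Set K)).card_mul_index
    have ha1 : a ≠ 1 := fun h => ha (by rw [h, one_pow])
    have h3 : 3 ≤ Nat.card (centralizer ({a} : Set K)) := by
      have hne : Nat.card (centralizer ({a} : Set K)) ≠ 1 := fun h =>
        ha1 (mem_bot.mp ((card_eq_one.mp h) ▸ self_mem hab a))
      have h2 : Nat.card (centralizer ({a} : Set K)) ≠ 2 := fun h => by
        have h2d := (centralizer ({a} : Set K)).card_subgroup_dvd_card
        rw [h] at h2d
        obtain ⟨t, ht⟩ := hodd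
        omega
      have := Nat.card_pos (α := centralizer ({a} : Set K))
      omega
    refine ⟨?_, ?_⟩
    · rw [hc', ← h1, Nat.mul_sub, mul_one, Nat.sub_add_cancel (Nat.le_mul_of_pos_right _ (by omega)),
        mul_comm]
    · rw [← h1]; exact Nat.mul_le_mul_right _ h3
  have hTp : ∀ a : K, a ^ p ≠ 1 → ∀ y ∈ T a, y ^ p ≠ 1 := by
    intro a ha y hy hyp
    obtain ⟨k, x, hx, hx1, rfl⟩ := (Finset.mem_filter.mp hy).2
    rw [conj_pow, mul_inv_eq_one, mul_eq_left] at hyp
    have ha1 : a ≠ 1 := fun h => ha (by rw [h, one_pow])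
    refine ha (hun x hx1 hyp a ?_)
    rw [centralizer_eq hab ha1 hx hx1]; exact self_mem hab a
  have hmem : ∀ a : K, a ^ p ≠ 1 → a ∈ T g := by
    intro a ha
    by_contra hna
    have hdisj : Disjoint (T a) (T g) := by
      rw [Finset.disjoint_left]
      intro y hy hy'
      obtain ⟨k, x, hx, hx1, rfl⟩ := (Finset.mem_filter.mp hy).2
      obtain ⟨l, z, hz, hz1, hzy⟩ := (Finset.mem_filter.mp hy').2
      apply hna
      have ha1 : a ≠ 1 := fun h => ha (by rw [h, one_pow])
      refine Finset.mem_filter.mpr ⟨Finset.mem_univ _, k⁻¹ * l, (k⁻¹ * l)⁻¹ * a * (k⁻¹ * l), ?_, ?_, by group⟩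
      · rw [← centralizer_eq hab hg1 hz hz1, mem_centralizer_singleton_iff]
        have hxa : x * a = a * x := mem_centralizer_singleton_iff.mp hx
        have hz' : z = (k⁻¹ * l)⁻¹ * x * (k⁻¹ * l) := by
          have := congrArg (fun w => l⁻¹ * w * l) hzy
          simpa [mul_assoc] using this
        calc (k⁻¹ * l)⁻¹ * a * (k⁻¹ * l) * z = (k⁻¹ * l)⁻¹ * (a * x) * (k⁻¹ * l) := by rw [hz']; group
          _ = (k⁻¹ * l)⁻¹ * (x * a) * (k⁻¹ * l) := by rw [hxa]
          _ = _ := by rw [hz']; group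
      · intro h
        exact ha1 (by have := congrArg (fun w => (k⁻¹ * l) * w * (k⁻¹ * l)⁻¹) h; simpa [mul_assoc] using this)
    have hsum : (T a).card + (T g).card ≤ Nat.card K := by
      rw [← Finset.card_union_of_disjoint hdisj, Nat.card_eq_fintype_card]
      exact Finset.card_le_univ _
    obtain ⟨h1, h2⟩ := hT a ha
    obtain ⟨h3, h4⟩ := hT g hg
    have := Nat.card_pos (α := K)
    omega
  have hcover : (T g).card + Nat.card {y : K // y ^ p = 1 ∧ y ≠ 1} + 1 = Nat.card K := by
    have hTeq : T g = Finset.univ.filter fun y : K => ¬ y ^ p = 1 :=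
      Finset.ext fun y => ⟨fun h => Finset.mem_filter.mpr ⟨Finset.mem_univ _, hTp g hg y h⟩,
        fun h => hmem y (Finset.mem_filter.mp h).2⟩
    have h1 := Finset.card_filter_add_card_filter_not (s := (Finset.univ : Finset K)) (fun y => y ^ p = 1)
    have h2 : (Finset.univ.filter fun y : K => y ^ p = 1).card
        = Nat.card {y : K // y ^ p = 1 ∧ y ≠ 1} + 1 := by
      rw [Nat.card_eq_fintype_card, Fintype.card_subtype,
        ← Finset.card_insert_of_notMem (a := (1 : K)) (by simp)]
      congr 1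
      ext y
      by_cases hy : y = 1 <;> simp [hy]
    rw [hTeq, Nat.card_eq_fintype_card (α := K), ← Finset.card_univ]
    omega
  rw [card_pElements hab hun P] at hcover
  obtain ⟨h3, -⟩ := hT g hg
  -- the arithmetic
  set s := Nat.card (Sylow p K)
  set q := Nat.card P
  set m := A.index
  have hm : m = 1 + s * (q - 1) := by omega
  have hNM : Nat.card (normalizer ((P : Subgroup K) : Set K)) * s = Nat.card A * m := by
    show _ * Nat.card (Sylow p K) = _ * A.index
    rw [P.card_eq_index_normalizer, A.card_mul_index]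
    exact (normalizer ((P : Subgroup K) : Set K)).card_mul_index
  have hM := card_normalizer_le hab hun P hP
  have hqM : q ∣ Nat.card (normalizer ((P : Subgroup K) : Set K)) :=
    card_dvd_of_le (Subgroup.le_normalizer)
  have hcopA : q.Coprime (Nat.card A) := by
    obtain ⟨e, he⟩ := P.isPGroup'.exists_card_eq
    show (Nat.card P).Coprime _
    rw [he]
    refine Nat.Coprime.pow_left _ (hp.out.coprime_iff_not_dvd.mpr fun h => ?_)
    obtain ⟨x, hx⟩ := exists_prime_orderOf_dvd_card' (G := A) p h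
    have hx1 : (x : K) ≠ 1 := fun h => hp.out.ne_one (by rw [← hx, ← orderOf_coe, h, orderOf_one])
    refine hg (hun (x : K) hx1 (by rw [← hx, ← orderOf_coe, pow_orderOf_eq_one]) g ?_)
    rw [centralizer_eq hab hg1 x.2 hx1]; exact self_mem hab g
  have hqm : q ∣ m := hcopA.dvd_of_dvd_mul_left (hNM ▸ hqM.mul_right _)
  have hms : m.Coprime s := by
    rw [hm]
    simp [Nat.coprime_add_mul_left_left]
  have hmM : m ≤ Nat.card (normalizer ((P : Subgroup K) : Set K)) :=
    Nat.le_of_dvd Nat.card_pos (hms.dvd_of_dvd_mul_right (hNM ▸ Dvd.intro_left _ rfl))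
  by_contra hs1
  have hs0 : 0 < s := Nat.card_pos
  have hq2 : 1 ≤ q := Nat.card_pos
  have hqs : q ∣ s - 1 := by
    have h1 : q ∣ 1 + s * (q - 1) := hm ▸ hqm
    have h2 : 1 + s * (q - 1) + (s - 1) = s * q := by
      rw [Nat.mul_sub, mul_one]; have := Nat.le_mul_of_pos_right s hq2; omega
    exact (Nat.dvd_add_right h1).mp (h2 ▸ dvd_mul_left q s)
  have hsq : q + 1 ≤ s := by have := Nat.le_of_dvd (by omega) hqs; omega
  have h1 : (q + 1) * (q - 1) ≤ s * (q - 1) := Nat.mul_le_mul_right _ hsq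
  obtain ⟨r, hr⟩ : ∃ r, q = r + 1 := ⟨q - 1, by omega⟩
  change Nat.card (normalizer ((P : Subgroup K) : Set K)) ≤ (q - 1) * q at hM
  rw [hr, Nat.add_sub_cancel] at h1 hM hm
  nlinarith

end Count

section Matrices

variable {F : Type*} [Field F]

theorem exists_smul_add {M X : Matrix (Fin 2) (Fin 2) F} (hM : ∀ a : F, M ≠ a • 1)
    (h : X * M = M * X) : ∃ α β : F, X = α • 1 + β • M := by
  have e00 := congrFun (congrFun h 0) 0
  have e01 := congrFun (congrFun h 0) 1
  have e10 := congrFun (congrFun h 1) 0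
  simp only [Matrix.mul_apply, Fin.sum_univ_two] at e00 e01 e10
  by_cases hb : M 0 1 = 0
  · by_cases hc : M 1 0 = 0
    · have had : M 0 0 - M 1 1 ≠ 0 := by
        intro had
        refine hM (M 0 0) ?_
        rw [sub_eq_zero] at had
        ext i j
        fin_cases i <;> fin_cases j <;> simp [hb, hc, had]
      have hy : X 0 1 = 0 := by
        rw [hb] at e01
        exact (mul_eq_zero.mp (show X 0 1 * (M 0 0 - M 1 1) = 0 by linear_combination -e01)).resolve_right had
      have hz : X 1 0 = 0 := by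
        rw [hc] at e10
        exact (mul_eq_zero.mp (show X 1 0 * (M 0 0 - M 1 1) = 0 by linear_combination e10)).resolve_right had
      refine ⟨X 0 0 - (X 0 0 - X 1 1) / (M 0 0 - M 1 1) * M 0 0, (X 0 0 - X 1 1) / (M 0 0 - M 1 1), ?_⟩
      ext i j
      fin_cases i <;> fin_cases j <;> simp [hb, hc, hy, hz]
      field_simp; ring
    · refine ⟨X 0 0 - X 1 0 / M 1 0 * M 0 0, X 1 0 / M 1 0, ?_⟩
      ext i j
      fin_cases i <;> fin_cases j <;> simp [hc]
      · field_simp; linear_combination e00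
      · field_simp; linear_combination e10
  · refine ⟨X 0 0 - X 0 1 / M 0 1 * M 0 0, X 0 1 / M 0 1, ?_⟩
    ext i j
    fin_cases i <;> fin_cases j <;> simp [hb]
    · field_simp; linear_combination -e00
    · field_simp; linear_combination -e01

theorem mul_self_eq {M : Matrix (Fin 2) (Fin 2) F} (hd : M.det = 1) :
    M * M = M.trace • M - 1 := by
  rw [Matrix.det_fin_two] at hd
  ext i j
  fin_cases i <;> fin_cases j <;> simp [Matrix.mul_apply, Matrix.trace_fin_two]
  · linear_combination -hd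
  · ring
  · ring
  · linear_combination -hd

theorem det_smul_add {M : Matrix (Fin 2) (Fin 2) F} (hd : M.det = 1) (α β : F) :
    (α • (1 : Matrix (Fin 2) (Fin 2) F) + β • M).det = α ^ 2 + α * β * M.trace + β ^ 2 := by
  rw [Matrix.det_fin_two] at hd ⊢
  simp [Matrix.trace_fin_two]
  linear_combination β ^ 2 * hd

theorem trace_smul_add (M : Matrix (Fin 2) (Fin 2) F) (α β : F) :
    (α • (1 : Matrix (Fin 2) (Fin 2) F) + β • M).trace = 2 * α + β * M.trace := by
  simp [Matrix.trace_fin_two]; ring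

theorem det_sub_one (M : Matrix (Fin 2) (Fin 2) F) : (M - 1).det = M.det - M.trace + 1 := by
  rw [Matrix.det_fin_two, Matrix.det_fin_two]; simp [Matrix.trace_fin_two]; ring

theorem ker_line {N : Matrix (Fin 2) (Fin 2) F} (hN : N ≠ 0) {v w : Fin 2 → F} (hv : v ≠ 0)
    (h1 : N.mulVec v = 0) (h2 : N.mulVec w = 0) : w ∈ Submodule.span F {v} := by
  rw [Submodule.mem_span_singleton]
  have a0 := congrFun h1 0
  have a1 := congrFun h1 1
  have b0 := congrFun h2 0
  have b1 := congrFun h2 1
  simp [Matrix.mulVec, dotProduct, Fin.sum_univ_two] at a0 a1 b0 b1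
  have hD : v 0 * w 1 = v 1 * w 0 := by
    by_contra hD
    have hD' : v 0 * w 1 - v 1 * w 0 ≠ 0 := sub_ne_zero.mpr hD
    refine hN ?_
    ext i j
    fin_cases i <;> fin_cases j <;> simp <;> refine (mul_eq_zero.mp (?_ : _ * (v 0 * w 1 - v 1 * w 0) = 0)).resolve_right hD'
    · linear_combination w 1 * a0 - v 1 * b0
    · linear_combination v 0 * b0 - w 0 * a0
    · linear_combination w 1 * a1 - v 1 * b1
    · linear_combination v 0 * b1 - w 0 * a1
  by_cases h0 : v 0 = 0
  · have hv1 : v 1 ≠ 0 := fun h => hv (funext fun i => by fin_cases i <;> simp [h0, h])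
    refine ⟨w 1 / v 1, funext fun i => ?_⟩
    fin_cases i <;> simp [h0, hv1]
    rw [h0, zero_mul] at hD
    exact ((mul_eq_zero.mp hD.symm).resolve_left hv1).symm
  · refine ⟨w 0 / v 0, funext fun i => ?_⟩
    fin_cases i <;> simp [h0]
    field_simp
    linear_combination -hD

end Matrices

end CfsgLib.OddLocal.GLTwoOdd
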