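import Cfsg.Agent.S1463
import Cfsg.Agent.Lib.OddLocal.GLTwoOdd
import Mathlib.GroupTheory.Solvable
import Mathlib.GroupTheory.PGroup

/-!
The derived subgroup of a solvable subgroup of odd order of `GL(2, p)` is a `p`-group.
-/

set_option autoImplicit false

namespace CfsgLib.OddLocal.GLTwoDerived

open Subgroup Matrix
open scoped MatrixGroups commutatorElement

variable {F : Type*} [Field F] [Finite F] {p : ℕ} [hp : Fact p.Prime] [CharP F p]

omit [Finite F] hp [CharP F p] in
theorem det_eq_one_of_mem_commutator {H : Subgroup (GL (Fin 2) F)} {g : H} (hg : g ∈ _root_.commutator H) :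
    ((g : GL (Fin 2) F) : Matrix (Fin 2) (Fin 2) F).det = 1 := by
  have h := Abelianization.commutator_subset_ker
    ((Matrix.GeneralLinearGroup.det (n := Fin 2) (R := F)).comp H.subtype) hg
  exact congrArg (fun u : Fˣ => (u : F)) (MonoidHom.mem_ker.mp h)

/-- A `p'`-group of odd order in `GL(2, F)` is abelian, when solvable. -/
theorem commutative_of_coprime (hp2 : p ≠ 2) (H : Subgroup (GL (Fin 2) F)) [Finite H]
    [Group.IsSolvable H] (hodd : Odd (Nat.card H)) (hpd : ¬ p ∣ Nat.card H) :
    _root_.commutator H = ⊥ := by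
  by_contra hne
  -- an abelian normal subgroup inside the derived subgroup
  obtain ⟨N, hNn, hNH, hNab, g, hgN, hg1⟩ : ∃ N : Subgroup H, N.Normal ∧ N ≤ _root_.commutator H ∧
      IsMulCommutative N ∧ ∃ g ∈ N, g ≠ 1 := by
    obtain ⟨n, hn⟩ := (Group.isSolvable_def H).1 inferInstance
    classical
    have hex : ∃ n, derivedSeries H n = ⊥ := ⟨n, hn⟩
    set k := Nat.find hex with hk
    have hk1 : 2 ≤ k := by
      by_contra h
      have hs := Nat.find_spec hex
      rw [← hk] at hs
      rcases (show k = 0 ∨ k = 1 by omega) with h0 | h0 <;> rw [h0] at hs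
      · rw [derivedSeries_zero] at hs
        exact hne (le_bot_iff.1 ((le_top (a := _root_.commutator H)).trans hs.le))
      · rw [derivedSeries_one] at hs
        exact hne hs
    obtain ⟨j, hj⟩ : ∃ j, k = j + 2 := ⟨k - 2, by omega⟩
    refine ⟨derivedSeries H (j + 1), derivedSeries_normal H _, ?_, ?_, ?_⟩
    · rw [← derivedSeries_one]
      exact derivedSeries_antitone H (by omega)
    · have hs := Nat.find_spec hex
      rw [← hk, hj, derivedSeries_succ, commutator_eq_bot_iff_le_centralizer] at hs
      exact le_centralizer_iff_isMulCommutative.1 hs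
    · have hm := Nat.find_min hex (m := j + 1) (by omega)
      obtain ⟨⟨x, hx⟩, hx1⟩ := ne_bot_iff_exists_ne_one.1 hm
      exact ⟨x, hx, fun h => hx1 (Subtype.ext h)⟩
  let mv : H → Matrix (Fin 2) (Fin 2) F := fun x => ((x : GL (Fin 2) F) : Matrix (Fin 2) (Fin 2) F)
  have mv_mul : ∀ a b : H, mv (a * b) = mv a * mv b := fun a b => rfl
  have mv_inj : Function.Injective mv := fun a b h => Subtype.ext (Units.ext h)
  have hdg : (mv g).det = 1 := det_eq_one_of_mem_commutator (hNH hgN)
  have hsq : ∀ x : H, x * x = 1 → x = 1 := fun x hx =>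
    CfsgLib.OddLocal.eq_one_of_pow_eq_one_coprime (n := Nat.card H) ((pow_two x).trans hx)
      pow_card_eq_one' hodd.coprime_two_left
  have hns : ∀ a : F, mv g ≠ a • 1 := by
    intro a ha
    have hd := hdg
    rw [ha, Matrix.det_smul, Matrix.det_one, mul_one, Fintype.card_fin] at hd
    refine hg1 (hsq g (mv_inj ?_))
    rw [mv_mul, ha, smul_mul_smul_comm, mul_one, ← pow_two, hd, one_smul]
    rfl
  have hpn : ∀ x : H, x ^ p = 1 → x = 1 := fun x hx =>
    CfsgLib.OddLocal.eq_one_of_pow_eq_one_coprime hx (pow_card_eq_one' (x := x))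
      (hp.out.coprime_iff_not_dvd.2 hpd)
  have hMM := CfsgLib.OddLocal.GLTwoOdd.mul_self_eq hdg
  set t := (mv g).trace with ht
  have h2 : (2 : F) ≠ 0 := by
    intro h2
    have h2' : ((2 : ℕ) : F) = 0 := by exact_mod_cast h2
    have := Nat.le_of_dvd (by norm_num) ((CharP.cast_eq_zero_iff F p 2).mp h2')
    have := hp.out.two_le
    omega
  have hcent : ∀ h : H, mv h * mv g = mv g * mv h := by
    intro h
    have hz : h * g * h⁻¹ * g = g * (h * g * h⁻¹) :=
      congrArg Subtype.val (hNab.is_comm.comm (⟨_, hNn.conj_mem g hgN h⟩ : N) ⟨g, hgN⟩)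
    obtain ⟨α, β, hX⟩ := CfsgLib.OddLocal.GLTwoOdd.exists_smul_add hns
      (show mv (h * g * h⁻¹) * mv g = mv g * mv (h * g * h⁻¹) by rw [← mv_mul, ← mv_mul, hz])
    have hd : (mv (h * g * h⁻¹)).det = 1 :=
      det_eq_one_of_mem_commutator (hNH (hNn.conj_mem g hgN h))
    have htr : (mv (h * g * h⁻¹)).trace = t := by
      rw [mv_mul, Matrix.trace_mul_comm, ← mv_mul, ← mul_assoc, inv_mul_cancel, one_mul]
    rw [hX, CfsgLib.OddLocal.GLTwoOdd.trace_smul_add] at htr
    rw [hX, CfsgLib.OddLocal.GLTwoOdd.det_smul_add hdg] at hd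
    have key : (1 - β) * (1 + β) * ((t / 2) * (t / 2) - 1) = 0 := by
      field_simp
      linear_combination (4 : F) * hd - (2 * α + β * t + t) * htr
    rcases mul_eq_zero.mp key with h1 | h1
    · rcases mul_eq_zero.mp h1 with h3 | h3
      · have hb : β = 1 := by linear_combination -h3
        subst hb
        have ha : α = 0 :=
          (mul_eq_zero.mp (show α * 2 = 0 by linear_combination htr)).resolve_right h2
        rw [ha, zero_smul, one_smul, zero_add] at hX
        have := mv_inj hX
        rw [← mv_mul, ← mv_mul, mul_inv_eq_iff_eq_mul.mp this]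
      · have hb : β = -1 := by linear_combination h3
        subst hb
        have ha : α = t := mul_right_cancel₀ h2 (by linear_combination htr)
        have hinv : h * g * h⁻¹ = g⁻¹ := by
          refine eq_inv_of_mul_eq_one_left (mv_inj ?_)
          rw [mv_mul, hX, ha, add_mul, smul_mul_assoc, smul_mul_assoc, hMM]
          simp only [one_mul, neg_one_smul]
          show _ = (1 : Matrix (Fin 2) (Fin 2) F)
          abel
        have e : h * g⁻¹ * h⁻¹ = g := by
          have := congrArg (fun w => w⁻¹) hinv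
          simpa [mul_assoc] using this
        have hh : h ^ 2 ∈ centralizer ({g} : Set H) := by
          rw [mem_centralizer_singleton_iff, pow_two]
          refine mul_inv_eq_iff_eq_mul.mp ?_
          calc h * h * g * (h * h)⁻¹ = h * (h * g * h⁻¹) * h⁻¹ := by group
            _ = g := by rw [hinv, e]
        have := CfsgLib.OddLocal.mem_of_pow_mem_coprime hh
          (show h ^ Nat.card H ∈ centralizer ({g} : Set H) by rw [pow_card_eq_one']; exact one_mem _)
          hodd.coprime_two_left
        rw [← mv_mul, ← mv_mul, mem_centralizer_singleton_iff.mp this]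
    · exfalso
      have h1' : t / 2 * (t / 2) = 1 := by linear_combination h1
      have hnil : (mv g - (t / 2) • 1) * (mv g - (t / 2) • 1) = 0 := by
        rw [sub_mul, mul_sub, mul_sub, hMM, mul_smul_comm, smul_mul_assoc, smul_mul_smul_comm, h1',
          one_smul, mul_one, one_mul]
        have ht2 : t = t / 2 + t / 2 := by field_simp; ring
        generalize t / 2 = b at ht2
        rw [ht2, add_smul]
        simp only [mul_one, one_mul]
        abel
      have h2' : (mv g - (t / 2) • 1) ^ p = 0 := by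
        obtain ⟨k, hk⟩ := Nat.exists_eq_add_of_le hp.out.two_le
        rw [hk, pow_add, pow_two, hnil, zero_mul]
      have hc : Commute (mv g) ((t / 2) • (1 : Matrix (Fin 2) (Fin 2) F)) := (Commute.one_right _).smul_right _
      have : CharP (Matrix (Fin 2) (Fin 2) F) p := inferInstance
      rw [sub_pow_char_of_commute _ hc, sub_eq_zero, smul_pow, one_pow] at h2'
      have hpow : ∀ n : ℕ, mv (g ^ n) = mv g ^ n := fun n => by
        induction n with
        | zero => rfl
        | succ n ih => rw [pow_succ, pow_succ, mv_mul, ih]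
      refine hg1 (hpn g (hsq _ (mv_inj ?_)))
      rw [mv_mul, hpow, h2', smul_mul_smul_comm, mul_one, ← mul_pow, h1', one_pow, one_smul]
      rfl
  refine hne (eq_bot_iff.2 (commutator_le.2 fun x _ y _ => ?_))
  rw [mem_bot, commutatorElement_eq_one_iff_mul_comm]
  obtain ⟨α, β, hx⟩ := CfsgLib.OddLocal.GLTwoOdd.exists_smul_add hns (hcent x)
  obtain ⟨γ, δ, hy⟩ := CfsgLib.OddLocal.GLTwoOdd.exists_smul_add hns (hcent y)
  refine mv_inj ?_
  simp only [mv_mul, hx, hy, mul_add, add_mul, smul_mul_smul_comm, one_mul, mul_one]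
  rw [mul_comm α γ, mul_comm α δ, mul_comm β γ, mul_comm β δ]
  abel

/-- The derived subgroup of a solvable subgroup of odd order of `GL(2, F)` is a `p`-group. -/
theorem derived_isPGroup (hp2 : p ≠ 2) (H : Subgroup (GL (Fin 2) F)) [Finite H]
    [Group.IsSolvable H] (hodd : Odd (Nat.card H)) : IsPGroup p (_root_.commutator H) := by
  by_cases hpd : p ∣ Nat.card H
  swap
  · rw [commutative_of_coprime hp2 H hodd hpd]
    exact IsPGroup.of_bot
  obtain ⟨v, hv, hinv⟩ : ∃ v : Fin 2 → F, v ≠ 0 ∧ ∀ g ∈ H,
      (g : Matrix (Fin 2) (Fin 2) F).mulVec v ∈ Submodule.span F {v} := by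
    by_contra! hirr
    exact Cfsg.Agent.S1463.result p hp2 H hodd hirr hpd
  have hc : ∀ g : H, ∃ c : F, ((g : GL (Fin 2) F) : Matrix (Fin 2) (Fin 2) F).mulVec v = c • v :=
    fun g => by
      obtain ⟨c, hc⟩ := Submodule.mem_span_singleton.1 (hinv g g.2)
      exact ⟨c, hc.symm⟩
  choose c hc using hc
  have hc1 : c 1 = 1 := by
    have := hc 1
    simp only [OneMemClass.coe_one, Units.val_one, Matrix.one_mulVec] at this
    exact smul_left_injective F hv (by simpa using this.symm)
  have hcmul : ∀ a b : H, c (a * b) = c a * c b := fun a b => by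
    apply smul_left_injective F hv
    show c (a * b) • v = (c a * c b) • v
    rw [← hc, Subgroup.coe_mul, Units.val_mul, ← Matrix.mulVec_mulVec, hc, Matrix.mulVec_smul, hc,
      smul_smul, mul_comm]
  let χ : H →* F := { toFun := c, map_one' := hc1, map_mul' := hcmul }
  rintro ⟨g, hg⟩
  refine ⟨1, Subtype.ext (Subtype.ext (Units.ext ?_))⟩
  show (((g ^ p ^ 1 : H) : GL (Fin 2) F) : Matrix (Fin 2) (Fin 2) F) = 1
  set M := ((g : GL (Fin 2) F) : Matrix (Fin 2) (Fin 2) F)
  have hdet : M.det = 1 := det_eq_one_of_mem_commutator hg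
  have hcg : c g = 1 := congrArg (fun u : Fˣ => (u : F))
    (MonoidHom.mem_ker.mp (Abelianization.commutator_subset_ker χ.toHomUnits hg))
  have hd0 : (M - 1).det = 0 := by
    rw [← Matrix.exists_mulVec_eq_zero_iff]
    refine ⟨v, hv, ?_⟩
    rw [Matrix.sub_mulVec, Matrix.one_mulVec, hc g, hcg, one_smul, sub_self]
  rw [CfsgLib.OddLocal.GLTwoOdd.det_sub_one, hdet] at hd0
  have htr : M.trace = 2 := by linear_combination -hd0
  have hN : (M - 1) * (M - 1) = 0 := by
    rw [sub_mul, mul_sub, CfsgLib.OddLocal.GLTwoOdd.mul_self_eq hdet, htr, two_smul, mul_one, one_mul]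
    abel
  have hz : (M - 1) ^ p = 0 := by
    obtain ⟨k, hk⟩ := Nat.exists_eq_add_of_le hp.out.two_le
    rw [hk, pow_add, pow_two, hN, zero_mul]
  have : CharP (Matrix (Fin 2) (Fin 2) F) p := inferInstance
  rw [sub_pow_char_of_commute _ (Commute.one_right _), one_pow, sub_eq_zero] at hz
  simpa [pow_one] using hz

end CfsgLib.OddLocal.GLTwoDerived
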