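import Cfsg.Agent.Lib.OddLocal.KappaPair
import Cfsg.Agent.Lib.OddLocal.CosetFibres

/-!
# The counting argument of BG 14.7

`Ẑ` consists of the elements of `Z` in no `σ`-core of a member. Its conjugates avoid all `M̃` and there are
`|Ẑ| |G : Z|` of them; so some member has `U ≠ 1`.
-/

namespace CfsgLib.OddLocal.Kappa

open Subgroup
open CfsgLib.TwoGroups
open PrimeActionTools FixedTauOne TauThree
open SigmaOrderP (sigmaCore_le le_normalizer_sigmaCore le_sigmaCore)

variable {G : Type*} [Group G] [Finite G] {M N H E F K L X Y Z : Subgroup G} {g x y z : G}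

/-- Elements of `Z` outside every `σ`-core of a member. -/
def Zhat (Z : Subgroup G) : Set G := {z | z ∈ Z ∧ ∀ N, Member Z N → z ∉ Cfsg.sigmaCore N}

/-- The conjugates of `Ẑ`. -/
def ZhatClosure (Z : Subgroup G) : Set G := {a | ∃ g : G, ∃ z ∈ Zhat Z, a = g * z * g⁻¹}

theorem Member.exists_member (h : Member Z M) (hG : Cfsg.IsMinSimpleOddOrder G) {p : ℕ} (hp : p.Prime)
    (hX : Nat.card X = p) (hXZ : X ≤ Z) : ∃ H, Member Z H ∧ X ≤ Cfsg.sigmaCore H := by
  obtain ⟨K, E, d, rfl⟩ := h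
  have := Fact.mk hp
  exact d.exists_member hG hX hXZ

theorem exists_line_zpowers {t : ℕ} (ht : t.Prime) (hd : t ∣ orderOf x) :
    ∃ X : Subgroup G, Nat.card X = t ∧ X ≤ zpowers x := by
  have := Fact.mk ht
  obtain ⟨w, hw⟩ := exists_prime_orderOf_dvd_card' t (by rwa [← Nat.card_zpowers] at hd)
  exact ⟨zpowers (w : G), by rw [Nat.card_zpowers, orderOf_coe, hw], zpowers_le.mpr w.2⟩

theorem centralizer_le_of_le_zpowers (h : X ≤ zpowers x) :
    centralizer ({x} : Set G) ≤ centralizer (X : Set G) := fun c hc => mem_centralizer_iff.mpr fun y hy => by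
  obtain ⟨n, rfl⟩ := mem_zpowers_iff.mp (h hy)
  exact ((show Commute x c from mem_centralizer_iff.mp hc x rfl).zpow_left n).eq

theorem Zhat.ne_one (h : Member Z M) (hz : z ∈ Zhat Z) : z ≠ 1 := fun e => hz.2 M h (e ▸ one_mem _)

theorem Zhat.conj_mem (hm : g ∈ Z) (hz : z ∈ Zhat Z) : g * z * g⁻¹ ∈ Zhat Z :=
  ⟨mul_mem (mul_mem hm hz.1) (inv_mem hm), fun N hN h =>
    hz.2 N hN ((mem_normalizer_iff.mp (le_normalizer_sigmaCore N (hN.le hm)) z).mpr h)⟩

/-- `Ẑ` is a TI-set with normalizer `Z`. -/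
theorem Zhat.mem_of_conj (h : Member Z M) (hG : Cfsg.IsMinSimpleOddOrder G) (hz : z ∈ Zhat Z)
    (hz' : g * z * g⁻¹ ∈ Zhat Z) : g ∈ Z := by
  obtain ⟨t, ht, hd⟩ := Nat.exists_prime_and_dvd
    (fun e => Zhat.ne_one h hz (orderOf_eq_one_iff.mp e) : orderOf z ≠ 1)
  have := Fact.mk ht
  obtain ⟨X, hX, hXz⟩ := exists_line_zpowers ht hd
  obtain ⟨H, hH, hXH⟩ := h.exists_member hG ht hX (hXz.trans (zpowers_le.mpr hz.1))
  have htH : t ∈ Cfsg.sigma H := TauTwo.mem_sigma_of_dvd ht (hX ▸ card_dvd_of_le hXH) hG hH.max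
  obtain ⟨K, E, d, e⟩ := hH
  obtain ⟨a, ha, b, hb, hab, hzab⟩ := exists_split (e.ge hz.1)
  obtain ⟨a', ha', b', hb', hab', hzab'⟩ := exists_split (e.ge hz'.1)
  have hb1 : b ≠ 1 := fun hb0 => d.not_sigma ht
    (hd.trans (K.orderOf_dvd_natCard (by rw [hzab, hb0, mul_one]; exact ha))) htH
  have ha1 : a ≠ 1 := fun ha0 => hz.2 H ⟨K, E, d, e⟩ (by rw [hzab, ha0, one_mul]; exact hb.1)
  have hord : ∀ w : G, orderOf (g * w * g⁻¹) = orderOf w := fun w => (MulAut.conj g).orderOf_eq w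
  have hpb : g * b * g⁻¹ = b' := Support.part_unique (π := Cfsg.sigma H) (Support.finOrder _ (g * a * g⁻¹) _ a')
    (show Commute (g * b * g⁻¹) (g * a * g⁻¹) from (hab.symm.map (MulAut.conj g).toMonoidHom)) hab'.symm
    (by rw [← hab'.eq, ← hzab', hzab, hab.eq]; group)
    (fun v hv hd' => d.sigma_star hG hv (((hord b) ▸ hd').trans ((Kstar H K).orderOf_dvd_natCard hb)))
    (fun v hv hd' => d.not_sigma hv (((hord a) ▸ hd').trans (K.orderOf_dvd_natCard ha)))
    (fun v hv hd' => d.sigma_star hG hv (hd'.trans ((Kstar H K).orderOf_dvd_natCard hb')))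
    (fun v hv hd' => d.not_sigma hv (hd'.trans (K.orderOf_dvd_natCard ha')))
  have hpa : g * a * g⁻¹ = a' := by
    have h1 : g * a * g⁻¹ * (g * b * g⁻¹) = a' * b' := by rw [← hzab', hzab]; group
    rw [hpb] at h1
    exact mul_right_cancel h1
  -- `g ∈ H`
  obtain ⟨u, hu, hud⟩ := Nat.exists_prime_and_dvd (fun e => hb1 (orderOf_eq_one_iff.mp e) : orderOf b ≠ 1)
  have := Fact.mk hu
  obtain ⟨Y, hY, hYb⟩ := exists_line_zpowers hu hud
  have hYs : Y ≤ Kstar H K := hYb.trans (zpowers_le.mpr hb)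
  have hgH : g ∈ H := inv_mem_iff.mp (SigmaIntersection.mem_of_only hG d.max
    (d.sigma_star hG hu (hY ▸ card_dvd_of_le hYs)) (isPGroup_of_card_eq hY) (ne_bot_of_card_eq hY)
    (hYs.trans (Data.star_le_M H K)) (d.only_fixed hG hY hYs).1 (fun w hw => by
      obtain ⟨n, rfl⟩ := mem_zpowers_iff.mp (hYb hw)
      refine Transfer.mem_map_conj.mpr ?_
      rw [inv_inv, ← conj_zpow, hpb]
      exact zpow_mem (Data.star_le_M H K hb') n))
  -- `g` normalizes a line of `K`
  obtain ⟨v, hv, hvd⟩ := Nat.exists_prime_and_dvd (fun e => ha1 (orderOf_eq_one_iff.mp e) : orderOf a ≠ 1)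
  have := Fact.mk hv
  obtain ⟨V, hV, hVa⟩ := exists_line_zpowers hv hvd
  have hVK : V ≤ K := hVa.trans (zpowers_le.mpr ha)
  have he := d.eq_line hG (X := V.map (MulAut.conj g).toMonoidHom) (by rw [Transfer.card_map_conj, hV]) (by
    rintro _ ⟨w, hw, rfl⟩
    obtain ⟨n, rfl⟩ := mem_zpowers_iff.mp (hVa hw)
    show g * a ^ n * g⁻¹ ∈ K
    rw [← conj_zpow, hpa]
    exact zpow_mem ha' n) hV hVK
  exact e.le ((d.normalizer_eq hG (hV.symm ▸ hv) hVK).le ⟨hgH, Transfer.map_conj_eq_self_iff.mp he⟩)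

/-- `Ẑ` avoids every `Ñ`. -/
theorem Zhat.not_tilde (h : Member Z M) (hG : Cfsg.IsMinSimpleOddOrder G) (hN : IsCoatom N)
    (hz : z ∈ Zhat Z) (y : G) : y * z * y⁻¹ ∉ Cfsg.tildeOf N ((Cfsg.sigmaCore N : Set G) \ {1}) := by
  rintro ⟨x, ⟨hx, hx1⟩, r, hr, w, hw⟩
  set c := y⁻¹ * w with hc
  set x' := c * x * c⁻¹ with hx'
  set r' := c * r * c⁻¹ with hr'
  set N' := N.map (MulAut.conj c).toMonoidHom with hN'
  have hN'm : IsCoatom N' := SylowUnique.isCoatom_conj hN c
  have hx'N : x' ∈ Cfsg.sigmaCore N' := Support.mem_core_conj hG hN hx c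
  have hx'1 : x' ≠ 1 := fun e => hx1 (by simpa [hx', conj_eq_one_iff] using e)
  have hr'R : r' ∈ Cfsg.supportR N' x' := by
    rw [hN', hx', Support.supportR_map_conj hG hN hx hx1 c]
    exact Transfer.conj_mem_map_conj hr
  have hzx : z = x' * r' := by
    rw [hx', hr', hc]
    calc z = y⁻¹ * (y * z * y⁻¹) * y := by group
      _ = y⁻¹ * (w * (x * r) * w⁻¹) * y := by rw [hw]
      _ = _ := by group
  have hcomm := Support.commute_supportR hG hN'm hx'N hx'1 hr'R
  have hcop : (orderOf x').Coprime (orderOf r') := Nat.coprime_of_dvd fun v hv h1 h2 =>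
    Support.supportR_primes hG hN'm hx'N hx'1 hr'R hv h2 (Support.sigma_of_mem hG hN'm hx'N hv h1)
  have hxZ : x' ∈ Z := by
    obtain ⟨e, he1, he0⟩ := Nat.chineseRemainder hcop 1 0
    have h1 : z ^ e = x' := by
      rw [hzx, hcomm.mul_pow, orderOf_dvd_iff_pow_eq_one.mp (Nat.modEq_zero_iff_dvd.mp he0), mul_one]
      conv_rhs => rw [← pow_one x']
      exact pow_eq_pow_iff_modEq.mpr he1
    exact h1 ▸ pow_mem hz.1 e
  obtain ⟨t, ht, hd⟩ := Nat.exists_prime_and_dvd (fun e => hx'1 (orderOf_eq_one_iff.mp e) : orderOf x' ≠ 1)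
  have := Fact.mk ht
  obtain ⟨V, hV, hVx⟩ := exists_line_zpowers ht hd
  obtain ⟨H, hH, hVH⟩ := h.exists_member hG ht hV (hVx.trans (zpowers_le.mpr hxZ))
  have htH : t ∈ Cfsg.sigma H := TauTwo.mem_sigma_of_dvd ht (hV ▸ card_dvd_of_le hVH) hG hH.max
  obtain ⟨b, hb⟩ := SigmaDisjoint.sigma_disjoint hG hH.max hN'm htH (Support.sigma_of_mem hG hN'm hx'N ht hd)
  have hx'H : x' ∈ Cfsg.sigmaCore H := by
    refine zpowers_le.mp (SigmaEmbedding.le_sigmaCore_of_pi hG hH.max
      (zpowers_le.mpr (hH.le hxZ)) fun v hv hvd => ?_)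
    rw [Nat.card_zpowers] at hvd
    have := Fact.mk hv
    have h' := Support.sigma_of_mem hG hN'm hx'N hv hvd
    rw [hb] at h'
    exact (SigmaDisjoint.sigma_conj b).mp h'
  obtain ⟨K, E, d, e⟩ := hH
  have hVs : V ≤ Kstar H K := (le_inf (hVx.trans (zpowers_le.mpr (e.ge hxZ))) hVH).trans (d.inf_core hG).le
  have hC : centralizer ({x'} : Set G) ≤ H :=
    (centralizer_le_of_le_zpowers hVx).trans (d.only_fixed hG hV hVs).1
  rw [hb, Support.supportR_eq_of_mem hG d.max hx'H hx'1 (hb ▸ hx'N), Support.supportR_of_le hC, mem_bot] at hr'R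
  rw [hr'R, mul_one] at hzx
  exact hz.2 H ⟨K, E, d, e⟩ (hzx ▸ hx'H)

/-- `Ẑ` has `|G : Z| |Ẑ|` conjugates. -/
theorem ncard_ZhatClosure (h : Member Z M) (hG : Cfsg.IsMinSimpleOddOrder G) :
    (ZhatClosure Z).ncard = Z.index * (Zhat Z).ncard := by
  set Φ : (G ⧸ Z) × Zhat Z → G := fun w => w.1.out * w.2.1 * w.1.out⁻¹ with hΦ
  have hinj : Function.Injective Φ := by
    intro w w' e
    have e' : w'.1.out⁻¹ * w.1.out * w.2.1 * (w'.1.out⁻¹ * w.1.out)⁻¹ = w'.2.1 := by
      calc w'.1.out⁻¹ * w.1.out * w.2.1 * (w'.1.out⁻¹ * w.1.out)⁻¹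
          = w'.1.out⁻¹ * (w.1.out * w.2.1 * w.1.out⁻¹) * w'.1.out := by group
        _ = w'.1.out⁻¹ * (w'.1.out * w'.2.1 * w'.1.out⁻¹) * w'.1.out := by rw [show w.1.out * w.2.1 * w.1.out⁻¹ = w'.1.out * w'.2.1 * w'.1.out⁻¹ from e]
        _ = _ := by group
    have h1 := Zhat.mem_of_conj h hG w.2.2 (e'.symm ▸ w'.2.2)
    have h2 : w'.1 = w.1 := by
      rw [← QuotientGroup.out_eq' w.1, ← QuotientGroup.out_eq' w'.1]
      exact QuotientGroup.eq.mpr h1
    refine Prod.ext h2.symm (Subtype.ext ?_)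
    rw [h2] at e'
    simpa using e'
  have hrange : Set.range Φ = ZhatClosure Z := by
    ext a
    constructor
    · rintro ⟨w, rfl⟩
      exact ⟨_, _, w.2.2, rfl⟩
    · rintro ⟨g, z, hz, rfl⟩
      set c : G ⧸ Z := QuotientGroup.mk g
      have hm : c.out⁻¹ * g ∈ Z := QuotientGroup.eq.mp (QuotientGroup.out_eq' c)
      refine ⟨⟨c, ⟨_, Zhat.conj_mem hm hz⟩⟩, ?_⟩
      show c.out * (c.out⁻¹ * g * z * (c.out⁻¹ * g)⁻¹) * c.out⁻¹ = g * z * g⁻¹
      group
  rw [← hrange, ← Nat.card_coe_set_eq, Nat.card_range_of_injective hinj, Nat.card_prod, Nat.card_coe_set_eq]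
  rfl

open scoped Classical in
/-- The members, as a finset. -/
noncomputable def members (Z : Subgroup G) : Finset (Subgroup G) := (Set.toFinite {N | Member Z N}).toFinset

open scoped Classical in
theorem mem_members : N ∈ members Z ↔ Member Z N := by simp [members]

open scoped Classical in
/-- The elements of `Z` sorted by members. -/
theorem ncard_Zhat (h : Member Z M) (hG : Cfsg.IsMinSimpleOddOrder G) :
    (Zhat Z).ncard + 1 + ∑ N ∈ members Z, (Nat.card ↥(Z ⊓ Cfsg.sigmaCore N) - 1) = Nat.card Z := by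
  set A : Subgroup G → Finset G := fun N =>
    (Set.toFinite (((Z ⊓ Cfsg.sigmaCore N : Subgroup G) : Set G) \ {1})).toFinset with hA
  have hAmem : ∀ {N : Subgroup G} {a : G}, a ∈ A N ↔ a ∈ Z ⊓ Cfsg.sigmaCore N ∧ a ≠ 1 := fun {N a} => by
    simp [hA]
  have hAcard : ∀ N, (A N).card = Nat.card ↥(Z ⊓ Cfsg.sigmaCore N) - 1 := fun N => by
    rw [hA, ← Set.ncard_eq_toFinset_card, Set.ncard_diff_singleton_of_mem (one_mem _), ← Nat.card_coe_set_eq]
    rfl
  have hdis : ((members Z : Finset (Subgroup G)) : Set (Subgroup G)).PairwiseDisjoint A := by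
    intro N₁ h1 N₂ h2 hne
    refine Finset.disjoint_left.mpr fun a ha1 ha2 => hne ?_
    obtain ⟨ha1, ha⟩ := hAmem.mp ha1
    obtain ⟨ha2, -⟩ := hAmem.mp ha2
    have hN₁ := mem_members.mp h1
    have hN₂ := mem_members.mp h2
    obtain ⟨t, ht, hd⟩ := Nat.exists_prime_and_dvd (fun e => ha (orderOf_eq_one_iff.mp e) : orderOf a ≠ 1)
    have := Fact.mk ht
    exact hN₁.eq_of_sigma hN₂ hG (Support.sigma_of_mem hG hN₁.max ha1.2 ht hd)
      (Support.sigma_of_mem hG hN₂.max ha2.2 ht hd)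
  set S := (Set.toFinite (Zhat Z)).toFinset with hS
  have hunion : (Set.toFinite (Z : Set G)).toFinset = insert 1 (S ∪ (members Z).biUnion A) := by
    ext a
    simp only [Set.Finite.mem_toFinset, SetLike.mem_coe, Finset.mem_insert, Finset.mem_union, Finset.mem_biUnion]
    constructor
    · intro ha
      by_cases h1 : a = 1
      · exact Or.inl h1
      by_cases h2 : a ∈ Zhat Z
      · exact Or.inr (Or.inl ((Set.toFinite (Zhat Z)).mem_toFinset.mpr h2))
      simp only [Zhat, Set.mem_setOf_eq, not_and, not_forall, not_not] at h2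
      obtain ⟨N, hN, haN⟩ := h2 ha
      exact Or.inr (Or.inr ⟨N, mem_members.mpr hN, hAmem.mpr ⟨⟨ha, haN⟩, h1⟩⟩)
    · rintro (rfl | h1 | ⟨N, -, h1⟩)
      · exact one_mem _
      · exact ((Set.toFinite (Zhat Z)).mem_toFinset.mp h1).1
      · exact (hAmem.mp h1).1.1
  have h1S : (1 : G) ∉ S ∪ (members Z).biUnion A := by
    simp only [Finset.mem_union, Finset.mem_biUnion, not_or, not_exists, not_and]
    exact ⟨fun h1 => Zhat.ne_one h ((Set.toFinite (Zhat Z)).mem_toFinset.mp h1) rfl,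
      fun N _ h1 => (hAmem.mp h1).2 rfl⟩
  have hSA : Disjoint S ((members Z).biUnion A) := Finset.disjoint_left.mpr fun a ha1 ha2 => by
    obtain ⟨N, hN, ha⟩ := Finset.mem_biUnion.mp ha2
    exact ((Set.toFinite (Zhat Z)).mem_toFinset.mp ha1).2 N (mem_members.mp hN) (hAmem.mp ha).1.2
  have hc : (Set.toFinite (Z : Set G)).toFinset.card = Nat.card Z := by
    rw [← Set.ncard_eq_toFinset_card, ← Nat.card_coe_set_eq]; rfl
  rw [← hc, hunion, Finset.card_insert_of_notMem h1S, Finset.card_union_of_disjoint hSA,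
    Finset.card_biUnion hdis, Set.ncard_eq_toFinset_card]
  simp only [hAcard]
  ring

theorem one_not_mem_tilde (hG : Cfsg.IsMinSimpleOddOrder G) (hN : IsCoatom N) :
    (1 : G) ∉ Cfsg.tildeOf N ((Cfsg.sigmaCore N : Set G) \ {1}) := by
  rintro ⟨x, ⟨hx, hx1⟩, r, hr, w, hw⟩
  have h1 : x * r = 1 := conj_eq_one_iff.mp hw.symm
  have h2 : r ∈ Cfsg.supportR N x ⊓ N := mem_inf.mpr ⟨hr, by
    rw [eq_inv_of_mul_eq_one_right h1]; exact inv_mem (sigmaCore_le N hx)⟩
  rw [Support.supportR_inf_eq_bot hG hN hx hx1, mem_bot] at h2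
  exact hx1 (by simpa [h2] using h1)

theorem tilde_disjoint (hG : Cfsg.IsMinSimpleOddOrder G) (hM : IsCoatom M) (hN : IsCoatom N)
    (h1 : g ∈ Cfsg.tildeOf M ((Cfsg.sigmaCore M : Set G) \ {1}))
    (h2 : g ∈ Cfsg.tildeOf N ((Cfsg.sigmaCore N : Set G) \ {1})) :
    ∃ c : G, N = M.map (MulAut.conj c).toMonoidHom := by
  obtain ⟨x, ⟨hx, hx1⟩, r, hr, u, hu⟩ := h1
  obtain ⟨x', ⟨hx', hx'1⟩, r', hr', w, hw⟩ := h2
  set c := u⁻¹ * w with hc
  have hR : c * r' * c⁻¹ ∈ Cfsg.supportR (N.map (MulAut.conj c).toMonoidHom) (c * x' * c⁻¹) := by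
    rw [Support.supportR_map_conj hG hN hx' hx'1 c]
    exact Transfer.conj_mem_map_conj hr'
  have he : x * r = c * x' * c⁻¹ * (c * r' * c⁻¹) := by
    rw [hc]
    calc x * r = u⁻¹ * (u * (x * r) * u⁻¹) * u := by group
      _ = u⁻¹ * (w * (x' * r') * w⁻¹) * u := by rw [← hu, hw]
      _ = _ := by group
  obtain ⟨-, b, hb⟩ := Support.eq_of_mul_eq hG hM (SylowUnique.isCoatom_conj hN c) hx hx1
    (Support.mem_core_conj hG hN hx' c) (fun e => hx'1 (by simpa [conj_eq_one_iff] using e)) hr hR he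
  refine ⟨c⁻¹ * b, ?_⟩
  rw [← Support.map_conj_mul, ← hb, Support.map_conj_mul, inv_mul_cancel,
    Support.map_conj_of_mem (one_mem _)]

open scoped Classical in
/-- The disjoint sets fit into `G`. -/
theorem count_le (h : Member Z M) (hG : Cfsg.IsMinSimpleOddOrder G) :
    1 + Z.index * (Zhat Z).ncard + ∑ N ∈ members Z, (Nat.card (Cfsg.sigmaCore N) - 1) * N.index ≤ Nat.card G := by
  have := Fintype.ofFinite G
  set T : Subgroup G → Finset G := fun N =>
    (Set.toFinite (Cfsg.tildeOf N ((Cfsg.sigmaCore N : Set G) \ {1}))).toFinset with hT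
  set C := (Set.toFinite (ZhatClosure Z)).toFinset with hC
  have hTm : ∀ {N : Subgroup G} {a : G}, a ∈ T N ↔ a ∈ Cfsg.tildeOf N ((Cfsg.sigmaCore N : Set G) \ {1}) :=
    fun {N a} => by simp [hT]
  have hdis : ((members Z : Finset (Subgroup G)) : Set (Subgroup G)).PairwiseDisjoint T := by
    intro N₁ h1 N₂ h2 hne
    refine Finset.disjoint_left.mpr fun a ha1 ha2 => hne ?_
    have hN₁ := mem_members.mp h1
    have hN₂ := mem_members.mp h2
    obtain ⟨c, hc⟩ := tilde_disjoint hG hN₁.max hN₂.max (hTm.mp ha1) (hTm.mp ha2)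
    obtain ⟨K, E, d, e⟩ := hN₁
    obtain ⟨t, Y, ht, hY, hYs⟩ := exists_prime_sub d.star_ne_bot
    have := Fact.mk ht
    have htσ := d.sigma_star hG ht (hY ▸ card_dvd_of_le hYs)
    exact Member.eq_of_sigma ⟨K, E, d, e⟩ hN₂ hG htσ (hc ▸ (SigmaDisjoint.sigma_conj c).mpr htσ)
  have hCT : Disjoint C ((members Z).biUnion T) := Finset.disjoint_left.mpr fun a ha1 ha2 => by
    obtain ⟨N, hN, ha⟩ := Finset.mem_biUnion.mp ha2
    obtain ⟨g, z, hz, rfl⟩ := (Set.toFinite (ZhatClosure Z)).mem_toFinset.mp ha1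
    exact Zhat.not_tilde h hG (mem_members.mp hN).max hz g (hTm.mp ha)
  have h1C : (1 : G) ∉ C ∪ (members Z).biUnion T := by
    simp only [Finset.mem_union, Finset.mem_biUnion, not_or, not_exists, not_and]
    refine ⟨fun h1 => ?_, fun N hN h1 => one_not_mem_tilde hG (mem_members.mp hN).max (hTm.mp h1)⟩
    obtain ⟨g, z, hz, e⟩ := (Set.toFinite (ZhatClosure Z)).mem_toFinset.mp h1
    exact Zhat.ne_one h hz (conj_eq_one_iff.mp e.symm)
  have hle := Finset.card_le_univ (insert (1 : G) (C ∪ (members Z).biUnion T))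
  rw [Finset.card_insert_of_notMem h1C, Finset.card_union_of_disjoint hCT, Finset.card_biUnion hdis,
    ← Nat.card_eq_fintype_card] at hle
  refine le_trans (le_of_eq ?_) hle
  rw [Finset.sum_congr rfl fun N hN => show (T N).card = (Nat.card (Cfsg.sigmaCore N) - 1) * N.index by
    rw [hT, ← Set.ncard_eq_toFinset_card, Support.ncard_tildeOf hG (mem_members.mp hN).max]]
  rw [hC, ← Set.ncard_eq_toFinset_card, ncard_ZhatClosure h hG]
  ring

open scoped Classical in
/-- Some member has `K ≠ E`. -/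
theorem Data.exists_ne (d : Data M K E) (hG : Cfsg.IsMinSimpleOddOrder G) :
    ∃ N L F, Data N L F ∧ ZK N L = ZK M K ∧ L ≠ F := by
  by_contra hall
  push Not at hall
  set Z := ZK M K with hZ
  have hM : Member Z M := d.member
  set q := Z.index with hq
  have hqpos : 0 < q := Nat.pos_of_ne_zero Subgroup.index_ne_zero_of_finite
  have hodd := hG.1
  -- each member: the equations
  have hmem : ∀ N ∈ members Z, 3 * N.index ≤ q ∧
      (Nat.card (Cfsg.sigmaCore N) - 1) * N.index + N.index = q * Nat.card ↥(Z ⊓ Cfsg.sigmaCore N) := by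
    intro N hN
    obtain ⟨L, F, d', e⟩ := mem_members.mp hN
    have hLF := hall N L F d' e
    have hcard : Nat.card N = Nat.card L * Nat.card (Cfsg.sigmaCore N) := by
      rw [hLF]; exact (IsComplIn_card_mul d'.compl).symm
    have hk : Nat.card ↥(Z ⊓ Cfsg.sigmaCore N) = Nat.card (Kstar N L) := by rw [← e, d'.inf_core hG]
    have hzc : Nat.card Z = Nat.card L * Nat.card (Kstar N L) := by rw [← e, d'.card_Z hG]
    have h1 : q * Nat.card Z = Nat.card G := Z.index_mul_card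
    have h2 : N.index * Nat.card N = Nat.card G := N.index_mul_card
    have hmI : Nat.card (Cfsg.sigmaCore N) * N.index = q * Nat.card (Kstar N L) := by
      refine Nat.eq_of_mul_eq_mul_left (Nat.card_pos (α := L)) ?_
      calc Nat.card L * (Nat.card (Cfsg.sigmaCore N) * N.index) = N.index * Nat.card N := by rw [hcard]; ring
        _ = q * Nat.card Z := by rw [h1, h2]
        _ = _ := by rw [hzc]; ring
    refine ⟨?_, by rw [hk, ← hmI, ← Nat.add_one_mul, Nat.sub_add_cancel (Nat.card_pos)]⟩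
    obtain ⟨c, hc⟩ := card_dvd_of_le (inf_le_left : Kstar N L ≤ Cfsg.sigmaCore N)
    have hcodd : Odd c := by
      have h3 : Odd (Nat.card (Cfsg.sigmaCore N)) := hodd.of_dvd_nat (card_subgroup_dvd_card _)
      rw [hc] at h3
      exact (Nat.odd_mul.mp h3).2
    have hc1 : c ≠ 1 := fun hc1 => by
      rw [hc1, mul_one] at hc
      have h4 : Kstar N L = Cfsg.sigmaCore N := eq_of_le_of_card_ge inf_le_left hc.le
      have h5 : Cfsg.sigmaCore N ≤ centralizer (L : Set G) := h4.ge.trans inf_le_right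
      have h6 := (SigmaIntersection.commutator_eq hG d'.max d'.compl).1
      rw [← hLF, commutator_eq_bot_iff_le_centralizer.mpr h5] at h6
      exact TauTwo.sigmaCore_ne_bot hG d'.max h6.symm
    have hc3 : 3 ≤ c := by
      obtain ⟨j, rfl⟩ := hcodd
      omega
    rw [hc, mul_assoc, mul_comm q, Nat.mul_left_cancel_iff Nat.card_pos] at hmI
    rw [← hmI]
    exact Nat.mul_le_mul_right _ hc3
  -- there are at least two members
  obtain ⟨s, X, hs, hX, hXK⟩ := d.tau1_line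
  have := Fact.mk hs.1
  obtain ⟨H, hH, hXH⟩ := hM.exists_member hG hs.1 hX (hXK.trans le_sup_left)
  have hne : M ≠ H := fun e => hs.2.1
    (TauTwo.mem_sigma_of_dvd hs.1 (hX ▸ card_dvd_of_le hXH) hG hH.max |> fun h' => e ▸ h')
  have hn : 2 ≤ (members Z).card :=
    Finset.one_lt_card.mpr ⟨M, mem_members.mpr hM, H, mem_members.mpr hH, hne⟩
  have hcount := count_le hM hG
  have hZc := ncard_Zhat hM hG
  have hG' : q * Nat.card Z = Nat.card G := Z.index_mul_card
  -- sum the equations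
  have hA : ∑ N ∈ members Z, (Nat.card (Cfsg.sigmaCore N) - 1) * N.index + ∑ N ∈ members Z, N.index =
      q * (∑ N ∈ members Z, (Nat.card ↥(Z ⊓ Cfsg.sigmaCore N) - 1)) + q * (members Z).card := by
    rw [← Finset.sum_add_distrib, Finset.card_eq_sum_ones, Finset.mul_sum, Finset.mul_sum, ← Finset.sum_add_distrib]
    refine Finset.sum_congr rfl fun N hN => ?_
    rw [(hmem N hN).2, ← Nat.mul_add, Nat.sub_add_cancel Nat.card_pos]
  have hB : 3 * ∑ N ∈ members Z, N.index ≤ (members Z).card * q := by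
    rw [Finset.mul_sum]
    refine (Finset.sum_le_sum fun N hN => (hmem N hN).1).trans ?_
    simp [mul_comm]
  nlinarith

end CfsgLib.OddLocal.Kappa
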