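import Cfsg.Agent.Lib.OddLocal.KappaPrime
import Cfsg.Agent.Lib.OddLocal.SigmaDisjoint

/-!
# The maximal subgroups sharing `Z = K × K*` (first part of BG 14.7)

For a line `X` of `K` every maximal subgroup over `N(X)` has a Hall `κ`-subgroup `K₁` with
`K₁ × K₁* = K × K*`.
-/

namespace CfsgLib.OddLocal.Kappa

open Subgroup
open CfsgLib.TwoGroups
open PrimeActionTools FixedTauOne TauThree
open SylowUnique (Only)
open SigmaOrderP (sigmaCore_le le_normalizer_sigmaCore le_sigmaCore)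

variable {G : Type*} [Group G] [Finite G] {p q : ℕ} [Fact p.Prime] [Fact q.Prime]
  {M N H E F K L X Y Z : Subgroup G}

/-- `K* = C_{M_σ}(K)`. -/
abbrev Kstar (M K : Subgroup G) : Subgroup G := Cfsg.sigmaCore M ⊓ centralizer (K : Set G)

/-- `Z = K × K*`. -/
abbrev ZK (M K : Subgroup G) : Subgroup G := K ⊔ Kstar M K

theorem Data.star_le_M (M K : Subgroup G) : Kstar M K ≤ M := inf_le_left.trans (sigmaCore_le M)

theorem Data.ne_bot (d : Data M K E) : K ≠ ⊥ := fun e => by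
  obtain ⟨s, X, hs, hX, hXK⟩ := d.tau1_line
  have := Fact.mk hs.1
  exact ne_bot_of_card_eq hX (le_bot_iff.mp (e ▸ hXK))

theorem Data.Z_le (d : Data M K E) : ZK M K ≤ M := sup_le d.hall.1 (Data.star_le_M M K)

theorem Data.star_ne_bot (d : Data M K E) : Kstar M K ≠ ⊥ := fun e => by
  obtain ⟨s, X, hs, hX, hXK⟩ := d.tau1_line
  have hXp : (Nat.card X).Prime := hX.symm ▸ hs.1
  exact d.nonregular X hXp hXK ((d.fixed X hXp hXK).trans e)

theorem Data.not_sigma (d : Data M K E) {t : ℕ} (ht : t.Prime) (hd : t ∣ Nat.card K) : t ∉ Cfsg.sigma M :=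
  (d.hall.2.1 t ht hd).2.2.1

theorem Data.sigma_star (d : Data M K E) (hG : Cfsg.IsMinSimpleOddOrder G) {t : ℕ} (ht : t.Prime)
    (hd : t ∣ Nat.card (Kstar M K)) : t ∈ Cfsg.sigma M :=
  TauTwo.mem_sigma_of_dvd ht (hd.trans (card_dvd_of_le inf_le_left)) hG d.max

theorem Data.coprime_core (d : Data M K E) (hG : Cfsg.IsMinSimpleOddOrder G) :
    (Nat.card K).Coprime (Nat.card (Cfsg.sigmaCore M)) :=
  Nat.coprime_of_dvd fun _ ht h1 h2 => d.not_sigma ht h1 (TauTwo.mem_sigma_of_dvd ht h2 hG d.max)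

theorem Data.inf_eq (d : Data M K E) (hG : Cfsg.IsMinSimpleOddOrder G) : K ⊓ Cfsg.sigmaCore M = ⊥ :=
  inf_eq_bot_of_coprime (d.coprime_core hG)

omit [Finite G] in
theorem exists_split {g : G} (hg : g ∈ ZK M K) :
    ∃ a ∈ K, ∃ b ∈ Kstar M K, Commute a b ∧ g = a * b := by
  rw [← SetLike.mem_coe, coe_mul_of_right_le_normalizer_left _ _
    (inf_le_right.trans (centralizer_le_normalizer _))] at hg
  obtain ⟨a, ha, b, hb, rfl⟩ := hg
  exact ⟨a, ha, b, hb, mem_centralizer_iff.mp hb.2 a ha, rfl⟩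

theorem Data.coprime_parts (d : Data M K E) (hG : Cfsg.IsMinSimpleOddOrder G) {a b : G} (ha : a ∈ K)
    (hb : b ∈ Kstar M K) : (orderOf a).Coprime (orderOf b) :=
  ((d.coprime_core hG).coprime_dvd_left (K.orderOf_dvd_natCard ha)).coprime_dvd_right
    ((Cfsg.sigmaCore M).orderOf_dvd_natCard hb.1)

theorem Data.card_Z (d : Data M K E) (hG : Cfsg.IsMinSimpleOddOrder G) :
    Nat.card (ZK M K) = Nat.card K * Nat.card (Kstar M K) := by
  refine Nat.dvd_antisymm ?_ (Nat.Coprime.mul_dvd_of_dvd_of_dvd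
    ((d.coprime_core hG).coprime_dvd_right (card_dvd_of_le inf_le_left))
    (card_dvd_of_le le_sup_left) (card_dvd_of_le le_sup_right))
  have := Core.card_sup_dvd (Kstar M K) K (inf_le_right.trans (centralizer_le_normalizer _))
  rwa [sup_comm, mul_comm] at this

/-- The `σ(M)`-part of `Z` is `K*`. -/
theorem Data.inf_core (d : Data M K E) (hG : Cfsg.IsMinSimpleOddOrder G) :
    ZK M K ⊓ Cfsg.sigmaCore M = Kstar M K := by
  refine le_antisymm (fun g hg => ?_) (le_inf le_sup_right inf_le_left)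
  obtain ⟨a, ha, b, hb, -, rfl⟩ := exists_split hg.1
  have h1 : a ∈ K ⊓ Cfsg.sigmaCore M := by
    refine mem_inf.mpr ⟨ha, ?_⟩
    simpa using mul_mem (mem_inf.mp hg).2 (inv_mem (mem_inf.mp hb).1)
  rw [d.inf_eq hG, mem_bot] at h1
  simpa [h1] using hb

/-- The `σ(M)'`-part of `Z` is `K`. -/
theorem Data.mem_of_primes (d : Data M K E) (hG : Cfsg.IsMinSimpleOddOrder G) {g : G} (hg : g ∈ ZK M K)
    (h : ∀ t : ℕ, t.Prime → t ∣ orderOf g → t ∉ Cfsg.sigma M) : g ∈ K := by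
  obtain ⟨a, ha, b, hb, hab, rfl⟩ := exists_split hg
  suffices hb1 : b = 1 by rwa [hb1, mul_one]
  by_contra hb1
  obtain ⟨t, ht, hd⟩ := Nat.exists_prime_and_dvd (fun e => hb1 (orderOf_eq_one_iff.mp e) : orderOf b ≠ 1)
  refine h t ht ?_ (d.sigma_star hG ht (hd.trans ((Kstar M K).orderOf_dvd_natCard hb)))
  rw [hab.orderOf_mul_eq_mul_orderOf_of_coprime (d.coprime_parts hG ha hb)]
  exact hd.mul_left _

theorem mem_not_sigma_of_line (hX : Nat.card X = p) (hp : p ∉ Cfsg.sigma M) {x : G} (hx : x ∈ X) {t : ℕ}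
    (ht : t.Prime) (hd : t ∣ orderOf x) : t ∉ Cfsg.sigma M := by
  rwa [(Nat.prime_dvd_prime_iff_eq ht Fact.out).mp (hX ▸ hd.trans (X.orderOf_dvd_natCard hx))]

/-- A member of the family attached to `Z`. -/
def Member (Z N : Subgroup G) : Prop := ∃ K E : Subgroup G, Data N K E ∧ ZK N K = Z

theorem Data.member (d : Data M K E) : Member (ZK M K) M := ⟨K, E, d, rfl⟩

theorem Member.max (h : Member Z N) : IsCoatom N := let ⟨_, _, d, _⟩ := h; d.max

theorem Member.le (h : Member Z N) : Z ≤ N := let ⟨_, _, d, e⟩ := h; e ▸ d.Z_le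

/-- `K` is determined by `M` and `Z`. -/
theorem Data.eq_of_Z (d : Data M K E) (hG : Cfsg.IsMinSimpleOddOrder G) (d' : Data M L F)
    (h : ZK M L = ZK M K) : L = K := by
  have key : ∀ {K L E F : Subgroup G}, Data M K E → Data M L F → ZK M L = ZK M K → L ≤ K :=
    fun {K L E F} d d' h g hg => d.mem_of_primes hG (h ▸ mem_sup_left hg) fun t ht hd =>
      d'.not_sigma ht (hd.trans (L.orderOf_dvd_natCard hg))
  exact le_antisymm (key d d' h) (key d' d h.symm)

/-- A maximal subgroup over the normalizer of a line of `K` has the same `Z`. -/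
theorem Data.partner (d : Data M K E) (hG : Cfsg.IsMinSimpleOddOrder G) (hX : Nat.card X = p) (hXK : X ≤ K)
    (hH : IsCoatom H) (hNX : normalizer (X : Set G) ≤ H) :
    ∃ K₁ E₁, Data H K₁ E₁ ∧ ZK H K₁ = ZK M K ∧ X ≤ Cfsg.sigmaCore H ∧ Kstar H K₁ ≤ K := by
  have hM := d.max
  have hpp := (Fact.out : p.Prime)
  have hXO := d.le_core hG hX hXK hH hNX
  have hpH : p ∈ Cfsg.sigma H := TauTwo.mem_sigma_of_dvd hpp (hX ▸ card_dvd_of_le hXO) hG hH
  have hpM : p ∉ Cfsg.sigma M := d.not_sigma hpp (hX ▸ card_dvd_of_le hXK)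
  have hnc : ∀ g : G, H ≠ M.map (MulAut.conj g).toMonoidHom := fun g e =>
    hpM (SigmaEmbedding.sigma_of_conj (e ▸ hpH))
  have hne : H ≠ M := fun e => hpM (e ▸ hpH)
  have hZX : ZK M K = M ⊓ normalizer (X : Set G) := (d.normalizer_eq hG (hX.symm ▸ hpp) hXK).symm
  have hZH : ZK M K ≤ H := hZX.le.trans (inf_le_right.trans hNX)
  have hXC : X ≤ centralizer (Kstar M K : Set G) := le_centralizer_iff.mp
    (inf_le_right.trans (Subgroup.centralizer_le hXK))
  -- the primes of `K*` are in `κ(H)`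
  have hκ : ∀ t : ℕ, t.Prime → t ∣ Nat.card (Kstar M K) → t ∈ Cfsg.kappa H := by
    intro t ht hd
    have := Fact.mk ht
    obtain ⟨y, hy⟩ := exists_prime_orderOf_dvd_card' t hd
    have hW : Nat.card (zpowers (y : G)) = t := by rw [Nat.card_zpowers, orderOf_coe, hy]
    have hWs : zpowers (y : G) ≤ Kstar M K := zpowers_le.mpr y.2
    have honly := d.only_fixed hG hW hWs
    have htH : t ∉ Cfsg.sigma H := fun h => by
      obtain ⟨g, hg⟩ := SigmaDisjoint.sigma_disjoint hG hM hH (d.sigma_star hG ht hd) h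
      exact hnc g hg
    have hWH : zpowers (y : G) ≤ H := (hWs.trans le_sup_right).trans hZH
    have hne' : Cfsg.sigmaCore H ⊓ centralizer (zpowers (y : G) : Set G) ≠ ⊥ := fun e =>
      ne_bot_of_card_eq hX (le_bot_iff.mp (e ▸ le_inf hXO (hXC.trans (Subgroup.centralizer_le hWs))))
    refine mem_kappa hG htH ?_ hW hWH hne'
    by_contra h
    obtain ⟨F, hF, hWF⟩ := TauTwo.exists_complement_ge hG hH hWH fun v hv hdv => by
      rw [(Nat.prime_dvd_prime_iff_eq hv ht).mp (hW ▸ hdv)]; exact htH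
    obtain ⟨B, hB, hBF⟩ := TauTwo.exists_pair_complement hG hH hF
      ⟨ht, htH, not_not.mp fun h' => htH (SigmaTrans.alpha_subset_sigma hG hH ⟨ht, h'⟩), h⟩
    obtain ⟨-, hmemB, -⟩ := TauTwo.le_normalizer_pair hG hH hB htH hF hBF
    exact hne (honly.2 H hH (TauTwo.centralizer_line_unique hG hH hB (hBF.trans hF.1) htH
      (fun x hx => hmemB x (hWF hx) (orderOf_dvd_iff_pow_eq_one.mp (hW ▸ (zpowers (y : G)).orderOf_dvd_natCard hx)))
      (ne_bot_of_card_eq hW) hne').1)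
  -- a Hall subgroup over `K*`
  have : Group.IsSolvable H := hG.2.2.2 H hH.1
  have hsH : Kstar M K ≤ H := le_sup_right.trans hZH
  obtain ⟨K₀, hK₀, hK₀le⟩ := Core.exists_piHall_ge (G := ↥H) (π := Cfsg.kappa H)
    (K := (Kstar M K).subgroupOf H) fun v hv hd => by
      rw [Nat.card_congr (subgroupOfEquivOfLe hsH).toEquiv] at hd
      exact hκ v hv hd
  set K₁ := K₀.map H.subtype with hK₁
  have hsK₁ : Kstar M K ≤ K₁ := fun z hz => ⟨⟨z, hsH hz⟩, hK₀le (mem_subgroupOf.mpr hz), rfl⟩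
  have hK₁hall : Cfsg.IsPiHallOf (Cfsg.kappa H) K₁ H := by
    refine ⟨map_subtype_le _, fun v hv hd => ?_, fun v hv hvπ hd => ?_⟩
    · rw [hK₁, card_map_of_injective H.subtype_injective] at hd
      exact hK₀.1 v hv hd
    · rw [hK₁, relIndex, subgroupOf, comap_map_eq_self_of_injective H.subtype_injective] at hd
      exact hK₀.2 v hv hvπ hd
  obtain ⟨E₁, d₁⟩ := exists_data hG hH hK₁hall fun e => d.star_ne_bot (le_bot_iff.mp (e ▸ hsK₁))
  obtain ⟨t, Y, ht, hY, hYs⟩ := exists_prime_sub d.star_ne_bot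
  have := Fact.mk ht
  have honlyY := d.only_fixed hG hY hYs
  have hYK₁ : Y ≤ K₁ := hYs.trans hsK₁
  have hNY : normalizer (Y : Set G) ≤ M := normalizer_le_of_only hG hY honlyY
  have hZ₁ : ZK H K₁ = H ⊓ normalizer (Y : Set G) := (d₁.normalizer_eq hG (hY.symm ▸ ht) hYK₁).symm
  have hXs : X ≤ Kstar H K₁ :=
    (le_inf hXO (hXC.trans (Subgroup.centralizer_le hYs))).trans (d₁.fixed Y (hY.symm ▸ ht) hYK₁).le
  have hZle : ZK M K ≤ ZK H K₁ := by
    rw [hZ₁]
    refine le_inf hZH (sup_le ?_ (hsK₁.trans (d₁.normalizes (hY.symm ▸ ht) hYK₁)))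
    exact (le_centralizer_iff.mp (hYs.trans inf_le_right)).trans (centralizer_le_normalizer _)
  have hK₁M : K₁ ≤ M := le_sup_left.trans (hZ₁.le.trans (inf_le_right.trans hNY))
  have hs₁M : Kstar H K₁ ≤ M := le_sup_right.trans (hZ₁.le.trans (inf_le_right.trans hNY))
  -- the primes of `K₁*` are in `κ(M)`
  have hκ' : ∀ v : ℕ, v.Prime → v ∣ Nat.card (Kstar H K₁) → v ∈ Cfsg.kappa M := by
    intro v hv hd
    have := Fact.mk hv
    obtain ⟨w, hw⟩ := exists_prime_orderOf_dvd_card' v hd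
    have hW : Nat.card (zpowers (w : G)) = v := by rw [Nat.card_zpowers, orderOf_coe, hw]
    have hWs : zpowers (w : G) ≤ Kstar H K₁ := zpowers_le.mpr w.2
    have honly := d₁.only_fixed hG hW hWs
    have hvM : v ∉ Cfsg.sigma M := fun h => by
      obtain ⟨g, hg⟩ := SigmaDisjoint.sigma_disjoint hG hM hH h (d₁.sigma_star hG hv hd)
      exact hnc g hg
    have hWM : zpowers (w : G) ≤ M := hWs.trans hs₁M
    have hne' : Cfsg.sigmaCore M ⊓ centralizer (zpowers (w : G) : Set G) ≠ ⊥ := fun e =>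
      ne_bot_of_card_eq hY (le_bot_iff.mp (e ▸ le_inf (hYs.trans inf_le_left)
        (le_centralizer_iff.mp (hWs.trans (inf_le_right.trans (Subgroup.centralizer_le hYK₁))))))
    refine mem_kappa hG hvM ?_ hW hWM hne'
    by_contra h
    obtain ⟨F, hF, hWF⟩ := TauTwo.exists_complement_ge hG hM hWM fun u hu hdu => by
      rw [(Nat.prime_dvd_prime_iff_eq hu hv).mp (hW ▸ hdu)]; exact hvM
    obtain ⟨B, hB, hBF⟩ := TauTwo.exists_pair_complement hG hM hF
      ⟨hv, hvM, not_not.mp fun h' => hvM (SigmaTrans.alpha_subset_sigma hG hM ⟨hv, h'⟩), h⟩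
    obtain ⟨-, hmemB, -⟩ := TauTwo.le_normalizer_pair hG hM hB hvM hF hBF
    exact hne.symm (honly.2 M hM (TauTwo.centralizer_line_unique hG hM hB (hBF.trans hF.1) hvM
      (fun x hx => hmemB x (hWF hx) (orderOf_dvd_iff_pow_eq_one.mp (hW ▸ (zpowers (w : G)).orderOf_dvd_natCard hx)))
      (ne_bot_of_card_eq hW) hne').1)
  -- `K₁* ≤ K`
  have hs₁K : Kstar H K₁ ≤ K := by
    have : Group.IsSolvable M := hG.2.2.2 M hM.1
    have hK' : Cfsg.IsPiHall (Cfsg.kappa M) (K.subgroupOf M) := by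
      refine ⟨fun v hv hd => ?_, d.hall.2.2⟩
      rw [Nat.card_congr (subgroupOfEquivOfLe d.hall.1).toEquiv] at hd
      exact d.hall.2.1 v hv hd
    obtain ⟨⟨g, hgM⟩, hgle⟩ := Core.exists_conj_le_piHall hK' (K := (Kstar H K₁).subgroupOf M) fun v hv hd => by
      rw [Nat.card_congr (subgroupOfEquivOfLe hs₁M).toEquiv] at hd
      exact hκ' v hv hd
    have hgK : ∀ x ∈ Kstar H K₁, g * x * g⁻¹ ∈ K := fun x hx => by
      have h := hgle ((Subgroup.smul_mem_pointwise_smul_iff (a := MulAut.conj (⟨g, hgM⟩ : M))).mpr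
        (show (⟨x, hs₁M hx⟩ : M) ∈ (Kstar H K₁).subgroupOf M from hx))
      exact mem_subgroupOf.mp h
    have he := d.eq_line hG (X := X.map (MulAut.conj g).toMonoidHom) (by rw [Transfer.card_map_conj, hX])
      (by rintro _ ⟨x, hx, rfl⟩; exact hgK x (hXs hx)) hX hXK
    have hg : g ∈ ZK M K := (d.normalizer_eq hG (hX.symm ▸ hpp) hXK).le
      ⟨hgM, Transfer.map_conj_eq_self_iff.mp he⟩
    have hgN : g ∈ normalizer (K : Set G) :=
      (sup_le le_normalizer (inf_le_right.trans (centralizer_le_normalizer _)) : ZK M K ≤ _) hg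
    intro x hx
    exact (mem_normalizer_iff.mp hgN x).mpr (hgK x hx)
  refine ⟨K₁, E₁, d₁, le_antisymm (sup_le ?_ (hs₁K.trans le_sup_left)) hZle, hXO, hs₁K⟩
  rw [hZX]
  refine le_inf hK₁M ((le_centralizer_iff.mp (hXs.trans inf_le_right)).trans (centralizer_le_normalizer _))

/-- Every line of `Z` lies in the core of some member. -/
theorem Data.exists_member (d : Data M K E) (hG : Cfsg.IsMinSimpleOddOrder G) (hX : Nat.card X = p)
    (hXZ : X ≤ ZK M K) : ∃ H, Member (ZK M K) H ∧ X ≤ Cfsg.sigmaCore H := by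
  by_cases hp : p ∈ Cfsg.sigma M
  · exact ⟨M, d.member, le_sigmaCore hG d.max hp (isPGroup_of_card_eq hX) (hXZ.trans d.Z_le)⟩
  have hXK : X ≤ K := fun x hx => d.mem_of_primes hG (hXZ hx) fun t ht hd => mem_not_sigma_of_line hX hp hx ht hd
  obtain ⟨H, hH, hNH⟩ := (eq_top_or_exists_le_coatom _).resolve_left
    (TransitivityHyp.normalizer_ne_top hG (ne_bot_of_card_eq hX)
      (Uniqueness.ne_top_of_pGroup hG (isPGroup_of_card_eq hX)))
  obtain ⟨K₁, E₁, d₁, e, hXO, -⟩ := d.partner hG hX hXK hH hNH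
  exact ⟨H, ⟨K₁, E₁, d₁, e⟩, hXO⟩

/-- Members are determined by their `σ`. -/
theorem Member.eq_of_sigma (h : Member Z M) (h' : Member Z N) (hG : Cfsg.IsMinSimpleOddOrder G)
    (hqM : q ∈ Cfsg.sigma M) (hqN : q ∈ Cfsg.sigma N) : M = N := by
  obtain ⟨K, E, d, e⟩ := h
  obtain ⟨L, F, d', e'⟩ := h'
  obtain ⟨g, hg⟩ := SigmaDisjoint.sigma_disjoint hG d.max d'.max hqM hqN
  obtain ⟨t, Y, ht, hY, hYs⟩ := exists_prime_sub d.star_ne_bot
  have := Fact.mk ht
  have htN : t ∈ Cfsg.sigma N := hg ▸ (SigmaDisjoint.sigma_conj g).mpr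
    (d.sigma_star hG ht (hY ▸ card_dvd_of_le hYs))
  have hYZ : Y ≤ Z := hYs.trans (le_sup_right.trans e.le)
  have hYN : Y ≤ Cfsg.sigmaCore N := le_sigmaCore hG d'.max htN (isPGroup_of_card_eq hY)
    (hYZ.trans (e'.ge.trans d'.Z_le))
  have hYs' : Y ≤ Kstar N L := (le_inf (hYZ.trans e'.ge) hYN).trans (d'.inf_core hG).le
  exact (d'.only_fixed hG hY hYs').2 M d.max (d.only_fixed hG hY hYs).1

end CfsgLib.OddLocal.Kappa
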