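import Cfsg.Agent.Lib.OddLocal.KappaNormal
import Cfsg.Agent.Lib.OddLocal.NonKappa
import Cfsg.Agent.Lib.Char.CyclicTI.FrobeniusFormula

/-!
# `U ≠ 1` forces `K` of prime order and `M_σ` nilpotent (BG 14.2)
-/

namespace CfsgLib.OddLocal.Kappa

open Subgroup
open CfsgLib.TwoGroups
open PrimeActionTools FixedTauOne TauThree
open SigmaOrderP (sigmaCore_le le_normalizer_sigmaCore le_sigmaCore)

variable {G : Type*} [Group G] [Finite G] {p : ℕ} [Fact p.Prime] {M E K U X : Subgroup G}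

omit [Finite G] in
theorem centralizer_sup (A B : Subgroup G) :
    centralizer ((A ⊔ B : Subgroup G) : Set G) = centralizer (A : Set G) ⊓ centralizer (B : Set G) :=
  le_antisymm (le_inf (centralizer_le (le_sup_left : A ≤ A ⊔ B)) (centralizer_le (le_sup_right : B ≤ A ⊔ B)))
    (le_centralizer_iff.mp (sup_le (le_centralizer_iff.mp inf_le_left) (le_centralizer_iff.mp inf_le_right)))

/-- The data of `exists_U` with `U ≠ 1`. -/
theorem Data.exists_U_ne (d : Data M K E) (hG : Cfsg.IsMinSimpleOddOrder G) (hKE : K ≠ E) :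
    ∃ U : Subgroup G, U ≤ E ∧ IsMulCommutative U ∧ U ≠ ⊥ ∧
      Cfsg.IsPiHallOf {q | q.Prime ∧ q ∉ Cfsg.kappa M ∧ q ∉ Cfsg.sigma M} U M ∧
      E ≤ normalizer (U : Set G) ∧ ∀ k ∈ K, k ≠ 1 → U ⊓ centralizer ({k} : Set G) = ⊥ := by
  obtain ⟨U, hUE, hUc, hU, hEU, hfp⟩ := d.exists_U hG
  refine ⟨U, hUE, hUc, fun e => hKE ?_, hU, hEU, hfp⟩
  refine (eq_of_hall d.hall d.le d.compl.1 fun t ht hd => ?_).symm
  have := Fact.mk ht
  by_contra hκ
  have hσ := SigmaComplement.not_mem_sigma hG d.max d.compl hd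
  refine hU.2.2 t ht ⟨ht, hκ, hσ⟩ ?_
  rw [e, relIndex_bot_left]
  exact hd.trans (card_dvd_of_le d.compl.1)

/-- A nontrivial abelian Hall subgroup of primes outside `σ(M)` is not normal in `M`. -/
theorem not_normal_of_hall {π : Set ℕ} (hG : Cfsg.IsMinSimpleOddOrder G) (hM : IsCoatom M)
    (hU : Cfsg.IsPiHallOf π U M) (hUc : IsMulCommutative U) (hU1 : U ≠ ⊥)
    (hπ : ∀ t ∈ π, t ∉ Cfsg.sigma M) : ¬ M ≤ normalizer (U : Set G) := by
  intro hn
  obtain ⟨t, ht, hd⟩ := Nat.exists_prime_and_dvd (fun e => hU1 (card_eq_one.mp e) : Nat.card U ≠ 1)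
  have := Fact.mk ht
  obtain ⟨P⟩ : Nonempty (Sylow t U) := inferInstance
  set P' := (P : Subgroup U).map U.subtype with hP'
  have hPn : (P : Subgroup U).Normal := ⟨fun n hn g => by rwa [hUc.is_comm.comm g n, mul_inv_cancel_right]⟩
  have := P.characteristic_of_normal hPn
  have hMP : M ≤ normalizer (P' : Set G) := hn.trans (PLengthEndgame.normalizer_le_char U (P : Subgroup U))
  have hP1 : P' ≠ ⊥ := fun e => by
    have h0 : (P : Subgroup U) = ⊥ := (map_eq_bot_iff_of_injective _ U.subtype_injective).mp e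
    have := P.not_dvd_index
    rw [h0, index_bot] at this
    exact this hd
  have hP'M : P' ≤ M := (map_subtype_le _).trans hU.1
  have hnd : ¬ t ∣ P'.relIndex M := by
    rw [← relIndex_mul_relIndex P' U M (map_subtype_le _) hU.1, ht.dvd_mul]
    push Not
    refine ⟨?_, hU.2.2 t ht (hU.2.1 t ht hd)⟩
    rw [relIndex, subgroupOf, hP', comap_map_eq_self_of_injective U.subtype_injective]
    exact P.not_dvd_index
  have hT := (P.2.map U.subtype).comap_subtype (K := M)
  refine hπ t (hU.2.1 t ht hd) ⟨ht, hd.trans (card_dvd_of_le hU.1), hT.toSylow hnd, ?_⟩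
  rw [show ((hT.toSylow hnd : Sylow t M) : Subgroup M).map M.subtype = P' from map_subgroupOf_eq_of_le hP'M]
  rcases hM.le_iff.mp hMP with h | h
  · exact absurd h (TransitivityHyp.normalizer_ne_top hG hP1 (Uniqueness.ne_top_of_pGroup hG (P.2.map _)))
  · exact h.le

/-- BG 14.2 (g): if `K ≠ E` then `|K|` is prime. -/
theorem Data.prime_of_ne (d : Data M K E) (hG : Cfsg.IsMinSimpleOddOrder G) (hKE : K ≠ E) :
    (Nat.card K).Prime := by
  obtain ⟨U, hUE, hUc, hU1, hU, hEU, hfp⟩ := d.exists_U_ne hG hKE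
  have hM := d.max
  set O := Cfsg.sigmaCore M with hO
  have : Group.IsSolvable O := CfsgLib.Core.isSolvable_of_le (hG.2.2.2 M hM.1) (sigmaCore_le M)
  -- `U` moves `M_σ`
  have hmove : ¬ O ≤ centralizer (U : Set G) := fun h => by
    refine not_normal_of_hall hG hM hU hUc hU1 (fun t ht => ht.2.2) fun m hm => ?_
    obtain ⟨a, ha, b, hb, rfl⟩ := d.compl.2.2.2 m hm
    exact mul_mem (hEU ha) (centralizer_le_normalizer _ (h hb))
  obtain ⟨p, X, hp, hX, hXK⟩ := exists_prime_sub (fun e => by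
    obtain ⟨s, Y, hs, hY, hYK⟩ := d.tau1_line
    have := Fact.mk hs.1
    exact ne_bot_of_card_eq hY (le_bot_iff.mp (e ▸ hYK)) : K ≠ ⊥)
  have := Fact.mk hp
  have hUK : U ⊓ K = ⊥ := inf_eq_bot_of_coprime (Nat.coprime_of_dvd fun t ht h1 h2 =>
    (hU.2.1 t ht h1).2.1 (d.hall.2.1 t ht h2))
  have formula : ∀ T : Subgroup G, T ≤ K → O ⊓ centralizer (T : Set G) = O ⊓ centralizer (K : Set G) →
      Nat.card ↥(O ⊓ centralizer (U : Set G) ⊓ centralizer (K : Set G)) ^ Nat.card T * Nat.card O =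
        Nat.card ↥(O ⊓ centralizer (K : Set G)) ^ Nat.card T * Nat.card ↥(O ⊓ centralizer (U : Set G)) := by
    intro T hT heq
    have hTE : T ≤ E := hT.trans d.le
    have h := CfsgLib.FrobFix.formula_subgroup U T O (eq_bot_iff.mpr ((inf_le_inf_left U hT).trans hUK.le))
      (fun e he u hu => (mem_normalizer_iff.mp (hEU (hTE he)) u).mp hu)
      (fun e he hne u hu hc => mem_bot.mp (hfp e (hT he) hne ▸
        mem_inf.mpr ⟨hu, mem_centralizer_singleton_iff.mpr hc.symm⟩))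
      (fun x hx y hy => (mem_normalizer_iff.mp
        ((sup_le hUE hTE).trans (d.compl.1.trans (le_normalizer_sigmaCore M)) hx) y).mp hy)
      inferInstance ((coprime_complement hG hM d.compl).symm.coprime_dvd_right (card_dvd_of_le (sup_le hUE hTE)))
    rw [centralizer_sup] at h
    have e2 : O ⊓ (centralizer (U : Set G) ⊓ centralizer (T : Set G)) =
        O ⊓ centralizer (U : Set G) ⊓ centralizer (K : Set G) := by
      rw [inf_left_comm, heq, ← inf_assoc, inf_comm (centralizer (U : Set G)) O]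
    rwa [e2, heq] at h
  have h1 := formula X hXK (d.fixed X (hX.symm ▸ hp) hXK)
  have h2 := formula K le_rfl rfl
  rw [hX] at h1
  set a := Nat.card ↥(O ⊓ centralizer (U : Set G) ⊓ centralizer (K : Set G))
  set b := Nat.card ↥(O ⊓ centralizer (K : Set G))
  set c := Nat.card ↥(O ⊓ centralizer (U : Set G))
  set h := Nat.card O
  have hpk : p ≤ Nat.card K := hX ▸ card_le_of_le hXK
  rcases hpk.lt_or_eq with hlt | heq
  swap
  · exact heq ▸ hp
  exfalso
  obtain ⟨e, he⟩ := Nat.exists_eq_add_of_le hlt.le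
  rw [he, pow_add, pow_add] at h2
  have ha : 0 < a := Nat.card_pos
  have hb : 0 < b := Nat.card_pos
  have hc : 0 < c := Nat.card_pos
  have h3 : a ^ e = b ^ e := by
    have : (b ^ p * c) * a ^ e = (b ^ p * c) * b ^ e :=
      calc (b ^ p * c) * a ^ e = (a ^ p * h) * a ^ e := by rw [h1]
        _ = a ^ p * a ^ e * h := by ring
        _ = b ^ p * b ^ e * c := h2
        _ = _ := by ring
    exact Nat.eq_of_mul_eq_mul_left (by positivity) this
  have hab : a = b := Nat.pow_left_injective (by omega) h3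
  rw [hab] at h1
  have hOc : h = c := Nat.eq_of_mul_eq_mul_left (by positivity) h1
  exact hmove (inf_eq_left.mp (eq_of_le_of_card_ge inf_le_left hOc.le))

/-- BG 14.2 (g): if `K ≠ E` then `M_σ` is nilpotent. -/
theorem Data.isNilpotent_of_ne (d : Data M K E) (hG : Cfsg.IsMinSimpleOddOrder G) (hKE : K ≠ E) :
    Group.IsNilpotent (Cfsg.sigmaCore M) := by
  obtain ⟨U, hUE, -, hU1, hU, -, -⟩ := d.exists_U_ne hG hKE
  obtain ⟨r, R, hr, hR, hRU⟩ := exists_prime_sub hU1
  have := Fact.mk hr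
  obtain ⟨-, hrκ, hrσ⟩ := hU.2.1 r hr (hR ▸ card_dvd_of_le hRU)
  have hRM : R ≤ M := hRU.trans hU.1
  by_cases h1 : Cfsg.PRankLE r 1 M
  · obtain ⟨⟨x, hx⟩, hx1⟩ := R.ne_bot_iff_exists_ne_one.mp (ne_bot_of_card_eq hR)
    have hx' : x ≠ 1 := fun e => hx1 (Subtype.ext e)
    have hR' : R = zpowers x := by
      refine (eq_of_le_of_card_ge (zpowers_le.mpr hx) ?_).symm
      rw [hR, Nat.card_zpowers, orderOf_eq_prime (orderOf_dvd_iff_pow_eq_one.mp (hR ▸ R.orderOf_dvd_natCard hx)) hx']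
    refine NonKappa.isNilpotent_of_fpf_elem (x := x) (p := r)
      (orderOf_eq_prime (orderOf_dvd_iff_pow_eq_one.mp (hR ▸ R.orderOf_dvd_natCard hx)) hx')
      (le_normalizer_sigmaCore M (hRM hx)) ?_
    by_contra hne
    rw [SylowUnique.centralizer_singleton_eq, ← hR'] at hne
    exact hrκ (mem_kappa hG hrσ h1 hR hRM hne)
  · obtain ⟨A, hA, hAE⟩ := TauTwo.exists_pair_complement hG d.max d.compl
      ⟨hr, hrσ, not_not.mp fun h' => hrσ (SigmaTrans.alpha_subset_sigma hG d.max ⟨hr, h'⟩), h1⟩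
    exact TauTwo.isNilpotent_sigmaCore hG d.max hA (hAE.trans d.compl.1) hrσ

end CfsgLib.OddLocal.Kappa
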