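import Cfsg.Agent.Lib.OddLocal.FixedTauOne
import Cfsg.Agent.Lib.TwoGroups.TauTwoCase

/-!
An element of `κ(M)` lies in `σ(L)` for every maximal `L` over its normalizer (Bender–Glauberman, 13.7).
-/

set_option autoImplicit false
set_option linter.unusedSectionVars false

namespace CfsgLib.OddLocal.KappaSigma

open Subgroup
open CfsgLib.TwoGroups
open PrimeActionTools FixedTauOne
open SylowUnique (Only)
open TauTwoFacts (rankTwo structure_tau2)
open SigmaOrderP (sigmaCore_le le_normalizer_sigmaCore le_sigmaCore)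
open scoped commutatorElement

variable {G : Type*} [Group G] [Finite G] {p q : ℕ} [Fact p.Prime] [Fact q.Prime]
  {M H L A B P X Y : Subgroup G}

/-- An elementary abelian group of order `q ^ 2` of `H`, `q ∉ σ(H)`, inside `M ≠ H` kills `H_σ ⊓ M`. -/
theorem not_noncyclic (hG : Cfsg.IsMinSimpleOddOrder G) (hM : IsCoatom M) (hH : IsCoatom H) (hne : H ≠ M)
    (hqH : q ∉ Cfsg.sigma H) {S : Subgroup G} (hS : IsPGroup q S) (hSc : ¬ IsCyclic S) (hSM : S ≤ M)
    (hSH : S ≤ H) (hP : Nat.card P = p) (hPH : P ≤ Cfsg.sigmaCore H) (hPM : P ≤ M) : False := by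
  obtain ⟨B, hB, hBS⟩ := exists_pair_of_noncyclic hG hS hSc
  have hbot := TauTwo.sigmaCore_inf_eq_bot hG hH hB (hBS.trans hSH) hqH hM hne.symm (hBS.trans hSM)
  exact ne_bot_of_card_eq hP (le_bot_iff.mp (hbot ▸ le_inf hPH hPM))

/-- The Sylow trick without assumption on the derived group. -/
theorem sylow_trick (hG : Cfsg.IsMinSimpleOddOrder G) (hM : IsCoatom M)
    (hqM : q ∈ Cfsg.sigma M) (hpq : p ≠ q) (hM1 : Cfsg.PRankLE p 1 M)
    (hX : IsPGroup q X) (hX1 : X ≠ ⊥) (hXM : X ≤ M) (hH : IsCoatom H) (hne : H ≠ M)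
    (hNX : normalizer (X : Set G) ≤ H)
    (hP : Nat.card P = p) (hPM : P ≤ M) (hPH : P ≤ H) (hpσ : p ∈ Cfsg.sigma H) (hpβ : p ∉ Cfsg.beta H)
    (hA : TauTwo.IsPair p A) (hAH : A ≤ H) : False := by
  have hXH : X ≤ H := le_normalizer.trans hNX
  by_cases hqσ : q ∈ Cfsg.sigma H
  · exact CentTauOne.sylow_trick hG hM hqM hpq hM1 hX hX1 hXM hH hne hNX
      (TauTwo.le_derived_of_sigma hG hH hqσ hX hXH) hP hPM hPH hpσ hpβ hA hAH
  obtain ⟨S, hS, hXS, hSM, hSH, hmax⟩ := SigmaEmbedding.exists_max hX hXM hXH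
  obtain ⟨hNS, hnd⟩ := SigmaEmbedding.sylow_inf hG hM hqM hX1 hNX hS hXS hSM hSH hmax
  by_cases hSc : IsCyclic S
  · set T : Sylow q H := (hS.comap_subtype (K := H)).toSylow hnd with hTdef
    refine hqσ ⟨Fact.out, ?_, T, ?_⟩
    · obtain ⟨Z, hZ, hZX⟩ := exists_line hX hX1
      exact hZ ▸ card_dvd_of_le (hZX.trans hXH)
    · rw [show ((T : Subgroup H).map H.subtype : Subgroup G) = S from map_subgroupOf_eq_of_le hSH]
      exact (SigmaEmbedding.normalizer_le_of_cyclic hSc hXS).trans hNX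
  · exact not_noncyclic hG hM hH hne hqσ hS hSc hSM hSH hP (le_sigmaCore hG hH hpσ (isPGroup_of_card_eq hP) hPH) hPM

/-- A pair of a second prime in a complement commutes with `A`, so carries `A` into a conjugate of `M`. -/
theorem false_of_second_pair (hG : Cfsg.IsMinSimpleOddOrder G) (hM : IsCoatom M) (hqM : q ∈ Cfsg.sigma M)
    (hM1 : Cfsg.PRankLE p 1 M) (hpq : p ≠ q) (hH : IsCoatom H) (hA : TauTwo.IsPair p A) (hpH : p ∉ Cfsg.sigma H)
    (hqH : q ∉ Cfsg.sigma H) (hq1 : ¬ Cfsg.PRankLE q 1 H) {E : Subgroup G}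
    (hE : Cfsg.IsComplIn E (Cfsg.sigmaCore H) H) (hAE : A ≤ E) : False := by
  have hτ : q ∈ Cfsg.tau2 H :=
    ⟨Fact.out, hqH, not_not.mp fun h => hqH (SigmaTrans.alpha_subset_sigma hG hH ⟨Fact.out, h⟩), hq1⟩
  obtain ⟨B, hB, hBE⟩ := TauTwo.exists_pair_complement hG hH hE hτ
  obtain ⟨hEA, -, -⟩ := TauTwo.le_normalizer_pair hG hH hA hpH hE hAE
  obtain ⟨hEB, -, -⟩ := TauTwo.le_normalizer_pair hG hH hB hqH hE hBE
  have hAB : A ≤ centralizer (B : Set G) := TauTwo.commute_of_inf_bot (hAE.trans hEB) (hBE.trans hEA)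
    (TauTwo.inf_eq_bot_pGroups hpq hA.isPGroup hB.isPGroup)
  obtain ⟨h, hh⟩ := SigmaTrans.exists_conj_le hqM hB.isPGroup
  have hBM : B ≤ M.map (MulAut.conj h).toMonoidHom := fun b hb =>
    Transfer.mem_map_conj.mpr (by simpa [mul_assoc] using hh b hb)
  exact not_le_of_rank hA (prankLE_conj hM1 h)
    (hAB.trans (TauTwo.centralizer_le hG (SylowUnique.isCoatom_conj hM h) hB hBM))

/-- BG 13.7 (first part). -/
theorem sigma_of_normalizer (hG : Cfsg.IsMinSimpleOddOrder G) (hM : IsCoatom M) (hp : p ∉ Cfsg.sigma M)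
    (hM1 : Cfsg.PRankLE p 1 M) (hP : Nat.card P = p) (hPM : P ≤ M)
    (hne : Cfsg.sigmaCore M ⊓ centralizer (P : Set G) ≠ ⊥) (hL : IsCoatom L)
    (hNP : normalizer (P : Set G) ≤ L) : p ∈ Cfsg.sigma L := by
  by_cases hL1 : Cfsg.PRankLE p 1 L
  · exact sigma_of_rank_one hG hL1 hP hNP
  by_contra hpL
  have hpp := (Fact.out : p.Prime)
  obtain ⟨t, Y, ht, hY, hYle⟩ := exists_prime_sub hne
  have := Fact.mk ht
  have hYO : Y ≤ Cfsg.sigmaCore M := hYle.trans inf_le_left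
  have hYM : Y ≤ M := hYO.trans (sigmaCore_le M)
  have htM : t ∈ Cfsg.sigma M := TauTwo.mem_sigma_of_dvd ht (hY ▸ card_dvd_of_le hYO) hG hM
  have hpt : p ≠ t := fun e => hp (by rw [e]; exact htM)
  have hPL : P ≤ L := le_normalizer.trans hNP
  have hYL : Y ≤ L := ((hYle.trans inf_le_right).trans (Subgroup.centralizer_le_normalizer _)).trans hNP
  obtain ⟨A₀, hA₀, hA₀L⟩ := TauTwo.exists_isPair hL1
  have htL : t ∉ Cfsg.sigma L := fun h => by
    obtain ⟨g, hg⟩ := conj_of_pair hG hM hL htM h hA₀ hA₀L hpL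
    exact not_le_of_rank hA₀ (prankLE_conj hM1 g) (hg ▸ hA₀L)
  have hPY : P ≤ centralizer (Y : Set G) := le_centralizer_iff.mp (hYle.trans inf_le_right)
  obtain ⟨E, hE, hKE⟩ := TauTwo.exists_complement_ge hG hL (sup_le hPL hYL) fun r hr hd => by
    rcases hr.dvd_mul.mp (hd.trans (Core.card_sup_dvd P Y (hPY.trans (Subgroup.centralizer_le_normalizer _))))
      with h | h
    · rw [hP] at h; rw [(Nat.prime_dvd_prime_iff_eq hr hpp).mp h]; exact hpL
    · rw [hY] at h; rw [(Nat.prime_dvd_prime_iff_eq hr ht).mp h]; exact htL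
  have hPE : P ≤ E := le_sup_left.trans hKE
  have hYE : Y ≤ E := le_sup_right.trans hKE
  obtain ⟨A, hA, hAE⟩ := TauTwo.exists_pair_complement hG hL hE (hA₀.tau2_of_not_sigma hG hL hA₀L hpL)
  have hAL : A ≤ L := hAE.trans hE.1
  obtain ⟨hEA, hmem, -⟩ := TauTwo.le_normalizer_pair hG hL hA hpL hE hAE
  have hPA : P ≤ A := fun x hx =>
    hmem x (hPE hx) (orderOf_dvd_iff_pow_eq_one.mp (hP ▸ P.orderOf_dvd_natCard hx))
  have hpβ : ∀ H : Subgroup G, p ∉ Cfsg.beta H :=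
    fun H => hA.not_beta hG (TauTwo.not_inUniqueMaximal hG hL hA hAL hpL) H
  have hY1 : Y ≠ ⊥ := ne_bot_of_card_eq hY
  by_cases hYA : A ≤ centralizer (Y : Set G)
  · obtain ⟨H, hH, hNH⟩ := (eq_top_or_exists_le_coatom _).resolve_left
      (TransitivityHyp.normalizer_ne_top hG hY1 (Uniqueness.ne_top_of_pGroup hG (isPGroup_of_card_eq hY)))
    have hAH : A ≤ H := (hYA.trans (Subgroup.centralizer_le_normalizer _)).trans hNH
    have hneH : H ≠ M := fun e => not_le_of_rank hA hM1 (e ▸ hAH)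
    by_cases hpH : p ∈ Cfsg.sigma H
    · exact sylow_trick hG hM htM hpt hM1 (isPGroup_of_card_eq hY) hY1 hYM hH hneH hNH hP hPM (hPA.trans hAH)
        hpH (hpβ H) hA hAH
    have htH : t ∉ Cfsg.sigma H := fun h => by
      obtain ⟨g, hg⟩ := conj_of_pair hG hM hH htM h hA hAH hpH
      exact not_le_of_rank hA (prankLE_conj hM1 g) (hg ▸ hAH)
    have ht1 : ¬ Cfsg.PRankLE t 1 H := fun h => htH (sigma_of_rank_one hG h hY hNH)
    obtain ⟨E', hE', hAE'⟩ := TauTwo.exists_complement_ge hG hH hAH fun r hr hd => by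
      rw [(Nat.prime_dvd_prime_iff_eq hr hpp).mp (hr.dvd_of_dvd_pow (hA.2 ▸ hd))]; exact hpH
    exact false_of_second_pair hG hM htM hM1 hpt hH hA hpH htH ht1 hE' hAE'
  · obtain ⟨H, hH, hNH⟩ := (eq_top_or_exists_le_coatom _).resolve_left
      (TransitivityHyp.normalizer_ne_top hG hA.ne_bot (Uniqueness.ne_top_of_pGroup hG hA.isPGroup))
    have hneL : H ≠ L := fun e => TauTwo.not_normalizer_le hG hL hA hAL hpL (e ▸ hNH)
    have hAH : A ≤ H := le_normalizer.trans hNH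
    have hpH : p ∈ Cfsg.sigma H := by
      by_contra h
      exact TauTwo.not_normalizer_le hG hH hA hAH h hNH
    have hYNA : Y ≤ normalizer (A : Set G) := hYE.trans hEA
    have hYH : Y ≤ H := hYNA.trans hNH
    have hYd : ¬ Y ≤ ⁅H, H⁆ := fun h => hYA (le_centralizer_iff.mp
      (TauTwo.centralizes_of_derived hG hH (p := t) (q := p) hpt (hpβ H) (isPGroup_of_card_eq hY) h
        hA.isPGroup hAH hYNA))
    have htH : t ∉ Cfsg.sigma H := fun h => hYd (TauTwo.le_derived_of_sigma hG hH h (isPGroup_of_card_eq hY) hYH)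
    have hPO : P ≤ Cfsg.sigmaCore H :=
      le_sigmaCore hG hH hpH (isPGroup_of_card_eq hP) (hPA.trans hAH)
    by_cases ht1 : Cfsg.PRankLE t 1 H
    · have hd : ¬ t ∣ Nat.card ↥⁅H, H⁆ := fun hd => by
        obtain ⟨T, hT⟩ := ((isPGroup_of_card_eq hY).comap_subtype (K := H)).exists_le_sylow
        exact hYd (fun y hy => le_derived_of_dvd hG ht1 hd T ⟨⟨y, hYH hy⟩, hT hy, rfl⟩)
      have hτ : t ∈ Cfsg.tau1 H := ⟨ht, htH, hY ▸ card_dvd_of_le hYH, hd, ht1⟩
      exact hneL ((only_of_fixed hG hH hτ hY hYH hP (le_inf hPO hPY)).2 L hL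
        ((Subgroup.centralizer_le_normalizer _).trans hNP)).symm
    · have hτ : t ∈ Cfsg.tau2 H :=
        ⟨ht, htH, not_not.mp fun h => htH (SigmaTrans.alpha_subset_sigma hG hH ⟨ht, h⟩), ht1⟩
      obtain ⟨E', hE', hYE'⟩ := TauTwo.exists_complement_ge hG hH hYH fun r hr hd => by
        rw [(Nat.prime_dvd_prime_iff_eq hr ht).mp (hY ▸ hd)]; exact htH
      obtain ⟨B, hB, hBE'⟩ := TauTwo.exists_pair_complement hG hH hE' hτ
      obtain ⟨-, hmemB, -⟩ := TauTwo.le_normalizer_pair hG hH hB htH hE' hBE'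
      have hYB : Y ≤ B := fun y hy =>
        hmemB y (hYE' hy) (orderOf_dvd_iff_pow_eq_one.mp (hY ▸ Y.orderOf_dvd_natCard hy))
      obtain ⟨hCY, honly⟩ := TauTwo.centralizer_line_unique hG hH hB (hBE'.trans hE'.1) htH hYB hY1
        fun e => ne_bot_of_card_eq hP (le_bot_iff.mp (e ▸ le_inf hPO hPY))
      have hneM : H ≠ M := fun e => not_le_of_rank hA hM1 (e ▸ hAH)
      obtain ⟨H', hH', hNH'⟩ := (eq_top_or_exists_le_coatom _).resolve_left
        (TransitivityHyp.normalizer_ne_top hG hY1 (Uniqueness.ne_top_of_pGroup hG (isPGroup_of_card_eq hY)))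
      have hNY : normalizer (Y : Set G) ≤ H :=
        honly H' hH' ((Subgroup.centralizer_le_normalizer _).trans hNH') ▸ hNH'
      obtain ⟨S, hS, hYS, hSM, hSH, hmax⟩ := SigmaEmbedding.exists_max (isPGroup_of_card_eq hY) hYM hYH
      obtain ⟨-, hnd⟩ := SigmaEmbedding.sylow_inf hG hM htM hY1 hNY hS hYS hSM hSH hmax
      exact not_noncyclic hG hM hH hneM htH hS
        (fun hc => ht1 (CyclicPrimeAction.prankLE_one hSH hnd hS hc)) hSM hSH hP hPO hPM

end CfsgLib.OddLocal.KappaSigma
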