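import Mathlib.FieldTheory.Finite.GaloisField
import Mathlib.NumberTheory.JacobiSum.Basic
import Mathlib.NumberTheory.DirichletCharacter.Orthogonality
import Mathlib.Analysis.Complex.Basic
import Mathlib.Analysis.Complex.Polynomial.Basic
import Mathlib.RingTheory.AdjoinRoot
import Mathlib.Algebra.Polynomial.SpecificDegree
import Mathlib.RingTheory.RootsOfUnity.AlgebraicallyClosed
import Mathlib.LinearAlgebra.Matrix.Charpoly.Minpoly
import Mathlib.RingTheory.Norm.Basic
import Mathlib.RingTheory.Norm.Transitivity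

/-!
At least two elements `a` of `GF(p^q)` satisfy `N a = N (2 - a) = 1`: Jacobi sums for `q ≥ 5`, irreducible
cubics for `q = 3`.
-/

set_option autoImplicit false

namespace CfsgLib.OddLocal.NormCount

open Polynomial

section Jacobi

variable {p : ℕ} [hp : Fact p.Prime] {F : Type*} [Field F] [Fintype F] [Algebra (ZMod p) F]

noncomputable def liftChar (χ : MulChar (ZMod p) ℂ) : MulChar F ℂ where
  toMonoidHom := χ.toMonoidHom.comp (Algebra.norm (ZMod p))
  map_nonunit' x hx := by
    have : x = 0 := by simpa [isUnit_iff_ne_zero] using hx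
    subst this
    show χ (Algebra.norm (ZMod p) (0 : F)) = 0
    rw [Algebra.norm_zero]; exact MulChar.map_zero χ

theorem liftChar_apply (χ : MulChar (ZMod p) ℂ) (x : F) : liftChar χ x = χ (Algebra.norm (ZMod p) x) := rfl

theorem liftChar_ne_one {χ : MulChar (ZMod p) ℂ} (h : χ ≠ 1) : (liftChar χ : MulChar F ℂ) ≠ 1 := by
  obtain ⟨a, ha⟩ := MulChar.ne_one_iff.mp h
  obtain ⟨x, hx⟩ := FiniteField.norm_surjective (ZMod p) F (a : ZMod p)
  intro h1
  have hx0 : IsUnit x := by
    rw [isUnit_iff_ne_zero]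
    intro h0
    rw [h0, Algebra.norm_zero] at hx
    exact a.ne_zero hx.symm
  apply ha
  have := congrArg (fun φ : MulChar F ℂ => φ x) h1
  simp only [liftChar_apply, hx] at this
  rw [this, MulChar.one_apply hx0]

theorem liftChar_one : (liftChar (1 : MulChar (ZMod p) ℂ) : MulChar F ℂ) = 1 := by
  apply MulChar.ext
  intro x
  rw [liftChar_apply, MulChar.one_apply, MulChar.one_apply x.isUnit]
  exact x.isUnit.map _

theorem norm_mulChar_le (χ : MulChar F ℂ) (x : F) : ‖χ x‖ ≤ 1 := by
  by_cases hx : IsUnit x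
  · obtain ⟨u, rfl⟩ := hx
    refine le_of_eq (Complex.norm_eq_one_of_pow_eq_one (n := orderOf u) ?_ (orderOf_pos u).ne')
    rw [← map_pow, ← Units.val_pow_eq_pow_val, pow_orderOf_eq_one, Units.val_one, map_one]
  · rw [MulChar.map_nonunit χ hx, norm_zero]; exact zero_le_one

theorem norm_jacobiSum_le {χ φ : MulChar F ℂ} (hχ : χ ≠ 1) :
    ‖jacobiSum χ φ‖ ≤ Real.sqrt (Fintype.card F) := by
  have h1 : (1 : ℝ) ≤ Real.sqrt (Fintype.card F) := by
    rw [Real.one_le_sqrt]; exact_mod_cast Fintype.card_pos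
  by_cases hφ : φ = 1
  · rw [hφ, jacobiSum_comm, jacobiSum_one_nontrivial hχ]; simpa using h1
  by_cases hχφ : χ * φ = 1
  · rw [eq_inv_of_mul_eq_one_right hχφ, jacobiSum_nontrivial_inv hχ, norm_neg]
    exact (norm_mulChar_le χ (-1)).trans h1
  · have hchar : ringChar ℂ ≠ ringChar F := by
      rw [show ringChar ℂ = 0 from ringChar.eq_iff.mpr (CharP.ofCharZero ℂ)]
      exact Ne.symm (CharP.ringChar_ne_zero_of_finite F)
    have h := jacobiSum_mul_jacobiSum_inv hchar hχ hφ hχφ
    have hinv : ∀ ψ : MulChar F ℂ, ψ.ringHomComp (starRingEnd ℂ) = ψ⁻¹ := fun ψ => by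
      apply MulChar.ext
      intro u
      rw [MulChar.ringHomComp_apply]
      exact MulChar.star_apply' ψ u
    have hconj : jacobiSum χ⁻¹ φ⁻¹ = (starRingEnd ℂ) (jacobiSum χ φ) := by
      rw [← hinv, ← hinv, jacobiSum_ringHomComp]
    rw [hconj, Complex.mul_conj] at h
    have h2 : Complex.normSq (jacobiSum χ φ) = (Fintype.card F : ℝ) := by exact_mod_cast h
    rw [Complex.norm_def, h2]

open scoped Classical in
theorem two_le_card (hp2 : p ≠ 2) {q : ℕ} (hq : 5 ≤ q) (hcard : Fintype.card F = p ^ q) :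
    2 ≤ (Finset.univ.filter fun a : F => Algebra.norm (ZMod p) a = 1 ∧ Algebra.norm (ZMod p) (2 - a) = 1).card := by
  have hp3 : 3 ≤ p := lt_of_le_of_ne hp.out.two_le (Ne.symm hp2)
  have : CharP F p := charP_of_injective_algebraMap (algebraMap (ZMod p) F).injective p
  have h20 : (2 : F) ≠ 0 := by
    intro h
    have h' : ((2 : ℕ) : F) = 0 := by exact_mod_cast h
    have := Nat.le_of_dvd (by norm_num) ((CharP.cast_eq_zero_iff F p 2).mp h')
    omega
  set n2 : ZMod p := Algebra.norm (ZMod p) (2 : F) with hn2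
  have hn20 : n2 ≠ 0 := Algebra.norm_ne_zero_iff.mpr h20
  set c : ZMod p := n2⁻¹ with hc
  set m : ℕ := p.totient with hm
  set S := Finset.univ.filter fun y : F => Algebra.norm (ZMod p) y = c ∧ Algebra.norm (ZMod p) (1 - y) = c
  have hS : (Finset.univ.filter fun a : F => Algebra.norm (ZMod p) a = 1 ∧ Algebra.norm (ZMod p) (2 - a) = 1).card = S.card := by
    have hkey : ∀ x : F, Algebra.norm (ZMod p) (2 * x) = 1 ↔ Algebra.norm (ZMod p) x = c := fun x => by
      rw [map_mul, ← hn2, hc, mul_comm, mul_eq_one_iff_eq_inv₀ hn20]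
    refine Finset.card_bij' (fun a _ => a / 2) (fun y _ => 2 * y) ?_ ?_ ?_ ?_
    · intro a ha
      simp only [S, Finset.mem_filter, Finset.mem_univ, true_and] at ha ⊢
      refine ⟨(hkey _).mp (by rw [mul_div_cancel₀ a h20]; exact ha.1), (hkey _).mp ?_⟩
      rw [mul_sub, mul_one, mul_div_cancel₀ a h20]; exact ha.2
    · intro y hy
      simp only [S, Finset.mem_filter, Finset.mem_univ, true_and] at hy ⊢
      refine ⟨(hkey _).mpr hy.1, ?_⟩
      rw [show 2 - 2 * y = 2 * (1 - y) by ring]; exact (hkey _).mpr hy.2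
    · intro a _; exact mul_div_cancel₀ a h20
    · intro y _; exact mul_div_cancel_left₀ y h20
  rw [hS]
  have horth : ∀ b : ZMod p, ∑ χ : MulChar (ZMod p) ℂ, χ c⁻¹ * χ b = if c = b then (m : ℂ) else 0 :=
    fun b => DirichletCharacter.sum_char_inv_mul_char_eq ℂ (isUnit_iff_ne_zero.mpr (inv_ne_zero hn20)) b
  -- the double character sum
  let T : MulChar (ZMod p) ℂ × MulChar (ZMod p) ℂ → ℂ := fun z =>
    z.1 c⁻¹ * z.2 c⁻¹ * jacobiSum (liftChar z.1 : MulChar F ℂ) (liftChar z.2)
  have htot : ∑ z, T z = (m : ℂ) ^ 2 * S.card := by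
    have h1 : ∀ y : F, (∑ χ : MulChar (ZMod p) ℂ, χ c⁻¹ * χ (Algebra.norm (ZMod p) y)) *
        (∑ ψ : MulChar (ZMod p) ℂ, ψ c⁻¹ * ψ (Algebra.norm (ZMod p) (1 - y))) =
        if y ∈ S then (m : ℂ) ^ 2 else 0 := fun y => by
      rw [horth, horth]
      simp only [S, Finset.mem_filter, Finset.mem_univ, true_and]
      by_cases ha : Algebra.norm (ZMod p) y = c <;> by_cases hb : Algebra.norm (ZMod p) (1 - y) = c <;>
        simp [ha, hb, eq_comm (a := c), pow_two]
    calc ∑ z, T z = ∑ χ : MulChar (ZMod p) ℂ, ∑ ψ : MulChar (ZMod p) ℂ, ∑ y : F,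
          χ c⁻¹ * ψ c⁻¹ * (χ (Algebra.norm (ZMod p) y) * ψ (Algebra.norm (ZMod p) (1 - y))) := by
          rw [Fintype.sum_prod_type]
          refine Finset.sum_congr rfl fun χ _ => Finset.sum_congr rfl fun ψ _ => ?_
          show _ * jacobiSum _ _ = _
          rw [jacobiSum, Finset.mul_sum]
          rfl
      _ = ∑ y : F, (∑ χ : MulChar (ZMod p) ℂ, χ c⁻¹ * χ (Algebra.norm (ZMod p) y)) *
        (∑ ψ : MulChar (ZMod p) ℂ, ψ c⁻¹ * ψ (Algebra.norm (ZMod p) (1 - y))) := by
          rw [Finset.sum_congr rfl fun χ _ => Finset.sum_comm, Finset.sum_comm]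
          refine Finset.sum_congr rfl fun y _ => ?_
          rw [Finset.sum_mul_sum]
          exact Finset.sum_congr rfl fun χ _ => Finset.sum_congr rfl fun ψ _ => by ring
      _ = (m : ℂ) ^ 2 * S.card := by
          rw [Finset.sum_congr rfl fun y _ => h1 y, Finset.sum_ite_mem, Finset.univ_inter, Finset.sum_const,
            nsmul_eq_mul, mul_comm]
  have hcu : IsUnit c⁻¹ := isUnit_iff_ne_zero.mpr (inv_ne_zero (inv_ne_zero hn20))
  have hT11 : T (1, 1) = (Fintype.card F : ℂ) - 2 := by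
    simp only [T, liftChar_one, jacobiSum_one_one, MulChar.one_apply hcu, one_mul]
  have hM : Fintype.card (MulChar (ZMod p) ℂ) = m := by
    rw [← Nat.card_eq_fintype_card]
    exact DirichletCharacter.card_eq_totient_of_hasEnoughRootsOfUnity ℂ p
  set P := Real.sqrt (Fintype.card F) with hP
  have hrest : ‖∑ z ∈ Finset.univ.erase (1, 1), T z‖ ≤ ((m : ℝ) ^ 2 - 1) * P := by
    refine (norm_sum_le _ _).trans ((Finset.sum_le_sum (g := fun _ => P) fun z hz => ?_).trans (le_of_eq ?_))
    · have hz' : z.1 ≠ 1 ∨ z.2 ≠ 1 := by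
        by_contra h
        push Not at h
        exact (Finset.ne_of_mem_erase hz) (Prod.ext h.1 h.2)
      have hle : ∀ (χ : MulChar (ZMod p) ℂ) (a : ZMod p), ‖χ a‖ ≤ 1 := fun χ a => norm_mulChar_le χ a
      have hJ : ‖jacobiSum (liftChar z.1 : MulChar F ℂ) (liftChar z.2)‖ ≤ P := by
        rcases hz' with h | h
        · exact norm_jacobiSum_le (liftChar_ne_one h)
        · rw [jacobiSum_comm]; exact norm_jacobiSum_le (liftChar_ne_one h)
      simp only [T, norm_mul]
      calc ‖z.1 c⁻¹‖ * ‖z.2 c⁻¹‖ * _ ≤ 1 * 1 * P := by gcongr <;> first | exact hle _ _ | exact hJ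
        _ = P := by ring
    · rw [Finset.sum_const, Finset.card_erase_of_mem (Finset.mem_univ _), Finset.card_univ, Fintype.card_prod,
        hM, nsmul_eq_mul, Nat.cast_sub (Nat.one_le_iff_ne_zero.mpr (by
          exact mul_ne_zero (Nat.totient_pos.mpr hp.out.pos).ne' (Nat.totient_pos.mpr hp.out.pos).ne'))]
      push_cast; ring
  rw [← Finset.add_sum_erase _ _ (Finset.mem_univ ((1, 1) : MulChar (ZMod p) ℂ × MulChar (ZMod p) ℂ)), hT11] at htot
  have hre : ((Fintype.card F : ℝ) - 2) - ((m : ℝ) ^ 2 - 1) * P ≤ (m : ℝ) ^ 2 * S.card := by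
    have h1 := congrArg Complex.re htot
    simp only [Complex.add_re, Complex.sub_re, Complex.natCast_re, Complex.re_ofNat] at h1
    have h2 := (Complex.abs_re_le_norm _).trans hrest
    have h3 := (abs_le.mp h2).1
    have h4 : ((m : ℂ) ^ 2 * (S.card : ℂ)).re = (m : ℝ) ^ 2 * S.card := by
      rw [show ((m : ℂ) ^ 2 * (S.card : ℂ)) = (((m : ℝ) ^ 2 * S.card : ℝ) : ℂ) by push_cast; ring]
      exact Complex.ofReal_re _
    rw [h4] at h1
    linarith
  by_contra hlt
  have hS1 : (S.card : ℝ) ≤ 1 := by exact_mod_cast Nat.le_of_lt_succ (not_le.mp hlt)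
  have hpR : (3 : ℝ) ≤ p := by exact_mod_cast hp3
  have hmp : (m : ℝ) ≤ p := by exact_mod_cast Nat.totient_le p
  have hm0 : (0 : ℝ) ≤ m := Nat.cast_nonneg m
  have hPP : P * P = Fintype.card F := Real.mul_self_sqrt (Nat.cast_nonneg _)
  have hP0 : 0 ≤ P := Real.sqrt_nonneg _
  have hbig : 3 * (p : ℝ) ^ 4 ≤ P * P := by
    rw [hPP, hcard]; push_cast
    calc 3 * (p : ℝ) ^ 4 ≤ (p : ℝ) ^ 5 := by nlinarith [pow_nonneg (le_trans (by norm_num) hpR : (0:ℝ) ≤ p) 4]
      _ ≤ (p : ℝ) ^ q := pow_le_pow_right₀ (by linarith) hq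
  have hp9 : (9 : ℝ) ≤ (p : ℝ) ^ 2 := by nlinarith
  have hP15 : (3 / 2) * (p : ℝ) ^ 2 ≤ P := by nlinarith [sq_nonneg (P - (3 / 2) * (p : ℝ) ^ 2)]
  have hm2 : (m : ℝ) ^ 2 ≤ (p : ℝ) ^ 2 := pow_le_pow_left₀ hm0 hmp 2
  rw [← hPP] at hre
  have hmS : (m : ℝ) ^ 2 * S.card ≤ (p : ℝ) ^ 2 := le_trans (by nlinarith) hm2
  nlinarith [mul_le_mul_of_nonneg_right hm2 hP0, mul_le_mul_of_nonneg_left hP15 hP0]

end Jacobi

section Cubic

variable {p : ℕ} [hp : Fact p.Prime]

noncomputable def cubic (s : ZMod p) : (ZMod p)[X] := X ^ 3 - C s * X ^ 2 + C (2 * s - 3) * X - 1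

theorem cubic_natDegree (s : ZMod p) : (cubic s).natDegree = 3 := by unfold cubic; compute_degree!

theorem cubic_monic (s : ZMod p) : (cubic s).Monic := by unfold cubic; monicity!

theorem norm_algebraMap_sub_root {f : (ZMod p)[X]} (hf : f.Monic) (hirr : Irreducible f) (c : ZMod p) :
    Algebra.norm (ZMod p) (algebraMap (ZMod p) (AdjoinRoot f) c - AdjoinRoot.root f) = f.eval c := by
  classical
  have : Fact (Irreducible f) := ⟨hirr⟩
  let pb := AdjoinRoot.powerBasis hirr.ne_zero
  have hgen : pb.gen = AdjoinRoot.root f := AdjoinRoot.powerBasis_gen hirr.ne_zero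
  have hmin : minpoly (ZMod p) (AdjoinRoot.root f) = f := by
    rw [AdjoinRoot.minpoly_root hirr.ne_zero, hf.leadingCoeff, inv_one, C_1, mul_one]
  rw [Algebra.norm_eq_matrix_det pb.basis, map_sub, ← hgen,
    AlgHom.commutes, Matrix.algebraMap_eq_diagonal]
  conv_rhs => rw [← hmin, ← hgen, ← charpoly_leftMulMatrix pb, Matrix.eval_charpoly]
  congr 1

theorem exists_two_norm_one_cubic {F : Type*} [Field F] [Finite F] [Algebra (ZMod p) F]
    (hp2 : p ≠ 2) (hrank : Module.finrank (ZMod p) F = 3) :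
    ∃ a b : F, a ≠ b ∧ (Algebra.norm (ZMod p) a = 1 ∧ Algebra.norm (ZMod p) (2 - a) = 1) ∧
      Algebra.norm (ZMod p) b = 1 ∧ Algebra.norm (ZMod p) (2 - b) = 1 := by
  classical
  have hex : ∀ s : ZMod p, Irreducible (cubic s) → ∃ a : F, aeval a (cubic s) = 0 ∧
      Algebra.norm (ZMod p) a = 1 ∧ Algebra.norm (ZMod p) (2 - a) = 1 := by
    intro s hirr
    have : Fact (Irreducible (cubic s)) := ⟨hirr⟩
    let pb := AdjoinRoot.powerBasis hirr.ne_zero
    have : Module.Finite (ZMod p) (AdjoinRoot (cubic s)) := pb.finite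
    have hdim : Module.finrank (ZMod p) (AdjoinRoot (cubic s)) = 3 := by
      rw [pb.finrank, AdjoinRoot.powerBasis_dim, cubic_natDegree]
    have : Finite (AdjoinRoot (cubic s)) := Module.finite_of_finite (ZMod p)
    obtain ⟨f⟩ := FiniteField.nonempty_algHom_of_finrank_dvd (F := ZMod p) (K := AdjoinRoot (cubic s)) (L := F)
      (by rw [hdim, hrank])
    have hbij : Function.Bijective f := by
      refine ⟨f.toRingHom.injective, ?_⟩
      exact (f.toLinearMap.injective_iff_surjective_of_finrank_eq_finrank (hdim.trans hrank.symm)).mp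
        f.toRingHom.injective
    have hn : ∀ z, Algebra.norm (ZMod p) (f z) = Algebra.norm (ZMod p) z := fun z =>
      Algebra.norm_eq_of_algEquiv (AlgEquiv.ofBijective f hbij) z
    refine ⟨f (AdjoinRoot.root (cubic s)), ?_, ?_, ?_⟩
    · rw [aeval_algHom_apply, AdjoinRoot.aeval_eq, AdjoinRoot.mk_self, map_zero]
    · have h := norm_algebraMap_sub_root (cubic_monic s) hirr 0
      rw [map_zero, zero_sub, ← neg_one_mul, map_mul,
        show (-1 : AdjoinRoot (cubic s)) = algebraMap (ZMod p) _ (-1) by simp, Algebra.norm_algebraMap, hdim] at h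
      rw [hn]
      generalize hN : Algebra.norm (ZMod p) (AdjoinRoot.root (cubic s)) = N at h ⊢
      simp only [cubic, eval_sub, eval_add, eval_pow, eval_X, eval_mul, eval_C, eval_one] at h
      linear_combination -h
    · have h := norm_algebraMap_sub_root (cubic_monic s) hirr 2
      rw [show (2 : F) = f (algebraMap (ZMod p) _ 2) by rw [AlgHom.commutes, map_ofNat], ← map_sub, hn, h]
      simp only [cubic, eval_sub, eval_add, eval_pow, eval_X, eval_mul, eval_C, eval_one]
      ring
  have h2 : (2 : ZMod p) ≠ 0 → (Finset.univ.filter fun s : ZMod p => ¬ Irreducible (cubic s)).card + 2 ≤ p := by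
    intro h20
    let D := (Finset.univ : Finset (ZMod p)).erase 0 |>.erase 2
    have hsub : (Finset.univ.filter fun s : ZMod p => ¬ Irreducible (cubic s)) ⊆
        D.image fun r => (r ^ 3 - 3 * r - 1) / (r ^ 2 - 2 * r) := by
      intro s hs
      rw [Finset.mem_filter, irreducible_iff_roots_eq_zero_of_degree_le_three
        (by rw [cubic_natDegree]; norm_num) (cubic_natDegree s).le] at hs
      obtain ⟨r, hr⟩ := Multiset.exists_mem_of_ne_zero hs.2
      rw [mem_roots (cubic_monic s).ne_zero, IsRoot.def] at hr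
      simp only [cubic, eval_sub, eval_add, eval_pow, eval_X, eval_mul, eval_C, eval_one] at hr
      have hr0 : r ≠ 0 := fun h => by rw [h] at hr; simp at hr
      have hr2 : r ≠ 2 := fun h => by
        rw [h] at hr
        have : (1 : ZMod p) = 0 := by linear_combination hr
        exact one_ne_zero this
      refine Finset.mem_image.mpr ⟨r, by simp [D, hr0, hr2], ?_⟩
      rw [div_eq_iff (by rw [show r ^ 2 - 2 * r = r * (r - 2) by ring]; exact mul_ne_zero hr0 (sub_ne_zero.mpr hr2))]
      linear_combination hr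
    have h3 := (Finset.card_le_card hsub).trans Finset.card_image_le
    have hD : D.card = p - 2 := by
      rw [Finset.card_erase_of_mem (by simp [h20]), Finset.card_erase_of_mem (Finset.mem_univ _), Finset.card_univ, ZMod.card]
      omega
    have := hp.out.two_le
    omega
  have h20 : (2 : ZMod p) ≠ 0 := fun h' => hp2 (by
    have h2' : ((2 : ℕ) : ZMod p) = 0 := by exact_mod_cast h'
    exact (Nat.prime_dvd_prime_iff_eq hp.out Nat.prime_two).mp ((ZMod.natCast_eq_zero_iff _ _).mp h2'))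
  have hgood : 2 ≤ (Finset.univ.filter fun s : ZMod p => Irreducible (cubic s)).card := by
    have := Finset.card_filter_add_card_filter_not (s := (Finset.univ : Finset (ZMod p)))
      (fun s => Irreducible (cubic s))
    rw [Finset.card_univ, ZMod.card] at this
    have := h2 h20
    omega
  obtain ⟨s, hs, t, ht, hst⟩ := Finset.one_lt_card.mp hgood
  obtain ⟨a, ha, ha'⟩ := hex s (Finset.mem_filter.mp hs).2
  obtain ⟨b, hb, hb'⟩ := hex t (Finset.mem_filter.mp ht).2
  refine ⟨a, b, fun hab => hst ?_, ha', hb'⟩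
  subst hab
  simp only [cubic, map_sub, map_add, map_pow, aeval_X, map_mul, aeval_C, map_one, map_ofNat] at ha hb
  have h := mul_eq_zero.mp (show (algebraMap (ZMod p) F t - algebraMap (ZMod p) F s) * (a * (a - 2)) = 0 by
    linear_combination ha - hb)
  rcases h with h | h
  · exact ((algebraMap (ZMod p) F).injective (sub_eq_zero.mp h)).symm
  · rcases mul_eq_zero.mp h with h | h
    · have := ha'.1
      rw [h, Algebra.norm_zero] at this
      exact absurd this zero_ne_one
    · have := ha'.2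
      rw [sub_eq_zero.mp h, sub_self, Algebra.norm_zero] at this
      exact absurd this zero_ne_one

end Cubic

end CfsgLib.OddLocal.NormCount
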