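import Mathlib.FieldTheory.Finite.GaloisField
import Mathlib.RingTheory.Norm.Transitivity
import Mathlib.Algebra.Polynomial.Roots
import Mathlib.Tactic.FieldSimp
import Mathlib.Tactic.Ring

/-!
The set of elements `a` of `GF(p^q)` with `N a = N (2 - a) = 1`: if it is closed under inversion and has an
element other than `1`, then `p ≤ q`.
-/

set_option autoImplicit false

namespace CfsgLib.OddLocal

open Polynomial

theorem norm_pair_symmetric_le {p q : ℕ} [hp : Fact p.Prime] {F : Type*} [Field F] [Finite F]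
    [Algebra (ZMod p) F] (hrank : Module.finrank (ZMod p) F = q)
    (hinv : ∀ a : F, Algebra.norm (ZMod p) a = 1 → Algebra.norm (ZMod p) (2 - a) = 1 →
      Algebra.norm (ZMod p) (2 - a⁻¹) = 1)
    {a : F} (ha1 : a ≠ 1) (ha : Algebra.norm (ZMod p) a = 1) (ha' : Algebra.norm (ZMod p) (2 - a) = 1) :
    p ≤ q := by
  classical
  set d : F := 1 - a with hd
  have hd0 : d ≠ 0 := sub_ne_zero.mpr (Ne.symm ha1)
  have hne : ∀ x : F, Algebra.norm (ZMod p) x = 1 → x ≠ 0 := fun x hx h => by
    rw [h, Algebra.norm_zero] at hx; exact zero_ne_one hx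
  -- the invariant along `1 + k d`
  have key : ∀ k : ℕ, Algebra.norm (ZMod p) (1 + ((k : F) - 1) * d) = 1 ∧
      Algebra.norm (ZMod p) (1 + (k : F) * d) = 1 ∧
      Algebra.norm (ZMod p) (2 - (1 + ((k : F) - 1) * d) / (1 + (k : F) * d)) = 1 := by
    intro k
    induction k with
    | zero =>
      have h0 : (1 + ((0 : ℕ) : F) * d) = 1 := by simp
      have h1 : (1 + (((0 : ℕ) : F) - 1) * d) = a := by rw [hd]; simp
      rw [h0, h1, map_one, div_one]
      exact ⟨ha, rfl, ha'⟩
    | succ k ih =>
      obtain ⟨hA, hB, hE⟩ := ih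
      set A := 1 + ((k : F) - 1) * d
      set B := 1 + (k : F) * d with hBdef
      have hB0 : B ≠ 0 := hne B hB
      have hA0 : A ≠ 0 := hne A hA
      have hC : 2 - A / B = (1 + ((k : F) + 1) * d) / B := by
        rw [sub_div' hB0]
        congr 1
        simp only [A, B]; ring
      set C := 1 + ((k : F) + 1) * d
      have hC1 : Algebra.norm (ZMod p) C = 1 := by
        have h1 : C = (2 - A / B) * B := by rw [hC, div_mul_cancel₀ _ hB0]
        rw [h1, map_mul, hE, hB, mul_one]
      have hC0 : C ≠ 0 := hne C hC1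
      have hnd : ∀ x y : F, Algebra.norm (ZMod p) x = 1 → Algebra.norm (ZMod p) y = 1 → y ≠ 0 →
          Algebra.norm (ZMod p) (x / y) = 1 := by
        intro x y hx hy hy0
        have := congrArg (Algebra.norm (ZMod p)) (div_mul_cancel₀ x hy0)
        rwa [map_mul, hy, hx, mul_one] at this
      -- `e = 2 - A/B` is again in the set, hence so is its inverse
      have he := hinv (2 - A / B) hE (by rw [sub_sub_cancel]; exact hnd A B hA hB hB0)
      rw [hC, inv_div] at he
      push_cast
      rw [add_sub_cancel_right]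
      exact ⟨hB, hC1, he⟩
  -- the polynomial `∏ σ (1 + X σ d) - 1`
  set f : F[X] := (∏ σ : (F ≃ₐ[ZMod p] F), (C (σ d) * X + 1)) - 1 with hf
  have hdeg1 : ∀ σ : (F ≃ₐ[ZMod p] F), (C (σ d) * X + 1).natDegree = 1 := fun σ => by
    rw [← C_1]; exact natDegree_linear (by simpa using hd0)
  have hcard : Fintype.card (F ≃ₐ[ZMod p] F) = q := by
    rw [← hrank, ← IsGalois.card_aut_eq_finrank, Nat.card_eq_fintype_card]
  have hdeg : (∏ σ : (F ≃ₐ[ZMod p] F), (C (σ d) * X + 1)).natDegree = q := by
    rw [natDegree_prod _ _ (fun σ _ h => by simpa [h] using hdeg1 σ)]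
    simp [hdeg1, hcard]
  have hq0 : 0 < q := hrank ▸ Module.finrank_pos
  have hfdeg : f.natDegree = q := by rw [hf, ← C_1, natDegree_sub_C]; exact hdeg
  have hf0 : f ≠ 0 := fun h => by rw [h] at hfdeg; simp at hfdeg; omega
  let roots : Finset F := (Finset.univ : Finset (ZMod p)).image (algebraMap (ZMod p) F)
  have hroots : roots.val ⊆ f.roots := by
    intro x hx
    obtain ⟨z, -, rfl⟩ := Finset.mem_image.mp hx
    rw [mem_roots hf0, IsRoot.def, hf, eval_sub, eval_one, sub_eq_zero, eval_prod]
    have h1 := (key z.val).2.1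
    have hz : (z.val : F) = algebraMap (ZMod p) F z := by
      rw [← map_natCast (algebraMap (ZMod p) F), ZMod.natCast_zmod_val]
    rw [hz] at h1
    have h2 := Algebra.norm_eq_prod_automorphisms (ZMod p) (1 + algebraMap (ZMod p) F z * d)
    rw [h1, map_one] at h2
    refine Eq.trans ?_ h2.symm
    refine Finset.prod_congr rfl fun σ _ => ?_
    rw [map_add, map_one, map_mul, AlgEquiv.commutes, eval_add, eval_mul, eval_C, eval_X, eval_one,
      mul_comm, add_comm]
  have := card_le_degree_of_subset_roots hroots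
  rw [Finset.card_image_of_injective _ (algebraMap (ZMod p) F).injective, Finset.card_univ, ZMod.card] at this
  omega

end CfsgLib.OddLocal
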