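import Cfsg.Agent.Lib.OddLocal.StarKernel
import Cfsg.Agent.S1353

/-!
# The maximal subgroup over `N(R)` for a Sylow subgroup `R` of `U ≠ 1`
-/

namespace CfsgLib.OddLocal.Kappa

open Subgroup
open CfsgLib.TwoGroups
open PrimeActionTools FixedTauOne TauThree
open SigmaOrderP (sigmaCore_le le_normalizer_sigmaCore le_sigmaCore)
open scoped commutatorElement

variable {G : Type*} [Group G] [Finite G] {M H L E F K U R V A : Subgroup G} {p r t : ℕ} [Fact p.Prime]
  [Fact r.Prime] [Fact t.Prime]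

/-- A Sylow subgroup of `H` with normalizer in `H` puts its prime in `σ(H)`. -/
theorem mem_sigma_of_sylow {P : Subgroup G} (hP : IsPGroup r P) (hPH : P ≤ H) (hnd : ¬ r ∣ P.relIndex H)
    (hd : r ∣ Nat.card H) (hN : normalizer (P : Set G) ≤ H) : r ∈ Cfsg.sigma H := by
  refine ⟨Fact.out, hd, (hP.comap_subtype (K := H)).toSylow hnd, ?_⟩
  rwa [show (((hP.comap_subtype (K := H)).toSylow hnd : Sylow r H) : Subgroup H).map H.subtype = P from
    map_subgroupOf_eq_of_le hPH]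

/-- `K` acting fixed point freely on `A ≤ E` makes `A` centralize `H_σ` when `K` is regular on it. -/
theorem centralizes_core_of_fpf (hG : Cfsg.IsMinSimpleOddOrder G) (hH : IsCoatom H)
    (hE : Cfsg.IsComplIn E (Cfsg.sigmaCore H) H) (hK : Nat.card K = p) (hKE : K ≤ E) (hAE : A ≤ E)
    (hn : K ≤ normalizer (A : Set G)) (hfix : A ⊓ centralizer (K : Set G) = ⊥)
    (hreg : Cfsg.sigmaCore H ⊓ centralizer (K : Set G) = ⊥) :
    Cfsg.sigmaCore H ≤ centralizer (A : Set G) := by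
  set O := Cfsg.sigmaCore H with hO
  have hgen : ∀ k ∈ K, k ≠ 1 → K ≤ zpowers k := fun k hk hk1 => by
    refine (eq_of_le_of_card_ge (zpowers_le.mpr hk) ?_).ge
    rw [hK, Nat.card_zpowers, orderOf_eq_prime (orderOf_dvd_iff_pow_eq_one.mp (hK ▸ K.orderOf_dvd_natCard hk)) hk1]
  have hfpf : ∀ k ∈ K, k ≠ 1 → ∀ a ∈ A, k * a = a * k → a = 1 := fun k hk hk1 a ha hc => by
    refine mem_bot.mp (hfix ▸ mem_inf.mpr ⟨ha, mem_centralizer_iff.mpr fun x hx => ?_⟩)
    obtain ⟨n, rfl⟩ := mem_zpowers_iff.mp (hgen k hk hk1 hx)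
    exact ((show Commute k a from hc).zpow_left n).eq
  have hAK : A ⊓ K = ⊥ := eq_bot_iff.mpr fun x hx => by
    by_contra h1
    exact h1 (mem_bot.mpr (hfpf x hx.2 (fun e => h1 (mem_bot.mpr e)) x hx.1 rfl))
  have : Group.IsSolvable O := CfsgLib.Core.isSolvable_of_le (hG.2.2.2 H hH.1) (sigmaCore_le H)
  have h := CfsgLib.FrobFix.formula_subgroup A K O hAK
    (fun e he u hu => (mem_normalizer_iff.mp (hn he) u).mp hu) hfpf
    (fun x hx y hy => (mem_normalizer_iff.mp
      ((sup_le hAE hKE).trans (hE.1.trans (le_normalizer_sigmaCore H)) hx) y).mp hy)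
    inferInstance ((coprime_complement hG hH hE).symm.coprime_dvd_right (card_dvd_of_le (sup_le hAE hKE)))
  rw [hreg, show O ⊓ centralizer ((A ⊔ K : Subgroup G) : Set G) = ⊥ from
    eq_bot_iff.mpr ((inf_le_inf_left _ (Subgroup.centralizer_le (le_sup_right : K ≤ A ⊔ K))).trans hreg.le),
    card_bot, one_pow, one_mul, one_mul] at h
  exact inf_eq_left.mp (eq_of_le_of_card_ge inf_le_left h.le)

/-- The setting of the signalizer theorem. -/
structure Signal (M K U Mstar H : Subgroup G) : Prop where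
  data : ∃ E, Data M K E
  decomp : Cfsg.IsSigmaDecomposition M K U
  K_ne : K ≠ ⊥
  U_ne : U ≠ ⊥
  pair : Pair M K Mstar
  max : IsCoatom H
  prime : (Nat.card K).Prime
  le_H : U ⊔ K ≤ H
  not_star : ∀ g : G, H ≠ Mstar.map (MulAut.conj g).toMonoidHom
  not_conj : ∀ g : G, H ≠ M.map (MulAut.conj g).toMonoidHom

theorem Signal.prime_not_sigma (S : Signal M K U L H) (hG : Cfsg.IsMinSimpleOddOrder G) :
    Nat.card K ∉ Cfsg.sigma H := fun h => by
  have := Fact.mk S.prime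
  obtain ⟨F, dH⟩ := S.pair.data
  obtain ⟨g, hg⟩ := SigmaDisjoint.sigma_disjoint hG dH.max S.max
    (TauTwo.mem_sigma_of_dvd S.prime (card_dvd_of_le S.pair.K_le_core) hG dH.max) h
  exact S.not_star g hg

theorem Signal.kappa_eq (S : Signal M K U L H) (hG : Cfsg.IsMinSimpleOddOrder G) : Cfsg.kappa H = ∅ := by
  obtain ⟨E, d⟩ := S.data
  refine Set.not_nonempty_iff_eq_empty.mp fun h => ?_
  obtain ⟨g, hg | hg⟩ := S.pair.classes d hG S.max h
  · exact S.not_conj g hg
  · exact S.not_star g hg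

/-- `C(K) ≤ M*` only. -/
theorem Signal.only_star (S : Signal M K U L H) (hG : Cfsg.IsMinSimpleOddOrder G) :
    SylowUnique.Only L (centralizer (K : Set G)) := by
  have := Fact.mk S.prime
  obtain ⟨F, dH⟩ := S.pair.data
  exact dH.only_fixed hG rfl S.pair.star_star.ge

/-- `K` is regular on `H_σ`. -/
theorem Signal.regular (S : Signal M K U L H) (hG : Cfsg.IsMinSimpleOddOrder G) :
    Cfsg.sigmaCore H ⊓ centralizer (K : Set G) = ⊥ := by
  have := Fact.mk S.prime
  by_contra hne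
  have hσ := S.prime_not_sigma hG
  have hKH : K ≤ H := le_sup_right.trans S.le_H
  by_cases h1 : Cfsg.PRankLE (Nat.card K) 1 H
  · have := mem_kappa hG hσ h1 rfl hKH hne
    rw [S.kappa_eq hG] at this
    exact this
  obtain ⟨F, hF, hKF⟩ := TauTwo.exists_complement_ge hG S.max hKH fun v hv hd => by
    rw [(Nat.prime_dvd_prime_iff_eq hv S.prime).mp hd]; exact hσ
  obtain ⟨B, hB, hBF⟩ := TauTwo.exists_pair_complement hG S.max hF
    ⟨S.prime, hσ, not_not.mp fun h' => hσ (SigmaTrans.alpha_subset_sigma hG S.max ⟨S.prime, h'⟩), h1⟩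
  obtain ⟨-, hmemB, -⟩ := TauTwo.le_normalizer_pair hG S.max hB hσ hF hBF
  have h2 := (TauTwo.centralizer_line_unique hG S.max hB (hBF.trans hF.1) hσ
    (fun x hx => hmemB x (hKF hx) (orderOf_dvd_iff_pow_eq_one.mp (K.orderOf_dvd_natCard hx)))
    S.K_ne hne).1
  have h3 := (S.only_star hG).2 H S.max h2
  refine S.not_star 1 ?_
  rw [Support.map_conj_of_mem (one_mem _)]
  exact h3

theorem Signal.nilpotent (S : Signal M K U L H) (hG : Cfsg.IsMinSimpleOddOrder G) :
    Group.IsNilpotent (Cfsg.sigmaCore H) := by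
  have := Fact.mk S.prime
  obtain ⟨k, hk, hk1⟩ := K.bot_or_exists_ne_one.resolve_left S.K_ne
  have ho : orderOf k = Nat.card K := by
    refine orderOf_eq_prime (orderOf_dvd_iff_pow_eq_one.mp (K.orderOf_dvd_natCard hk)) hk1
  refine NonKappa.isNilpotent_of_fpf_elem (x := k) ho
    (le_normalizer_sigmaCore H (S.le_H (mem_sup_right hk))) ?_
  have hz : zpowers k = K := eq_of_le_of_card_ge (zpowers_le.mpr hk) (by rw [Nat.card_zpowers, ho])
  rw [SylowUnique.centralizer_singleton_eq, hz]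
  exact S.regular hG

/-- A pair of a prime of `τ₂(H)` in a complement over `K` centralizes `K`. -/
theorem Signal.centralizes_pair (S : Signal M K U L H) (hG : Cfsg.IsMinSimpleOddOrder G)
    (hE : Cfsg.IsComplIn E (Cfsg.sigmaCore H) H) (hKE : K ≤ E) (hA : TauTwo.IsPair t A) (hAE : A ≤ E)
    (hσ : t ∉ Cfsg.sigma H) (ht : t ≠ Nat.card K) : A ≤ centralizer (K : Set G) := by
  have hp := S.prime
  have := Fact.mk hp
  obtain ⟨EM, d⟩ := S.data
  obtain ⟨FL, dL⟩ := S.pair.data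
  have hAH : A ≤ H := hAE.trans hE.1
  have hKA : K ≤ normalizer (A : Set G) := hKE.trans (TauTwo.le_normalizer_pair hG S.max hA hσ hE hAE).1
  -- a fixed line
  obtain ⟨v, R₁, hv, hR₁, hR₁le⟩ : ∃ (v : ℕ) (R₁ : Subgroup G), v.Prime ∧ Nat.card R₁ = v ∧
      R₁ ≤ A ⊓ centralizer (K : Set G) := by
    refine exists_prime_sub fun hfix => TauTwo.sigmaCore_ne_bot hG S.max ?_
    have h := centralizes_core_of_fpf hG S.max hE rfl hKE hAE hKA hfix (S.regular hG)
    rw [← TauTwo.sigma_inf_centralizer hG S.max hA hAH hσ]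
    exact (inf_eq_left.mpr h).symm
  obtain rfl : v = t := by
    have h1 := hR₁ ▸ card_dvd_of_le (hR₁le.trans inf_le_left)
    rw [hA.2] at h1
    exact (Nat.prime_dvd_prime_iff_eq hv Fact.out).mp (hv.dvd_of_dvd_pow h1)
  have hR₁L : R₁ ≤ L := (hR₁le.trans inf_le_right).trans (S.only_star hG).1
  have htM : v ∉ Cfsg.sigma M := fun h => by
    have hd : v ∣ Nat.card (Cfsg.sigmaCore M) := by
      obtain ⟨⟨-, -, hidx⟩, -, -⟩ := SigmaCore.sigmaCore_hall hG d.max
      have h1 : v ∣ Nat.card (Cfsg.sigmaCore M) * (Cfsg.sigmaCore M).relIndex M := by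
        rw [← relIndex_bot_left (Cfsg.sigmaCore M), relIndex_mul_relIndex ⊥ _ M bot_le (sigmaCore_le M),
          relIndex_bot_left]
        exact h.2.1
      exact (hv.dvd_mul.mp h1).resolve_right (hidx v hv h)
    exact hA.not_beta hG (TauTwo.not_inUniqueMaximal hG S.max hA hAH hσ) M
      (TypeP2.mem_beta hG d.max S.decomp S.K_ne S.U_ne hv hd)
  suffices hAL : A ≤ L by
    refine S.pair.centralizes hG rfl hAL hKA fun hd => ?_
    rw [hA.2] at hd
    exact ht ((Nat.prime_dvd_prime_iff_eq hp hv).mp (hp.dvd_of_dvd_pow hd)).symm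
  obtain ⟨x, hx, hx1⟩ := R₁.bot_or_exists_ne_one.resolve_left (ne_bot_of_card_eq hR₁)
  have hxR : R₁ = zpowers x := by
    refine (eq_of_le_of_card_ge (zpowers_le.mpr hx) ?_).symm
    rw [hR₁, Nat.card_zpowers,
      orderOf_eq_prime (orderOf_dvd_iff_pow_eq_one.mp (hR₁ ▸ R₁.orderOf_dvd_natCard hx)) hx1]
  have hCx : centralizer ({x} : Set G) = centralizer (R₁ : Set G) := by
    rw [hxR, SylowUnique.centralizer_singleton_eq]
  have hAC : A ≤ centralizer ({x} : Set G) := by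
    rw [hCx]
    have := hA.1.1
    exact (le_centralizer_iff_isMulCommutative.mpr this).trans
      (Subgroup.centralizer_le (hR₁le.trans inf_le_left))
  have hKC : K ≤ centralizer ({x} : Set G) := hCx ▸ le_centralizer_iff.mp (hR₁le.trans inf_le_right)
  by_cases hC : centralizer ({x} : Set G) ≤ L
  · exact hAC.trans hC
  have hvL : v ∈ Cfsg.sigma L := by
    by_contra hvL
    have hne : Cfsg.sigmaCore L ⊓ centralizer (R₁ : Set G) ≠ ⊥ := fun e =>
      S.K_ne (le_bot_iff.mp (e ▸ le_inf S.pair.K_le_core (hCx ▸ hKC)))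
    by_cases h1 : Cfsg.PRankLE v 1 L
    · have hκ := mem_kappa hG hvL h1 hR₁ hR₁L hne
      refine htM (d.sigma_star hG hv ?_)
      have hd : v ∣ Nat.card (Kstar M K) * (Kstar M K).relIndex L := by
        rw [← relIndex_bot_left (Kstar M K), relIndex_mul_relIndex ⊥ _ L bot_le dL.hall.1, relIndex_bot_left]
        exact hκ.2.1
      exact (hv.dvd_mul.mp hd).resolve_right (dL.hall.2.2 v hv hκ)
    obtain ⟨F', hF', hRF'⟩ := TauTwo.exists_complement_ge hG dL.max hR₁L fun u hu hd => by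
      rw [(Nat.prime_dvd_prime_iff_eq hu hv).mp (hR₁ ▸ hd)]; exact hvL
    obtain ⟨B, hB, hBF⟩ := TauTwo.exists_pair_complement hG dL.max hF'
      ⟨hv, hvL, not_not.mp fun h' => hvL (SigmaTrans.alpha_subset_sigma hG dL.max ⟨hv, h'⟩), h1⟩
    obtain ⟨-, hmemB, -⟩ := TauTwo.le_normalizer_pair hG dL.max hB hvL hF' hBF
    exact hC (hCx.le.trans (TauTwo.centralizer_line_unique hG dL.max hB (hBF.trans hF'.1) hvL
      (fun y hy => hmemB y (hRF' hy) (orderOf_dvd_iff_pow_eq_one.mp (hR₁ ▸ R₁.orderOf_dvd_natCard hy)))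
      (ne_bot_of_card_eq hR₁) hne).1)
  have hxO : x ∈ Cfsg.sigmaCore L := le_sigmaCore hG dL.max hvL (isPGroup_of_card_eq hR₁) hR₁L hx
  obtain ⟨H₁, o⟩ := Support.exists_overgroup hG dL.max hxO hx1 hC
  set W := centralizer ({x} : Set G) with hW
  have : Group.IsSolvable W := CfsgLib.Core.isSolvable_of_le (hG.2.2.2 H₁ o.max.1) o.le
  have hTπ : Cfsg.IsPiHall {u : ℕ | u.Prime ∧ u ∉ Cfsg.sigma H₁} ((L ⊓ W).subgroupOf W) := by
    refine ⟨fun u hu hd => ⟨hu, fun huσ => ?_⟩, fun u hu huπ hd => ?_⟩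
    · rw [Nat.card_congr (subgroupOfEquivOfLe (inf_le_right : L ⊓ W ≤ W)).toEquiv] at hd
      have := Fact.mk hu
      obtain ⟨w, hw⟩ := exists_prime_orderOf_dvd_card' u hd
      have hwO : zpowers (w : G) ≤ Cfsg.sigmaCore H₁ := le_sigmaCore hG o.max huσ
        (isPGroup_of_card_eq (by rw [Nat.card_zpowers, orderOf_coe, hw])) (zpowers_le.mpr (o.le w.2.2))
      have h5 : (w : G) ∈ Cfsg.sigmaCore H₁ ⊓ L := ⟨hwO (mem_zpowers _), w.2.1⟩
      rw [o.inf_eq, mem_bot] at h5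
      rw [← orderOf_coe, h5, orderOf_one] at hw
      exact hu.ne_one hw.symm
    · change u ∣ (L ⊓ W).relIndex W at hd
      rw [IsComplIn_relIndex_left o.factor] at hd
      exact huπ.2 (TauTwo.mem_sigma_of_dvd hu (hd.trans (card_dvd_of_le inf_le_left)) hG o.max)
  have hpH₁ : Nat.card K ∉ Cfsg.sigma H₁ := fun h => by
    obtain ⟨c, hc⟩ := SigmaDisjoint.sigma_disjoint hG dL.max o.max
      (TauTwo.mem_sigma_of_dvd hp (card_dvd_of_le S.pair.K_le_core) hG dL.max) h
    exact o.nconj c hc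
  have hvH₁ : v ∉ Cfsg.sigma H₁ := (o.tau2 v hv (by
    rw [orderOf_eq_prime (orderOf_dvd_iff_pow_eq_one.mp (hR₁ ▸ R₁.orderOf_dvd_natCard hx)) hx1])).2.1
  obtain ⟨⟨c, hcW⟩, hc⟩ := Core.exists_conj_le_piHall hTπ (K := (A ⊔ K).subgroupOf W) fun u hu hd => by
    rw [Nat.card_congr (subgroupOfEquivOfLe (sup_le hAC hKC)).toEquiv] at hd
    have h1 := hd.trans (sup_comm A K ▸ Core.card_sup_dvd K A hKA)
    refine ⟨hu, ?_⟩
    rcases hu.dvd_mul.mp h1 with h2 | h2
    · rwa [(Nat.prime_dvd_prime_iff_eq hu hp).mp h2]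
    · rw [hA.2] at h2
      rwa [(Nat.prime_dvd_prime_iff_eq hu hv).mp (hu.dvd_of_dvd_pow h2)]
  have hmem : ∀ y ∈ A ⊔ K, c * y * c⁻¹ ∈ L := fun y hy => by
    have h6 := hc ((Subgroup.smul_mem_pointwise_smul_iff (a := MulAut.conj (⟨c, hcW⟩ : W))).mpr
      (show (⟨y, sup_le hAC hKC hy⟩ : W) ∈ (A ⊔ K).subgroupOf W from hy))
    exact (mem_subgroupOf.mp h6).1
  have hcL : c ∈ L := by
    refine inv_mem_iff.mp (SigmaIntersection.mem_of_only hG dL.max
      (TauTwo.mem_sigma_of_dvd hp (card_dvd_of_le S.pair.K_le_core) hG dL.max)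
      (isPGroup_of_card_eq rfl) S.K_ne (S.pair.K_le_core.trans (sigmaCore_le L)) (S.only_star hG).1
      fun y hy => Transfer.mem_map_conj.mpr ?_)
    rw [inv_inv]
    exact hmem y (mem_sup_right hy)
  intro a ha
  have := mul_mem (mul_mem (inv_mem hcL) (hmem a (mem_sup_left ha))) hcL
  simpa [mul_assoc] using this

/-- A line of a `K`-invariant subgroup of `U` is not centralized by `K`. -/
theorem Signal.moves (S : Signal M K U L H) (hG : Cfsg.IsMinSimpleOddOrder G) (hV : Nat.card V = t)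
    (hVU : V ≤ U) : ¬ V ≤ centralizer (K : Set G) := by
  intro h
  obtain ⟨E, d⟩ := S.data
  obtain ⟨k, hk, hk1⟩ := K.bot_or_exists_ne_one.resolve_left S.K_ne
  exact ne_bot_of_card_eq hV (le_bot_iff.mp ((le_inf hVU
    (h.trans (Subgroup.centralizer_le (Set.singleton_subset_iff.mpr hk)))).trans
    (Cfsg.Agent.S1353.result hG M d.max K U S.decomp k hk hk1).le))

/-- A prime of a `K`-invariant Sylow subgroup of `U` lies in `σ(H)`, given a fixed point or rank two. -/
theorem Signal.mem_sigma_of_sub (S : Signal M K U L H) (hG : Cfsg.IsMinSimpleOddOrder G)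
    (hR : IsPGroup r R) (hR1 : R ≠ ⊥) (hRU : R ≤ U) (hn : K ≤ normalizer (R : Set G))
    (h : Cfsg.PRankLE r 1 H → r ∉ Cfsg.sigma H → False) : r ∈ Cfsg.sigma H := by
  by_contra hσ
  have hr := (Fact.out : r.Prime)
  have hp := S.prime
  obtain ⟨EM, d⟩ := S.data
  obtain ⟨n, hcard⟩ := IsPGroup.iff_card.mp hR
  obtain ⟨V, hV, hVR⟩ := exists_line hR hR1
  have hrne : r ≠ Nat.card K := fun e => by
    have hd : r ∣ Nat.card U := hV ▸ card_dvd_of_le (hVR.trans hRU)
    exact (SigmaFactor.not_mem hG d.max S.decomp hr hd).2 (d.hall.2.1 r hr (e ▸ dvd_rfl))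
  obtain ⟨E, hE, hRKE⟩ := TauTwo.exists_complement_ge hG S.max
    ((sup_le_sup_right hRU K).trans S.le_H) fun u hu hd => by
      have h1 := hd.trans (sup_comm R K ▸ Core.card_sup_dvd K R hn)
      rcases hu.dvd_mul.mp h1 with h2 | h2
      · rw [(Nat.prime_dvd_prime_iff_eq hu hp).mp h2]; exact S.prime_not_sigma hG
      · rw [hcard] at h2
        rw [(Nat.prime_dvd_prime_iff_eq hu hr).mp (hu.dvd_of_dvd_pow h2)]; exact hσ
  by_cases h1 : Cfsg.PRankLE r 1 H
  · exact h h1 hσ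
  obtain ⟨A, hA, hAE⟩ := TauTwo.exists_pair_complement hG S.max hE
    ⟨hr, hσ, not_not.mp fun h' => hσ (SigmaTrans.alpha_subset_sigma hG S.max ⟨hr, h'⟩), h1⟩
  obtain ⟨-, hmem, -⟩ := TauTwo.le_normalizer_pair hG S.max hA hσ hE hAE
  refine S.moves hG hV (hVR.trans hRU) (fun v hv => ?_)
  exact S.centralizes_pair hG hE (le_sup_right.trans hRKE) hA hAE hσ hrne
    (hmem v (hRKE (mem_sup_left (hVR hv))) (orderOf_dvd_iff_pow_eq_one.mp (hV ▸ V.orderOf_dvd_natCard hv)))

end CfsgLib.OddLocal.Kappa
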