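import Cfsg.Agent.Lib.OddLocal.Puig
import Cfsg.Agent.Lib.OddLocal.OddStable
import Cfsg.Agent.Lib.HallGen.Basic

/-!
The Puig subgroups of a Sylow subgroup in a solvable group of odd order.
-/

set_option autoImplicit false

namespace CfsgLib.OddLocal

open Subgroup

universe u

variable {G : Type u} [Group G]

theorem map_puigStep_le {U K : Subgroup G} {X : Subgroup U}
    (h : ∀ A : Subgroup G, A ≤ U → IsMulCommutative A → X.map U.subtype ≤ normalizer (A : Set G) → A ≤ K) :
    (Cfsg.puigStep X).map U.subtype ≤ K :=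
  map_le_iff_le_comap.2 <| sSup_le fun A hA => map_le_iff_le_comap.1 <| by
    refine h _ (map_subtype_le A) ?_ ((map_mono hA.2).trans (le_normalizer_map _))
    have := hA.1
    infer_instance

theorem le_map_puigStep {U A : Subgroup G} {X : Subgroup U} (hAU : A ≤ U) (hA : IsMulCommutative A)
    (hX : X.map U.subtype ≤ normalizer (A : Set G)) : A ≤ (Cfsg.puigStep X).map U.subtype := by
  have hmem : A.subgroupOf U ∈ {B : Subgroup U | IsMulCommutative B ∧ X ≤ normalizer (B : Set U)} := by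
    refine ⟨?_, fun x hx => mem_normalizer_iff.2 fun a => ?_⟩
    · have := hA
      infer_instance
    · exact mem_normalizer_iff.1 (hX ⟨x, hx, rfl⟩) (a : G)
  have := map_mono (f := U.subtype) (le_sSup hmem)
  rwa [subgroupOf_map_subtype, inf_of_le_left hAU] at this

theorem map_puigSeq_one (U : Subgroup G) : (Cfsg.puigSeq U 1).map U.subtype = U := by
  show (Cfsg.puigStep (⊥ : Subgroup U)).map U.subtype = U
  rw [puigStep_bot, ← MonoidHom.range_eq_map, range_subtype]

/-- The interlacing of the Puig series of a subgroup `U` with that of `S`. -/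
theorem puig_sandwich {U S : Subgroup G} (hUS : U ≤ S)
    (H : ∀ (n : ℕ) (A : Subgroup G), A ≤ S → IsMulCommutative A →
      (Cfsg.puigSeq U (2 * n + 1)).map U.subtype ≤ normalizer (A : Set G) →
      A ≤ (Cfsg.puigSeq S (2 * (n + 1))).map S.subtype → A ≤ U) :
    ∀ n, (Cfsg.puigSeq S (2 * n)).map S.subtype ≤ (Cfsg.puigSeq U (2 * n)).map U.subtype ∧
      (Cfsg.puigSeq U (2 * n + 1)).map U.subtype ≤ (Cfsg.puigSeq S (2 * n + 1)).map S.subtype := by
  intro n
  induction n with
  | zero =>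
    refine ⟨?_, ?_⟩
    · show (⊥ : Subgroup S).map S.subtype ≤ (⊥ : Subgroup U).map U.subtype
      simp
    · rw [map_puigSeq_one, map_puigSeq_one]; exact hUS
  | succ n ih =>
    have h1 : (Cfsg.puigSeq S (2 * (n + 1))).map S.subtype ≤ (Cfsg.puigSeq U (2 * (n + 1))).map U.subtype := by
      refine map_puigStep_le (X := Cfsg.puigSeq S (2 * n + 1)) fun A hAS hA hn => ?_
      have hn' := ih.2.trans hn
      exact le_map_puigStep (X := Cfsg.puigSeq U (2 * n + 1))
        (H n A hAS hA hn' (le_map_puigStep (X := Cfsg.puigSeq S (2 * n + 1)) hAS hA hn)) hA hn'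
    refine ⟨h1, map_puigStep_le (X := Cfsg.puigSeq U (2 * (n + 1))) fun A hAU hA hn => ?_⟩
    exact le_map_puigStep (X := Cfsg.puigSeq S (2 * (n + 1))) (hAU.trans hUS) hA (h1.trans hn)

theorem map_puigLower_le_of_sandwich {U S : Subgroup G}
    (h : ∀ n, (Cfsg.puigSeq S (2 * n)).map S.subtype ≤ (Cfsg.puigSeq U (2 * n)).map U.subtype) :
    (Cfsg.puigLower S).map S.subtype ≤ (Cfsg.puigLower U).map U.subtype := by
  rw [Cfsg.puigLower, Subgroup.map_iSup]
  exact iSup_le fun n => (h n).trans (map_mono (le_iSup (fun i => Cfsg.puigSeq U (2 * i)) n))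

theorem map_puigSubgroup_le_of_sandwich {U S : Subgroup G}
    (h : ∀ n, (Cfsg.puigSeq U (2 * n + 1)).map U.subtype ≤ (Cfsg.puigSeq S (2 * n + 1)).map S.subtype) :
    (Cfsg.puigSubgroup U).map U.subtype ≤ (Cfsg.puigSubgroup S).map S.subtype := by
  rintro g ⟨x, hx, rfl⟩
  obtain ⟨y, -, hyx⟩ := h 0 ⟨x, (Subgroup.mem_iInf.1 hx) 0, rfl⟩
  refine ⟨y, Subgroup.mem_iInf.2 fun n => ?_, hyx⟩
  obtain ⟨z, hz, hzx⟩ := h n ⟨x, (Subgroup.mem_iInf.1 hx) n, rfl⟩
  rwa [show y = z from Subtype.ext (hyx.trans hzx.symm)]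

theorem puigLower_le_puigSubgroup : Cfsg.puigLower G ≤ Cfsg.puigSubgroup G :=
  iSup_le fun n => le_iInf fun m => puigSeq_even_le_odd n m

theorem puigStep_puigLower [Finite G] : Cfsg.puigStep (Cfsg.puigLower G) = Cfsg.puigSubgroup G := by
  obtain ⟨k, hk⟩ := puig_stable (G := G)
  rw [← (hk k le_rfl).1, ← (hk k le_rfl).2]; rfl

theorem puigStep_puigSubgroup [Finite G] : Cfsg.puigStep (Cfsg.puigSubgroup G) = Cfsg.puigLower G := by
  obtain ⟨k, hk⟩ := puig_stable (G := G)
  rw [← (hk k le_rfl).2, ← (hk (k + 1) (by omega)).1]; rfl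

/-- If `L(S) ≤ U ≤ S` then `L(U) = L(S)`. -/
theorem map_puigSubgroup_eq [Finite G] {U S : Subgroup G} (hUS : U ≤ S)
    (hLU : (Cfsg.puigSubgroup S).map S.subtype ≤ U) :
    (Cfsg.puigSubgroup U).map U.subtype = (Cfsg.puigSubgroup S).map S.subtype := by
  have h := puig_sandwich hUS fun n A _ _ _ hA =>
    hA.trans ((map_mono ((le_iSup (fun i => Cfsg.puigSeq S (2 * i)) (n + 1)).trans
      puigLower_le_puigSubgroup)).trans hLU)
  refine le_antisymm (map_puigSubgroup_le_of_sandwich fun n => (h n).2) ?_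
  have h2 : ∀ n, (Cfsg.puigSeq U (2 * n)).map U.subtype ≤ (Cfsg.puigLower S).map S.subtype ∧
      (Cfsg.puigSubgroup S).map S.subtype ≤ (Cfsg.puigSeq U (2 * n + 1)).map U.subtype := by
    intro n
    induction n with
    | zero =>
      refine ⟨?_, by rw [map_puigSeq_one]; exact hLU⟩
      show (⊥ : Subgroup U).map U.subtype ≤ _
      simp
    | succ n ih =>
      have h1 : (Cfsg.puigSeq U (2 * (n + 1))).map U.subtype ≤ (Cfsg.puigLower S).map S.subtype := by
        refine map_puigStep_le (X := Cfsg.puigSeq U (2 * n + 1)) fun A hAU hA hn => ?_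
        rw [← puigStep_puigSubgroup (G := S)]
        exact le_map_puigStep (hAU.trans hUS) hA (ih.2.trans hn)
      refine ⟨h1, ?_⟩
      rw [← puigStep_puigLower (G := S)]
      refine map_puigStep_le fun A hAS hA hn => ?_
      refine le_map_puigStep (X := Cfsg.puigSeq U (2 * (n + 1))) ?_ hA (h1.trans hn)
      refine (le_map_puigStep (X := Cfsg.puigLower S) hAS hA hn).trans ?_
      rwa [puigStep_puigLower]
  intro g hg
  have hgU : g ∈ U := hLU hg
  refine ⟨⟨g, hgU⟩, Subgroup.mem_iInf.2 fun n => ?_, rfl⟩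
  obtain ⟨z, hz, hzg⟩ := (h2 n).2 hg
  rwa [show (⟨g, hgU⟩ : U) = z from Subtype.ext hzg.symm]

theorem map_equiv_puigStep {H : Type u} [Group H] (e : G ≃* H) (X : Subgroup G) :
    (Cfsg.puigStep X).map e.toMonoidHom = Cfsg.puigStep (X.map e.toMonoidHom) := by
  have key : ∀ {A B : Type u} [Group A] [Group B] (e : A ≃* B) (X : Subgroup A),
      (Cfsg.puigStep X).map e.toMonoidHom ≤ Cfsg.puigStep (X.map e.toMonoidHom) := by
    intro A B _ _ e X
    refine map_le_iff_le_comap.2 (sSup_le fun C hC => map_le_iff_le_comap.1 (le_sSup ?_))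
    refine ⟨?_, (map_mono hC.2).trans (le_normalizer_map _)⟩
    have := hC.1
    infer_instance
  refine le_antisymm (key e X) fun h hh => ?_
  have hXX : (X.map e.toMonoidHom).map e.symm.toMonoidHom = X := by
    rw [map_map]; convert map_id X; ext; simp
  have := key e.symm (X.map e.toMonoidHom) ⟨h, hh, rfl⟩
  rw [hXX] at this
  exact ⟨_, this, e.apply_symm_apply h⟩

theorem map_equiv_puigSeq {H : Type u} [Group H] (e : G ≃* H) :
    ∀ n, (Cfsg.puigSeq G n).map e.toMonoidHom = Cfsg.puigSeq H n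
  | 0 => map_bot _
  | n + 1 => (map_equiv_puigStep e _).trans (congrArg Cfsg.puigStep (map_equiv_puigSeq e n))

instance puigSeq_characteristic (n : ℕ) : (Cfsg.puigSeq G n).Characteristic :=
  characteristic_iff_map_eq.2 fun e => map_equiv_puigSeq e n

theorem map_equiv_puigSubgroup {H : Type u} [Group H] (e : G ≃* H) :
    (Cfsg.puigSubgroup G).map e.toMonoidHom = Cfsg.puigSubgroup H := by
  show (⨅ n, Cfsg.puigSeq G (2 * n + 1)).map e.toMonoidHom = ⨅ n, Cfsg.puigSeq H (2 * n + 1)
  rw [Subgroup.map_iInf _ e.injective]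
  exact iInf_congr fun n => map_equiv_puigSeq e _

instance puigSubgroup_characteristic : (Cfsg.puigSubgroup G).Characteristic :=
  characteristic_iff_map_eq.2 fun e => map_equiv_puigSubgroup e

theorem conj_mem_map_of_characteristic {U : Subgroup G} (K : Subgroup U) [hK : K.Characteristic]
    {g x : G} (hg : g ∈ normalizer (U : Set G)) (hx : x ∈ K.map U.subtype) :
    g * x * g⁻¹ ∈ K.map U.subtype := by
  obtain ⟨k, hk, rfl⟩ := hx
  let e : U ≃* U := U.normalizerMonoidHom ⟨g, hg⟩
  exact ⟨e k, (characteristic_iff_map_eq.1 hK e) ▸ ⟨k, hk, rfl⟩, rfl⟩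

theorem conj_mem_centerOf {L : Subgroup G} {g x : G}
    (hg : g ∈ normalizer (L : Set G)) (hx : x ∈ L ⊓ centralizer (L : Set G)) :
    g * x * g⁻¹ ∈ L ⊓ centralizer (L : Set G) := by
  refine ⟨(mem_normalizer_iff.1 hg x).1 hx.1, mem_centralizer_iff.2 fun y hy => ?_⟩
  have hy' : g⁻¹ * y * g ∈ L := by
    have := (mem_normalizer_iff.1 (inv_mem hg) y).1 hy
    simpa using this
  have h := mem_centralizer_iff.1 hx.2 _ hy'
  calc y * (g * x * g⁻¹) = g * ((g⁻¹ * y * g) * x) * g⁻¹ := by group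
    _ = g * (x * (g⁻¹ * y * g)) * g⁻¹ := by rw [h]
    _ = g * x * g⁻¹ * y := by group

theorem normalizer_map_puigSubgroup_le_normalizer_center (U : Subgroup G) :
    normalizer (U : Set G) ≤ normalizer
      (((Cfsg.puigSubgroup U).map U.subtype ⊓
        centralizer ((Cfsg.puigSubgroup U).map U.subtype : Set G) : Subgroup G) : Set G) := by
  set L := (Cfsg.puigSubgroup U).map U.subtype with hL
  have hN : ∀ g ∈ normalizer (U : Set G), g ∈ normalizer (L : Set G) := fun g hg =>
    mem_normalizer_iff.2 fun x => ⟨conj_mem_map_of_characteristic _ hg, fun h => by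
      have := conj_mem_map_of_characteristic _ (inv_mem hg) h
      rwa [show g⁻¹ * (g * x * g⁻¹) * g⁻¹⁻¹ = x by group] at this⟩
  refine fun g hg => mem_normalizer_iff.2 fun x => ⟨conj_mem_centerOf (hN g hg), fun h => ?_⟩
  have := conj_mem_centerOf (inv_mem (hN g hg)) h
  rwa [show g⁻¹ * (g * x * g⁻¹) * g⁻¹⁻¹ = x by group] at this

theorem map_center_puigSubgroup (S : Subgroup G) :
    ((center ↥(Cfsg.puigSubgroup S)).map (Cfsg.puigSubgroup S).subtype).map S.subtype =
      (Cfsg.puigSubgroup S).map S.subtype ⊓ centralizer ((Cfsg.puigSubgroup S).map S.subtype : Set G) := by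
  ext x
  constructor
  · rintro ⟨s, ⟨l, hl, rfl⟩, rfl⟩
    refine ⟨⟨_, l.2, rfl⟩, mem_centralizer_iff.2 ?_⟩
    rintro y ⟨t, ht, rfl⟩
    exact congrArg (fun z : Cfsg.puigSubgroup S => ((z : S) : G)) (mem_center_iff.1 hl ⟨t, ht⟩)
  · rintro ⟨⟨s, hs, rfl⟩, hc⟩
    refine ⟨s, ⟨⟨s, hs⟩, mem_center_iff.2 fun t => Subtype.ext (Subtype.ext ?_), rfl⟩, rfl⟩
    exact mem_centralizer_iff.1 hc _ ⟨t, t.2, rfl⟩

theorem mem_map_puigLower_of_centralizes [Finite G] {p : ℕ} [Fact p.Prime] {S : Subgroup G}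
    (hS : IsPGroup p S) {x : G} (hx : x ∈ S)
    (hc : x ∈ centralizer ((Cfsg.puigLower S).map S.subtype : Set G)) :
    x ∈ (Cfsg.puigLower S).map S.subtype := by
  have h := centralizer_le_puigStep hS (Cfsg.puigSubgroup S)
  rw [puigStep_puigSubgroup] at h
  exact ⟨⟨x, hx⟩, h (mem_centralizer_iff.2 fun t ht => Subtype.ext
    (mem_centralizer_iff.1 hc _ ⟨t, ht, rfl⟩)), rfl⟩

section Odd

variable [Finite G] [Group.IsSolvable G] {p : ℕ} [Fact p.Prime]

theorem puig_sandwich_pCore (hodd : Odd (Nat.card G)) (hp : p ≠ 2) (h0 : Cfsg.pPrimeCore p G = ⊥)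
    (S : Sylow p G) : ∀ n,
      (Cfsg.puigSeq (S : Subgroup G) (2 * n)).map (S : Subgroup G).subtype ≤
        (Cfsg.puigSeq (Cfsg.pCore p G) (2 * n)).map (Cfsg.pCore p G).subtype ∧
      (Cfsg.puigSeq (Cfsg.pCore p G) (2 * n + 1)).map (Cfsg.pCore p G).subtype ≤
        (Cfsg.puigSeq (S : Subgroup G) (2 * n + 1)).map (S : Subgroup G).subtype := by
  refine puig_sandwich (CfsgLib.Core.pCore_le_sylow S) fun n A hAS hA hn _ => ?_
  set T := Cfsg.pCore p G
  set P := (Cfsg.puigSeq T (2 * n + 1)).map T.subtype with hPdef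
  have hTp : IsPGroup p T := CfsgLib.Core.isPGroup_pCore p G
  have hPn : P.Normal := inferInstance
  have hPp : IsPGroup p P := hTp.to_le (map_subtype_le _)
  have hCP : centralizer (P : Set G) ⊓ T ≤ P := fun x hx =>
    ⟨⟨x, hx.2⟩, centralizer_le_puigStep hTp (Cfsg.puigSeq T (2 * n)) (mem_centralizer_iff.2 fun t ht =>
      Subtype.ext (mem_centralizer_iff.1 hx.1 _ ⟨t, ht, rfl⟩)), rfl⟩
  set C := centralizer (P : Set G) with hCdef
  have hCO : IsPGroup p C := by
    have hOC : Cfsg.pPrimeCore p C = ⊥ := by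
      have := CfsgLib.Core.map_subtype_pPrimeCore_le (p := p) C
      rwa [h0, le_bot_iff, map_eq_bot_iff_of_injective _ C.subtype_injective] at this
    have hle := centralizer_pCore_le_of_core_bot hOC
    have hTP : ∀ t : C, t ∈ Cfsg.pCore p C → (t : G) ∈ P := fun t ht =>
      hCP ⟨t.2, CfsgLib.Core.map_subtype_pCore_le C ⟨t, ht, rfl⟩⟩
    have htop : (⊤ : Subgroup C) ≤ Cfsg.pCore p C := fun c _ => hle (mem_centralizer_iff.mpr
      fun t ht => Subtype.ext (mem_centralizer_iff.mp c.2 t (hTP t ht)))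
    exact ((CfsgLib.Core.isPGroup_pCore p C).to_le htop).of_equiv Subgroup.topEquiv
  intro a ha
  have hm := CfsgLib.PLocal.SLTwo.mem_pCore_of_noSL hp (noSL_of_odd hodd p) P hPp (a := a)
    (eq_bot_iff.2 (by
      refine (commutator_mono (commutator_mono le_rfl (zpowers_le.2 ha)) (zpowers_le.2 ha)).trans ?_
      refine (commutator_mono (le_normalizer_iff_commutator_le_right.1 hn) le_rfl).trans ?_
      rw [le_bot_iff, commutator_self_eq_bot_iff]
      exact hA))
  exact CfsgLib.Core.le_pCore ((CfsgLib.Core.isPGroup_pCore p (G ⧸ C)).comap_of_ker_isPGroup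
    (QuotientGroup.mk' C) (by rwa [QuotientGroup.ker_mk'])) hm

/-- Bender's Theorem B.4: `Z(L(S))` is normal when `O_{p'}(G) = 1`. -/
theorem center_puigSubgroup_normal (hodd : Odd (Nat.card G)) (hp : p ≠ 2)
    (h0 : Cfsg.pPrimeCore p G = ⊥) (S : Sylow p G) :
    ((Cfsg.puigSubgroup (S : Subgroup G)).map (S : Subgroup G).subtype ⊓
      centralizer ((Cfsg.puigSubgroup (S : Subgroup G)).map (S : Subgroup G).subtype : Set G)).Normal := by
  have hsw := puig_sandwich_pCore hodd hp h0 S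
  have hTp : IsPGroup p (Cfsg.pCore p G) := CfsgLib.Core.isPGroup_pCore p G
  set T := Cfsg.pCore p G
  set S₀ := (S : Subgroup G)
  set L := (Cfsg.puigSubgroup S₀).map S₀.subtype with hL
  set Ls := (Cfsg.puigLower S₀).map S₀.subtype with hLs
  set M := (Cfsg.puigSubgroup T).map T.subtype with hM
  have h1 : Ls ≤ M := (map_puigLower_le_of_sandwich fun n => (hsw n).1).trans
    (map_mono puigLower_le_puigSubgroup)
  have h2 : M ≤ L := map_puigSubgroup_le_of_sandwich fun n => (hsw n).2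
  have h3 : Ls ≤ L := h1.trans h2
  set Z := L ⊓ centralizer (L : Set G) with hZ
  set Y := M ⊓ centralizer (M : Set G) with hY
  have hZY : Z ≤ Y := fun x hx =>
    ⟨h1 (mem_map_puigLower_of_centralizes S.2 (map_subtype_le _ hx.1) (centralizer_le h3 hx.2)),
      centralizer_le h2 hx.2⟩
  have hYLs : Y ≤ Ls := fun y hy =>
    mem_map_puigLower_of_centralizes S.2 (map_subtype_le _ (h2 hy.1)) (centralizer_le h1 hy.2)
  have hMn : M.Normal := inferInstance
  have hYn : Y.Normal := normal_inf_normal M _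
  set C := centralizer (Y : Set G) with hC
  set D := (Cfsg.pCore p (G ⧸ C)).comap (QuotientGroup.mk' C) with hD
  have hDn : D.Normal := inferInstance
  have hLD : L ≤ D := by
    rw [hL, ← puigStep_puigLower]
    refine map_puigStep_le fun A _ hA hn a ha => ?_
    refine CfsgLib.PLocal.SLTwo.mem_pCore_of_noSL hp (noSL_of_odd hodd p) Y
      ((hTp.to_le (map_subtype_le (Cfsg.puigSubgroup T))).to_le inf_le_left) (eq_bot_iff.2 ?_)
    refine (commutator_mono (commutator_mono le_rfl (zpowers_le.2 ha)) (zpowers_le.2 ha)).trans ?_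
    refine (commutator_mono (le_normalizer_iff_commutator_le_right.1 (hYLs.trans hn)) le_rfl).trans ?_
    rw [le_bot_iff, commutator_self_eq_bot_iff]
    exact hA
  have hDS : D ≤ S₀ ⊔ C := by
    have := CfsgLib.Core.pCore_le_sylow (S.mapSurjective (QuotientGroup.mk'_surjective C))
    rw [Sylow.coe_mapSurjective] at this
    refine (comap_mono this).trans (le_of_eq ?_)
    rw [comap_map_eq, QuotientGroup.ker_mk']
  set U := S₀ ⊓ D with hU
  have hLU : (Cfsg.puigSubgroup U).map U.subtype = L :=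
    map_puigSubgroup_eq inf_le_left (le_inf (map_subtype_le _) hLD)
  have hNU : normalizer (U : Set G) ≤ normalizer (Z : Set G) := by
    have := normalizer_map_puigSubgroup_le_normalizer_center U
    rwa [hLU] at this
  have hnd : ¬ p ∣ S₀.relIndex D := fun hd =>
    S.not_dvd_index (hd.trans (CfsgLib.HallGen.relIndex_dvd_index_right _ _))
  let U' : Sylow p D := (S.2.comap_subtype).toSylow hnd
  have hfr : normalizer (U : Set G) ⊔ D = ⊤ := by
    have hU' : (U' : Subgroup D).map D.subtype = U := subgroupOf_map_subtype _ _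
    exact hU' ▸ Sylow.normalizer_sup_eq_top U'
  have hSN : S₀ ≤ normalizer (Z : Set G) :=
    le_normalizer.trans (normalizer_map_puigSubgroup_le_normalizer_center S₀)
  have hCN : C ≤ normalizer (Z : Set G) :=
    (centralizer_le hZY).trans (centralizer_le_normalizer _)
  exact normalizer_eq_top_iff.1 (eq_top_iff.2 (hfr ▸ sup_le hNU (hDS.trans (sup_le hSN hCN))))

end Odd

end CfsgLib.OddLocal

namespace CfsgLib.OddLocal

open Subgroup

universe u

variable {G : Type u} [Group G]

theorem map_puigSubgroup_of_injOn {H : Type u} [Group H] (f : G →* H) (S : Subgroup G)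
    (hf : ∀ x ∈ S, f x = 1 → x = 1) :
    ((Cfsg.puigSubgroup ↥(S.map f)).map (S.map f).subtype) =
      ((Cfsg.puigSubgroup S).map S.subtype).map f := by
  have hbij : Function.Bijective (f.subgroupMap S) := by
    refine ⟨(injective_iff_map_eq_one _).2 fun x hx => Subtype.ext (hf x x.2 (congrArg Subtype.val hx)),
      f.subgroupMap_surjective S⟩
  rw [← map_equiv_puigSubgroup (MulEquiv.ofBijective _ hbij), map_map, map_map]
  rfl

/-- `G = O_{p'}(G) N(Z(L(S)))`. -/
theorem pPrimeCore_sup_normalizer_center_puig [Finite G] [Group.IsSolvable G] {p : ℕ} [Fact p.Prime]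
    (hodd : Odd (Nat.card G)) (hp : p ≠ 2) (S : Sylow p G) :
    Cfsg.pPrimeCore p G ⊔ normalizer
      (((Cfsg.puigSubgroup (S : Subgroup G)).map (S : Subgroup G).subtype ⊓
        centralizer ((Cfsg.puigSubgroup (S : Subgroup G)).map (S : Subgroup G).subtype : Set G) :
        Subgroup G) : Set G) = ⊤ := by
  set S₀ := (S : Subgroup G) with hS₀
  set L := (Cfsg.puigSubgroup S₀).map S₀.subtype with hL
  set Z := L ⊓ centralizer (L : Set G) with hZ
  set O := Cfsg.pPrimeCore p G with hO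
  set f := QuotientGroup.mk' O with hf
  have hcop : (Nat.card O).Coprime p := CfsgLib.Core.coprime_card_pPrimeCore p G
  have hinj : ∀ x ∈ S₀, f x = 1 → x = 1 := by
    intro x hx h1
    obtain ⟨k, hk⟩ := S.2 ⟨x, hx⟩
    have hxO : x ∈ O := (QuotientGroup.eq_one_iff x).1 h1
    refine orderOf_eq_one_iff.1 (Nat.eq_one_of_dvd_coprimes (hcop.pow_right k)
      (Subgroup.orderOf_dvd_natCard O hxO) (orderOf_dvd_of_pow_eq_one ?_))
    simpa using congrArg Subtype.val hk
  have hZS : Z ≤ S₀ := inf_le_left.trans (map_subtype_le _)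
  have hodd' : Odd (Nat.card (G ⧸ O)) := hodd.of_dvd_nat (card_quotient_dvd_card O)
  have hn := center_puigSubgroup_normal hodd' hp (CfsgLib.Core.pPrimeCore_quotient_pPrimeCore p G)
    (S.mapSurjective (QuotientGroup.mk'_surjective O))
  rw [Sylow.coe_mapSurjective, map_puigSubgroup_of_injOn _ _ hinj, ← hL] at hn
  have hZmap : Z.map f = L.map f ⊓ centralizer (L.map f : Set (G ⧸ O)) := by
    refine le_antisymm (le_inf (map_mono inf_le_left) ?_) ?_
    · rintro _ ⟨z, hz, rfl⟩
      refine mem_centralizer_iff.2 ?_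
      rintro _ ⟨l, hl, rfl⟩
      rw [← map_mul, ← map_mul, mem_centralizer_iff.1 hz.2 l hl]
    · rintro _ ⟨⟨z, hz, rfl⟩, hc⟩
      refine ⟨z, ⟨hz, mem_centralizer_iff.2 fun l hl => ?_⟩, rfl⟩
      have hLS : L ≤ S₀ := map_subtype_le _
      refine mul_inv_eq_one.1 (hinj _ (mul_mem (mul_mem (hLS hl) (hLS hz))
        (inv_mem (mul_mem (hLS hz) (hLS hl)))) ?_)
      rw [map_mul, map_inv, map_mul, map_mul, mem_centralizer_iff.1 hc _ ⟨l, hl, rfl⟩, mul_inv_cancel]
  rw [← hZmap] at hn
  set N := (Z.map f).comap f with hN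
  have hNn : N.Normal := hn.comap f
  have hNeq : N = Z ⊔ O := by rw [hN, comap_map_eq, hf, QuotientGroup.ker_mk']
  have hZN : Z ≤ N := hNeq ▸ le_sup_left
  have hnd : ¬ p ∣ Z.relIndex N := by
    intro hd
    have h1 : Z.relIndex N * Nat.card Z ∣ Nat.card O * Nat.card Z := by
      have h2 := relIndex_mul_relIndex ⊥ Z N bot_le hZN
      rw [relIndex_bot_left, relIndex_bot_left] at h2
      rw [mul_comm (Z.relIndex N), h2, mul_comm (Nat.card O), hNeq]
      exact CfsgLib.Core.card_sup_dvd Z O (CfsgLib.Core.le_normalizer_of_normal Z O)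
    exact (Fact.out : p.Prime).ne_one (Nat.eq_one_of_dvd_coprimes hcop
      (hd.trans (Nat.dvd_of_mul_dvd_mul_right Nat.card_pos h1)) dvd_rfl)
  let Z' : Sylow p N := ((S.2.to_le hZS).comap_subtype).toSylow hnd
  have hZ' : (Z' : Subgroup N).map N.subtype = Z := by
    show (Z.comap N.subtype).map N.subtype = Z
    rw [← subgroupOf, subgroupOf_map_subtype, inf_of_le_left hZN]
  have hfr : normalizer (Z : Set G) ⊔ N = ⊤ := hZ' ▸ Sylow.normalizer_sup_eq_top Z'
  exact eq_top_iff.2 (hfr ▸ sup_le le_sup_right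
    (hNeq ▸ sup_le (le_normalizer.trans le_sup_right) le_sup_left))

end CfsgLib.OddLocal
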