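import Cfsg.Agent.Lib.OddLocal.RankTwoNoFixed
import Cfsg.Agent.Lib.PGroups.Extraspecial
import Cfsg.Agent.S3771

/-!
Operator groups of odd order without fixed quotients on `p`-groups of rank at most two.
-/

set_option autoImplicit false

namespace CfsgLib.OddLocal.RankTwoExtraspecial

open Subgroup RankTwoNoFixed
open scoped commutatorElement

variable {p : ℕ} [hp : Fact p.Prime]

theorem comm_zpow {G : Type*} [Group G] {u v : G} (h : ⁅u, v⁆ ∈ center G) (m k : ℤ) :
    ⁅u ^ m, v ^ k⁆ = ⁅u, v⁆ ^ (m * k) := by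
  set d := ⁅u, v⁆ with hd
  have hdc : ∀ i : ℤ, ∀ g : G, Commute (d ^ i) g := fun i g => (mem_center_iff.1 (zpow_mem h i) g).symm
  have h1 : MulAut.conj u v = d * v := by
    rw [MulAut.conj_apply, hd, commutatorElement_def]; group
  have h2 : u * v ^ k * u⁻¹ = d ^ k * v ^ k := by
    rw [← MulAut.conj_apply, map_zpow, h1, Commute.mul_zpow (show Commute d v by simpa using hdc 1 v)]
  have h3 : v ^ k * u * (v ^ k)⁻¹ = d ^ (-k) * u := by
    calc v ^ k * u * (v ^ k)⁻¹ = (u * v ^ k * u⁻¹ * (v ^ k)⁻¹)⁻¹ * u := by group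
      _ = d ^ (-k) * u := by rw [h2, mul_inv_cancel_right, zpow_neg]
  have h4 : v ^ k * u ^ m * (v ^ k)⁻¹ = d ^ (-k * m) * u ^ m := by
    rw [← MulAut.conj_apply, map_zpow, MulAut.conj_apply, h3, (hdc (-k) u).mul_zpow, ← zpow_mul]
  calc ⁅u ^ m, v ^ k⁆ = u ^ m * (v ^ k * u ^ m * (v ^ k)⁻¹)⁻¹ := by rw [commutatorElement_def]; group
    _ = d ^ (m * k) := by
      rw [h4, mul_inv_rev, mul_inv_cancel_left, ← zpow_neg]
      congr 1; ring

theorem mem_of_zpow_mem {G : Type*} [Group G] {H : Subgroup G} {g : G} {e : ℤ} (hg : g ^ p ∈ H)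
    (he : g ^ e ∈ H) (hpe : ¬ (p : ℤ) ∣ e) : g ∈ H := by
  obtain ⟨u, v, huv⟩ := ((Nat.prime_iff_prime_int.1 hp.out).coprime_iff_not_dvd.2 hpe)
  rw [← zpow_one g, ← huv, zpow_add, mul_comm u, mul_comm v, zpow_mul, zpow_mul, zpow_natCast]
  exact mul_mem (zpow_mem hg u) (zpow_mem he v)

/-- The structure in the non-abelian case. -/
theorem exists_factors (hp3 : 3 < p) {A R : Type*} [Group A] [Finite A] [Group R] [Finite R]
    (hR : IsPGroup p R) (hr : Cfsg.PRankLE p 2 R) (ψ : A →* MulAut R) (hcop : (Nat.card A).Coprime p)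
    (hodd : Odd (Nat.card A)) (hres : NoFixed ψ) (hnc : ¬ IsMulCommutative R) :
    ∃ R₁ R₂ : Subgroup R, R₁ ⊔ R₂ = ⊤ ∧ (∀ a ∈ R₁, ∀ b ∈ R₂, a * b = b * a) ∧
      ¬ IsMulCommutative R₁ ∧ Nat.card R₁ = p ^ 3 ∧ Monoid.exponent R₁ = p ∧ IsCyclic R₂ ∧
      closure {x : R | x ∈ R₂ ∧ x ^ p = 1} = ⁅R₁, R₁⁆ := by
  have hp2 : p ≠ 2 := by omega
  have hrk : ∀ E : Subgroup R, Cfsg.IsElementaryAbelian p E → Nat.card E ≤ p ^ 2 :=
    fun E hE => hr E hE.1 hE.2
  set S := closure {x : R | x ^ p = 1} with hS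
  have hSe : ∀ x ∈ S, x ^ p = 1 := fun x hx => CfsgLib.Transfer.pow_eq_one_of_rank_two hp3 hR hrk hx
  have hSm : ∀ x : R, x ^ p = 1 → x ∈ S := fun x hx => subset_closure hx
  have hSn : S.Normal := ⟨fun u hu g => hSm _ (by rw [conj_pow, hSe u hu, mul_one, mul_inv_cancel])⟩
  have hSa : ∀ a, ∀ x ∈ S, ψ a x ∈ S := fun a x hx => hSm _ (by rw [← map_pow, hSe x hx, map_one])
  have hexp : ∀ x : S, x ^ p = 1 := fun x => Subtype.ext (hSe x x.2)
  have hSnc : ¬ IsMulCommutative S := fun hc => hnc (RankTwoNoFixed.isMulCommutative hp3 hR ψ hcop hres S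
    (fun x => ⟨hSm x, hSe x⟩) (hr S hc hSe))
  have hScard : Nat.card S = p ^ 3 := by
    have hrS : Cfsg.PRankLE p 2 S := CfsgLib.PGroups.prankLE_of_injective hr (f := S.subtype) S.subtype_injective
    have h3 := Cfsg.Agent.S3771.result (hR.to_subgroup S) hrS hexp
    obtain ⟨k, hk⟩ := IsPGroup.iff_card.1 (hR.to_subgroup S)
    have hk3 : k ≤ 3 := (Nat.pow_le_pow_iff_right hp.out.one_lt).1 (hk ▸ h3)
    rcases (show k ≤ 2 ∨ k = 3 by omega) with h | rfl
    · exact absurd (commutative_of_card_le (hR.to_subgroup S) (hk ▸ Nat.pow_le_pow_right hp.out.pos h)) hSnc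
    · exact hk
  have hEx := CfsgLib.PGroups.isExtraspecial_of_card_cube (E := S) (p := p) hSnc hScard
  set Z := (center S).map S.subtype with hZ
  have hZS : Z ≤ S := map_subtype_le _
  have hZcard : Nat.card Z = p := by
    rw [hZ, card_map_of_injective S.subtype_injective]; exact hEx.2
  have hZn : Z.Normal := inferInstance
  have hZc : Z ≤ center R := CfsgLib.PGroups.le_center_of_card_prime hR hZcard
  have hSS : ⁅S, S⁆ = Z := by
    have e : (_root_.commutator S).map S.subtype = ⁅S, S⁆ := by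
      rw [_root_.commutator_def, map_commutator, ← MonoidHom.range_eq_map, range_subtype]
    rw [← e, hEx.1.2.2]
  have hSSZ : ∀ s ∈ S, ∀ t ∈ S, ⁅s, t⁆ ∈ Z := fun s hs t ht => hSS ▸ commutator_mem_commutator hs ht
  have hZa : ∀ a, ∀ z ∈ Z, ψ a z ∈ Z := by
    intro a
    have h : Z.map (ψ a).toMonoidHom ≤ Z := by
      rw [← hSS, map_commutator]
      refine commutator_mono ?_ ?_ <;> (rintro _ ⟨y, hy, rfl⟩; exact hSa a y hy)
    exact fun z hz => h (mem_map_of_mem _ hz)
  set C := centralizer (S : Set R) with hC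
  have hCn : C.Normal := inferInstance
  have hCinv : ∀ a, ∀ c ∈ C, ψ a c ∈ C := fun a c hc => mem_centralizer_iff.2 fun s hs => by
    have h' := congrArg (ψ a) (mem_centralizer_iff.1 hc (ψ a⁻¹ s) (hSa _ s hs))
    rw [map_mul, map_mul, show ψ a (ψ a⁻¹ s) = s by
      rw [← MulAut.mul_apply, ← map_mul, mul_inv_cancel, map_one, MulAut.one_apply]] at h'
    exact h'
  have hZC : Z ≤ C := hZc.trans (center_le_centralizer _)
  have hCS : S ⊓ C ≤ Z := fun x hx => ⟨⟨x, hx.1⟩, mem_center_iff.2 fun w => Subtype.ext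
    (mem_centralizer_iff.1 hx.2 w w.2), rfl⟩
  have hCcyc : IsCyclic C := by
    refine CfsgLib.Transfer.isCyclic_of_unique_order_p hp2 (hR.to_subgroup C) fun x y hx hx1 hy => ?_
    have hmem : ∀ z : C, z ^ p = 1 → (z : R) ∈ Z := fun z hz =>
      hCS ⟨hSm _ (congrArg Subtype.val hz), z.2⟩
    have hZx : zpowers (x : R) = Z := by
      refine eq_of_le_of_card_ge (zpowers_le.2 (hmem x hx)) ?_
      rw [hZcard, Nat.card_zpowers, orderOf_eq_prime (congrArg Subtype.val hx :)
        (fun h => hx1 (Subtype.ext h))]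
    obtain ⟨k, hk⟩ := mem_zpowers_iff.1 (hZx ▸ hmem y hy : (y : R) ∈ zpowers (x : R))
    exact mem_zpowers_iff.2 ⟨k, Subtype.ext (by simpa using hk)⟩
  have hrel : ∀ A' B : Subgroup R, A' ≤ B → Nat.card A' * A'.relIndex B = Nat.card B := fun A' B h => by
    rw [relIndex, ← Nat.card_congr (subgroupOfEquivOfLe h).toEquiv, card_mul_index]
  -- the index of `S ⊔ C` against that of `C`
  have hSC : p ^ 2 * (S ⊔ C).index ≤ C.index := by
    have h2 : p ^ 2 ≤ C.relIndex S := by
      have h1 : C.relIndex S * Nat.card (S ⊓ C : Subgroup R) = Nat.card S := by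
        rw [← inf_relIndex_right, mul_comm, inf_comm C]
        exact hrel _ _ inf_le_left
      refine Nat.le_of_mul_le_mul_right ?_ hp.out.pos
      calc p ^ 2 * p = Nat.card S := by rw [hScard]; ring
        _ = C.relIndex S * Nat.card (S ⊓ C : Subgroup R) := h1.symm
        _ ≤ C.relIndex S * p := Nat.mul_le_mul_left _ ((card_le_of_le hCS).trans hZcard.le)
    rw [← relIndex_mul_index (le_sup_right : C ≤ S ⊔ C)]
    exact Nat.mul_le_mul_right _ (h2.trans
      (relIndex_le_of_le_right le_sup_left (index_ne_zero_of_finite (H := C.subgroupOf (S ⊔ C)))))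
  by_cases htop : S ⊔ C = ⊤
  · refine ⟨S, C, htop, fun a ha b hb => mem_centralizer_iff.1 hb a ha, hSnc, hScard, ?_, hCcyc, ?_⟩
    · rcases (Nat.dvd_prime hp.out).1 (Monoid.exponent_dvd_of_forall_pow_eq_one hexp) with h | h
      · exfalso
        have := Monoid.exp_eq_one_iff.1 h
        exact hSnc ⟨⟨fun _ _ => Subsingleton.elim _ _⟩⟩
      · exact h
    · rw [hSS]
      refine le_antisymm ((closure_le _).2 fun x hx => hCS ⟨hSm x hx.2, hx.1⟩) fun z hz => ?_
      exact subset_closure ⟨hZC hz, hSe z (hZS hz)⟩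
  exfalso
  -- the chain `Z < L < S`
  set L := ⁅S, (⊤ : Subgroup R)⁆ ⊔ Z with hL
  have hLn : L.Normal := inferInstance
  have hLS : L ≤ S := sup_le (commutator_le_left S ⊤) hZS
  have hSR : ∀ s ∈ S, ∀ r : R, ⁅s, r⁆ ∈ L := fun s hs r =>
    le_sup_left (α := Subgroup R) (commutator_mem_commutator hs (mem_top r))
  have hcomm_le : ∀ N : Subgroup R, N.Normal → Z ≤ N → N ≠ Z → ¬ N ≤ ⁅N, (⊤ : Subgroup R)⁆ ⊔ Z := by
    intro N hNn hZN hne h
    have := hR.isNilpotent
    have hind : ∀ k, N ≤ (⊤ : Subgroup R).lowerCentralSeries k ⊔ Z := by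
      intro k
      induction k with
      | zero => rw [Subgroup.lowerCentralSeries_zero]; exact le_top.trans le_sup_left
      | succ k ihk =>
        rw [Subgroup.lowerCentralSeries_succ]
        refine h.trans (sup_le (commutator_le.2 fun u hu g _ => ?_) le_sup_right)
        obtain ⟨c, hc, z, hz, rfl⟩ := mem_sup_of_normal_right.1 (ihk hu)
        have hzg := commutatorElement_eq_one_iff_mul_comm.2 (mem_center_iff.1 (hZc hz) g).symm
        rw [show ⁅c * z, g⁆ = c * ⁅z, g⁆ * c⁻¹ * ⁅c, g⁆ by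
          simp only [commutatorElement_def]; group, hzg]
        simpa using le_sup_left (α := Subgroup R) (commutator_mem_commutator hc (mem_top g))
    obtain ⟨k, hk⟩ := Subgroup.nilpotent_iff_lowerCentralSeries.1 (inferInstance : Group.IsNilpotent R)
    exact hne (le_antisymm ((hind k).trans (sup_le (hk.le.trans bot_le) le_rfl)) hZN)
  have hSZ : S ≠ Z := fun h => by
    have h2 := congrArg (fun H : Subgroup R => Nat.card H) h
    simp only [hScard, hZcard] at h2
    have := (Nat.pow_le_pow_iff_right hp.out.one_lt).1 (h2.trans (pow_one p).symm).le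
    omega
  have hLneS : L ≠ S := fun h => hcomm_le S hSn hZS hSZ h.ge
  have hLneZ : L ≠ Z := by
    intro h
    refine htop (index_eq_one.1 ?_)
    obtain ⟨s₁, s₂, hs⟩ : ∃ s t : S, ⁅s, t⁆ ≠ 1 := by
      by_contra! h
      exact hSnc ⟨⟨fun u v => commutatorElement_eq_one_iff_mul_comm.1 (h u v)⟩⟩
    have hW : S ≤ closure {(s₁ : R), (s₂ : R)} := by
      have hle : closure {(s₁ : R), (s₂ : R)} ≤ S := (closure_le _).2 (by
        rintro _ (rfl | rfl) <;> simp)
      refine (eq_of_le_of_card_ge hle ?_).ge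
      obtain ⟨k, hk⟩ := IsPGroup.iff_card.1 (hR.to_subgroup (closure {(s₁ : R), (s₂ : R)}))
      rcases le_or_gt k 2 with h | h
      · exfalso
        have hc := commutative_of_card_le (hR.to_subgroup (closure {(s₁ : R), (s₂ : R)}))
          (hk ▸ Nat.pow_le_pow_right hp.out.pos h)
        refine hs (Subtype.ext (commutatorElement_eq_one_iff_mul_comm.2 ?_))
        exact congrArg Subtype.val (hc.is_comm.comm ⟨(s₁ : R), subset_closure (by simp)⟩
          ⟨(s₂ : R), subset_closure (by simp)⟩)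
      · rw [hk, hScard]
        exact Nat.pow_le_pow_right hp.out.pos h
    have hCi : C.index ≤ p ^ 2 := by
      let g : R → Z × Z := fun r => (⟨⁅(s₁ : R), r⁆, h ▸ hSR _ s₁.2 r⟩, ⟨⁅(s₂ : R), r⁆, h ▸ hSR _ s₂.2 r⟩)
      have key : ∀ (r r' s : R), ⁅s, r⁆ = ⁅s, r'⁆ → s ∈ centralizer ({r⁻¹ * r'} : Set R) := by
        intro r r' s hs
        rw [mem_centralizer_singleton_iff]
        have hs' : r * s⁻¹ * r⁻¹ = r' * s⁻¹ * r'⁻¹ := by
          simpa [commutatorElement_def, mul_assoc] using hs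
        have hs'' := congrArg Inv.inv hs'
        simp only [mul_inv_rev, inv_inv] at hs''
        calc s * (r⁻¹ * r') = r⁻¹ * (r * (s * r⁻¹)) * r' := by group
          _ = r⁻¹ * (r' * (s * r'⁻¹)) * r' := by rw [hs'']
          _ = r⁻¹ * r' * s := by group
      rw [index_eq_card]
      refine (Nat.card_le_card_of_injective (fun v : R ⧸ C => g (Quotient.out v)) ?_).trans ?_
      · intro v w hvw
        rw [← QuotientGroup.out_eq' v, ← QuotientGroup.out_eq' w, QuotientGroup.eq]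
        refine mem_centralizer_iff.2 fun s hs => mem_centralizer_singleton_iff.1 ?_
        refine (hW.trans ((closure_le _).2 ?_)) hs
        rintro _ (rfl | rfl)
        · exact key _ _ _ (congrArg (fun q : Z × Z => (q.1 : R)) hvw)
        · exact key _ _ _ (congrArg (fun q : Z × Z => (q.2 : R)) hvw)
      · rw [Nat.card_prod, hZcard, pow_two]
    have h5 := hSC.trans hCi
    have h7 := Nat.le_of_mul_le_mul_left (h5.trans (mul_one _).ge) (pow_pos hp.out.pos 2)
    have h8 : (S ⊔ C).index ≠ 0 := index_ne_zero_of_finite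
    omega
  have hZL : Z < L := lt_of_le_of_ne le_sup_right (Ne.symm hLneZ)
  have hLlt : L < S := lt_of_le_of_ne hLS hLneS
  have hLcard : Nat.card L = p ^ 2 := by
    have h1 := card_step hR hZL
    have h2 := card_step hR hLlt
    rw [hZcard] at h1
    rw [hScard] at h2
    refine le_antisymm ?_ (by rw [pow_two]; exact h1)
    exact Nat.le_of_mul_le_mul_left (h2.trans_eq (by ring)) hp.out.pos
  have hLa : ∀ a, ∀ x ∈ L, ψ a x ∈ L := by
    intro a
    have h5 : L.map (ψ a).toMonoidHom ≤ L := by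
      rw [hL, Subgroup.map_sup, map_commutator]
      refine sup_le_sup (commutator_mono ?_ le_top) ?_
      · rintro _ ⟨z, hz, rfl⟩; exact hSa a z hz
      · rintro _ ⟨z, hz, rfl⟩; exact hZa a z hz
    exact fun x hx => h5 (mem_map_of_mem _ hx)
  have hLR : ∀ l ∈ L, ∀ r : R, ⁅l, r⁆ ∈ Z := by
    have hnle := hcomm_le L hLn le_sup_right hLneZ
    have hlt : ⁅L, (⊤ : Subgroup R)⁆ ⊔ Z < L :=
      lt_of_le_of_ne (sup_le (commutator_le_left L ⊤) le_sup_right) fun h => hnle h.ge
    have h1 := card_step hR hlt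
    rw [hLcard, pow_two] at h1
    have heq : Z = ⁅L, (⊤ : Subgroup R)⁆ ⊔ Z :=
      eq_of_le_of_card_ge le_sup_right (hZcard ▸ Nat.le_of_mul_le_mul_left h1 hp.out.pos)
    exact fun l hl r => heq.ge (le_sup_left (α := Subgroup R) (commutator_mem_commutator hl (mem_top r)))
  have hLab : IsMulCommutative L := commutative_of_card_le (hR.to_subgroup L) hLcard.le
  have hLe : ∀ l ∈ L, l ^ p = 1 := fun l hl => hSe l (hLS hl)
  obtain ⟨s₀, hs₀, hs₀L⟩ := SetLike.exists_of_lt hLlt
  have hSgen : zpowers s₀ ⊔ L = S := by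
    refine eq_of_le_of_card_ge (sup_le (zpowers_le.2 hs₀) hLS) ?_
    have := card_step hR (right_lt_sup.2 fun h => hs₀L (h (mem_zpowers s₀)) : L < zpowers s₀ ⊔ L)
    rw [hLcard] at this
    rw [hScard]; exact le_trans (le_of_eq (by ring)) this
  set M := centralizer (L : Set R) with hM
  have hMn : M.Normal := inferInstance
  have hMa : ∀ a, ∀ x ∈ M, ψ a x ∈ M := fun a x hx => mem_centralizer_iff.2 fun l hl => by
    have h := mem_centralizer_iff.1 hx (ψ a⁻¹ l) (hLa _ l hl)
    have h' := congrArg (ψ a) h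
    rw [map_mul, map_mul, show ψ a (ψ a⁻¹ l) = l by
      rw [← MulAut.mul_apply, ← map_mul, mul_inv_cancel, map_one, MulAut.one_apply]] at h'
    exact h'
  have hCM : C ≤ M := centralizer_le hLS
  have hLM : L ≤ M := le_centralizer_iff_isMulCommutative.2 hLab
  have hSM : S ⊓ M = L := by
    have hne : S ⊓ M ≠ S := fun h => hLneZ (le_antisymm (fun l hl => hCS ⟨hLS hl,
      mem_centralizer_iff.2 fun s hs => (mem_centralizer_iff.1 ((h.ge.trans inf_le_right) hs) l hl).symm⟩)
      le_sup_right)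
    have h1 := card_step hR (lt_of_le_of_ne inf_le_left hne : S ⊓ M < S)
    refine (eq_of_le_of_card_ge (le_inf hLS hLM) ?_).symm
    rw [hScard] at h1
    rw [hLcard]
    exact Nat.le_of_mul_le_mul_left (h1.trans_eq (by ring)) hp.out.pos
  have hMi : M.index ≤ p := by
    obtain ⟨l, hl, hlZ⟩ := SetLike.exists_of_lt hZL
    have hLgen : L ≤ zpowers l ⊔ Z := (eq_of_le_of_card_ge (sup_le (zpowers_le.2 hl) hZL.le) (by
      have := card_step hR (right_lt_sup.2 fun h => hlZ (h (mem_zpowers l)) : Z < zpowers l ⊔ Z)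
      rw [hZcard] at this
      rw [hLcard, pow_two]; exact this)).ge
    rw [index_eq_card, ← hZcard]
    refine Nat.card_le_card_of_injective (fun v : R ⧸ M => (⟨⁅l, Quotient.out v⁆, hLR l hl _⟩ : Z)) ?_
    intro v w hvw
    have hs : ⁅l, Quotient.out v⁆ = ⁅l, Quotient.out w⁆ := congrArg Subtype.val hvw
    rw [← QuotientGroup.out_eq' v, ← QuotientGroup.out_eq' w, QuotientGroup.eq]
    refine mem_centralizer_iff.2 fun t ht => ?_
    obtain ⟨_, ⟨i, rfl⟩, z, hz, rfl⟩ := mem_sup_of_normal_right.1 (hLgen ht)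
    set r := Quotient.out v
    set r' := Quotient.out w
    have hc : Commute l (r⁻¹ * r') := by
      have hs' : r * l⁻¹ * r⁻¹ = r' * l⁻¹ * r'⁻¹ := by
        simpa [commutatorElement_def, mul_assoc] using hs
      have hs'' := congrArg Inv.inv hs'
      simp only [mul_inv_rev, inv_inv] at hs''
      calc l * (r⁻¹ * r') = r⁻¹ * (r * (l * r⁻¹)) * r' := by group
        _ = r⁻¹ * (r' * (l * r'⁻¹)) * r' := by rw [hs'']
        _ = r⁻¹ * r' * l := by group
    exact ((hc.zpow_left i).mul_left (mem_center_iff.1 (hZc hz) (r⁻¹ * r')).symm).eq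
  have hSMtop : S ⊔ M = ⊤ := by
    have hlt : M < S ⊔ M := right_lt_sup.2 fun h => hLneS (hSM.symm.trans (inf_eq_left.2 h))
    by_contra hne
    have h1 := card_step hR hlt
    have h2 := card_step hR (lt_top_iff_ne_top.2 hne)
    rw [card_top, ← M.card_mul_index] at h2
    have h3 := (Nat.mul_le_mul_left p h1).trans (h2.trans (Nat.mul_le_mul_left _ hMi))
    have h4 := Nat.card_pos (α := M)
    have h5 := hp.out.two_le
    nlinarith
  -- `C` in `M`
  have hCMi : C.relIndex M ≤ p ^ 2 := by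
    rw [relIndex, index_eq_card, ← hLcard]
    refine Nat.card_le_card_of_injective
      (fun v : M ⧸ C.subgroupOf M => (⟨⁅s₀, ((Quotient.out v : M) : R)⁆, hSR _ hs₀ _⟩ : L)) ?_
    intro v w hvw
    have hs : ⁅s₀, ((Quotient.out v : M) : R)⁆ = ⁅s₀, ((Quotient.out w : M) : R)⁆ := congrArg Subtype.val hvw
    rw [← QuotientGroup.out_eq' v, ← QuotientGroup.out_eq' w, QuotientGroup.eq, mem_subgroupOf]
    refine mem_centralizer_iff.2 fun t ht => ?_
    obtain ⟨_, ⟨i, rfl⟩, l, hl, rfl⟩ := mem_sup_of_normal_right.1 (hSgen.ge ht)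
    have hml := mem_centralizer_iff.1 ((Quotient.out v)⁻¹ * Quotient.out w : M).2 l hl
    rw [coe_mul, coe_inv] at hml ⊢
    set r := ((Quotient.out v : M) : R)
    set r' := ((Quotient.out w : M) : R)
    have hc : Commute s₀ (r⁻¹ * r') := by
      have hs' : r * s₀⁻¹ * r⁻¹ = r' * s₀⁻¹ * r'⁻¹ := by
        simpa [commutatorElement_def, mul_assoc] using hs
      have hs'' := congrArg Inv.inv hs'
      simp only [mul_inv_rev, inv_inv] at hs''
      calc s₀ * (r⁻¹ * r') = r⁻¹ * (r * (s₀ * r⁻¹)) * r' := by group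
        _ = r⁻¹ * (r' * (s₀ * r'⁻¹)) * r' := by rw [hs'']
        _ = r⁻¹ * r' * s₀ := by group
    exact ((hc.zpow_left i).mul_left hml).eq
  have hSCi : (S ⊔ C).index ≤ p := by
    refine Nat.le_of_mul_le_mul_left (hSC.trans ?_) (pow_pos hp.out.pos 2)
    rw [← relIndex_mul_index hCM]
    exact Nat.mul_le_mul hCMi hMi
  -- `R ⧸ S` is abelian
  have hRS : ∀ u v : R, ⁅u, v⁆ ∈ S := by
    obtain ⟨χ, hχ⟩ := exists_quotient_hom ψ S hSa
    set π := QuotientGroup.mk' S
    set Cb := C.map π with hCb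
    have hCbc : IsCyclic Cb :=
      isCyclic_of_surjective (π.subgroupMap C) (π.subgroupMap_surjective C)
    have hCbi : Cb.index ≤ p := by
      have h1 : Cb.index = (S ⊔ C).index := by
        rw [hCb, index_map, QuotientGroup.ker_mk', sup_comm,
          MonoidHom.range_eq_top.2 (QuotientGroup.mk'_surjective S), index_top, mul_one]
      rw [h1]; exact hSCi
    have hbound : ∀ E : Subgroup (R ⧸ S), (∀ e ∈ E, e ^ p = 1) → Nat.card E ≤ p ^ 2 := by
      intro E hE
      have h1 : Nat.card (E ⊓ Cb : Subgroup (R ⧸ S)) ≤ p := by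
        have hK : Nat.card {b : Cb // b ^ p = 1} ≤ p := by
          classical
          let := Fintype.ofFinite Cb
          rw [Nat.card_eq_fintype_card, Fintype.card_subtype]
          exact IsCyclic.card_pow_eq_one_le hp.out.pos
        refine le_trans (Nat.card_le_card_of_injective
          (fun e : (E ⊓ Cb : Subgroup (R ⧸ S)) => (⟨⟨e.1, e.2.2⟩, Subtype.ext (hE e.1 e.2.1)⟩ : {b : Cb // b ^ p = 1})) ?_) hK
        exact fun u v huv => Subtype.ext (congrArg (fun b : {b : Cb // b ^ p = 1} => ((b : Cb) : R ⧸ S)) huv)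
      have h2 : Nat.card (E ⊓ Cb : Subgroup (R ⧸ S)) * (E ⊓ Cb).relIndex E = Nat.card E := by
        rw [relIndex, ← Nat.card_congr (subgroupOfEquivOfLe inf_le_left).toEquiv, card_mul_index]
      have h3 : (E ⊓ Cb).relIndex E ≤ p := by
        rw [inf_relIndex_left]
        exact (relIndex_le_of_le_right le_top (index_ne_zero_of_finite (H := Cb.subgroupOf ⊤))).trans
          ((relIndex_top_right Cb).le.trans hCbi)
      rw [← h2, pow_two]
      exact Nat.mul_le_mul h1 h3
    have hrb : ∀ E : Subgroup (R ⧸ S), Cfsg.IsElementaryAbelian p E → Nat.card E ≤ p ^ 2 :=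
      fun E hE => hbound E hE.2
    set T := closure {v : R ⧸ S | v ^ p = 1} with hT
    have hTe : ∀ v ∈ T, v ^ p = 1 := fun v hv =>
      CfsgLib.Transfer.pow_eq_one_of_rank_two hp3 (hR.to_quotient S) hrb hv
    have hab := RankTwoNoFixed.isMulCommutative hp3 (hR.to_quotient S) χ hcop (noFixed_quotient hres S hχ) T
      (fun v => ⟨fun hv => subset_closure hv, hTe v⟩) (hbound T hTe)
    intro u v
    refine (QuotientGroup.eq_one_iff _).1 ?_
    show π ⁅u, v⁆ = 1
    rw [map_commutatorElement, commutatorElement_eq_one_iff_mul_comm]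
    exact hab.is_comm.comm _ _
  -- the power map on `M`
  have hMc : ∀ u v : M, ⁅u, v⁆ ∈ center M ∧ ⁅u, v⁆ ^ p = 1 := fun u v => by
    have hmem : ((⁅u, v⁆ : M) : R) ∈ L := hSM ▸ ⟨hRS u v, (⁅u, v⁆ : M).2⟩
    exact ⟨mem_center_iff.2 fun w => Subtype.ext (mem_centralizer_iff.1 w.2 _ hmem).symm,
      Subtype.ext (hLe _ hmem)⟩
  have hMpow : ∀ u ∈ M, ∀ v ∈ M, (u * v) ^ p = u ^ p * v ^ p := fun u hu v hv => by
    have := congrArg (fun w : M => (w : R)) (CfsgLib.PGroups.mul_pow_of_central_odd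
      (x := (⟨u, hu⟩ : M)) (y := ⟨v, hv⟩) (hMc _ _).1 (hp.out.odd_of_ne_two hp2) (hMc _ _).2)
    simpa using this
  -- the subgroup `N = C L`
  set N := C ⊔ L with hN
  have hNn : N.Normal := inferInstance
  have hNM : N ≤ M := sup_le hCM hLM
  have hNa : ∀ a, ∀ r ∈ N, ψ a r ∈ N := fun a r hr => by
    obtain ⟨c, hc, l, hl, rfl⟩ := mem_sup_of_normal_right.1 hr
    rw [map_mul]
    refine mul_mem (le_sup_left (α := Subgroup R) (mem_centralizer_iff.2 fun s hs => ?_))
      (le_sup_right (α := Subgroup R) (hLa a l hl))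
    have h' := congrArg (ψ a) (mem_centralizer_iff.1 hc (ψ a⁻¹ s) (hSa _ s hs))
    rw [map_mul, map_mul, show ψ a (ψ a⁻¹ s) = s by
      rw [← MulAut.mul_apply, ← map_mul, mul_inv_cancel, map_one, MulAut.one_apply]] at h'
    exact h'
  have hNMi : N.relIndex M ≤ p := by
    have hlt : C < N := left_lt_sup.2 fun h => hLneZ
      (le_antisymm ((le_inf hLS h).trans hCS) le_sup_right)
    have h1 := card_step hR hlt
    have h2 := hrel N M hNM
    have h3 := hrel C M hCM
    refine Nat.le_of_mul_le_mul_left ?_ (Nat.mul_pos hp.out.pos (Nat.card_pos (α := C)))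
    calc p * Nat.card C * N.relIndex M ≤ Nat.card N * N.relIndex M := Nat.mul_le_mul_right _ h1
      _ = Nat.card C * C.relIndex M := h2.trans h3.symm
      _ ≤ Nat.card C * p ^ 2 := Nat.mul_le_mul_left _ hCMi
      _ = p * Nat.card C * p := by ring
  obtain ⟨x, hxM, hxN⟩ : ∃ x ∈ M, x ∉ N := by
    by_contra! h
    refine htop (top_le_iff.1 (hSMtop.ge.trans (sup_le le_sup_left fun r hr => ?_)))
    obtain ⟨c, hc, l, hl, rfl⟩ := mem_sup_of_normal_right.1 (h r hr)
    exact mul_mem (le_sup_right (α := Subgroup R) hc) (le_sup_left (α := Subgroup R) (hLS hl))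
  have hMgen : zpowers x ⊔ N = M := by
    refine eq_of_le_of_card_ge (sup_le (zpowers_le.2 hxM) hNM) ?_
    have h1 := card_step hR (right_lt_sup.2 fun h => hxN (h (mem_zpowers x)) : N < zpowers x ⊔ N)
    rw [← hrel N M hNM, mul_comm]
    exact (Nat.mul_le_mul_right _ hNMi).trans h1
  have hxp : x ^ p ∈ N := by
    have hrp : N.relIndex M = p := by
      obtain ⟨j, hj⟩ := (hR.to_subgroup M).index (N.subgroupOf M)
      change N.relIndex M = p ^ j at hj
      have hj1 : j ≤ 1 := (Nat.pow_le_pow_iff_right hp.out.one_lt).1 (by rw [← hj, pow_one]; exact hNMi)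
      rcases (show j = 0 ∨ j = 1 by omega) with rfl | rfl
      · exact absurd (relIndex_eq_one.1 (hj.trans (pow_zero p)) hxM) hxN
      · exact hj.trans (pow_one p)
    have := (N.subgroupOf M).pow_index_mem (⟨x, hxM⟩ : M)
    rw [show (N.subgroupOf M).index = p from hrp, mem_subgroupOf] at this
    simpa using this
  set l₁ := ⁅s₀, x⁆ with hl₁
  have hl₁L : l₁ ∈ L := hSR _ hs₀ x
  have hz₀ : ∀ l ∈ L, l ∉ Z → ⁅s₀, l⁆ ≠ 1 := fun l hl hlZ h => hlZ (hCS ⟨hLS hl,
    mem_centralizer_iff.2 fun t ht => by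
      obtain ⟨_, ⟨i, rfl⟩, l', hl', rfl⟩ := mem_sup_of_normal_right.1 (hSgen.ge ht)
      exact (((show Commute s₀ l from commutatorElement_eq_one_iff_mul_comm.1 h).zpow_left i).mul_left
        (mem_centralizer_iff.1 (hLM hl) l' hl')).eq⟩)
  have hl₁Z : l₁ ∉ Z := by
    intro hmem
    obtain ⟨l, hl, hlZ⟩ := SetLike.exists_of_lt hZL
    have hd := hz₀ l hl hlZ
    have hdZ : zpowers ⁅s₀, l⁆ = Z := eq_of_le_of_card_ge (zpowers_le.2 (hSSZ _ hs₀ _ (hLS hl))) (by
      rw [hZcard, Nat.card_zpowers, orderOf_eq_prime (hSe _ (hZS (hSSZ _ hs₀ _ (hLS hl)))) hd])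
    obtain ⟨i, hi⟩ := mem_zpowers_iff.1 (hdZ.ge hmem)
    refine hxN ?_
    have hsl : ⁅s₀, l ^ (-i)⁆ = l₁⁻¹ := by
      have h := comm_zpow (u := s₀) (v := l) (hZc (hSSZ _ hs₀ _ (hLS hl))) 1 (-i)
      rw [zpow_one, one_mul] at h
      rw [h, zpow_neg, hi]
    have hy : ⁅s₀, x * l ^ (-i)⁆ = 1 := by
      rw [show ⁅s₀, x * l ^ (-i)⁆ = ⁅s₀, x⁆ * (x * ⁅s₀, l ^ (-i)⁆ * x⁻¹) by
        simp only [commutatorElement_def]; group, hsl,
        mem_center_iff.1 (hZc (inv_mem hmem)) x, mul_inv_cancel_right, mul_inv_cancel]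
    have hyC : x * l ^ (-i) ∈ C := mem_centralizer_iff.2 fun t ht => by
      obtain ⟨_, ⟨e, rfl⟩, l', hl', rfl⟩ := mem_sup_of_normal_right.1 (hSgen.ge ht)
      exact (((show Commute s₀ (x * l ^ (-i)) from commutatorElement_eq_one_iff_mul_comm.1 hy).zpow_left e).mul_left
        (mem_centralizer_iff.1 (mul_mem hxM (zpow_mem (hLM hl) _)) l' hl')).eq
    rw [show x = x * l ^ (-i) * l ^ i by group]
    exact mul_mem (le_sup_left (α := Subgroup R) hyC) (le_sup_right (α := Subgroup R) (zpow_mem hl i))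
  set z₀ := ⁅s₀, l₁⁆ with hz₀def
  have hz₀1 : z₀ ≠ 1 := hz₀ l₁ hl₁L hl₁Z
  have hz₀Z : z₀ ∈ Z := hSSZ _ hs₀ _ (hLS hl₁L)
  have hz₀o : orderOf z₀ = p := orderOf_eq_prime (hSe _ (hZS hz₀Z)) hz₀1
  have hLgen : L ≤ zpowers l₁ ⊔ Z := (eq_of_le_of_card_ge (sup_le (zpowers_le.2 hl₁L) hZL.le) (by
    have := card_step hR (right_lt_sup.2 fun h => hl₁Z (h (mem_zpowers l₁)) : Z < zpowers l₁ ⊔ Z)
    rw [hZcard] at this
    rw [hLcard, pow_two]; exact this)).ge
  -- every operator fixes `s₀` modulo `N`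
  have hkey : ∀ a, s₀⁻¹ * ψ a s₀ ∈ L := by
    intro a
    obtain ⟨_, ⟨m, rfl⟩, l, hl, hal⟩ := mem_sup_of_normal_right.1 (hSgen.ge (hSa a s₀ hs₀))
    obtain ⟨_, ⟨k, rfl⟩, n, hn, han⟩ := mem_sup_of_normal_right.1 (hMgen.ge (hMa a x hxM))
    change s₀ ^ m * l = ψ a s₀ at hal
    change x ^ k * n = ψ a x at han
    have hk : ¬ (p : ℤ) ∣ k := by
      rintro ⟨i, rfl⟩
      refine hxN ?_
      have h1 : ψ a x ∈ N := by
        rw [← han, zpow_mul, zpow_natCast]
        exact mul_mem (zpow_mem hxp i) hn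
      have h2 := hNa a⁻¹ _ h1
      rwa [← MulAut.mul_apply, ← map_mul, inv_mul_cancel, map_one, MulAut.one_apply] at h2
    -- the image of `l₁`
    set π := QuotientGroup.mk' Z
    have hπL : ∀ l ∈ L, π l ∈ center (R ⧸ Z) := fun l hl => mem_center_iff.2 fun w => by
      obtain ⟨r, rfl⟩ := QuotientGroup.mk'_surjective Z w
      refine (commutatorElement_eq_one_iff_mul_comm.1 ?_).symm
      rw [← map_commutatorElement]
      exact (QuotientGroup.eq_one_iff _).2 (hLR l hl r)
    have hl₁a : π (ψ a l₁) = π (l₁ ^ (m * k)) := by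
      obtain ⟨c, hc, l', hl', rfl⟩ := mem_sup_of_normal_right.1 hn
      have hsc : ⁅π (s₀ ^ m), π (c * l')⁆ = 1 := by
        rw [commutatorElement_eq_one_iff_mul_comm, map_mul]
        refine (Commute.mul_right ?_ ((mem_center_iff.1 (hπL l' hl') _) : Commute (π (s₀ ^ m)) (π l'))).eq
        exact Commute.map (mem_centralizer_iff.1 hc _ (zpow_mem hs₀ m) : Commute (s₀ ^ m) c) π
      rw [hl₁, map_commutatorElement, map_commutatorElement, ← hal, ← han, map_mul π (s₀ ^ m),
        CfsgLib.PGroups.comm_mul_left_of_central (y := π l) (by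
          rw [commutatorElement_eq_one_iff_mul_comm.2 (mem_center_iff.1 (hπL l hl) _).symm]
          exact one_mem _),
        commutatorElement_eq_one_iff_mul_comm.2 (mem_center_iff.1 (hπL l hl) _).symm, mul_one,
        map_mul π (x ^ k), CfsgLib.PGroups.comm_mul_right_of_central (by rw [hsc]; exact one_mem _),
        hsc, mul_one, map_zpow, map_zpow, map_zpow, comm_zpow (by
          rw [← map_commutatorElement]; exact hπL _ hl₁L), map_commutatorElement]
    obtain ⟨z, hz, hl₁z⟩ : ∃ z ∈ Z, ψ a l₁ = l₁ ^ (m * k) * z :=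
      ⟨(l₁ ^ (m * k))⁻¹ * ψ a l₁, QuotientGroup.eq.1 hl₁a.symm, (mul_inv_cancel_left _ _).symm⟩
    have hz₀a : ψ a z₀ = z₀ ^ (m * (m * k)) := by
      rw [hz₀def, map_commutatorElement, ← hal, hl₁z]
      have h1 : ⁅l, l₁ ^ (m * k) * z⁆ = 1 := commutatorElement_eq_one_iff_mul_comm.2
        (congrArg Subtype.val (hLab.is_comm.comm ⟨l, hl⟩
          ⟨_, mul_mem (zpow_mem hl₁L _) (hZL.le hz)⟩) :)
      rw [CfsgLib.PGroups.comm_mul_left_of_central (y := l) (by rw [h1]; exact one_mem _), h1, mul_one,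
        CfsgLib.PGroups.comm_mul_right_of_central (z := z) (by
          rw [commutatorElement_eq_one_iff_mul_comm.2 (mem_center_iff.1 (hZc hz) _)]; exact one_mem _),
        commutatorElement_eq_one_iff_mul_comm.2 (mem_center_iff.1 (hZc hz) _), mul_one,
        comm_zpow (hZc hz₀Z)]
    -- the image of `x ^ p`
    obtain ⟨c, hc, l', hl', hcl⟩ := mem_sup_of_normal_right.1 hxp
    obtain ⟨_, ⟨i, rfl⟩, z', hz', rfl⟩ := mem_sup_of_normal_right.1 (hLgen hl')
    have hxp' : x ^ p = c * z' * l₁ ^ i := by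
      rw [← hcl, mul_assoc, mem_center_iff.1 (hZc hz') (l₁ ^ i)]
    set c' := c * z' with hc'def
    have hc' : c' ∈ C := mul_mem hc (hZC hz')
    obtain ⟨c₂, hc₂, l₂, hl₂, rfl⟩ := mem_sup_of_normal_right.1 hn
    have hcm : Commute c' (l₁ ^ i) := (mem_centralizer_iff.1 hc' _ (zpow_mem (hLS hl₁L) i) :).symm
    have himg : ψ a (x ^ p) = (c' ^ k * l₁ ^ (i * k)) * c₂ ^ p := by
      rw [map_pow, ← han, hMpow _ (zpow_mem hxM k) _ (hNM hn), hMpow _ (hCM hc₂) _ (hLM hl₂), hLe _ hl₂, mul_one,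
        ← zpow_natCast, ← zpow_mul, mul_comm k, zpow_mul, zpow_natCast, hxp', hcm.mul_zpow, ← zpow_mul]
    rw [hxp', map_mul, map_zpow] at himg
    have hzi : ∀ e : ℤ, (p : ℤ) ∣ e → z₀ ^ e = 1 := fun e he =>
      orderOf_dvd_iff_zpow_eq_one.1 (hz₀o ▸ he)
    have hm : (p : ℤ) ∣ (m - 1) * (m + 1) ∨ (p : ℤ) ∣ m - 1 := by
      by_cases hi : (p : ℤ) ∣ i
      · left
        have hl1 : l₁ ^ i = 1 := by
          obtain ⟨e, rfl⟩ := hi
          rw [zpow_mul, zpow_natCast, hLe _ hl₁L, one_zpow]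
        rw [hl1, mul_one] at hxp'
        obtain ⟨⟨c₀, hc₀⟩, hgen⟩ := hCcyc.exists_generator
        have hgen' : ∀ d ∈ C, ∃ e : ℤ, c₀ ^ e = d := fun d hd => by
          obtain ⟨e, he⟩ := mem_zpowers_iff.1 (hgen ⟨d, hd⟩)
          exact ⟨e, congrArg Subtype.val he⟩
        have hCa : ψ a c₀ ∈ C := hCinv a c₀ hc₀
        obtain ⟨t, ht⟩ := hgen' _ hCa
        obtain ⟨e, he⟩ := hgen' _ hc'
        obtain ⟨q, hq⟩ := hgen' _ hc₂
        obtain ⟨r, hr⟩ := hgen' _ (hZC hz₀Z)
        have hord : (p : ℤ) ∣ orderOf c₀ := by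
          refine Int.natCast_dvd_natCast.2 (hz₀o ▸ ?_)
          rw [← hr]
          exact orderOf_dvd_of_mem_zpowers (zpow_mem (mem_zpowers _) _)
        have he' : ¬ (p : ℤ) ∣ e := by
          rintro ⟨e', rfl⟩
          refine hxN ?_
          have hd : c₀ ^ e' ∈ C := zpow_mem hc₀ _
          have h1 : (x * (c₀ ^ e')⁻¹) ^ p = 1 := by
            rw [hMpow _ hxM _ (inv_mem (hCM hd)), hxp', inv_pow,
              show (c₀ ^ e') ^ p = c' by rw [← zpow_natCast, ← zpow_mul, mul_comm, he], mul_inv_cancel]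
          have h2 : x * (c₀ ^ e')⁻¹ ∈ L := by
            rw [← hSM]; exact ⟨hSm _ h1, Subgroup.mul_mem M hxM (Subgroup.inv_mem M (hCM hd))⟩
          rw [← inv_mul_cancel_right x (c₀ ^ e')]
          exact mul_mem (le_sup_right (α := Subgroup R) h2) (le_sup_left (α := Subgroup R) hd)
        have hl1' : l₁ ^ (i * k) = 1 := by rw [zpow_mul, hl1, one_zpow]
        rw [hl1', mul_one, ← map_zpow, hl1, map_one, mul_one, ← he, ← hq, map_zpow, ← ht, ← zpow_mul,
          ← zpow_mul, ← zpow_natCast, ← zpow_mul, ← zpow_add] at himg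
        have h1 : c₀ ^ (t * e - (e * k + q * (p : ℤ))) = 1 := by rw [zpow_sub, himg, mul_inv_cancel]
        have h2 : (p : ℤ) ∣ (t - k) * e := by
          have h3 := dvd_add (hord.trans (orderOf_dvd_iff_zpow_eq_one.2 h1)) (dvd_mul_left (p : ℤ) q)
          rwa [show t * e - (e * k + q * (p : ℤ)) + q * (p : ℤ) = (t - k) * e by ring] at h3
        have htk := (Nat.prime_iff_prime_int.1 hp.out).dvd_or_dvd h2 |>.resolve_right he'
        have h4 : z₀ ^ (m * (m * k)) = z₀ ^ k := by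
          rw [← hz₀a, ← hr, map_zpow, ← ht, ← zpow_mul, mul_comm, zpow_mul, hr]
          rw [show t = k + (t - k) by ring, zpow_add, hzi _ htk, mul_one]
        have h5 : z₀ ^ (m * (m * k) - k) = 1 := by rw [zpow_sub, h4, mul_inv_cancel]
        have h6 := hz₀o ▸ orderOf_dvd_iff_zpow_eq_one.2 h5
        rw [show m * (m * k) - k = (m - 1) * (m + 1) * k by ring] at h6
        exact (Nat.prime_iff_prime_int.1 hp.out).dvd_or_dvd h6 |>.resolve_right hk
      · right
        rw [hl₁z, Commute.mul_zpow (mem_center_iff.1 (hZc hz) _), ← zpow_mul] at himg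
        have h1 : l₁ ^ (m * k * i - i * k) ∈ C := by
          have hcc : ψ a c' ∈ C := hCinv a c' hc'
          rw [← QuotientGroup.eq_one_iff, zpow_sub, QuotientGroup.mk_mul, QuotientGroup.mk_inv,
            mul_inv_eq_one]
          have h2 := congrArg (fun r : R => (r : R ⧸ C)) himg
          simp only [QuotientGroup.mk_mul, (QuotientGroup.eq_one_iff _).2 hcc,
            (QuotientGroup.eq_one_iff _).2 (zpow_mem hc' k), (QuotientGroup.eq_one_iff _).2 (pow_mem hc₂ p),
            (QuotientGroup.eq_one_iff _).2 (zpow_mem (hZC hz) i), one_mul, mul_one] at h2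
          exact h2
        have h3 : l₁ ^ (m * k * i - i * k) ∈ Z := hCS ⟨zpow_mem (hLS hl₁L) _, h1⟩
        by_contra h4
        refine hl₁Z (mem_of_zpow_mem (by rw [hLe _ hl₁L]; exact one_mem _) h3 fun h5 => h4 ?_)
        rw [show m * k * i - i * k = (m - 1) * (k * i) by ring] at h5
        refine (Nat.prime_iff_prime_int.1 hp.out).dvd_or_dvd h5 |>.resolve_right fun h6 => ?_
        rcases (Nat.prime_iff_prime_int.1 hp.out).dvd_or_dvd h6 with h | h
        exacts [hk h, hi h]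
    have hm1 : (p : ℤ) ∣ m - 1 := by
      rcases hm with hm | hm
      swap
      · exact hm
      rcases (Nat.prime_iff_prime_int.1 hp.out).dvd_or_dvd hm with h | h
      · exact h
      exfalso
      have hiter : ∀ j : ℕ, (s₀ ^ (m ^ j))⁻¹ * ψ (a ^ j) s₀ ∈ L := by
        intro j
        induction j with
        | zero => simp
        | succ j ih =>
          rw [pow_succ' a, map_mul, MulAut.mul_apply, pow_succ' m, zpow_mul,
            show ψ a (ψ (a ^ j) s₀) = ψ a (s₀ ^ (m ^ j)) * ψ a ((s₀ ^ (m ^ j))⁻¹ * ψ (a ^ j) s₀) by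
              rw [← map_mul, mul_inv_cancel_left],
            ← mul_assoc]
          refine mul_mem ?_ (hLa a _ ih)
          rw [map_zpow, ← hal, ← QuotientGroup.eq_one_iff]
          simp only [QuotientGroup.mk_mul, QuotientGroup.mk_inv, QuotientGroup.mk_zpow,
            (QuotientGroup.eq_one_iff l).2 hl, mul_one, inv_mul_cancel]
      have h1 := hiter (Nat.card A)
      rw [pow_card_eq_one', map_one, MulAut.one_apply] at h1
      have h2 : s₀ ^ (1 - m ^ Nat.card A) ∈ L := by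
        rwa [sub_eq_neg_add, zpow_add, zpow_neg, zpow_one]
      have h3 : (p : ℤ) ∣ 1 - m ^ Nat.card A := by
        by_contra hn
        exact hs₀L (mem_of_zpow_mem (by rw [hSe _ hs₀]; exact one_mem _) h2 hn)
      have h4 : (p : ℤ) ∣ m ^ Nat.card A - (-1) ^ Nat.card A :=
        (by simpa using h : (p : ℤ) ∣ m - (-1)).trans (sub_dvd_pow_sub_pow m (-1) (Nat.card A))
      rw [hodd.neg_one_pow] at h4
      have h5 : (p : ℤ) ∣ 2 := by
        have := dvd_add h3 h4
        rwa [show (1 : ℤ) - m ^ Nat.card A + (m ^ Nat.card A - -1) = 2 by ring] at this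
      have h6 : p ∣ 2 := Int.natCast_dvd_natCast.1 h5
      have := Nat.le_of_dvd two_pos h6
      omega
    obtain ⟨e, he⟩ := hm1
    rw [← hal, show s₀⁻¹ * (s₀ ^ m * l) = s₀ ^ (m - 1) * l by group, he, zpow_mul, zpow_natCast,
      hSe _ hs₀, one_zpow, one_mul]
    exact hl
  have hab : IsMulCommutative (R ⧸ N) := by
    refine commutative_of_card_le (hR.to_quotient N) ?_
    rw [← index_eq_card, ← relIndex_mul_index hNM, pow_two]
    exact Nat.mul_le_mul hNMi hMi
  have := mem_of_fixed hR hcop hres N hNa hab fun a => le_sup_right (α := Subgroup R) (hkey a)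
  exact hs₀L (hSM ▸ ⟨hs₀, hNM this⟩)

end CfsgLib.OddLocal.RankTwoExtraspecial
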