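import Cfsg.Agent.Lib.TwoGroups.AlphaCore
import Cfsg.Agent.Lib.Core.Basic

/-!
`M_σ` is a Hall subgroup.
-/

set_option autoImplicit false

namespace CfsgLib.OddLocal.SigmaCore

open Subgroup
open CfsgLib.TwoGroups

variable {G : Type*} [Group G] [Finite G] {p : ℕ} [Fact p.Prime] {M : Subgroup G}

/-- Sylow subgroups for the primes in `σ(M)` lie in `M_σ`. -/
theorem sylow_le (hG : Cfsg.IsMinSimpleOddOrder G) (hM : IsCoatom M)
    (hp : p ∈ Cfsg.sigma M) (P : Sylow p M) : (P : Subgroup M) ≤ Cfsg.piCore (Cfsg.sigma M) M := by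
  obtain ⟨hnil, -, -⟩ := AlphaCore.structure_quotient hG hM
  set O := Cfsg.piCore (Cfsg.alpha M) ↥M with hO
  set π := QuotientGroup.mk' O with hπ
  have hOpi := Components.piCore_isPiSubgroup (G := ↥M) (Cfsg.alpha M)
  set Q := Cfsg.pCore p (↥M ⧸ O) with hQ
  have hQn : Q.Normal := Components.pCore_normal p
  have hQpi : ∀ q : ℕ, q.Prime → q ∣ Nat.card (Q.comap π) → q ∈ Cfsg.sigma M := by
    intro q hq hd
    rw [hπ, CfsgLib.Core.card_comap_mk'] at hd
    rcases hq.dvd_mul.1 hd with h | h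
    · have := Fact.mk hq
      exact SigmaTrans.alpha_subset_sigma hG hM (hOpi q hq h)
    · obtain ⟨k, hk⟩ := IsPGroup.iff_card.1 (Core.isPGroup_pCore p (↥M ⧸ O))
      rw [(Nat.prime_dvd_prime_iff_eq hq Fact.out).1 (hq.dvd_of_dvd_pow (hk ▸ h))]
      exact hp
  refine le_trans ?_ (Components.le_piCore (hQn.comap π) hQpi)
  intro y hy
  obtain ⟨k, hk⟩ := P.2 ⟨y, hy⟩
  have hyk : π y ^ p ^ k = 1 := by rw [← map_pow, show y ^ p ^ k = 1 from congrArg Subtype.val hk, map_one]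
  obtain ⟨j, -, hj⟩ := (Nat.dvd_prime_pow Fact.out).1 (orderOf_dvd_of_pow_eq_one hyk)
  refine HallGen.mem_pCore_of_mem_nilpotent_normal (k := j)
    (inferInstance : (_root_.commutator (↥M ⧸ O)).Normal) hnil ?_ hj
  have h1 : (y : G) ∈ ⁅M, M⁆ := AlphaCore.sylow_le_derived hG hM hp P ⟨y, hy, rfl⟩
  rw [← map_subtype_commutator] at h1
  obtain ⟨z, hz, e⟩ := h1
  rw [← M.subtype_injective e]
  refine (show (_root_.commutator ↥M).map π ≤ _root_.commutator (↥M ⧸ O) from ?_) (mem_map_of_mem π hz)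
  rw [_root_.commutator_def, _root_.commutator_def, map_commutator]
  exact commutator_mono le_top le_top

/-- `M_σ` is a Hall `σ(M)`-subgroup of `M` and of `G`, and the only normal one. -/
theorem sigmaCore_hall (hG : Cfsg.IsMinSimpleOddOrder G) (hM : IsCoatom M) :
    Cfsg.IsPiHallOf (Cfsg.sigma M) (Cfsg.sigmaCore M) M ∧ Cfsg.IsPiHall (Cfsg.sigma M) (Cfsg.sigmaCore M) ∧
      ∀ N : Subgroup G, M ≤ normalizer (N : Set G) → Cfsg.IsPiHallOf (Cfsg.sigma M) N M →
        N = Cfsg.sigmaCore M := by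
  have hpi := Components.piCore_isPiSubgroup (G := ↥M) (Cfsg.sigma M)
  have hcard : Nat.card (Cfsg.sigmaCore M) = Nat.card (Cfsg.piCore (Cfsg.sigma M) ↥M) :=
    card_map_of_injective M.subtype_injective
  have h1 : ∀ q : ℕ, q.Prime → q ∣ Nat.card (Cfsg.sigmaCore M) → q ∈ Cfsg.sigma M := fun q hq hd =>
    hpi q hq (hcard ▸ hd)
  have h2 : ∀ q : ℕ, q.Prime → q ∈ Cfsg.sigma M → ¬ q ∣ (Cfsg.sigmaCore M).relIndex M := by
    intro q hq hqσ hd
    have := Fact.mk hq
    obtain ⟨P⟩ : Nonempty (Sylow q M) := inferInstance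
    rw [relIndex, Cfsg.sigmaCore, subgroupOf, comap_map_eq_self_of_injective M.subtype_injective] at hd
    exact P.not_dvd_index (hd.trans (index_dvd_of_le (sylow_le hG hM hqσ P)))
  refine ⟨⟨map_subtype_le _, h1, h2⟩, ⟨h1, fun q hq hqσ hd => ?_⟩, fun N hN hNh => ?_⟩
  · have := Fact.mk hq
    obtain ⟨P⟩ : Nonempty (Sylow q M) := inferInstance
    obtain ⟨S, hS⟩ := SigmaTrans.sigma_sylow hqσ P
    refine S.not_dvd_index (hd.trans (index_dvd_of_le ?_))
    rw [hS]
    exact map_mono (sylow_le hG hM hqσ P)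
  · obtain ⟨hNM, hNpi, hNidx⟩ := hNh
    have hn : (N.subgroupOf M).Normal := normal_subgroupOf_of_le_normalizer hN
    have hle : N ≤ Cfsg.sigmaCore M := by
      rw [← map_subgroupOf_eq_of_le hNM]
      refine map_mono (Components.le_piCore hn fun q hq hd => hNpi q hq ?_)
      rwa [Nat.card_congr (subgroupOfEquivOfLe hNM).toEquiv] at hd
    refine le_antisymm hle (relIndex_eq_one.1 ?_)
    by_contra h
    obtain ⟨q, hq, hd⟩ := Nat.exists_prime_and_dvd h
    have hqσ : q ∈ Cfsg.sigma M := h1 q hq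
      (hd.trans ((N.subgroupOf (Cfsg.sigmaCore M)).index_dvd_card))
    refine hNidx q hq hqσ ?_
    rw [← relIndex_mul_relIndex N (Cfsg.sigmaCore M) M hle (map_subtype_le _)]
    exact hd.mul_right _

end CfsgLib.OddLocal.SigmaCore
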