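import Cfsg.Agent.Lib.OddLocal.SigmaOrderP
import Cfsg.Agent.Lib.TwoGroups.TauTwoCentralizer
import Cfsg.Agent.Lib.Core.Hall
import Cfsg.Agent.Lib.Core.MinNormal

/-!
`σ(M)`-subgroups are conjugate into `M_σ`.
-/

set_option autoImplicit false

namespace CfsgLib.OddLocal.SigmaEmbedding

open Subgroup
open CfsgLib.TwoGroups
open scoped Pointwise
open SigmaOrderP (sigmaCore_le le_normalizer_sigmaCore le_sigmaCore)

/-- The part of the `τ₂` structure theorem used here. -/
def TauTwoStructure (G : Type*) [Group G] : Prop :=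
  ∀ (M : Subgroup G), IsCoatom M → ∀ (p : ℕ) [Fact p.Prime], p ∈ Cfsg.tau2 M → ∀ (A : Subgroup G),
    (A ≤ M ∧ Cfsg.IsElementaryAbelian p A ∧ Nat.card A = p ^ 2) →
    Group.IsNilpotent (Cfsg.sigmaCore M) ∧ M ≤ Subgroup.normalizer ((Cfsg.sigmaCore M ⊔ A : Subgroup G) : Set G)

variable {G : Type*} [Group G] [Finite G] {q : ℕ} [Fact q.Prime] {M Mstar X : Subgroup G}

/-- `M*` is not conjugate to `M`. -/
theorem not_conj (hG : Cfsg.IsMinSimpleOddOrder G) (hM : IsCoatom M) (hq : q ∈ Cfsg.sigma M)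
    (hXq : IsPGroup q X) (hX1 : X ≠ ⊥) (hXM : X ≤ M) (hne : Mstar ≠ M)
    (hNX : normalizer (X : Set G) ≤ Mstar) (g : G) : Mstar ≠ M.map (MulAut.conj g).toMonoidHom := by
  intro h
  have hXs : X ≤ Mstar := le_normalizer.trans hNX
  obtain ⟨m, hm, c, hc, e⟩ := (SigmaTrans.factor_conj hG hM hq hXq hX1 hXM).1 g⁻¹ (by
    rintro _ ⟨x, hx, rfl⟩
    have := Transfer.mem_map_conj.mp (h ▸ hXs hx)
    simpa using this)
  have hcs : c ∈ Mstar := (centralizer_le_normalizer _).trans hNX hc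
  refine hne ?_
  ext y
  rw [h, Transfer.mem_map_conj, show g = c⁻¹ * m⁻¹ by rw [← inv_inv g, e, mul_inv_rev]]
  constructor
  · intro hy
    have h1 : c * y * c⁻¹ ∈ M := by
      have := mul_mem (mul_mem (inv_mem hm) hy) hm
      simpa [mul_assoc] using this
    have h2 : c * y * c⁻¹ ∈ Mstar → y ∈ Mstar := fun h2 => by
      simpa [mul_assoc] using mul_mem (mul_mem (inv_mem hcs) h2) hcs
    -- `y ∈ M*`, which is normalised by `c`
    have hy' : y ∈ Mstar := by
      rw [h, Transfer.mem_map_conj, show g = c⁻¹ * m⁻¹ by rw [← inv_inv g, e, mul_inv_rev]]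
      exact hy
    have h3 : c⁻¹ * y * c ∈ Mstar := mul_mem (mul_mem (inv_mem hcs) hy') hcs
    rw [h, Transfer.mem_map_conj, show g = c⁻¹ * m⁻¹ by rw [← inv_inv g, e, mul_inv_rev]] at h3
    have h4 := mul_mem (mul_mem (inv_mem hm) h3) hm
    simpa [mul_assoc] using h4
  · intro hy
    have h1 : c⁻¹ * y * c ∈ Mstar := by
      rw [h, Transfer.mem_map_conj, show g = c⁻¹ * m⁻¹ by rw [← inv_inv g, e, mul_inv_rev]]
      have := mul_mem (mul_mem hm hy) (inv_mem hm)
      simpa [mul_assoc] using this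
    have h2 : y ∈ Mstar := by simpa [mul_assoc] using mul_mem (mul_mem hcs h1) (inv_mem hcs)
    rw [h, Transfer.mem_map_conj, show g = c⁻¹ * m⁻¹ by rw [← inv_inv g, e, mul_inv_rev]] at h2
    exact h2

/-- Characteristic subgroups of cyclic groups. -/
theorem normalizer_le_of_cyclic {S : Subgroup G} (hc : IsCyclic S) (hXS : X ≤ S) :
    normalizer (S : Set G) ≤ normalizer (X : Set G) := by
  have hch : (X.subgroupOf S).Characteristic := by
    refine characteristic_iff_map_le.mpr fun f => ?_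
    obtain ⟨k, hk⟩ := MonoidHom.map_cyclic f.toMonoidHom
    rintro _ ⟨x, hx, rfl⟩
    exact (hk x).symm ▸ zpow_mem hx k
  have h := PLengthEndgame.normalizer_le_char S (X.subgroupOf S)
  rwa [map_subgroupOf_eq_of_le hXS] at h

theorem exists_elementary_of_not_cyclic (hq2 : q ≠ 2) {S : Subgroup G} (hS : IsPGroup q S) (hnc : ¬ IsCyclic S) :
    ∃ A : Subgroup G, A ≤ S ∧ Cfsg.IsElementaryAbelian q A ∧ Nat.card A = q ^ 2 := by
  obtain ⟨A, hA⟩ := Transfer.exists_normal_elementary_card_sq hq2 hS hnc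
  obtain ⟨-, hAe, hA2⟩ := hA
  refine ⟨A.map S.subtype, map_subtype_le _, ⟨by have := hAe.1; exact map_isMulCommutative A _, ?_⟩, ?_⟩
  · rintro _ ⟨a, ha, rfl⟩
    rw [← map_pow, hAe.2 a ha, map_one]
  · rw [card_map_of_injective S.subtype_injective, hA2]

/-- S1424, with the Sylow subgroup given as a maximal `q`-subgroup of `M ∩ M*`. -/
theorem sylow_inf (hG : Cfsg.IsMinSimpleOddOrder G) (hM : IsCoatom M)
    (hq : q ∈ Cfsg.sigma M) (hX1 : X ≠ ⊥) (hNX : normalizer (X : Set G) ≤ Mstar) {S : Subgroup G}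
    (hS : IsPGroup q S) (hXS : X ≤ S) (hSM : S ≤ M) (hSs : S ≤ Mstar)
    (hmax : ∀ T : Subgroup G, IsPGroup q T → T ≤ M → T ≤ Mstar → S ≤ T → T = S) :
    normalizer (S : Set G) ≤ M ∧ ¬ q ∣ S.relIndex Mstar := by
  have hq2 : q ≠ 2 := Uniqueness.odd_prime hG (hq.2.1.trans M.card_subgroup_dvd_card)
  have hS1 : S ≠ ⊥ := fun e => hX1 (le_bot_iff.mp (e ▸ hXS))
  have grow : ∀ L : Subgroup G, S ≤ L → (normalizer (S : Set G) ⊓ L ≤ M ⊓ Mstar) → ¬ q ∣ S.relIndex L := by
    intro L hSL hle hd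
    obtain ⟨T, hT⟩ := (hS.comap_subtype (K := L)).exists_le_sylow
    have hne : S.subgroupOf L ≠ (T : Subgroup L) := fun e => T.not_dvd_index (e ▸ hd)
    have hlt : S < (T : Subgroup L).map L.subtype := by
      refine lt_of_le_of_ne (fun x hx => ⟨⟨x, hSL hx⟩, hT hx, rfl⟩) fun e => hne ?_
      rw [e, subgroupOf, comap_map_eq_self_of_injective L.subtype_injective]
    have h1 := Transfer.lt_inf_normalizer (T.2.map L.subtype) hlt
    have h2 : (T : Subgroup L).map L.subtype ⊓ normalizer (S : Set G) ≤ M ⊓ Mstar :=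
      le_trans (by rw [inf_comm]; exact inf_le_inf_left _ (map_subtype_le _)) hle
    exact h1.ne' (hmax _ ((T.2.map L.subtype).to_le inf_le_left) (h2.trans inf_le_left) (h2.trans inf_le_right)
      (le_inf (fun x hx => ⟨⟨x, hSL hx⟩, hT hx, rfl⟩) le_normalizer))
  have hNS : normalizer (S : Set G) ≤ M := by
    by_cases hc : IsCyclic S
    · have hle : normalizer (S : Set G) ≤ Mstar := (normalizer_le_of_cyclic hc hXS).trans hNX
      have hnd := grow M hSM (le_inf inf_le_right (inf_le_left.trans hle))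
      set R : Sylow q M := (hS.comap_subtype (K := M)).toSylow hnd
      have := SigmaTrans.exists_sylow_of_sigma hq R
      rwa [show ((R : Subgroup M).map M.subtype : Subgroup G) = S from map_subgroupOf_eq_of_le hSM] at this
    · obtain ⟨A, hAS, hA, hA2⟩ := exists_elementary_of_not_cyclic hq2 hS hc
      rw [(SigmaTrans.factor_conj hG hM hq hS hS1 hSM).2]
      exact sup_le inf_le_left ((centralizer_le hAS).trans (TauTwo.centralizer_le hG hM ⟨hA, hA2⟩ (hAS.trans hSM)))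
  exact ⟨hNS, grow Mstar hSs (le_inf (inf_le_left.trans hNS) inf_le_right)⟩

theorem exists_max (hXq : IsPGroup q X) (hXM : X ≤ M) (hXs : X ≤ Mstar) :
    ∃ S : Subgroup G, IsPGroup q S ∧ X ≤ S ∧ S ≤ M ∧ S ≤ Mstar ∧
      ∀ T : Subgroup G, IsPGroup q T → T ≤ M → T ≤ Mstar → S ≤ T → T = S := by
  obtain ⟨S, hS⟩ := (hXq.comap_subtype (K := M ⊓ Mstar)).exists_le_sylow
  refine ⟨(S : Subgroup ↥(M ⊓ Mstar)).map (M ⊓ Mstar).subtype, S.2.map _,
    fun x hx => ⟨⟨x, hXM hx, hXs hx⟩, hS hx, rfl⟩, (map_subtype_le _).trans inf_le_left,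
    (map_subtype_le _).trans inf_le_right, fun T hT hTM hTs hle => ?_⟩
  have h := S.3 (hT.comap_subtype (K := M ⊓ Mstar))
    (show (S : Subgroup ↥(M ⊓ Mstar)) ≤ T.comap (M ⊓ Mstar).subtype from fun x hx => hle ⟨x, hx, rfl⟩)
  rw [← h]
  exact (map_subgroupOf_eq_of_le (le_inf hTM hTs)).symm

/-- Images of Sylow subgroups modulo `M_β` are normal. -/
theorem sup_betaCore_normal (hG : Cfsg.IsMinSimpleOddOrder G) (hM : IsCoatom M) (hq : q ∈ Cfsg.sigma M)
    (S : Sylow q M) : ((S : Subgroup M) ⊔ Cfsg.piCore (Cfsg.beta M) ↥M).Normal := by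
  obtain ⟨⟨-, -, hBidx⟩, -, -, ⟨H, ⟨hHle, -, hHidx⟩, hHn⟩, -⟩ := BetaCore.betaCore_facts hG hM
  set B := Cfsg.piCore (Cfsg.beta M) ↥M with hB
  set π := QuotientGroup.mk' B with hπ
  set D := Cfsg.piCore (Cfsg.sigma M) ↥M with hD
  have hHM : H ≤ M := hHle.trans (sigmaCore_le M)
  have hHD : H.subgroupOf M ≤ D := fun x hx => by
    obtain ⟨d, hd, e⟩ := hHle (show (x : G) ∈ H from hx)
    rwa [← M.subtype_injective e]
  have hDn : Group.IsNilpotent ↥(D.map π) := by
    have hDH : (H.subgroupOf M).map π = D.map π := by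
      refine le_antisymm (map_mono hHD) (relIndex_eq_one.mp ?_)
      by_contra hne
      obtain ⟨r, hr, hd⟩ := Nat.exists_prime_and_dvd hne
      have hrq : r ∣ Nat.card (↥M ⧸ B) :=
        hd.trans ((relIndex_dvd_card _ _).trans (card_subgroup_dvd_card _))
      have hrβ : r ∉ Cfsg.beta M := fun hrβ => hBidx r hr hrβ (by
        rw [relIndex, Cfsg.piCoreOf, subgroupOf, comap_map_eq_self_of_injective M.subtype_injective, index_eq_card]
        exact hrq)
      refine hHidx r hr ⟨hr, hrβ⟩ ?_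
      have h1 : (H.subgroupOf M).relIndex D = H.relIndex (Cfsg.sigmaCore M) := by
        rw [Cfsg.sigmaCore, ← relIndex_comap, subgroupOf]
      rw [← h1]
      rw [relIndex_map_map, hπ, QuotientGroup.ker_mk'] at hd
      have hBD : B ≤ D := Components.le_piCore inferInstance fun s hs hsd => by
        have := Fact.mk hs
        exact SigmaTrans.alpha_subset_sigma hG hM (Components.piCore_isPiSubgroup (G := ↥M) (Cfsg.beta M) s hs hsd).1
      rw [sup_eq_left.mpr hBD] at hd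
      exact hd.trans (relIndex_dvd_of_le_left D le_sup_left)
    rw [← hDH]
    have : Group.IsNilpotent ↥(H.subgroupOf M) := Group.nilpotent_of_mulEquiv (subgroupOfEquivOfLe hHM).symm
    exact Group.nilpotent_of_surjective (π.subgroupMap (H.subgroupOf M)) (π.subgroupMap_surjective _)
  have hn : D.Normal := inferInstance
  have hDn' : (D.map π).Normal := hn.map π (QuotientGroup.mk'_surjective B)
  set T := S.mapSurjective (QuotientGroup.mk'_surjective B) with hT
  have hTD : (T : Subgroup (↥M ⧸ B)) ≤ D.map π := by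
    rw [hT, Sylow.coe_mapSurjective]
    exact map_mono (SigmaCore.sylow_le hG hM hq S)
  set T' := T.subtype hTD
  have h03 : Group.IsNilpotent ↥(D.map π) ↔
      ∀ (r : ℕ) (_ : Fact r.Prime) (R : Sylow r ↥(D.map π)), (R : Subgroup ↥(D.map π)).Normal :=
    (Group.isNilpotent_of_finite_tfae (G := ↥(D.map π))).out 0 3
  have hT'c : (T' : Subgroup ↥(D.map π)).Characteristic :=
    Sylow.characteristic_of_normal T' (h03.mp hDn q inferInstance T')
  have hTn : (T : Subgroup (↥M ⧸ B)).Normal := by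
    have h : ((T' : Subgroup ↥(D.map π)).map (D.map π).subtype).Normal := inferInstance
    rwa [Sylow.coe_subtype, map_subgroupOf_eq_of_le hTD] at h
  have h := hTn.comap π
  rw [hT, Sylow.coe_mapSurjective, comap_map_eq, hπ, QuotientGroup.ker_mk'] at h
  exact h

/-- A maximal subgroup over a uniqueness or normal Sylow subgroup for a prime of `σ(M)` is conjugate to `M`. -/
theorem exists_eq_conj {r : ℕ} [Fact r.Prime] (hM : IsCoatom M) (hMs : IsCoatom Mstar) (hrσ : r ∈ Cfsg.sigma M)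
    (R : Sylow r G) (hRs : (R : Subgroup G) ≤ Mstar)
    (h : Cfsg.InUniqueMaximal (R : Subgroup G) ∨ Mstar ≤ normalizer ((R : Subgroup G) : Set G)) :
    ∃ g : G, Mstar = M.map (MulAut.conj g).toMonoidHom := by
  obtain ⟨g, hg⟩ := SigmaTrans.exists_conj_le hrσ R.2
  set M' := M.map (MulAut.conj g).toMonoidHom
  have hRM' : (R : Subgroup G) ≤ M' := fun x hx => Transfer.mem_map_conj.mpr (hg x hx)
  have hM' : IsCoatom M' := SylowUnique.isCoatom_conj hM g
  rcases h with h | h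
  · exact ⟨g, h.unique ⟨hMs, hRs⟩ ⟨hM', hRM'⟩⟩
  · refine ⟨g, ?_⟩
    have hN : normalizer ((R : Subgroup G) : Set G) ≤ M' := by
      intro x hx
      have hR' : (g⁻¹ • R : Sylow r G).1 ≤ M := fun y hy => by
        have := hg _ (Transfer.mem_sylow_smul.mp hy)
        simpa [mul_assoc] using this
      refine Transfer.mem_map_conj.mpr (SylowUnique.normalizer_le hrσ (g⁻¹ • R) hR' ?_)
      refine Transfer.map_conj_eq_self_iff.mp ?_
      ext y
      rw [Transfer.mem_map_conj, Transfer.mem_sylow_smul, Transfer.mem_sylow_smul]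
      have h1 := (Subgroup.mem_normalizer_iff.mp (inv_mem hx) (g * y * g⁻¹))
      simp only [inv_inv, mul_inv_rev, mul_assoc, mul_inv_cancel_left, mul_inv_cancel, mul_one] at h1 ⊢
      exact ⟨fun h => h1.mpr h, fun h => h1.mp h⟩
    rcases (h.trans hN).lt_or_eq with h' | h'
    · exact absurd (hMs.2 _ h') hM'.1
    · exact h'

/-- A rank three prime of `M*` in `σ(M)` makes `M*` conjugate to `M`. -/
theorem exists_eq_conj_of_alpha {r : ℕ} [Fact r.Prime] (hG : Cfsg.IsMinSimpleOddOrder G) (hM : IsCoatom M)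
    (hMs : IsCoatom Mstar) (hrσ : r ∈ Cfsg.sigma M) (hr : r ∈ Cfsg.alpha Mstar) :
    ∃ g : G, Mstar = M.map (MulAut.conj g).toMonoidHom := by
  obtain ⟨R₀⟩ : Nonempty (Sylow r Mstar) := inferInstance
  obtain ⟨R, hR⟩ := SigmaTrans.sigma_sylow (SigmaTrans.alpha_subset_sigma hG hMs hr) R₀
  have hRs : (R : Subgroup G) ≤ Mstar := hR.le.trans (map_subtype_le _)
  obtain ⟨E, hE, hEe, hE3⟩ := Uniqueness.exists_elementary_of_not_rank
    (fun h => hr.2 (SigmaOrderP.prankLE_of_sylow R hRs h) : ¬ Cfsg.PRankLE r 2 (R : Subgroup G))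
  exact exists_eq_conj hM hMs hrσ R hRs (Or.inl (Uniqueness.inUniqueMaximal_mono
    (SCNUnique.inUniqueMaximal_elementary hG hEe hE3) (Uniqueness.ne_top_of_pGroup hG R.2) hE))

/-- `σ` is invariant under conjugation. -/
theorem sigma_of_conj {r : ℕ} [Fact r.Prime] {g : G} (h : r ∈ Cfsg.sigma (M.map (MulAut.conj g).toMonoidHom)) :
    r ∈ Cfsg.sigma M := by
  set M' := M.map (MulAut.conj g).toMonoidHom with hM'
  obtain ⟨R₀⟩ : Nonempty (Sylow r M') := inferInstance
  obtain ⟨R, hR⟩ := SigmaTrans.sigma_sylow h R₀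
  have hRM' : (R : Subgroup G) ≤ M' := hR.le.trans (map_subtype_le _)
  have hN := SylowUnique.normalizer_le h R hRM'
  have hR' : ((g⁻¹ • R : Sylow r G) : Subgroup G) ≤ M := fun y hy => by
    have h1 := Transfer.mem_map_conj.mp (hRM' (Transfer.mem_sylow_smul.mp hy))
    simpa [mul_assoc] using h1
  have hcard : Nat.card M' = Nat.card M := card_map_of_injective (MulAut.conj g).injective
  refine ⟨Fact.out, hcard ▸ h.2.1, (g⁻¹ • R).subtype hR', ?_⟩
  rw [Sylow.coe_subtype, map_subgroupOf_eq_of_le hR']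
  intro x hx
  have h1 : g * x * g⁻¹ ∈ normalizer ((R : Subgroup G) : Set G) := by
    refine Transfer.map_conj_eq_self_iff.mp ?_
    have h2 := Transfer.map_conj_eq_self_iff.mpr hx
    ext y
    have h3 := SetLike.ext_iff.mp h2 (g⁻¹ * y * g)
    rw [Transfer.mem_map_conj, Transfer.mem_sylow_smul, Transfer.mem_sylow_smul] at h3
    rw [Transfer.mem_map_conj]
    simpa [mul_assoc] using h3
  have h4 := Transfer.mem_map_conj.mp (hN h1)
  simpa [mul_assoc] using h4

/-- A normal `σ(M)'`-subgroup of `M*` with supplement in `M`. -/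
theorem exists_supplement (h5 : TauTwoStructure G) (hG : Cfsg.IsMinSimpleOddOrder G)
    (hM : IsCoatom M) (hq : q ∈ Cfsg.sigma M) (hXq : IsPGroup q X) (hX1 : X ≠ ⊥) (hXM : X ≤ M)
    (hMs : IsCoatom Mstar) (hne : Mstar ≠ M) (hNX : normalizer (X : Set G) ≤ Mstar) :
    ∃ K : Subgroup G, K ≤ Mstar ∧ Mstar ≤ normalizer (K : Set G) ∧ Mstar ≤ (M ⊓ Mstar) ⊔ K ∧
      ∀ r : ℕ, r.Prime → r ∣ Nat.card K → r ∈ Cfsg.sigma Mstar ∧ r ∉ Cfsg.sigma M := by
  have hnc := not_conj hG hM hq hXq hX1 hXM hne hNX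
  -- a Sylow subgroup of `G` in `M*` for a prime in `σ(M)` with only `M*` over it
  have key : ∀ (r : ℕ) (hr : Fact r.Prime) (R : Sylow r G), r ∈ Cfsg.sigma M → (R : Subgroup G) ≤ Mstar →
      (Cfsg.InUniqueMaximal (R : Subgroup G) ∨ Mstar ≤ normalizer ((R : Subgroup G) : Set G)) → False := by
    intro r hr R hrσ hRs h
    obtain ⟨g, hg⟩ := SigmaTrans.exists_conj_le hrσ R.2
    set M' := M.map (MulAut.conj g).toMonoidHom
    have hRM' : (R : Subgroup G) ≤ M' := fun x hx => Transfer.mem_map_conj.mpr (hg x hx)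
    have hM' : IsCoatom M' := SylowUnique.isCoatom_conj hM g
    rcases h with h | h
    · exact hnc g (h.unique ⟨hMs, hRs⟩ ⟨hM', hRM'⟩)
    · refine hnc g ?_
      have hN : normalizer ((R : Subgroup G) : Set G) ≤ M' := by
        intro x hx
        have hR' : (g⁻¹ • R : Sylow r G).1 ≤ M := fun y hy => by
          have := hg _ (Transfer.mem_sylow_smul.mp hy)
          simpa [mul_assoc] using this
        refine Transfer.mem_map_conj.mpr (SylowUnique.normalizer_le hrσ (g⁻¹ • R) hR' ?_)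
        refine Transfer.map_conj_eq_self_iff.mp ?_
        ext y
        rw [Transfer.mem_map_conj, Transfer.mem_sylow_smul, Transfer.mem_sylow_smul]
        have h1 := (Subgroup.mem_normalizer_iff.mp (inv_mem hx) (g * y * g⁻¹))
        simp only [inv_inv, mul_inv_rev, mul_assoc, mul_inv_cancel_left, mul_inv_cancel, mul_one] at h1 ⊢
        exact ⟨fun h => h1.mpr h, fun h => h1.mp h⟩
      rcases (h.trans hN).lt_or_eq with h' | h'
      · exact absurd (hMs.2 _ h') hM'.1
      · exact h'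
  have hsys : ∀ (r : ℕ), r.Prime → r ∈ Cfsg.sigma Mstar →
      ∃ (_ : Fact r.Prime) (R : Sylow r G), (R : Subgroup G) ≤ Mstar := by
    intro r hr hrσ
    have := Fact.mk hr
    obtain ⟨R₀⟩ : Nonempty (Sylow r Mstar) := inferInstance
    obtain ⟨R, hR⟩ := SigmaTrans.sigma_sylow hrσ R₀
    exact ⟨this, R, hR.le.trans (map_subtype_le _)⟩
  obtain ⟨S, hS, hXS, hSM, hSs, hmax⟩ := exists_max hXq hXM (le_normalizer.trans hNX)
  obtain ⟨hNS, hnd⟩ := sylow_inf hG hM hq hX1 hNX hS hXS hSM hSs hmax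
  set S₀ : Sylow q Mstar := (hS.comap_subtype (K := Mstar)).toSylow hnd with hS₀
  have hS₀e : (S₀ : Subgroup Mstar).map Mstar.subtype = S := map_subgroupOf_eq_of_le hSs
  -- the Frattini argument
  have fratt : ∀ (Z : Subgroup G) (O : Subgroup Mstar) [O.Normal], Z ≤ Mstar → IsPGroup q Z →
      (Nat.card O).Coprime q → (Z.subgroupOf Mstar ⊔ O).Normal → normalizer (Z : Set G) ≤ M →
      Mstar ≤ (M ⊓ Mstar) ⊔ O.map Mstar.subtype := by
    intro Z O _ hZs hZ hO hn hNZ m hm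
    have h := Uniqueness.normalizer_sup_eq_top (hZ.comap_subtype (K := Mstar)) hO hn
    have h1 : Mstar.subtype ⟨m, hm⟩ ∈
        (normalizer ((Z.subgroupOf Mstar : Subgroup Mstar) : Set Mstar) ⊔ O).map Mstar.subtype :=
      mem_map_of_mem _ (by rw [show Z.subgroupOf Mstar = Z.comap Mstar.subtype from rfl, h]; exact mem_top _)
    rw [Subgroup.map_sup] at h1
    refine SetLike.le_def.mp (sup_le_sup_right (le_inf ?_ (map_subtype_le _)) _) h1
    refine (le_normalizer_map Mstar.subtype).trans ?_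
    rw [map_subgroupOf_eq_of_le hZs]
    exact hNZ
  by_cases hqs : q ∈ Cfsg.sigma Mstar
  · have hqβ : q ∉ Cfsg.beta Mstar := by
      intro hqβ
      obtain ⟨R, hR⟩ := SigmaTrans.sigma_sylow hqs S₀
      rw [hS₀e] at hR
      have hr3 : ¬ Cfsg.PRankLE q 2 (R : Subgroup G) := fun h =>
        hqβ.1.2 (SigmaOrderP.prankLE_of_sylow R (hR ▸ hSs) h)
      obtain ⟨E, hE, hEe, hE3⟩ := Uniqueness.exists_elementary_of_not_rank hr3
      have hu := SCNUnique.inUniqueMaximal_elementary hG hEe hE3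
      exact hne (hu.unique ⟨hMs, hE.trans (hR ▸ hSs)⟩ ⟨hM, hE.trans (hR ▸ hSM)⟩)
    set B := Cfsg.piCore (Cfsg.beta Mstar) ↥Mstar
    have hBpi := Components.piCore_isPiSubgroup (G := ↥Mstar) (Cfsg.beta Mstar)
    refine ⟨B.map Mstar.subtype, map_subtype_le _, fun m hm => le_normalizer_map Mstar.subtype
      ⟨⟨m, hm⟩, Core.le_normalizer_of_normal ⊤ B (mem_top _), rfl⟩,
      fratt S B hSs hS ?_ (sup_betaCore_normal hG hMs hqs S₀) hNS, fun r hr hd => ⟨?_, fun hrσ => ?_⟩⟩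
    · exact Nat.Coprime.symm ((Fact.out : q.Prime).coprime_iff_not_dvd.mpr fun hd => hqβ (hBpi q Fact.out hd))
    · rw [card_map_of_injective Mstar.subtype_injective] at hd
      have := Fact.mk hr
      exact SigmaTrans.alpha_subset_sigma hG hMs (hBpi r hr hd).1
    · rw [card_map_of_injective Mstar.subtype_injective] at hd
      have hrβ := hBpi r hr hd
      have := Fact.mk hr
      obtain ⟨_, R, hR⟩ := hsys r hr (SigmaTrans.alpha_subset_sigma (p := r) hG hMs hrβ.1)
      obtain ⟨E, hE, hEe, hE3⟩ := Uniqueness.exists_elementary_of_not_rank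
        (fun h => hrβ.1.2 (SigmaOrderP.prankLE_of_sylow R hR h) : ¬ Cfsg.PRankLE r 2 (R : Subgroup G))
      exact key r ‹_› R hrσ hR (Or.inl (Uniqueness.inUniqueMaximal_mono
        (SCNUnique.inUniqueMaximal_elementary hG hEe hE3) (Uniqueness.ne_top_of_pGroup hG R.2) hE))
  · have hq2 : q ≠ 2 := Uniqueness.odd_prime hG (hq.2.1.trans M.card_subgroup_dvd_card)
    have hSnc : ¬ IsCyclic S := fun hc => hqs ⟨Fact.out, by
      obtain ⟨k, hk⟩ := IsPGroup.iff_card.mp hS
      have hk0 : k ≠ 0 := by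
        rintro rfl
        exact hX1 (le_bot_iff.mp ((eq_bot_of_card_eq S (hk.trans (pow_zero q))) ▸ hXS))
      exact ((dvd_pow_self q hk0).trans hk.symm.dvd).trans (card_dvd_of_le hSs), S₀, by
      rw [hS₀e]; exact (normalizer_le_of_cyclic hc hXS).trans hNX⟩
    obtain ⟨A, hAS, hA, hA2⟩ := exists_elementary_of_not_cyclic hq2 hS hSnc
    have hτ : q ∈ Cfsg.tau2 Mstar := by
      refine ⟨Fact.out, hqs, ?_, fun h1 => ?_⟩
      · by_contra h2
        exact hqs (SigmaTrans.alpha_subset_sigma hG hMs ⟨Fact.out, h2⟩)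
      · have h := h1 (A.subgroupOf Mstar) ⟨⟨fun a b => Subtype.ext (Subtype.ext
            (congrArg Subtype.val (hA.1.is_comm.comm ⟨_, a.2⟩ ⟨_, b.2⟩) :))⟩⟩
          fun b hb => Subtype.ext (hA.2 _ hb)
        rw [Nat.card_congr (subgroupOfEquivOfLe (hAS.trans hSs)).toEquiv, hA2, pow_one] at h
        exact absurd h (not_le.mpr (lt_self_pow₀ (Fact.out : q.Prime).one_lt (by norm_num)))
    obtain ⟨hnil, hnorm⟩ := h5 Mstar hMs q hτ A ⟨hAS.trans hSs, hA, hA2⟩
    have hA1 : A ≠ ⊥ := fun e => by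
      rw [e, card_bot] at hA2
      exact absurd hA2 (Nat.one_lt_pow (by norm_num) (Fact.out : q.Prime).one_lt).ne
    set O := Cfsg.piCore (Cfsg.sigma Mstar) ↥Mstar
    have hOpi := Components.piCore_isPiSubgroup (G := ↥Mstar) (Cfsg.sigma Mstar)
    have hAn : normalizer (A : Set G) ≤ M := by
      rw [(SigmaTrans.factor_conj hG hM hq (hS.to_le hAS) hA1 (hAS.trans hSM)).2]
      exact sup_le inf_le_left (TauTwo.centralizer_le hG hM ⟨hA, hA2⟩ (hAS.trans hSM))
    refine ⟨Cfsg.sigmaCore Mstar, map_subtype_le _, le_normalizer_sigmaCore Mstar,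
      fratt A O (hAS.trans hSs) (hS.to_le hAS) ?_ ?_ hAn, fun r hr hd => ⟨?_, fun hrσ => ?_⟩⟩
    · exact Nat.Coprime.symm ((Fact.out : q.Prime).coprime_iff_not_dvd.mpr fun hd => hqs (hOpi q Fact.out hd))
    · have h1 : (A.subgroupOf Mstar ⊔ O).map Mstar.subtype = Cfsg.sigmaCore Mstar ⊔ A := by
        rw [Subgroup.map_sup, map_subgroupOf_eq_of_le (hAS.trans hSs), sup_comm]
        rfl
      rw [← h1] at hnorm
      have h2 := normal_subgroupOf_iff_le_normalizer (map_subtype_le (A.subgroupOf Mstar ⊔ O)) |>.mpr hnorm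
      rwa [subgroupOf, comap_map_eq_self_of_injective Mstar.subtype_injective] at h2
    · rw [Cfsg.sigmaCore, card_map_of_injective Mstar.subtype_injective] at hd
      exact hOpi r hr hd
    · have hd' := hd
      rw [Cfsg.sigmaCore, card_map_of_injective Mstar.subtype_injective] at hd'
      obtain ⟨_, R, hR⟩ := hsys r hr (hOpi r hr hd')
      exact key r ‹_› R hrσ hR (Or.inr (SylowUnique.le_normalizer_of_nilpotent hG hMs (hOpi r hr hd') hnil R hR))

omit [Fact q.Prime] in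
/-- `σ(M)`-subgroups of `M` lie in `M_σ`. -/
theorem le_sigmaCore_of_pi (hG : Cfsg.IsMinSimpleOddOrder G) (hM : IsCoatom M) {Y : Subgroup G} (hYM : Y ≤ M)
    (hY : ∀ p : ℕ, p.Prime → p ∣ Nat.card Y → p ∈ Cfsg.sigma M) : Y ≤ Cfsg.sigmaCore M := by
  obtain ⟨⟨-, -, hidx⟩, -, -⟩ := SigmaCore.sigmaCore_hall hG hM
  intro y hy
  refine ⟨⟨y, hYM hy⟩, (QuotientGroup.eq_one_iff _).mp (orderOf_eq_one_iff.mp ?_), rfl⟩
  by_contra hne
  obtain ⟨r, hr, hd⟩ := Nat.exists_prime_and_dvd hne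
  have h1 : r ∣ orderOf (⟨y, hYM hy⟩ : M) := hd.trans (orderOf_map_dvd (QuotientGroup.mk' _) _)
  refine hidx r hr (hY r hr (h1.trans (by rw [Subgroup.orderOf_mk]; exact Y.orderOf_dvd_natCard hy))) ?_
  rw [relIndex, Cfsg.sigmaCore, subgroupOf, comap_map_eq_self_of_injective M.subtype_injective, index_eq_card]
  exact hd.trans (orderOf_dvd_natCard _)

/-- S1425. -/
theorem conj_into (h5 : TauTwoStructure G) (hG : Cfsg.IsMinSimpleOddOrder G)
    (hM : IsCoatom M) {Y : Subgroup G} (hY1 : Y ≠ ⊥)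
    (hY : ∀ p : ℕ, p.Prime → p ∣ Nat.card Y → p ∈ Cfsg.sigma M) :
    ∃ g : G, Y.map (MulAut.conj g).toMonoidHom ≤ Cfsg.sigmaCore M := by
  obtain ⟨r₀, hr₀, hd₀⟩ := Nat.exists_prime_and_dvd (fun e => hY1 (card_eq_one.mp e))
  have := Fact.mk hr₀
  have hYt : Y ≠ ⊤ := by
    intro e
    obtain ⟨-, ⟨-, hidx⟩, -⟩ := SigmaCore.sigmaCore_hall hG hM
    have h1 : (Cfsg.sigmaCore M).index = 1 := by
      by_contra hne
      obtain ⟨r, hr, hd⟩ := Nat.exists_prime_and_dvd hne
      exact hidx r hr (hY r hr (by rw [e, card_top]; exact hd.trans (index_dvd_card _))) hd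
    exact hM.1 (top_le_iff.mp ((index_eq_one.mp h1).ge.trans (sigmaCore_le M)))
  have : Group.IsSolvable Y := hG.2.2.2 Y hYt
  have : Nontrivial Y := Y.nontrivial_iff_ne_bot.mpr hY1
  obtain ⟨q, hq, hqY⟩ := Core.exists_pCore_ne_bot (G := Y)
  have := Fact.mk hq
  set X₀ := (Cfsg.pCore q Y).map Y.subtype
  have hX₀q : IsPGroup q X₀ := (Core.isPGroup_pCore q Y).map _
  have hX₀1 : X₀ ≠ ⊥ := fun e => hqY ((map_eq_bot_iff_of_injective _ Y.subtype_injective).mp e)
  have hqσ : q ∈ Cfsg.sigma M := hY q hq (by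
    obtain ⟨k, hk⟩ := IsPGroup.iff_card.mp hX₀q
    have hk0 : k ≠ 0 := by
      rintro rfl
      exact hX₀1 (eq_bot_of_card_eq _ (hk.trans (pow_zero q)))
    exact ((dvd_pow_self q hk0).trans hk.symm.dvd).trans (card_dvd_of_le (map_subtype_le _)))
  obtain ⟨h, hh⟩ := SigmaTrans.exists_conj_le hqσ hX₀q
  set f := (MulAut.conj h⁻¹).toMonoidHom with hf
  have hfinj : Function.Injective f := (MulAut.conj h⁻¹).injective
  set X := X₀.map f
  set Y' := Y.map f
  have hXM : X ≤ M := by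
    rintro _ ⟨x, hx, rfl⟩
    simpa [hf] using hh x hx
  have hYX : Y' ≤ normalizer (X : Set G) := by
    refine le_trans (map_mono ?_) (le_normalizer_map f)
    intro y hy
    exact le_normalizer_map Y.subtype
      ⟨⟨y, hy⟩, Core.le_normalizer_of_normal ⊤ (Cfsg.pCore q Y) (mem_top _), rfl⟩
  have hY' : ∀ p : ℕ, p.Prime → p ∣ Nat.card Y' → p ∈ Cfsg.sigma M := fun p hp hd =>
    hY p hp (by rwa [card_map_of_injective hfinj] at hd)
  suffices hmain : ∃ g : G, Y'.map (MulAut.conj g).toMonoidHom ≤ M by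
    obtain ⟨g, hg⟩ := hmain
    refine ⟨g * h⁻¹, ?_⟩
    rw [map_map, ← show (MulAut.conj (g * h⁻¹)).toMonoidHom = (MulAut.conj g).toMonoidHom.comp f from
      MonoidHom.ext fun y => by simp [hf, mul_assoc], ] at hg
    exact le_sigmaCore_of_pi hG hM hg fun p hp hd =>
      hY p hp (by rwa [card_map_of_injective (MulAut.conj (g * h⁻¹)).injective] at hd)
  have hX1 : X ≠ ⊥ := fun e => hX₀1 ((map_eq_bot_iff_of_injective _ hfinj).mp e)
  obtain ⟨Ms, hMs, hle⟩ := (eq_top_or_exists_le_coatom (normalizer (X : Set G))).resolve_left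
    (TransitivityHyp.normalizer_ne_top hG hX1 (Uniqueness.ne_top_of_pGroup hG (hX₀q.map f)))
  have hYs : Y' ≤ Ms := hYX.trans hle
  by_cases hne : Ms = M
  · exact ⟨1, by rintro _ ⟨y, hy, rfl⟩; simpa [← hne] using hYs hy⟩
  obtain ⟨K, hKs, hKn, hsup, hKpi⟩ := exists_supplement h5 hG hM hqσ (hX₀q.map f) hX1 hXM hMs hne hle
  have : Group.IsSolvable Ms := hG.2.2.2 Ms hMs.1
  set H₀ := (M ⊓ Ms).subgroupOf Ms
  obtain ⟨U, hU1, hU2⟩ := Core.exists_piHall (G := H₀) (Cfsg.sigma M)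
  set K' := K.subgroupOf Ms
  have : K'.Normal := normal_subgroupOf_iff_le_normalizer hKs |>.mpr hKn
  have hH₀K : H₀ ⊔ K' = ⊤ := by
    rw [eq_top_iff]
    intro x _
    have h1 := hsup x.2
    rw [← map_subgroupOf_eq_of_le (inf_le_right : M ⊓ Ms ≤ Ms), ← map_subgroupOf_eq_of_le hKs, ← Subgroup.map_sup] at h1
    obtain ⟨w, hw, e⟩ := h1
    rwa [← Ms.subtype_injective e]
  have hUhall : Cfsg.IsPiHall (Cfsg.sigma M) (U.map H₀.subtype) := by
    refine ⟨fun p hp hd => hU1 p hp (by rwa [card_map_of_injective H₀.subtype_injective] at hd), fun p hp hπ hd => ?_⟩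
    rw [index_map_subtype] at hd
    rcases hp.dvd_mul.mp hd with hd | hd
    · exact hU2 p hp hπ hd
    · refine (hKpi p hp ?_).2 hπ
      have h1 : H₀.index ∣ Nat.card K' := by
        refine Nat.dvd_of_mul_dvd_mul_left (Nat.card_pos (α := H₀)) ?_
        rw [card_mul_index, ← card_top (G := Ms), ← hH₀K]
        exact Core.card_sup_dvd H₀ K' (Core.le_normalizer_of_normal H₀ K')
      exact (hd.trans h1).trans (Nat.card_congr (subgroupOfEquivOfLe hKs).toEquiv).dvd
  obtain ⟨g, hg⟩ := Core.exists_conj_le_piHall hUhall (K := Y'.subgroupOf Ms) fun p hp hd =>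
    hY' p hp (by rwa [Nat.card_congr (subgroupOfEquivOfLe hYs).toEquiv] at hd)
  refine ⟨(g : G), ?_⟩
  rintro _ ⟨y, hy, rfl⟩
  have h1 := hg (show MulAut.conj g • (⟨y, hYs hy⟩ : Ms) ∈ MulAut.conj g • (Y'.subgroupOf Ms) from
    smul_mem_pointwise_smul _ _ _ hy)
  obtain ⟨u, hu, e⟩ := h1
  have h2 := u.2
  have e' : ((u : H₀) : Ms) = MulAut.conj g • (⟨y, hYs hy⟩ : Ms) := e
  have h3 : (((MulAut.conj g • (⟨y, hYs hy⟩ : Ms)) : Ms) : G) ∈ M := e' ▸ (mem_inf.mp h2).1
  exact h3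

end CfsgLib.OddLocal.SigmaEmbedding
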