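import Cfsg.Agent.Lib.OddLocal.KappaStarFitting

/-!
# A normal `p`-subgroup of `M*` over `K` when `|K| = p`
-/

namespace CfsgLib.OddLocal.Kappa

open Subgroup
open CfsgLib.TwoGroups
open PrimeActionTools FixedTauOne
open SigmaOrderP (sigmaCore_le le_normalizer_sigmaCore)
open scoped commutatorElement

variable {G : Type*} [Group G] [Finite G] {M H E K V : Subgroup G} {p : ℕ} [Fact p.Prime]

/-- `M*` has a normal `p`-subgroup containing `K`. -/
theorem Pair.exists_normal_pgroup (P : Pair M K H) (hG : Cfsg.IsMinSimpleOddOrder G) (hK : Nat.card K = p) :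
    ∃ Q : Subgroup G, IsPGroup p Q ∧ K ≤ Q ∧ Q ≤ H ∧ H ≤ normalizer (Q : Set G) := by
  obtain ⟨F, dH⟩ := P.data
  by_cases hn : Group.IsNilpotent (Cfsg.sigmaCore H)
  · set O := Cfsg.sigmaCore H
    obtain ⟨S₀, hS₀⟩ := ((isPGroup_of_card_eq hK).comap_subtype (K := O)).exists_le_sylow
    have hSn : (S₀ : Subgroup O).Normal :=
      ((Group.isNilpotent_of_finite_tfae (G := O)).out 0 3 rfl rfl).mp hn p inferInstance S₀
    have := Sylow.characteristic_of_normal S₀ hSn
    exact ⟨(S₀ : Subgroup O).map O.subtype, S₀.2.map _,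
      fun x hx => ⟨⟨x, P.K_le_core hx⟩, hS₀ hx, rfl⟩, (map_subtype_le _).trans (sigmaCore_le H),
      (le_normalizer_sigmaCore H).trans (PLengthEndgame.normalizer_le_char O (S₀ : Subgroup O))⟩
  · obtain ⟨U₀, -, hU₀, hn₀, -⟩ := exists_decomp hG dH.max dH.hall
    obtain ⟨-, -, Q, D, q⟩ := Chapter15.exists_pair_of_ne hG dH.max (starPrime hG)
      ⟨P.cyclic_star, dH.hall, hU₀, hn₀⟩ hn
    have hst : NonNilpotent.star H (Kstar M K) = K := P.star_star
    refine ⟨Q, ?_, hst.ge.trans q.star_le, q.leM, q.normal⟩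
    have h := q.isp
    rwa [hst, hK] at h

/-- A `p'`-subgroup of `M*` normalized by `K` commutes with `K`. -/
theorem Pair.centralizes (P : Pair M K H) (hG : Cfsg.IsMinSimpleOddOrder G) (hK : Nat.card K = p)
    (hVH : V ≤ H) (hn : K ≤ normalizer (V : Set G)) (hV : ¬ p ∣ Nat.card V) :
    V ≤ centralizer (K : Set G) := by
  obtain ⟨Q, hQ, hKQ, -, hHQ⟩ := P.exists_normal_pgroup hG hK
  refine commutator_eq_bot_iff_le_centralizer.mp (le_bot_iff.mp ((le_inf ?_ ?_ : ⁅V, K⁆ ≤ V ⊓ Q).trans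
    (inf_eq_bot_of_coprime (H := V) (K := Q) ?_).le))
  · exact le_normalizer_iff_commutator_le_left.mp hn
  · exact (commutator_mono le_rfl hKQ).trans (le_normalizer_iff_commutator_le_right.mp (hVH.trans hHQ))
  · obtain ⟨j, hj⟩ := IsPGroup.iff_card.mp hQ
    rw [hj]
    exact (((Fact.out : p.Prime).coprime_iff_not_dvd.mpr hV).pow_left j).symm

end CfsgLib.OddLocal.Kappa
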