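import Cfsg.Agent.Lib.TwoGroups.SylowFusion
import Cfsg.Agent.Lib.TwoGroups.NonSigma
import Cfsg.Agent.Lib.TwoGroups.ColourLines
import Cfsg.Agent.Lib.OddLocal.SigmaCore
import Cfsg.Agent.Lib.OddLocal.PLengthOne
import Cfsg.Agent.Lib.OddLocal.PLengthEndgame
import Cfsg.Agent.Lib.LocalEven.Generation
import Cfsg.Agent.S1410
import Mathlib.GroupTheory.Nilpotent

/-!
A non-abelian Sylow subgroup of a minimal simple group of odd order lies in only one maximal
subgroup, given the centralizer theorem for elementary abelian groups of order `p ^ 2`.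
-/

set_option autoImplicit false

namespace CfsgLib.OddLocal.SylowUnique

open Subgroup
open CfsgLib.TwoGroups
open scoped commutatorElement

variable {G : Type*} [Group G]

theorem centralizer_singleton_eq (x : G) :
    centralizer ({x} : Set G) = centralizer ((zpowers x : Subgroup G) : Set G) := by
  rw [zpowers_eq_closure, centralizer_closure]

/-- `M` is the only maximal subgroup over `H`. -/
def Only (M H : Subgroup G) : Prop := H ≤ M ∧ ∀ L : Subgroup G, IsCoatom L → H ≤ L → L = M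

/-- The centralizer theorem for elementary abelian subgroups of order `p ^ 2`. -/
def RankTwoCentralizer (G : Type*) [Group G] : Prop :=
  ∀ (M : Subgroup G), IsCoatom M → ∀ (p : ℕ) [Fact p.Prime] (A : Subgroup G),
    (A ≤ M ∧ Cfsg.IsElementaryAbelian p A ∧ Nat.card A = p ^ 2) →
    Subgroup.centralizer (A : Set G) ≤ M ∧
      ((∀ A₀ : Subgroup G, A₀ ≤ A → Nat.card A₀ = p →
          ¬ (Subgroup.normalizer (A₀ : Set G) ≤ M ∧
              ∀ L : Subgroup G, IsCoatom L → Subgroup.normalizer (A₀ : Set G) ≤ L → L = M)) →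
        p ∈ Cfsg.sigma M ∧ Cfsg.alphaCore M = ⊥ ∧ Group.IsNilpotent (Cfsg.sigmaCore M))

theorem map_conj_eq_of_mem {L : Subgroup G} {x : G} (hx : x ∈ L) :
    L.map (MulAut.conj x).toMonoidHom = L := by
  ext y
  rw [Transfer.mem_map_conj]
  exact ⟨fun h => by simpa [mul_assoc] using mul_mem (mul_mem hx h) (inv_mem hx),
    fun h => mul_mem (mul_mem (inv_mem hx) h) hx⟩

theorem isCoatom_conj {L : Subgroup G} (hL : IsCoatom L) (x : G) :
    IsCoatom (L.map (MulAut.conj x).toMonoidHom) :=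
  ((MulAut.conj x).mapSubgroup.isCoatom_iff L).mpr hL

/-- Uniqueness over a normalizer is invariant under conjugation. -/
theorem only_conj {L X : Subgroup G} (x : G) (h : Only L (normalizer (X : Set G))) :
    Only (L.map (MulAut.conj x).toMonoidHom)
      (normalizer ((X.map (MulAut.conj x).toMonoidHom : Subgroup G) : Set G)) := by
  have hn : normalizer ((X.map (MulAut.conj x).toMonoidHom : Subgroup G) : Set G) ≤
      (normalizer (X : Set G)).map (MulAut.conj x).toMonoidHom := by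
    intro g hg
    have h1 := le_normalizer_map (MulAut.conj x⁻¹).toMonoidHom ⟨g, hg, rfl⟩
    rw [map_map, show ((MulAut.conj x⁻¹).toMonoidHom.comp (MulAut.conj x).toMonoidHom) = MonoidHom.id G from
      MonoidHom.ext fun y => by simp [mul_assoc], map_id] at h1
    exact Transfer.mem_map_conj.mpr (by simpa [mul_assoc] using h1)
  refine ⟨hn.trans (map_mono h.1), fun L' hL' hle => ?_⟩
  have hn' : (normalizer (X : Set G)).map (MulAut.conj x).toMonoidHom ≤
      normalizer ((X.map (MulAut.conj x).toMonoidHom : Subgroup G) : Set G) :=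
    le_normalizer_map _
  have h2 := h.2 (L'.map (MulAut.conj x⁻¹).toMonoidHom) (isCoatom_conj hL' x⁻¹) fun g hg => by
    exact Transfer.mem_map_conj.mpr (by simpa [mul_assoc] using hle (hn' ⟨g, hg, rfl⟩))
  rw [← h2, map_map, show ((MulAut.conj x).toMonoidHom.comp (MulAut.conj x⁻¹).toMonoidHom) = MonoidHom.id G from
      MonoidHom.ext fun y => by simp [mul_assoc], map_id]

variable [Finite G] {p : ℕ} [Fact p.Prime]

/-- A Sylow subgroup in a maximal subgroup whose `σ` contains its prime has its normalizer there. -/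
theorem normalizer_le {L : Subgroup G} (hp : p ∈ Cfsg.sigma L) (P : Sylow p G) (hPL : (P : Subgroup G) ≤ L) :
    normalizer ((P : Subgroup G) : Set G) ≤ L := by
  have h := SigmaTrans.exists_sylow_of_sigma hp (P.subtype hPL)
  rwa [Sylow.coe_subtype, map_subgroupOf_eq_of_le hPL] at h

/-- With nilpotent `M_σ` the Sylow subgroup is normal. -/
theorem le_normalizer_of_nilpotent (hG : Cfsg.IsMinSimpleOddOrder G) {L : Subgroup G} (hL : IsCoatom L)
    (hp : p ∈ Cfsg.sigma L) (hn : Group.IsNilpotent (Cfsg.sigmaCore L)) (P : Sylow p G)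
    (hPL : (P : Subgroup G) ≤ L) : L ≤ normalizer ((P : Subgroup G) : Set G) := by
  set D := Cfsg.sigmaCore L
  have hPD : (P : Subgroup G) ≤ D := fun x hx =>
    ⟨⟨x, hPL hx⟩, SigmaCore.sylow_le hG hL hp (P.subtype hPL) (by rw [Sylow.coe_subtype]; exact hx), rfl⟩
  set S := P.subtype hPD
  have h03 : Group.IsNilpotent D ↔ ∀ (q : ℕ) (_ : Fact q.Prime) (R : Sylow q D), (R : Subgroup D).Normal :=
    (Group.isNilpotent_of_finite_tfae (G := D)).out 0 3
  have hSn : (S : Subgroup D).Normal := h03.mp hn p inferInstance S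
  have hSc : (S : Subgroup D).Characteristic := Sylow.characteristic_of_normal S hSn
  have h := PLengthEndgame.normalizer_le_char D (S : Subgroup D)
  rw [Sylow.coe_subtype, map_subgroupOf_eq_of_le hPD] at h
  refine le_trans ?_ h
  intro m hm
  exact le_normalizer_map L.subtype
    ⟨⟨m, hm⟩, Core.le_normalizer_of_normal ⊤ (Cfsg.piCore (Cfsg.sigma L) ↥L) (mem_top _), rfl⟩

/-- The data of a non-abelian Sylow subgroup of rank two. -/
structure Data (P : Sylow p G) (P₁ Z : Subgroup G) : Prop where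
  le : P₁ ≤ (P : Subgroup G)
  mem : ∀ x ∈ (P : Subgroup G), x ^ p = 1 → x ∈ P₁
  pow : ∀ x ∈ P₁, x ^ p = 1
  card : Nat.card P₁ = p ^ 3
  zle : Z ≤ P₁
  zcard : Nat.card Z = p
  zcent : (P : Subgroup G) ≤ centralizer (Z : Set G)
  comm : ∀ x ∈ P₁, ∀ y ∈ P₁, x * y * x⁻¹ * y⁻¹ ∈ Z
  derived : ⁅(P : Subgroup G), (P : Subgroup G)⁆ ≤ Z
  mem_z : ∀ x ∈ P₁, (∀ y ∈ P₁, y * x = x * y) → x ∈ Z

theorem exists_data (hG : Cfsg.IsMinSimpleOddOrder G) (P : Sylow p G)
    (hr : Cfsg.PRankLE p 2 (P : Subgroup G)) (hna : ¬ IsMulCommutative (P : Subgroup G)) :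
    ∃ P₁ Z : Subgroup G, Data P P₁ Z := by
  obtain ⟨P₁, P₂, hsup, hc, h1na, hcard, hexp, hcyc, hom⟩ :=
    (SylowFusion.rank_two_structure hG (Cfsg.Agent.S1410.result hG p) P hr).resolve_left hna
  set Z := P₁ ⊓ centralizer (P₁ : Set G) with hZ
  have hE := PGroups.isExtraspecial_of_card_cube h1na hcard
  have hcomm := PGroups.IsExtraspecial.commutator_eq hE
  have hZmap : (center ↥P₁).map P₁.subtype = Z := by
    ext x
    constructor
    · rintro ⟨z, hz, rfl⟩
      exact ⟨z.2, mem_centralizer_iff.mpr fun y hy => congrArg Subtype.val (mem_center_iff.mp hz ⟨y, hy⟩)⟩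
    · rintro ⟨hx, hxc⟩
      exact ⟨⟨x, hx⟩, mem_center_iff.mpr fun y => Subtype.ext (mem_centralizer_iff.mp hxc y y.2), rfl⟩
  have hle1 : P₁ ≤ (P : Subgroup G) := hsup ▸ le_sup_left
  have hle2 : P₂ ≤ (P : Subgroup G) := hsup ▸ le_sup_right
  have hn12 : P₁ ≤ normalizer (P₂ : Set G) := fun a ha => by
    refine centralizer_le_normalizer _ (mem_centralizer_iff.mpr fun b hb => (hc a ha b hb).symm)
  have hsplit : ∀ x ∈ (P : Subgroup G), ∃ a ∈ P₁, ∃ b ∈ P₂, x = a * b := fun x hx => by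
    obtain ⟨b, hb, a, ha, e⟩ := (Core.mem_sup_iff_mul' hn12).mp (hsup.ge hx)
    exact ⟨a, ha, b, hb, by rw [hc a ha b hb]; exact e.symm ▸ rfl⟩
  have hpow : ∀ x ∈ P₁, x ^ p = 1 := fun x hx => by
    have := Monoid.pow_exponent_eq_one (⟨x, hx⟩ : P₁)
    rw [hexp] at this
    exact congrArg Subtype.val this
  have hcm : ∀ x ∈ P₁, ∀ y ∈ P₁, x * y * x⁻¹ * y⁻¹ ∈ Z := fun x hx y hy => by
    rw [← hZmap]
    refine ⟨⁅(⟨x, hx⟩ : P₁), ⟨y, hy⟩⁆, hcomm ▸ commutator_mem_commutator (mem_top _) (mem_top _), ?_⟩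
    simp [commutatorElement_def]
  have hzcent : (P : Subgroup G) ≤ centralizer (Z : Set G) := by
    intro x hx
    obtain ⟨a, ha, b, hb, rfl⟩ := hsplit x hx
    refine mul_mem ?_ ?_
    · exact mem_centralizer_iff.mpr fun z hz => (mem_centralizer_iff.mp hz.2 a ha).symm
    · exact mem_centralizer_iff.mpr fun z hz => hc z hz.1 b hb
  refine ⟨P₁, Z, hle1, ?_, hpow, hcard, inf_le_left, ?_, hzcent, hcm, ?_, ?_⟩
  · intro x hx hxp
    obtain ⟨a, ha, b, hb, rfl⟩ := hsplit x hx
    have hb1 : b ^ p = 1 := by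
      have h := (show Commute a b from hc a ha b hb).mul_pow p
      rw [hxp, hpow a ha, one_mul] at h
      exact h.symm
    exact mul_mem ha ((inf_le_left : Z ≤ P₁) (hom.le (subset_closure ⟨hb, hb1⟩)))
  · rw [← hZmap, card_map_of_injective P₁.subtype_injective]
    exact PGroups.IsExtraspecial.card_center hE
  · refine commutator_le.mpr fun x hx y hy => ?_
    obtain ⟨a, ha, b, hb, rfl⟩ := hsplit x hx
    obtain ⟨c, hcc, d, hd, rfl⟩ := hsplit y hy
    have hbd : Commute b d := congrArg Subtype.val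
      ((IsCyclic.isMulCommutative (α := P₂)).is_comm.comm ⟨b, hb⟩ ⟨d, hd⟩)
    rw [commutatorElement_def]
    convert hcm a ha c hcc using 1
    have e1 : Commute b c := (hc c hcc b hb).symm
    have e2 : Commute d a := (hc a ha d hd).symm
    calc a * b * (c * d) * (a * b)⁻¹ * (c * d)⁻¹ = a * (b * c) * d * b⁻¹ * a⁻¹ * d⁻¹ * c⁻¹ := by group
      _ = a * (c * b) * d * b⁻¹ * a⁻¹ * d⁻¹ * c⁻¹ := by rw [e1.eq]
      _ = a * c * (b * d) * b⁻¹ * a⁻¹ * d⁻¹ * c⁻¹ := by group
      _ = a * c * (d * b) * b⁻¹ * a⁻¹ * d⁻¹ * c⁻¹ := by rw [hbd.eq]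
      _ = a * c * (d * a⁻¹) * d⁻¹ * c⁻¹ := by group
      _ = a * c * (a⁻¹ * d) * d⁻¹ * c⁻¹ := by rw [(e2.inv_right).eq]
      _ = a * c * a⁻¹ * c⁻¹ := by group
  · exact fun x hx h => ⟨hx, mem_centralizer_iff.mpr h⟩

variable {P : Sylow p G} {P₁ Z : Subgroup G}

theorem Data.normalizer_le_Z (D : Data P P₁ Z) :
    normalizer ((P : Subgroup G) : Set G) ≤ normalizer (Z : Set G) := by
  have key : ∀ g ∈ normalizer ((P : Subgroup G) : Set G), ∀ z ∈ Z, g * z * g⁻¹ ∈ Z := by
    intro g hg z hz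
    have hgP : ∀ x ∈ (P : Subgroup G), g * x * g⁻¹ ∈ (P : Subgroup G) := fun x hx => ((mem_normalizer_iff).mp hg x).mp hx
    have hzP := D.le (D.zle hz)
    have h1 : g * z * g⁻¹ ∈ P₁ := D.mem _ (hgP z hzP) (by rw [conj_pow, D.pow z (D.zle hz)]; group)
    refine D.mem_z _ h1 fun y hy => ?_
    have hyP : g⁻¹ * y * g ∈ (P : Subgroup G) := by
      have := (mem_normalizer_iff).mp (inv_mem hg) y
      simpa using this.mp (D.le hy)
    have hz' := mem_centralizer_iff.mp (D.zcent hyP) z hz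
    calc y * (g * z * g⁻¹) = g * ((g⁻¹ * y * g) * z) * g⁻¹ := by group
      _ = g * (z * (g⁻¹ * y * g)) * g⁻¹ := by rw [← hz']
      _ = g * z * g⁻¹ * y := by group
  intro g hg
  refine mem_normalizer_iff.mpr fun z => ⟨key g hg z, fun h => ?_⟩
  have := key g⁻¹ (inv_mem hg) _ h
  simpa [mul_assoc] using this

/-- The group `⟨a, Z⟩`. -/
theorem Data.elementary (D : Data P P₁ Z) {a : G} (ha : a ∈ P₁) (haZ : a ∉ Z) :
    Cfsg.IsElementaryAbelian p (Z ⊔ zpowers a) ∧ Nat.card ↥(Z ⊔ zpowers a) = p ^ 2 := by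
  have hp := (Fact.out : p.Prime)
  have hZe : Cfsg.IsElementaryAbelian p Z := by
    refine ⟨?_, fun z hz => D.pow z (D.zle hz)⟩
    have : IsCyclic Z := isCyclic_of_prime_card D.zcard
    exact IsCyclic.isMulCommutative
  have hA : Cfsg.IsElementaryAbelian p (Z ⊔ zpowers a) :=
    TwoColours.elementary_sup_zpowers hZe (D.zcent (D.le ha)) (D.pow a ha)
  refine ⟨hA, ?_⟩
  obtain ⟨k, hk⟩ := IsPGroup.iff_card.mp (Signalizer.elementary_isPGroup hA)
  have hdvd : Nat.card ↥(Z ⊔ zpowers a) ∣ p ^ 2 := by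
    have h1 := Core.card_sup_dvd (zpowers a) Z
      (zpowers_le.mpr (centralizer_le_normalizer _ (D.zcent (D.le ha))))
    rw [sup_comm] at h1
    refine h1.trans ?_
    rw [D.zcard, Nat.card_zpowers, sq]
    exact mul_dvd_mul (orderOf_dvd_of_pow_eq_one (D.pow a ha)) dvd_rfl
  have hlt : p < Nat.card ↥(Z ⊔ zpowers a) := by
    conv_lhs => rw [← D.zcard]
    exact Transfer.card_lt_of_lt (lt_of_le_of_ne le_sup_left fun e =>
      haZ (e.ge (mem_sup_right (mem_zpowers a))))
  obtain ⟨j, hj, hjk⟩ := (Nat.dvd_prime_pow hp).mp hdvd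
  rw [hjk] at hlt ⊢
  have : 1 < j := (Nat.pow_lt_pow_iff_right hp.one_lt).mp (by rwa [pow_one])
  rw [show j = 2 by omega]

/-- Subgroups of order `p` of `⟨a, Z⟩` other than `Z` are conjugate to `⟨a⟩`. -/
theorem Data.exists_conj (D : Data P P₁ Z) {a : G} (ha : a ∈ P₁) (haZ : a ∉ Z) {X : Subgroup G}
    (hX : X ≤ Z ⊔ zpowers a) (hXc : Nat.card X = p) (hXZ : X ≠ Z) :
    ∃ x ∈ P₁, X = (zpowers a).map (MulAut.conj x).toMonoidHom := by
  have hp := (Fact.out : p.Prime)
  obtain ⟨b, hbX, hb1⟩ : ∃ b ∈ X, b ∉ Z := by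
    by_contra h
    push Not at h
    exact hXZ (eq_of_le_of_card_ge h (by rw [hXc, D.zcard]))
  have hXb : zpowers b = X := by
    refine eq_of_le_of_card_ge (zpowers_le.mpr hbX) ?_
    rw [hXc, Nat.card_zpowers, orderOf_eq_prime (D.pow b ((sup_le D.zle (zpowers_le.mpr ha)) (hX hbX)))
      fun e => hb1 (e ▸ one_mem _)]
  obtain ⟨z, hz, a', ⟨j, rfl⟩, e⟩ := (Core.mem_sup_iff_mul'
    (((zpowers_le.mpr ha).trans (D.le.trans D.zcent)).trans (centralizer_le_normalizer _))).mp
    ((sup_comm Z (zpowers a)).le (hX hbX))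
  simp only at e
  -- `b = z * a ^ j`
  have hj : a ^ j ∉ Z := fun h => hb1 (e ▸ mul_mem hz h)
  have hajP : a ^ j ∈ P₁ := zpow_mem ha j
  have hza : zpowers (a ^ j) = zpowers a := by
    refine eq_of_le_of_card_ge (zpowers_le.mpr ⟨j, rfl⟩) ?_
    rw [Nat.card_zpowers, Nat.card_zpowers, orderOf_eq_prime (D.pow a ha) fun e => haZ (e ▸ one_mem _),
      orderOf_eq_prime (D.pow _ hajP) fun e => hj (e ▸ one_mem _)]
  obtain ⟨x₀, hx₀, hne⟩ : ∃ x₀ ∈ P₁, ¬ x₀ * a ^ j = a ^ j * x₀ := by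
    by_contra h
    push Not at h
    exact hj (D.mem_z _ hajP h)
  set w := x₀ * a ^ j * x₀⁻¹ * (a ^ j)⁻¹ with hw
  have hwZ : w ∈ Z := D.comm _ hx₀ _ hajP
  have hw1 : w ≠ 1 := fun h => hne (by
    rw [hw, mul_inv_eq_one, mul_inv_eq_iff_eq_mul] at h
    exact h)
  have hwg : zpowers w = Z := by
    refine eq_of_le_of_card_ge (zpowers_le.mpr hwZ) ?_
    rw [D.zcard, Nat.card_zpowers, orderOf_eq_prime (D.pow w (D.zle hwZ)) hw1]
  obtain ⟨i, hi⟩ := mem_powers_iff_mem_zpowers.mpr (hwg.ge hz)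
  have hstep : ∀ i : ℕ, x₀ ^ i * a ^ j * (x₀ ^ i)⁻¹ = w ^ i * a ^ j := by
    intro i
    induction i with
    | zero => simp
    | succ i ih =>
      have hcx : Commute x₀ (w ^ i) :=
        (show Commute x₀ w from (mem_centralizer_iff.mp (D.zcent (D.le hx₀)) w hwZ).symm).pow_right i
      calc x₀ ^ (i + 1) * a ^ j * (x₀ ^ (i + 1))⁻¹ = x₀ * (x₀ ^ i * a ^ j * (x₀ ^ i)⁻¹) * x₀⁻¹ := by
            rw [pow_succ']; group
        _ = x₀ * (w ^ i * a ^ j) * x₀⁻¹ := by rw [ih]
        _ = (x₀ * w ^ i) * a ^ j * x₀⁻¹ := by group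
        _ = (w ^ i * x₀) * a ^ j * x₀⁻¹ := by rw [hcx.eq]
        _ = w ^ i * (x₀ * a ^ j * x₀⁻¹ * (a ^ j)⁻¹) * a ^ j := by group
        _ = w ^ (i + 1) * a ^ j := by rw [← hw, pow_succ]
  refine ⟨x₀ ^ i, pow_mem hx₀ i, ?_⟩
  rw [← hXb, ← hza, MonoidHom.map_zpowers]
  congr 1
  show b = x₀ ^ i * a ^ j * (x₀ ^ i)⁻¹
  rw [hstep]
  exact e.trans (by rw [← hi])

/-- The dichotomy from the centralizer theorem. -/
theorem Data.dichotomy (D : Data P P₁ Z) (h4 : RankTwoCentralizer G) (hG : Cfsg.IsMinSimpleOddOrder G)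
    {L : Subgroup G} (hL : IsCoatom L) (hPL : (P : Subgroup G) ≤ L)
    {a : G} (ha : a ∈ P₁) (haZ : a ∉ Z) :
    Only L (normalizer (Z : Set G)) ∨ Only L (normalizer ((zpowers a : Subgroup G) : Set G)) ∨
      (p ∈ Cfsg.sigma L ∧ L ≤ normalizer ((P : Subgroup G) : Set G)) := by
  obtain ⟨hA, hA2⟩ := D.elementary ha haZ
  have hAL : Z ⊔ zpowers a ≤ L := (sup_le D.zle (zpowers_le.mpr ha)).trans (D.le.trans hPL)
  by_cases h : ∀ A₀ : Subgroup G, A₀ ≤ Z ⊔ zpowers a → Nat.card A₀ = p → ¬ Only L (normalizer (A₀ : Set G))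
  · obtain ⟨hσ, -, hn⟩ := (h4 L hL p _ ⟨hAL, hA, hA2⟩).2 h
    exact Or.inr (Or.inr ⟨hσ, le_normalizer_of_nilpotent hG hL hσ hn P hPL⟩)
  · push Not at h
    obtain ⟨X, hX, hXc, hon⟩ := h
    by_cases hXZ : X = Z
    · exact Or.inl (hXZ ▸ hon)
    · obtain ⟨x, hx, rfl⟩ := D.exists_conj ha haZ hX hXc hXZ
      have h1 := only_conj x⁻¹ hon
      rw [map_conj_eq_of_mem (inv_mem (hPL (D.le hx))), map_map,
        show ((MulAut.conj x⁻¹).toMonoidHom.comp (MulAut.conj x).toMonoidHom) = MonoidHom.id G from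
          MonoidHom.ext fun y => by simp [mul_assoc], map_id] at h1
      exact Or.inr (Or.inl h1)

theorem Data.exists_noncentral (D : Data P P₁ Z) : ∃ a ∈ P₁, a ∉ Z := by
  by_contra h
  push Not at h
  have h1 := card_le_of_le (show P₁ ≤ Z from h)
  rw [D.card, D.zcard] at h1
  exact absurd h1 (not_le.mpr (lt_self_pow₀ (Fact.out : p.Prime).one_lt (by norm_num)))

/-- Every maximal subgroup over such a Sylow subgroup contains its normalizer. -/
theorem Data.normalizer_le (D : Data P P₁ Z) (h4 : RankTwoCentralizer G) (hG : Cfsg.IsMinSimpleOddOrder G)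
    {L : Subgroup G} (hL : IsCoatom L) (hPL : (P : Subgroup G) ≤ L) :
    normalizer ((P : Subgroup G) : Set G) ≤ L := by
  by_contra hne
  have key : ∀ b ∈ P₁, b ∉ Z → Only L (normalizer ((zpowers b : Subgroup G) : Set G)) := fun b hb hbZ => by
    rcases D.dichotomy h4 hG hL hPL hb hbZ with h | h | ⟨h, -⟩
    · exact absurd (D.normalizer_le_Z.trans h.1) hne
    · exact h
    · exact absurd (SylowUnique.normalizer_le h P hPL) hne
  obtain ⟨a, ha, haZ⟩ := D.exists_noncentral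
  refine hne fun v hv => NonSigma.mem_normalizer_self hG hL ?_ ?_
  · rintro rfl
    exact haZ ((mem_bot.mp ((D.le.trans hPL) ha)) ▸ one_mem _)
  · have hvP : v * a * v⁻¹ ∈ P₁ :=
      D.mem _ ((mem_normalizer_iff.mp hv a).mp (D.le ha)) (by rw [conj_pow, D.pow a ha]; group)
    have hvZ : v * a * v⁻¹ ∉ Z := fun h => haZ
      ((mem_normalizer_iff.mp (D.normalizer_le_Z hv) a).mpr h)
    have h1 := only_conj v (key a ha haZ)
    rw [MonoidHom.map_zpowers] at h1
    exact ((key _ hvP hvZ).2 _ (isCoatom_conj hL v) h1.1)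

/-- Generation: `O_{p'}` of one maximal subgroup lies in the other. -/
theorem Data.le_of_only (D : Data P P₁ Z) {L K : Subgroup G}
    (hK : ¬ p ∣ Nat.card K) (hPK : (P : Subgroup G) ≤ normalizer (K : Set G)) (hPL : (P : Subgroup G) ≤ L)
    (h : ∀ b ∈ P₁, b ∉ Z → normalizer ((zpowers b : Subgroup G) : Set G) ≤ L) : K ≤ L := by
  have hp := (Fact.out : p.Prime)
  have hcen : ∀ b ∈ P₁, b ∉ Z → centralizer ({b} : Set G) ≤ L := fun b hb hbZ => by
    rw [centralizer_singleton_eq]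
    exact (centralizer_le_normalizer _).trans (h b hb hbZ)
  set C := centralizer (Z : Set G) with hC
  have hZC : Z ≤ C := (D.zle.trans D.le).trans D.zcent
  have hKZ : K ⊓ C ≤ L := by
    set Zc := Z.subgroupOf C
    have hZn : Zc.Normal := ⟨fun z hz g => by
      have e : g * z * g⁻¹ = z := by
        refine Subtype.ext ?_
        show (g : G) * z * (g : G)⁻¹ = z
        rw [← mem_centralizer_iff.mp g.2 z hz]
        group
      rw [e]; exact hz⟩
    set π := QuotientGroup.mk' Zc with hπ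
    set A := (P₁.subgroupOf C).map π with hA
    have hAc : IsMulCommutative A := by
      refine ⟨⟨?_⟩⟩
      rintro ⟨_, x, hx, rfl⟩ ⟨_, y, hy, rfl⟩
      refine Subtype.ext ?_
      show π x * π y = π y * π x
      rw [← map_mul, ← map_mul]
      refine (QuotientGroup.eq (s := Zc)).mpr ?_
      show (((x * y)⁻¹ * (y * x) : C) : G) ∈ Z
      have := D.comm _ (inv_mem hy) _ (inv_mem hx)
      simpa [mul_assoc] using this
    have hle : (K ⊓ C).subgroupOf C ≤ ((L.subgroupOf C).map π).comap π := by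
      rw [← map_le_iff_le_comap]
      refine LocalEven.le_of_centralizers_le (p := p) (A := A) ?_ ?_ ?_ ?_ ?_
      · rintro _ ⟨x, hx, rfl⟩
        rw [← map_pow, show x ^ p = 1 from Subtype.ext (D.pow _ hx), map_one]
      · have h1 : Nat.card A = Zc.relIndex (P₁.subgroupOf C) := by
          rw [hA, ← relIndex_ker, QuotientGroup.ker_mk']
        have h2 : Zc.relIndex (P₁.subgroupOf C) = Z.relIndex P₁ :=
          relIndex_subgroupOf (D.le.trans D.zcent)
        have h3 := (Z.subgroupOf P₁).card_mul_index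
        rw [Nat.card_congr (subgroupOfEquivOfLe D.zle).toEquiv, D.zcard, D.card] at h3
        rw [h1, h2, relIndex]
        refine le_of_eq (Nat.eq_of_mul_eq_mul_left hp.pos ?_)
        rw [h3]; ring
      · rintro _ ⟨x, hx, rfl⟩
        refine le_normalizer_map π ⟨x, mem_normalizer_iff.mpr fun k => ?_, rfl⟩
        constructor
        · intro hk
          exact ⟨(mem_normalizer_iff.mp (hPK (D.le hx)) k).mp hk.1, (x * k * x⁻¹).2⟩
        · intro hk
          exact ⟨(mem_normalizer_iff.mp (hPK (D.le hx)) k).mpr hk.1, k.2⟩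
      · intro hd
        refine hK (hd.trans ((card_map_dvd _ _).trans ?_))
        rw [Nat.card_congr (subgroupOfEquivOfLe (inf_le_right : K ⊓ C ≤ C)).toEquiv]
        exact card_dvd_of_le inf_le_left
      · rintro _ ⟨x, hx, rfl⟩ hx1 _ ⟨⟨k, hk, rfl⟩, hkc⟩
        refine ⟨k, ?_, rfl⟩
        refine hcen (x : G) hx (fun hxZ => hx1 ((QuotientGroup.eq_one_iff x).mpr hxZ))
          (mem_centralizer_singleton_iff.mpr ?_)
        have hz : ((x * k)⁻¹ * (k * x) : C) ∈ Zc :=
          (QuotientGroup.eq (s := Zc)).mp (mem_centralizer_iff.mp hkc _ rfl)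
        have hz' : (k : G)⁻¹ * (x : G)⁻¹ * k * x ∈ Z := by
          have : (((x * k)⁻¹ * (k * x) : C) : G) ∈ Z := hz
          simpa [mul_assoc] using this
        have hzK : (k : G)⁻¹ * (x : G)⁻¹ * k * x ∈ K := by
          have h1 : (x : G)⁻¹ * k * x ∈ K := by
            have := (mem_normalizer_iff.mp (inv_mem (hPK (D.le hx))) (k : G)).mp hk.1
            simpa using this
          have := mul_mem (inv_mem (show (k : G) ∈ K from hk.1)) h1
          simpa [mul_assoc] using this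
        have h0 : (k : G)⁻¹ * (x : G)⁻¹ * k * x = 1 := by
          refine orderOf_eq_one_iff.mp (Nat.eq_one_of_dvd_coprimes
            ((hp.coprime_iff_not_dvd).mpr hK) ?_ (orderOf_dvd_natCard K hzK))
          rw [← D.zcard]; exact orderOf_dvd_natCard Z hz'
        calc (k : G) * x = x * k * ((k : G)⁻¹ * (x : G)⁻¹ * k * x) := by group
          _ = x * k := by rw [h0, mul_one]
    intro k hk
    obtain ⟨l, hl, e⟩ := hle (show (⟨k, hk.2⟩ : C) ∈ (K ⊓ C).subgroupOf C from hk)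
    have h1 : (l⁻¹ * ⟨k, hk.2⟩ : C) ∈ Zc := (QuotientGroup.eq (s := Zc)).mp e
    have h2 : (l : G)⁻¹ * k ∈ L := (D.zle.trans (D.le.trans hPL)) h1
    simpa using mul_mem (show (l : G) ∈ L from hl) h2
  obtain ⟨a, ha, haZ⟩ := D.exists_noncentral
  obtain ⟨hA, hA2⟩ := D.elementary ha haZ
  have : IsMulCommutative ↥(Z ⊔ zpowers a) := hA.1
  have hAP : Z ⊔ zpowers a ≤ P₁ := sup_le D.zle (zpowers_le.mpr ha)
  refine LocalEven.le_of_centralizers_le (A := Z ⊔ zpowers a) hA.2 hA2.ge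
    ((hAP.trans D.le).trans hPK) hK fun x hx hx1 => ?_
  by_cases hxZ : x ∈ Z
  · refine le_trans (inf_le_inf_left _ ?_) hKZ
    have hzx : zpowers x = Z := by
      refine eq_of_le_of_card_ge (zpowers_le.mpr hxZ) ?_
      rw [D.zcard, Nat.card_zpowers, orderOf_eq_prime (hA.2 x hx) hx1]
    rw [centralizer_singleton_eq, hzx]
  · exact inf_le_right.trans (hcen x (hAP hx) hxZ)

/-- `M = O_{p'}(M) N_M(P)`. -/
theorem exists_pPrime_supplement (hG : Cfsg.IsMinSimpleOddOrder G) {M : Subgroup G} (hM : IsCoatom M)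
    (P : Sylow p G) (hPM : (P : Subgroup G) ≤ M) :
    ∃ K : Subgroup G, ¬ p ∣ Nat.card K ∧ (P : Subgroup G) ≤ normalizer (K : Set G) ∧
      M ≤ K ⊔ normalizer ((P : Subgroup G) : Set G) := by
  have hp := (Fact.out : p.Prime)
  set S := P.subtype hPM
  set O := Cfsg.pPrimeCore p ↥M
  have hn := (pLengthOne_sylow (Cfsg.Agent.S1410.result hG p M hM.1) S).1
  have hcop := CfsgLib.Core.coprime_card_pPrimeCore p ↥M
  have hsup := Uniqueness.normalizer_sup_eq_top S.2 hcop (by rwa [sup_comm])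
  refine ⟨O.map M.subtype, ?_, ?_, ?_⟩
  · rw [card_map_of_injective M.subtype_injective]
    exact hp.coprime_iff_not_dvd.mp hcop.symm
  · intro x hx
    exact le_normalizer_map M.subtype ⟨⟨x, hPM hx⟩, Core.le_normalizer_of_normal ⊤ O (mem_top _), rfl⟩
  · intro m hm
    have h1 : M.subtype ⟨m, hm⟩ ∈ (normalizer ((S : Subgroup ↥M) : Set ↥M) ⊔ O).map M.subtype :=
      mem_map_of_mem _ (by rw [hsup]; exact mem_top _)
    rw [Subgroup.map_sup] at h1
    refine SetLike.le_def.mp (sup_le ?_ le_sup_left) h1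
    refine le_trans (le_normalizer_map M.subtype) ?_
    rw [Sylow.coe_subtype, map_subgroupOf_eq_of_le hPM]
    exact le_sup_right

/-- A non-abelian Sylow subgroup is a uniqueness subgroup. -/
theorem inUniqueMaximal (h4 : RankTwoCentralizer G) (hG : Cfsg.IsMinSimpleOddOrder G) (P : Sylow p G)
    (hna : ¬ IsMulCommutative (P : Subgroup G)) : Cfsg.InUniqueMaximal (P : Subgroup G) := by
  have hPt : (P : Subgroup G) ≠ ⊤ := Uniqueness.ne_top_of_pGroup hG P.2
  by_cases hr : Cfsg.PRankLE p 2 (P : Subgroup G)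
  swap
  · obtain ⟨E, hEP, hE, hE3⟩ := Uniqueness.exists_elementary_of_not_rank hr
    exact Uniqueness.inUniqueMaximal_mono (SCNUnique.inUniqueMaximal_elementary hG hE hE3) hPt hEP
  obtain ⟨P₁, Z, D⟩ := exists_data hG P hr hna
  obtain ⟨M, hM, hPM⟩ := (eq_top_or_exists_le_coatom _).resolve_left hPt
  refine ⟨M, ⟨hM, hPM⟩, ?_⟩
  rintro L ⟨hL, hPL⟩
  by_contra hne
  have hNM := D.normalizer_le h4 hG hM hPM
  have hNL := D.normalizer_le h4 hG hL hPL
  have hext : ∀ {A B : Subgroup G}, IsCoatom A → IsCoatom B → A ≠ B →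
      normalizer ((P : Subgroup G) : Set G) ≤ B → ¬ A ≤ normalizer ((P : Subgroup G) : Set G) :=
    fun {A B} hA hB hAB hNB h => by
      rcases (h.trans hNB).lt_or_eq with h' | h'
      · exact hB.1 (hA.2 _ h')
      · exact hAB h'
  have dich : ∀ {A B : Subgroup G}, IsCoatom A → IsCoatom B → A ≠ B → (P : Subgroup G) ≤ A →
      normalizer ((P : Subgroup G) : Set G) ≤ B → ∀ b ∈ P₁, b ∉ Z →
      Only A (normalizer (Z : Set G)) ∨ Only A (normalizer ((zpowers b : Subgroup G) : Set G)) :=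
    fun {A B} hA hB hAB hPA hNB b hb hbZ => by
      rcases D.dichotomy h4 hG hA hPA hb hbZ with h | h | ⟨-, h⟩
      exacts [Or.inl h, Or.inr h, absurd h (hext hA hB hAB hNB)]
  -- one of the two is the only maximal subgroup over `N(Z)`, the other over all other `N⟨b⟩`
  have main : ∀ {A B : Subgroup G}, IsCoatom A → IsCoatom B → A ≠ B → (P : Subgroup G) ≤ A →
      (P : Subgroup G) ≤ B → normalizer ((P : Subgroup G) : Set G) ≤ B →
      (∀ b ∈ P₁, b ∉ Z → Only B (normalizer ((zpowers b : Subgroup G) : Set G))) → False := by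
    intro A B hA hB hAB hPA hPB hNB hall
    obtain ⟨K, hK, hPK, hAle⟩ := exists_pPrime_supplement hG hA P hPA
    have hKB : K ≤ B := D.le_of_only hK hPK hPB fun b hb hbZ => (hall b hb hbZ).1
    rcases (hAle.trans (sup_le hKB hNB)).lt_or_eq with h | h
    · exact hB.1 (hA.2 _ h)
    · exact hAB h
  by_cases hZM : Only M (normalizer (Z : Set G))
  · refine main hM hL (Ne.symm hne) hPM hPL hNL fun b hb hbZ => ?_
    rcases dich hL hM hne hPL hNM b hb hbZ with h | h
    · exact absurd (hZM.2 L hL h.1) hne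
    · exact h
  · refine main hL hM hne hPL hPM hNM fun b hb hbZ => ?_
    exact (dich hM hL (Ne.symm hne) hPM hNL b hb hbZ).resolve_left hZM

end CfsgLib.OddLocal.SylowUnique
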