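import Cfsg.Agent.Lib.OddLocal.KappaSigma
import Cfsg.Agent.Lib.OddLocal.NonKappa

/-!
Lines of a complement `E` of `M_σ` and movers of a nonregular `τ₃`-line (towards BG 13.10 and 14.2).
-/

set_option autoImplicit false
set_option linter.unusedSectionVars false

namespace CfsgLib.OddLocal.TauThree

open Subgroup
open CfsgLib.TwoGroups
open PrimeActionTools FixedTauOne
open SylowUnique (Only)
open TauTwoFacts (rankTwo structure_tau2)
open SigmaOrderP (sigmaCore_le le_normalizer_sigmaCore le_sigmaCore)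
open scoped commutatorElement

variable {G : Type*} [Group G] [Finite G] {p q r s : ℕ} [Fact p.Prime] [Fact q.Prime] [Fact r.Prime] [Fact s.Prime]
  {M E L H P R X Y Z : Subgroup G}

/-- `q`-subgroups of `E` lie in `E'` for `q ∈ τ₃(M)`. -/
theorem le_derived (hG : Cfsg.IsMinSimpleOddOrder G) (hM : IsCoatom M)
    (hE : Cfsg.IsComplIn E (Cfsg.sigmaCore M) M) (hq : q ∈ Cfsg.tau3 M) {T : Subgroup G} (hT : IsPGroup q T)
    (hTE : T ≤ E) : T ≤ ⁅E, E⁆ := by
  by_cases hTb : T = ⊥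
  · rw [hTb]; exact bot_le
  obtain ⟨Z, hZ, hZT⟩ := exists_line hT hTb
  have hd : q ∣ Nat.card E := hZ ▸ card_dvd_of_le (hZT.trans hTE)
  obtain ⟨-, hσ, hdd, hr⟩ := hq
  have hnd := SigmaComplement.not_dvd_derived_index hG hM hE hd hr hσ hdd
  rw [← map_subtype_commutator, ← map_subgroupOf_eq_of_le hTE]
  refine map_mono fun x hx => ?_
  obtain ⟨k, hk⟩ := IsPGroup.iff_card.mp (hT.comap_subtype (K := E))
  obtain ⟨i, -, hi⟩ := (Nat.dvd_prime_pow Fact.out).mp (hk ▸ orderOf_dvd_natCard (T.subgroupOf E) hx)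
  refine (QuotientGroup.eq_one_iff x).mp (orderOf_eq_one_iff.mp ?_)
  refine Nat.eq_one_of_dvd_coprimes (a := q ^ i) (b := (_root_.commutator ↥E).index)
    (((Fact.out : q.Prime).coprime_iff_not_dvd.mpr hnd).pow_left i) ?_ ?_
  · exact hi ▸ orderOf_map_dvd (QuotientGroup.mk' (_root_.commutator ↥E)) x
  · exact orderOf_dvd_natCard _

/-- A line of `τ₃` is normal in `E`. -/
theorem le_normalizer_line (hG : Cfsg.IsMinSimpleOddOrder G) (hM : IsCoatom M)
    (hE : Cfsg.IsComplIn E (Cfsg.sigmaCore M) M) (hq : q ∈ Cfsg.tau3 M) (hX : Nat.card X = q) (hXE : X ≤ E) :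
    E ≤ normalizer (X : Set G) := by
  have hXd := le_derived hG hM hE hq (isPGroup_of_card_eq hX) hXE
  set D := ⁅E, E⁆ with hD
  have hDn : Group.IsNilpotent D := SigmaComplement.isNilpotent_derived hG hM hE
  set W := (Cfsg.pCore q D).map D.subtype with hW
  have hXW : X ≤ W := by
    intro x hx
    refine mem_map.mpr ⟨⟨x, hXd hx⟩, ?_, rfl⟩
    obtain ⟨j, -, hj⟩ := (Nat.dvd_prime_pow Fact.out).mp
      ((pow_one q).symm ▸ hX ▸ X.orderOf_dvd_natCard hx : orderOf x ∣ q ^ 1)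
    exact HallGen.mem_pCore_of_mem_nilpotent_normal (k := j) (inferInstance : (⊤ : Subgroup D).Normal)
      (Group.nilpotent_of_mulEquiv topEquiv.symm) (mem_top _) (by rw [orderOf_mk]; exact hj)
  have hWc : IsCyclic W := cyclic_of_rank hG hq.2.2.2 ((Core.isPGroup_pCore q D).map _)
    (((map_subtype_le _).trans (commutator_le_self E)).trans hE.1)
  have hEW : E ≤ normalizer (W : Set G) := fun g hg =>
    PLengthEndgame.normalizer_le_char D (Cfsg.pCore q D) (normalizer_commutator_ge_left E E hg)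
  exact hEW.trans (SigmaEmbedding.normalizer_le_of_cyclic hWc hXW)

/-- `E'` is abelian. -/
theorem derived_commutes (hG : Cfsg.IsMinSimpleOddOrder G) (hM : IsCoatom M)
    (hE : Cfsg.IsComplIn E (Cfsg.sigmaCore M) M) {A B : Subgroup G} (hA : A ≤ ⁅E, E⁆) (hB : B ≤ ⁅E, E⁆) :
    A ≤ centralizer (B : Set G) := by
  have hc := TauTwo.nilpotent_commutative hG hM ((commutator_le_self E).trans hE.1)
    (SigmaComplement.isNilpotent_derived hG hM hE) fun t ht hd => by
      have := Fact.mk ht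
      exact SigmaComplement.not_mem_sigma hG hM hE (hd.trans (card_dvd_of_le (commutator_le_self E)))
  exact fun a ha => mem_centralizer_iff.mpr fun b hb =>
    congrArg Subtype.val (hc.is_comm.comm ⟨b, hB hb⟩ ⟨a, hA ha⟩)

/-- A prime of rank one outside `σ(M)` is in `τ₁` or `τ₃`. -/
theorem tau_of_rank_one (hd : q ∣ Nat.card M) (hσ : q ∉ Cfsg.sigma M) (hr : Cfsg.PRankLE q 1 M) :
    q ∈ Cfsg.tau1 M ∨ q ∈ Cfsg.tau3 M := by
  by_cases h : q ∣ Nat.card ↥⁅M, M⁆
  · exact Or.inr ⟨Fact.out, hσ, h, hr⟩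
  · exact Or.inl ⟨Fact.out, hσ, hd, h, hr⟩

/-- In rank one the fixed points in `M_σ` of a line are fixed by its whole group. -/
theorem inf_centralizer_line (hG : Cfsg.IsMinSimpleOddOrder G) (hM : IsCoatom M)
    (hE : Cfsg.IsComplIn E (Cfsg.sigmaCore M) M) (hr : Cfsg.PRankLE q 1 M) {T : Subgroup G} (hT : IsPGroup q T)
    (hTE : T ≤ E) (hZ : Nat.card Z = q) (hZT : Z ≤ T) :
    Cfsg.sigmaCore M ⊓ centralizer (Z : Set G) ≤ centralizer (T : Set G) := by
  obtain ⟨S, hS⟩ := (hT.comap_subtype (K := E)).exists_le_sylow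
  have hTS : T ≤ (S : Subgroup E).map E.subtype := fun y hy => ⟨⟨y, hTE hy⟩, hS hy, rfl⟩
  have hS1 : (S : Subgroup E) ≠ ⊥ := fun h => ne_bot_of_card_eq hZ
    (le_bot_iff.mp ((hZT.trans hTS).trans (by rw [h, Subgroup.map_bot])))
  have hSc : IsCyclic (S : Subgroup E) :=
    SigmaComplement.sylow_cyclic hG hM hE (hZ ▸ card_dvd_of_le (hZT.trans hTE)) hr S
  obtain ⟨⟨z, hz⟩, hz1⟩ := Z.ne_bot_iff_exists_ne_one.mp (ne_bot_of_card_eq hZ)
  have h1 := CyclicPrimeAction.prime_action (structure_tau2 hG) hG hM hE S hS1 hSc z (hTS (hZT hz))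
    fun e => hz1 (Subtype.ext e)
  exact ((inf_le_inf_left _ (Subgroup.centralizer_le (Set.singleton_subset_iff.mpr hz))).trans h1.le).trans
    (inf_le_right.trans (Subgroup.centralizer_le hTS))

/-- All `τ₁`-lines of `E` have conjugate fixed points in `M_σ`. -/
theorem exists_conj_fixed (hG : Cfsg.IsMinSimpleOddOrder G) (hM : IsCoatom M)
    (hE : Cfsg.IsComplIn E (Cfsg.sigmaCore M) M) (hr : r ∈ Cfsg.tau1 M) (hs : s ∈ Cfsg.tau1 M)
    (hR : Nat.card R = r) (hRE : R ≤ E) (hX : Nat.card X = s) (hXE : X ≤ E) :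
    ∃ e ∈ E, ∀ y ∈ Cfsg.sigmaCore M,
      (y ∈ centralizer (R : Set G) ↔ e * y * e⁻¹ ∈ centralizer (X : Set G)) := by
  have : Group.IsSolvable E := CfsgLib.Core.isSolvable_of_le (hG.2.2.2 M hM.1) hE.1
  obtain ⟨H₁, hH₁, hXH⟩ := Core.exists_piHall_ge (G := ↥E) (π := Cfsg.tau1 M) (K := X.subgroupOf E) fun t ht hd => by
    rw [Nat.card_congr (subgroupOfEquivOfLe hXE).toEquiv, hX] at hd
    rw [(Nat.prime_dvd_prime_iff_eq ht hs.1).mp hd]; exact hs
  obtain ⟨⟨e, he⟩, hge⟩ := Core.exists_conj_le_piHall hH₁ (K := R.subgroupOf E) fun t ht hd => by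
    rw [Nat.card_congr (subgroupOfEquivOfLe hRE).toEquiv, hR] at hd
    rw [(Nat.prime_dvd_prime_iff_eq ht hr.1).mp hd]; exact hr
  set E₁ := H₁.map E.subtype with hE₁
  have hE₁E : E₁ ≤ E := map_subtype_le _
  have hXE₁ : X ≤ E₁ := fun x hx => ⟨⟨x, hXE hx⟩, hXH (mem_subgroupOf.mpr hx), rfl⟩
  have hRe : R.map (MulAut.conj e).toMonoidHom ≤ E₁ := by
    rintro _ ⟨x, hx, rfl⟩
    exact ⟨_, hge ((Subgroup.smul_mem_pointwise_smul_iff (a := MulAut.conj (⟨e, he⟩ : E))).mpr
      (show (⟨x, hRE hx⟩ : E) ∈ R.subgroupOf E from hx)), rfl⟩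
  have hE₁c : IsMulCommutative E₁ := by
    have : IsCyclic E₁ := (SigmaComplement.complement_structure hG hM hE).2.1 E₁ ⟨hE₁E, fun t ht hd => by
      rw [card_map_of_injective E.subtype_injective] at hd
      exact hH₁.1 t ht hd, fun t ht htπ => by
      rw [relIndex, subgroupOf, comap_map_eq_self_of_injective E.subtype_injective]
      exact hH₁.2 t ht htπ⟩
    exact IsCyclic.isMulCommutative
  have hcomm : ∀ {A B : Subgroup G}, A ≤ E₁ → B ≤ E₁ → A ≤ E ⊓ centralizer (B : Set G) := fun {A B} hA hB =>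
    le_inf (hA.trans hE₁E) fun a ha => mem_centralizer_iff.mpr fun b hb =>
      congrArg Subtype.val (hE₁c.is_comm.comm ⟨b, hB hb⟩ ⟨a, hA ha⟩)
  have hRec : Nat.card (R.map (MulAut.conj e).toMonoidHom) = r := by
    rw [card_map_of_injective (MulAut.conj e).injective, hR]
  have h1 := CentTauOne.centralizer_le_centralizer hG hM hE hr (hRe.trans hE₁E) hRec (hcomm hXE₁ hRe)
    (hX.symm ▸ hs.1)
  have h2 := CentTauOne.centralizer_le_centralizer hG hM hE hs hXE hX (hcomm hRe hXE₁) (hRec.symm ▸ hr.1)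
  refine ⟨e, he, fun y hy => ?_⟩
  have hey : e * y * e⁻¹ ∈ Cfsg.sigmaCore M :=
    (mem_normalizer_iff.mp (le_normalizer_sigmaCore M (hE.1 he)) y).mp hy
  constructor
  · intro hyR
    refine (h1 (mem_inf.mpr ⟨hey, mem_centralizer_iff.mpr ?_⟩)).2
    rintro _ ⟨x, hx, rfl⟩
    show e * x * e⁻¹ * (e * y * e⁻¹) = e * y * e⁻¹ * (e * x * e⁻¹)
    have := mem_centralizer_iff.mp hyR x hx
    calc e * x * e⁻¹ * (e * y * e⁻¹) = e * (x * y) * e⁻¹ := by group
      _ = e * (y * x) * e⁻¹ := by rw [this]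
      _ = _ := by group
  · intro hyX
    refine mem_centralizer_iff.mpr fun x hx => ?_
    have := mem_centralizer_iff.mp (h2 (mem_inf.mpr ⟨hey, hyX⟩)).2 _ ⟨x, hx, rfl⟩
    have h : e * (x * y) * e⁻¹ = e * (y * x) * e⁻¹ := by
      calc e * (x * y) * e⁻¹ = e * x * e⁻¹ * (e * y * e⁻¹) := by group
        _ = e * y * e⁻¹ * (e * x * e⁻¹) := this
        _ = _ := by group
    exact mul_left_cancel (mul_right_cancel h)

/-- A line moving a line of order `p` has smaller order. -/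
theorem lt_of_moves (hP : Nat.card P = p) (hX : Nat.card X = s) (hn : X ≤ normalizer (P : Set G))
    (hmove : ¬ X ≤ centralizer (P : Set G)) : s < p := by
  have hpp := (Fact.out : p.Prime)
  have hss := (Fact.out : s.Prime)
  set f : X →* MulAut P := P.normalizerMonoidHom.comp (inclusion hn) with hf
  have hker : f.ker = ⊥ := by
    rcases (Nat.dvd_prime hss).mp (hX ▸ card_subgroup_dvd_card f.ker) with h | h
    · exact eq_bot_of_card_eq _ h
    · refine absurd (fun x hx => ?_) hmove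
      have htop : f.ker = ⊤ := eq_top_of_card_eq _ (by rw [h, hX])
      have h1 : (⟨x, hn hx⟩ : normalizer (P : Set G)) ∈ P.normalizerMonoidHom.ker := by
        have : (⟨x, hx⟩ : X) ∈ f.ker := htop ▸ mem_top _
        exact this
      rw [normalizerMonoidHom_ker] at h1
      exact h1
  have hd : Nat.card X ∣ Nat.card (MulAut P) := card_dvd_of_injective f (f.ker_eq_bot_iff.mp hker)
  have : IsCyclic P := isCyclic_of_prime_card hP
  rw [IsCyclic.card_mulAut, hP, hX, Nat.totient_prime hpp] at hd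
  have h2 := hpp.two_le
  have h3 : s ≤ p - 1 := Nat.le_of_dvd (by omega) hd
  omega

/-- A Frobenius group `PX` with fixed points of `X` centralized by `P`: `P` centralizes `M_σ`. -/
theorem centralizes_core (hG : Cfsg.IsMinSimpleOddOrder G) (hM : IsCoatom M) (hp : p ∉ Cfsg.sigma M)
    (hs : s ∉ Cfsg.sigma M) (hP : Nat.card P = p) (hPM : P ≤ M) (hX : Nat.card X = s) (hXM : X ≤ M)
    (hn : X ≤ normalizer (P : Set G)) (hmove : ¬ X ≤ centralizer (P : Set G))
    (hfix : Cfsg.sigmaCore M ⊓ centralizer (X : Set G) ≤ centralizer (P : Set G)) :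
    P ≤ centralizer (Cfsg.sigmaCore M : Set G) := by
  have hpp := (Fact.out : p.Prime)
  have hss := (Fact.out : s.Prime)
  set O := Cfsg.sigmaCore M with hO
  have hsp : s ≠ p := (lt_of_moves hP hX hn hmove).ne
  have hPX : P ⊓ centralizer (X : Set G) = ⊥ := by
    rcases (Nat.dvd_prime hpp).mp (hP ▸ card_dvd_of_le (inf_le_left : P ⊓ centralizer (X : Set G) ≤ P)) with h | h
    · exact eq_bot_of_card_eq _ h
    · exact absurd (le_centralizer_iff.mp (inf_eq_left.mp (eq_of_le_of_card_ge inf_le_left (by rw [hP, h]))))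
        hmove
  have hK : P ⊔ X ≤ M := sup_le hPM hXM
  have hcop : (Nat.card ↥(P ⊔ X)).Coprime (Nat.card O) := by
    refine Nat.Coprime.coprime_dvd_left (by rw [sup_comm]; exact Core.card_sup_dvd X P hn)
      (Nat.Coprime.mul_left ?_ ?_)
    · exact TauTwo.coprime_sigmaCore hG hM hs (isPGroup_of_card_eq hX)
    · exact TauTwo.coprime_sigmaCore hG hM hp (isPGroup_of_card_eq hP)
  rw [le_centralizer_iff, ← subgroupOf_eq_top]
  refine Core.eq_top_of_forall_exists_sylow_le _ fun t ht htd => ?_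
  have := Fact.mk ht
  obtain ⟨T, hT⟩ := Core.exists_invariant_sylow (A := P ⊔ X) (K := O) (hK.trans (le_normalizer_sigmaCore M))
    hcop (Or.inl (CfsgLib.Core.isSolvable_of_le (hG.2.2.2 M hM.1) hK)) t
  refine ⟨T, fun x hx => mem_subgroupOf.mpr ?_⟩
  have htσ : t ∈ Cfsg.sigma M := TauTwo.mem_sigma_of_dvd ht htd hG hM
  exact le_centralizer_iff.mp (centralizes_of_fixed (Q := P) (R := X) (T.2.map O.subtype)
    (isPGroup_of_card_eq hP) hX hn hPX (le_sup_left.trans hT) (le_sup_right.trans hT)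
    (fun e => hp (by rw [e]; exact htσ)) (fun e => hs (by rw [e]; exact htσ)) hsp
    ((inf_le_inf_right _ (map_subtype_le _)).trans hfix)) ⟨x, hx, rfl⟩

end CfsgLib.OddLocal.TauThree
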