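import Cfsg.Agent.Lib.OddLocal.TauThreeBase

/-!
The configuration of a nonregular `τ₃`-line and the elements moving it.
-/

set_option autoImplicit false
set_option linter.unusedSectionVars false

namespace CfsgLib.OddLocal.TauThree

open Subgroup
open CfsgLib.TwoGroups
open PrimeActionTools FixedTauOne
open SylowUnique (Only)
open TauTwoFacts (rankTwo structure_tau2)
open SigmaOrderP (sigmaCore_le le_normalizer_sigmaCore le_sigmaCore)
open scoped commutatorElement

variable {G : Type*} [Group G] [Finite G] {p q r s : ℕ} [Fact p.Prime] [Fact q.Prime] [Fact r.Prime] [Fact s.Prime]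
  {M E L H P R X Y Z : Subgroup G}

/-- A nonregular line `P` of `E` for `p ∈ τ₃(M)` and a maximal subgroup `L` over its normalizer. -/
structure Cfg (M E P L : Subgroup G) (p : ℕ) : Prop where
  max : IsCoatom M
  compl : Cfsg.IsComplIn E (Cfsg.sigmaCore M) M
  tau : p ∈ Cfsg.tau3 M
  cardP : Nat.card P = p
  leP : P ≤ E
  nreg : Cfsg.sigmaCore M ⊓ centralizer (P : Set G) ≠ ⊥
  maxL : IsCoatom L
  nle : normalizer (P : Set G) ≤ L

theorem exists_cfg (hG : Cfsg.IsMinSimpleOddOrder G) (hM : IsCoatom M)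
    (hE : Cfsg.IsComplIn E (Cfsg.sigmaCore M) M) (hp : p ∈ Cfsg.tau3 M) (hP : Nat.card P = p) (hPE : P ≤ E)
    (hne : Cfsg.sigmaCore M ⊓ centralizer (P : Set G) ≠ ⊥) : ∃ L, Cfg M E P L p := by
  obtain ⟨L, hL, hNP⟩ := (eq_top_or_exists_le_coatom _).resolve_left
    (TransitivityHyp.normalizer_ne_top hG (ne_bot_of_card_eq hP)
      (Uniqueness.ne_top_of_pGroup hG (isPGroup_of_card_eq hP)))
  exact ⟨L, hM, hE, hp, hP, hPE, hne, hL, hNP⟩

theorem Cfg.leM (c : Cfg M E P L p) : P ≤ M := c.leP.trans c.compl.1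

theorem Cfg.sigL (c : Cfg M E P L p) (hG : Cfsg.IsMinSimpleOddOrder G) : p ∈ Cfsg.sigma L :=
  KappaSigma.sigma_of_normalizer hG c.max c.tau.2.1 c.tau.2.2.2 c.cardP c.leM c.nreg c.maxL c.nle

theorem Cfg.nconj (c : Cfg M E P L p) (hG : Cfsg.IsMinSimpleOddOrder G) (g : G) :
    L ≠ M.map (MulAut.conj g).toMonoidHom := fun e =>
  c.tau.2.1 (SigmaEmbedding.sigma_of_conj (e ▸ c.sigL hG))

theorem Cfg.nconj' (c : Cfg M E P L p) (hG : Cfsg.IsMinSimpleOddOrder G) (g : G) :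
    M ≠ L.map (MulAut.conj g).toMonoidHom := fun e =>
  c.nconj hG g⁻¹ (by rw [e, map_conj_inv])

theorem Cfg.ne (c : Cfg M E P L p) (hG : Cfsg.IsMinSimpleOddOrder G) : L ≠ M := fun e => c.tau.2.1 (e ▸ c.sigL hG)

theorem Cfg.E_normalizes (c : Cfg M E P L p) (hG : Cfsg.IsMinSimpleOddOrder G) :
    E ≤ normalizer (P : Set G) := le_normalizer_line hG c.max c.compl c.tau c.cardP c.leP

theorem Cfg.EL (c : Cfg M E P L p) (hG : Cfsg.IsMinSimpleOddOrder G) : E ≤ L := (c.E_normalizes hG).trans c.nle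

theorem Cfg.leP_core (c : Cfg M E P L p) (hG : Cfsg.IsMinSimpleOddOrder G) : P ≤ Cfsg.sigmaCore L :=
  le_sigmaCore hG c.maxL (c.sigL hG) (isPGroup_of_card_eq c.cardP) (c.leP.trans (c.EL hG))

/-- `C_{M_σ}(P) = M_σ ⊓ L`. -/
theorem Cfg.fixed_eq (c : Cfg M E P L p) (hG : Cfsg.IsMinSimpleOddOrder G) :
    Cfsg.sigmaCore M ⊓ centralizer (P : Set G) = Cfsg.sigmaCore M ⊓ L := by
  refine le_antisymm (inf_le_inf_left _ ((Subgroup.centralizer_le_normalizer _).trans c.nle)) (le_inf inf_le_left ?_)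
  exact le_centralizer_iff.mp (centralizes_inf hG c.max c.maxL (c.nconj hG) (c.sigL hG) c.tau.2.1
    (isPGroup_of_card_eq c.cardP) c.leM (c.leP.trans (c.EL hG)))

/-- `τ₂(M)` is empty, so `E` has rank one. -/
theorem Cfg.rank_one (c : Cfg M E P L p) (hG : Cfsg.IsMinSimpleOddOrder G) (hd : q ∣ Nat.card E) :
    Cfsg.PRankLE q 1 M := by
  by_contra h
  have hσ := SigmaComplement.not_mem_sigma hG c.max c.compl hd
  obtain ⟨A, hA, hAE⟩ := TauTwo.exists_pair_complement hG c.max c.compl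
    ⟨Fact.out, hσ, not_not.mp fun h' => hσ (SigmaTrans.alpha_subset_sigma hG c.max ⟨Fact.out, h'⟩), h⟩
  exact c.nreg ((c.fixed_eq hG).trans (TauTwo.sigmaCore_inf_eq_bot hG c.max hA (hAE.trans c.compl.1) hσ
    c.maxL (c.ne hG) (hAE.trans (c.EL hG))))

/-- A subgroup of `E` moving `P` is a `τ₁`-group. -/
theorem Cfg.tau1_of_moves (c : Cfg M E P L p) (hG : Cfsg.IsMinSimpleOddOrder G) (hY : IsPGroup s Y)
    (hYE : Y ≤ E) (hmove : ¬ Y ≤ centralizer (P : Set G)) : s ∈ Cfsg.tau1 M := by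
  have hYb : Y ≠ ⊥ := fun e => hmove (e ▸ bot_le)
  obtain ⟨Z, hZ, hZY⟩ := exists_line hY hYb
  have hd : s ∣ Nat.card E := hZ ▸ card_dvd_of_le (hZY.trans hYE)
  have hσ := SigmaComplement.not_mem_sigma hG c.max c.compl hd
  rcases tau_of_rank_one (hd.trans (card_dvd_of_le c.compl.1)) hσ (c.rank_one hG hd) with h | h
  · exact h
  · exact absurd (derived_commutes hG c.max c.compl (le_derived hG c.max c.compl h hY hYE)
      (le_derived hG c.max c.compl c.tau (isPGroup_of_card_eq c.cardP) c.leP)) hmove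

/-- Some subgroup of prime power order of `E` moves `P`. -/
theorem Cfg.exists_mover (c : Cfg M E P L p) (hG : Cfsg.IsMinSimpleOddOrder G) :
    ∃ (s : ℕ) (Y : Subgroup G), s.Prime ∧ IsPGroup s Y ∧ Y ≤ E ∧ ¬ Y ≤ centralizer (P : Set G) := by
  refine CentTauOne.exists_pgroup_not_le fun hle => ?_
  have hd : p ∣ Nat.card E := c.cardP ▸ card_dvd_of_le c.leP
  obtain ⟨S, hS⟩ := ((isPGroup_of_card_eq c.cardP).comap_subtype (K := E)).exists_le_sylow
  have hSc : IsCyclic (S : Subgroup E) := SigmaComplement.sylow_cyclic hG c.max c.compl hd c.tau.2.2.2 S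
  obtain ⟨⟨x, hx⟩, hx1⟩ := P.ne_bot_iff_exists_ne_one.mp (ne_bot_of_card_eq c.cardP)
  have hxd : (⟨x, c.leP hx⟩ : E) ∈ _root_.commutator E := by
    have h1 := le_derived hG c.max c.compl c.tau (isPGroup_of_card_eq c.cardP) c.leP hx
    rw [← map_subtype_commutator] at h1
    obtain ⟨w, hw, e⟩ := h1
    rwa [← (E.subtype_injective (show E.subtype w = E.subtype ⟨x, c.leP hx⟩ from e))]
  have h1 := eq_one_of_central S IsCyclic.isMulCommutative (hS (mem_subgroupOf.mpr hx))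
    (mem_center_iff.mpr fun g => Subtype.ext ((mem_centralizer_iff.mp (hle g.2) x hx).symm :)) hxd
  exact hx1 (Subtype.ext (congrArg Subtype.val h1 :))

/-- A line moving `P` fixes some nontrivial point of `M_σ`. -/
theorem Cfg.moves_nonregular (c : Cfg M E P L p) (hG : Cfsg.IsMinSimpleOddOrder G) (hX : Nat.card X = s)
    (hXE : X ≤ E) (hmove : ¬ X ≤ centralizer (P : Set G)) :
    ¬ Cfsg.sigmaCore M ⊓ centralizer (X : Set G) ≤ centralizer (P : Set G) := fun hfix => by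
  have hs := c.tau1_of_moves hG (isPGroup_of_card_eq hX) hXE hmove
  have hc := centralizes_core hG c.max c.tau.2.1 hs.2.1 c.cardP c.leM hX (hXE.trans c.compl.1)
    (hXE.trans (c.E_normalizes hG)) hmove hfix
  have hMN : M ≤ normalizer (P : Set G) := fun m hm => by
    obtain ⟨a, ha, b, hb, rfl⟩ := c.compl.2.2.2 m hm
    exact mul_mem (c.E_normalizes hG ha) (Subgroup.centralizer_le_normalizer _ (le_centralizer_iff.mp hc hb))
  exact c.ne hG ((c.max.le_iff.mp (hMN.trans c.nle)).resolve_left c.maxL.1)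

/-- The line of a mover fixes some nontrivial point of `M_σ`. -/
theorem Cfg.line_nonregular (c : Cfg M E P L p) (hG : Cfsg.IsMinSimpleOddOrder G) (hY : IsPGroup s Y)
    (hYE : Y ≤ E) (hmove : ¬ Y ≤ centralizer (P : Set G)) (hZ : Nat.card Z = s) (hZY : Z ≤ Y) :
    Cfsg.sigmaCore M ⊓ centralizer (Z : Set G) ≠ ⊥ := by
  intro hreg
  have hZE : Z ≤ E := hZY.trans hYE
  by_cases hZP : Z ≤ centralizer (P : Set G)
  swap
  · exact c.moves_nonregular hG hZ hZE hZP (hreg ▸ bot_le)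
  have hs := c.tau1_of_moves hG hY hYE hmove
  set W := Cfsg.sigmaCore M ⊓ L with hW
  have hWne : W ≠ ⊥ := fun e => c.nreg ((c.fixed_eq hG).trans e)
  by_cases hsL : s ∈ Cfsg.sigma L
  · exact hWne (le_bot_iff.mp (hreg ▸ le_inf inf_le_left (le_centralizer_iff.mp ((hZY.trans
      (centralizes_inf hG c.max c.maxL (c.nconj hG) hsL hs.2.1 hY (hYE.trans c.compl.1)
        (hYE.trans (c.EL hG))))))))
  have hYc : IsCyclic Y := cyclic_of_rank hG hs.2.2.2.2 hY (hYE.trans c.compl.1)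
  by_cases hr1 : Cfsg.PRankLE s 1 L
  · have := CyclicPrimeAction.commutator_eq_bot (structure_tau2 hG) hG c.maxL hsL hr1 (c.sigL hG)
      hY (hYE.trans (c.EL hG)) (fun y hy => mem_centralizer_iff.mpr fun z hz =>
        congrArg Subtype.val ((IsCyclic.isMulCommutative (α := Y)).is_comm.comm ⟨z, hZY hz⟩ ⟨y, hy⟩))
      hZ (hZE.trans (c.EL hG)) (isPGroup_of_card_eq c.cardP) (c.leP.trans (c.EL hG))
      (hYE.trans (c.E_normalizes hG)) (le_centralizer_iff.mp hZP)
    exact hmove (le_centralizer_iff.mp (commutator_eq_bot_iff_le_centralizer.mp this))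
  · obtain ⟨A₀, hA₀, hA₀L⟩ := TauTwo.exists_isPair hr1
    have hWσ : ∀ t : ℕ, t.Prime → t ∣ Nat.card W → t ∉ Cfsg.sigma L := fun t ht hd htL => by
      have := Fact.mk ht
      obtain ⟨g, hg⟩ := conj_of_pair hG c.max c.maxL
        (TauTwo.mem_sigma_of_dvd ht (hd.trans (card_dvd_of_le inf_le_left)) hG c.max) htL hA₀ hA₀L hsL
      exact c.nconj hG g hg
    have hZW : Z ≤ normalizer (W : Set G) :=
      (le_inf ((hZE.trans c.compl.1).trans (le_normalizer_sigmaCore M))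
        ((hZE.trans (c.EL hG)).trans le_normalizer)).trans inf_normalizer_le_normalizer_inf
    obtain ⟨E', hE', hKE⟩ := TauTwo.exists_complement_ge hG c.maxL (sup_le (hZE.trans (c.EL hG))
      (inf_le_right : W ≤ L)) fun t ht hd => by
        rcases ht.dvd_mul.mp (hd.trans (Core.card_sup_dvd Z W hZW)) with h | h
        · rw [hZ] at h; rw [(Nat.prime_dvd_prime_iff_eq ht Fact.out).mp h]; exact hsL
        · exact hWσ t ht h
    obtain ⟨B, hB, hBE⟩ := TauTwo.exists_pair_complement hG c.maxL hE' (hA₀.tau2_of_not_sigma hG c.maxL hA₀L hsL)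
    obtain ⟨hEB, hmem, -⟩ := TauTwo.le_normalizer_pair hG c.maxL hB hsL hE' hBE
    have hZB : Z ≤ B := fun z hz => hmem z (hKE (mem_sup_left hz))
      (orderOf_dvd_iff_pow_eq_one.mp (hZ ▸ Z.orderOf_dvd_natCard hz))
    have hWB : W ≤ normalizer (B : Set G) := (le_sup_right.trans hKE).trans hEB
    have h1 : ⁅W, Z⁆ ≤ W ⊓ B := le_inf (le_normalizer_iff_commutator_le_left.mp hZW)
      ((commutator_mono le_rfl hZB).trans (le_normalizer_iff_commutator_le_right.mp hWB))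
    have h2 : W ⊓ B = ⊥ := inf_eq_bot_of_coprime ((TauTwo.coprime_sigmaCore hG c.max hs.2.1
      hB.isPGroup).coprime_dvd_right (card_dvd_of_le inf_le_left)).symm
    rw [h2, le_bot_iff] at h1
    exact hWne (le_bot_iff.mp (hreg ▸ le_inf inf_le_left (commutator_eq_bot_iff_le_centralizer.mp h1)))

/-- All `τ₁`-lines of `E` fix nontrivial points of `M_σ`. -/
theorem Cfg.tau1_nonregular (c : Cfg M E P L p) (hG : Cfsg.IsMinSimpleOddOrder G) (hr : r ∈ Cfsg.tau1 M)
    (hR : Nat.card R = r) (hRE : R ≤ E) : Cfsg.sigmaCore M ⊓ centralizer (R : Set G) ≠ ⊥ := by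
  intro hreg
  obtain ⟨s, Y, hs, hY, hYE, hmove⟩ := c.exists_mover hG
  have := Fact.mk hs
  obtain ⟨Z, hZ, hZY⟩ := exists_line hY fun e => hmove (e ▸ bot_le)
  obtain ⟨e, he, hiff⟩ := exists_conj_fixed hG c.max c.compl (c.tau1_of_moves hG hY hYE hmove) hr hZ
    (hZY.trans hYE) hR hRE
  refine c.line_nonregular hG hY hYE hmove hZ hZY (eq_bot_iff.mpr fun y hy => ?_)
  have h1 : e * y * e⁻¹ ∈ Cfsg.sigmaCore M :=
    (mem_normalizer_iff.mp (le_normalizer_sigmaCore M (c.compl.1 he)) y).mp hy.1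
  have h2 : e * y * e⁻¹ ∈ Cfsg.sigmaCore M ⊓ centralizer (R : Set G) := ⟨h1, (hiff y hy.1).mp hy.2⟩
  rw [hreg, mem_bot, conj_eq_one_iff] at h2
  exact mem_bot.mpr h2

/-- If the line of a mover centralizes `P`, its prime lies in `σ(L)`. -/
theorem Cfg.mover_sigma (c : Cfg M E P L p) (hG : Cfsg.IsMinSimpleOddOrder G) (hY : IsPGroup s Y)
    (hYE : Y ≤ E) (hmove : ¬ Y ≤ centralizer (P : Set G)) (hZ : Nat.card Z = s) (hZY : Z ≤ Y)
    (hZP : Z ≤ centralizer (P : Set G)) : s ∈ Cfsg.sigma L := by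
  by_contra hsL
  have hs := c.tau1_of_moves hG hY hYE hmove
  have hZE : Z ≤ E := hZY.trans hYE
  have hYc : IsCyclic Y := cyclic_of_rank hG hs.2.2.2.2 hY (hYE.trans c.compl.1)
  by_cases hr1 : Cfsg.PRankLE s 1 L
  · have := CyclicPrimeAction.commutator_eq_bot (structure_tau2 hG) hG c.maxL hsL hr1 (c.sigL hG)
      hY (hYE.trans (c.EL hG)) (fun y hy => mem_centralizer_iff.mpr fun z hz =>
        congrArg Subtype.val ((IsCyclic.isMulCommutative (α := Y)).is_comm.comm ⟨z, hZY hz⟩ ⟨y, hy⟩))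
      hZ (hZE.trans (c.EL hG)) (isPGroup_of_card_eq c.cardP) (c.leP.trans (c.EL hG))
      (hYE.trans (c.E_normalizes hG)) (le_centralizer_iff.mp hZP)
    exact hmove (le_centralizer_iff.mp (commutator_eq_bot_iff_le_centralizer.mp this))
  · obtain ⟨A₀, hA₀, hA₀L⟩ := TauTwo.exists_isPair hr1
    obtain ⟨E', hE', hZE'⟩ := TauTwo.exists_complement_ge hG c.maxL (hZE.trans (c.EL hG)) fun t ht hd => by
      rw [(Nat.prime_dvd_prime_iff_eq ht Fact.out).mp (hZ ▸ hd)]; exact hsL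
    obtain ⟨B, hB, hBE⟩ := TauTwo.exists_pair_complement hG c.maxL hE' (hA₀.tau2_of_not_sigma hG c.maxL hA₀L hsL)
    obtain ⟨-, hmem, -⟩ := TauTwo.le_normalizer_pair hG c.maxL hB hsL hE' hBE
    have hZB : Z ≤ B := fun z hz => hmem z (hZE' hz) (orderOf_dvd_iff_pow_eq_one.mp (hZ ▸ Z.orderOf_dvd_natCard hz))
    obtain ⟨-, honly⟩ := TauTwo.centralizer_line_unique hG c.maxL hB (hBE.trans hE'.1) hsL hZB
      (ne_bot_of_card_eq hZ) fun e => ne_bot_of_card_eq c.cardP
        (le_bot_iff.mp (e ▸ le_inf (c.leP_core hG) (le_centralizer_iff.mp hZP)))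
    obtain ⟨H, hH, hNH⟩ := (eq_top_or_exists_le_coatom _).resolve_left
      (TransitivityHyp.normalizer_ne_top hG (ne_bot_of_card_eq hZ)
        (Uniqueness.ne_top_of_pGroup hG (isPGroup_of_card_eq hZ)))
    have := KappaSigma.sigma_of_normalizer hG c.max hs.2.1 hs.2.2.2.2 hZ (hZE.trans c.compl.1)
      (c.line_nonregular hG hY hYE hmove hZ hZY) hH hNH
    exact hsL (honly H hH ((Subgroup.centralizer_le_normalizer _).trans hNH) ▸ this)

end CfsgLib.OddLocal.TauThree
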