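import Cfsg.Agent.Lib.OddLocal.TauThreeMover

/-!
No line of `E` moves a nonregular `τ₃`-line (Bender–Glauberman, 13.8–13.10).
-/

set_option autoImplicit false
set_option linter.unusedSectionVars false

namespace CfsgLib.OddLocal.TauThree

open Subgroup
open CfsgLib.TwoGroups
open PrimeActionTools FixedTauOne
open SylowUnique (Only)
open TauTwoFacts (rankTwo structure_tau2)
open SigmaOrderP (sigmaCore_le le_normalizer_sigmaCore le_sigmaCore)
open scoped commutatorElement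

variable {G : Type*} [Group G] [Finite G] {p q r s t u : ℕ} [Fact p.Prime] [Fact q.Prime] [Fact r.Prime]
  [Fact s.Prime] [Fact t.Prime] [Fact u.Prime] {M E L H P R X Y Z : Subgroup G}

/-- Uniqueness over a centralizer passes to the normalizer. -/
theorem normalizer_le_of_only (hG : Cfsg.IsMinSimpleOddOrder G) (hX : Nat.card X = q)
    (h : Only M (centralizer (X : Set G))) : normalizer (X : Set G) ≤ M := by
  obtain ⟨H, hH, hNH⟩ := (eq_top_or_exists_le_coatom _).resolve_left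
    (TransitivityHyp.normalizer_ne_top hG (ne_bot_of_card_eq hX)
      (Uniqueness.ne_top_of_pGroup hG (isPGroup_of_card_eq hX)))
  exact h.2 H hH ((Subgroup.centralizer_le_normalizer _).trans hNH) ▸ hNH

/-- A `σ(M)'`-group of rank one centralizing a `τ₁`-line centralizes its fixed points. -/
theorem centralizes_fixed (hG : Cfsg.IsMinSimpleOddOrder G) (hM : IsCoatom M) (hs : s ∈ Cfsg.tau1 M)
    (hX : Nat.card X = s) (hXM : X ≤ M) (hr : r ∉ Cfsg.sigma M) (hr1 : Cfsg.PRankLE r 1 M)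
    (hY : IsPGroup r Y) (hYM : Y ≤ M) (hYX : Y ≤ centralizer (X : Set G)) :
    Y ≤ centralizer ((Cfsg.sigmaCore M ⊓ centralizer (X : Set G) : Subgroup G) : Set G) := by
  by_cases hYb : Y = ⊥
  · rw [hYb]; exact bot_le
  obtain ⟨Z, hZ, hZY⟩ := exists_line hY hYb
  obtain ⟨E, hE, hKE⟩ := TauTwo.exists_complement_ge hG hM (sup_le hYM hXM) fun v hv hd => by
    rcases hv.dvd_mul.mp (hd.trans (Core.card_sup_dvd Y X (hYX.trans (Subgroup.centralizer_le_normalizer _))))
      with h | h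
    · obtain ⟨k, hk⟩ := IsPGroup.iff_card.mp hY
      rw [hk] at h
      rw [(Nat.prime_dvd_prime_iff_eq hv Fact.out).mp (hv.dvd_of_dvd_pow h)]; exact hr
    · rw [hX] at h; rw [(Nat.prime_dvd_prime_iff_eq hv Fact.out).mp h]; exact hs.2.1
  have h1 := CentTauOne.centralizer_le_centralizer hG hM hE hs (le_sup_right.trans hKE) hX (R := Z)
    (le_inf (hZY.trans (le_sup_left.trans hKE)) (hZY.trans hYX)) (hZ.symm ▸ (Fact.out : r.Prime))
  exact le_centralizer_iff.mp (h1.trans (inf_centralizer_line hG hM hE hr1 hY (le_sup_left.trans hKE) hZ hZY))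

/-- What is needed to know about a nonregular line `X` of `L` outside `σ(L)`. -/
def Pack (L X : Subgroup G) : Prop :=
  (∀ (v : ℕ) (W : Subgroup G), v.Prime → Nat.card W = v → W ≤ Cfsg.sigmaCore L ⊓ centralizer (X : Set G) →
      Only L (centralizer (W : Set G)) ∧
        ∀ K : Subgroup G, IsCoatom K → (∀ g : G, K ≠ L.map (MulAut.conj g).toMonoidHom) → v ∉ Cfsg.sigma K) ∧
    ∀ E' : Subgroup G, Cfsg.IsComplIn E' (Cfsg.sigmaCore L) L → X ≤ E' → ∀ R : Subgroup G, (Nat.card R).Prime →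
      R ≤ E' ⊓ centralizer (X : Set G) → Cfsg.sigmaCore L ⊓ centralizer (X : Set G) ≤ centralizer (R : Set G)

/-- The conclusion of the theorem for the prime `s`. -/
def Rigid (G : Type*) [Group G] [Finite G] (s : ℕ) : Prop :=
  ∀ (M E X : Subgroup G), IsCoatom M → Cfsg.IsComplIn E (Cfsg.sigmaCore M) M → s ∈ Cfsg.tau3 M →
    Nat.card X = s → X ≤ E → Cfsg.sigmaCore M ⊓ centralizer (X : Set G) ≠ ⊥ →
    ∀ R : Subgroup G, (Nat.card R).Prime → R ≤ E →
      R ≤ centralizer (X : Set G) ∧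
        Cfsg.sigmaCore M ⊓ centralizer (R : Set G) = Cfsg.sigmaCore M ⊓ centralizer (X : Set G)

theorem pack_of_rank_one (hG : Cfsg.IsMinSimpleOddOrder G) (hL : IsCoatom L) (hX : Nat.card X = s) (hXL : X ≤ L)
    (hs : s ∉ Cfsg.sigma L) (hs1 : Cfsg.PRankLE s 1 L)
    (hne : Cfsg.sigmaCore L ⊓ centralizer (X : Set G) ≠ ⊥) (ih : Rigid G s) : Pack L X := by
  rcases tau_of_rank_one (hX ▸ card_dvd_of_le hXL) hs hs1 with hτ | hτ
  · refine ⟨fun v W hv hW hWle => ?_, fun E' hE' hXE R hR hRE => ?_⟩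
    · have := Fact.mk hv
      exact ⟨only_of_fixed hG hL hτ hX hXL hW hWle, fun K hK hnc => not_sigma_of_fixed hG hL hτ hX hXL hW hWle hK hnc⟩
    · exact (CentTauOne.centralizer_le_centralizer hG hL hE' hτ hXE hX hRE hR).trans inf_le_right
  · refine ⟨fun v W hv hW hWle => ?_, fun E' hE' hXE R hR hRE => ?_⟩
    · have := Fact.mk hv
      obtain ⟨E', hE', hXE⟩ := TauTwo.exists_complement_ge hG hL hXL fun w hw hd => by
        rw [(Nat.prime_dvd_prime_iff_eq hw Fact.out).mp (hX ▸ hd)]; exact hs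
      obtain ⟨H, c⟩ := exists_cfg hG hL hE' hτ hX hXE hne
      obtain ⟨r, Y, hr, hY, hYE, hmove⟩ := c.exists_mover hG
      have := Fact.mk hr
      have hr1 := c.tau1_of_moves hG hY hYE hmove
      obtain ⟨R, hR, hRY⟩ := exists_line hY fun e => hmove (e ▸ bot_le)
      have heq := (ih L E' X hL hE' hτ hX hXE hne R (hR.symm ▸ hr) (hRY.trans hYE)).2
      have hWR : W ≤ Cfsg.sigmaCore L ⊓ centralizer (R : Set G) := heq.symm ▸ hWle
      have hRL : R ≤ L := (hRY.trans hYE).trans hE'.1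
      exact ⟨only_of_fixed hG hL hr1 hR hRL hW hWR, fun K hK hnc => not_sigma_of_fixed hG hL hr1 hR hRL hW hWR hK hnc⟩
    · rw [← (ih L E' X hL hE' hτ hX hXE hne R hR (hRE.trans inf_le_left)).2]
      exact inf_le_right

theorem Cfg.not_le_of_centralizer_le (c : Cfg M E P L p) (hG : Cfsg.IsMinSimpleOddOrder G) (hX : Nat.card X = s)
    (hXE : X ≤ E) (hmove : ¬ X ≤ centralizer (P : Set G)) : ¬ centralizer (X : Set G) ≤ L := fun h =>
  c.moves_nonregular hG hX hXE hmove
    (((inf_le_inf_left _ h).trans (c.fixed_eq hG).ge).trans inf_le_right)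

/-- The fixed points of `P` contain a line. -/
theorem Cfg.exists_fixed_line (c : Cfg M E P L p) :
    ∃ (t : ℕ) (W : Subgroup G), t.Prime ∧ Nat.card W = t ∧ W ≤ Cfsg.sigmaCore M ⊓ centralizer (P : Set G) :=
  exists_prime_sub c.nreg

/-- A line moving `P` is no `σ(L)`-group. -/
theorem Cfg.moves_not_sigma (c : Cfg M E P L p) (hG : Cfsg.IsMinSimpleOddOrder G) (hX : Nat.card X = s)
    (hXE : X ≤ E) (hmove : ¬ X ≤ centralizer (P : Set G)) : s ∉ Cfsg.sigma L := by
  intro hsL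
  have hs := c.tau1_of_moves hG (isPGroup_of_card_eq hX) hXE hmove
  have hXL : X ≤ L := hXE.trans (c.EL hG)
  have hXM : X ≤ M := hXE.trans c.compl.1
  obtain ⟨t, W, ht, hW, hWP⟩ := c.exists_fixed_line
  have := Fact.mk ht
  have hWL : W ≤ Cfsg.sigmaCore M ⊓ L := hWP.trans (c.fixed_eq hG).le
  have hWX : W ≤ centralizer (X : Set G) := le_centralizer_iff.mp ((centralizes_inf hG c.max c.maxL (c.nconj hG)
    hsL hs.2.1 (isPGroup_of_card_eq hX) hXM hXL).trans (Subgroup.centralizer_le hWL))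
  have hWf : W ≤ Cfsg.sigmaCore M ⊓ centralizer (X : Set G) := le_inf (hWP.trans inf_le_left) hWX
  have honly := only_of_fixed hG c.max hs hX hXM hW hWf
  have htL := not_sigma_of_fixed hG c.max hs hX hXM hW hWf c.maxL (c.nconj hG)
  have hXO : X ≤ Cfsg.sigmaCore L := le_sigmaCore hG c.maxL hsL (isPGroup_of_card_eq hX) hXL
  have hPW : P ≤ Cfsg.sigmaCore L ⊓ centralizer (W : Set G) :=
    le_inf (c.leP_core hG) (le_centralizer_iff.mp (hWP.trans inf_le_right))
  obtain ⟨F, hF, hWF⟩ := TauTwo.exists_complement_ge hG c.maxL (hWL.trans inf_le_right) fun v hv hd => by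
    rw [(Nat.prime_dvd_prime_iff_eq hv ht).mp (hW ▸ hd)]; exact htL
  have hneW : Cfsg.sigmaCore L ⊓ centralizer (W : Set G) ≠ ⊥ := fun e =>
    ne_bot_of_card_eq c.cardP (le_bot_iff.mp (e ▸ hPW))
  by_cases ht1 : Cfsg.PRankLE t 1 L
  swap
  · have hτ : t ∈ Cfsg.tau2 L :=
      ⟨ht, htL, not_not.mp fun h => htL (SigmaTrans.alpha_subset_sigma hG c.maxL ⟨ht, h⟩), ht1⟩
    obtain ⟨B, hB, hBF⟩ := TauTwo.exists_pair_complement hG c.maxL hF hτ
    obtain ⟨-, hmem, -⟩ := TauTwo.le_normalizer_pair hG c.maxL hB htL hF hBF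
    obtain ⟨hCL, -⟩ := TauTwo.centralizer_line_unique hG c.maxL hB (hBF.trans hF.1) htL
      (fun w hw => hmem w (hWF hw) (orderOf_dvd_iff_pow_eq_one.mp (hW ▸ W.orderOf_dvd_natCard hw)))
      (ne_bot_of_card_eq hW) hneW
    exact c.ne hG (honly.2 L c.maxL hCL)
  rcases tau_of_rank_one (hW ▸ card_dvd_of_le (hWL.trans inf_le_right)) htL ht1 with hτ | hτ
  · exact c.not_le_of_centralizer_le hG hX hXE hmove
      (only_of_fixed hG c.maxL hτ hW (hWL.trans inf_le_right) hX (le_inf hXO (le_centralizer_iff.mp hWX))).1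
  -- the mirrored configuration
  have c₂ : Cfg L F W M t := ⟨c.maxL, hF, hτ, hW, hWF, hneW, c.max, normalizer_le_of_only hG hW honly⟩
  obtain ⟨r, Y, hr, hY, hYF, hYmove⟩ := c₂.exists_mover hG
  have := Fact.mk hr
  have hr1 := c₂.tau1_of_moves hG hY hYF hYmove
  have hYM : Y ≤ M := hYF.trans (c₂.EL hG)
  have hXW₂ : X ≤ Cfsg.sigmaCore L ⊓ M := le_inf hXO hXM
  by_cases hrM : r ∈ Cfsg.sigma M
  · obtain ⟨R, hR, hRY⟩ := exists_line hY fun e => hYmove (e ▸ bot_le)
    have hYX : Y ≤ centralizer (X : Set G) := (centralizes_inf hG c.maxL c.max (c.nconj' hG) hrM hr1.2.1 hY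
      (hYF.trans hF.1) hYM).trans (Subgroup.centralizer_le hXW₂)
    exact c.not_le_of_centralizer_le hG hX hXE hmove (only_of_fixed hG c.maxL hr1 hR
      ((hRY.trans hYF).trans hF.1) hX (le_inf hXO (le_centralizer_iff.mp (hRY.trans hYX)))).1
  · set W₂ := Cfsg.sigmaCore L ⊓ M with hW₂
    have hYW₂ : Y ≤ normalizer (W₂ : Set G) :=
      (le_inf ((hYF.trans hF.1).trans (le_normalizer_sigmaCore L)) (hYM.trans le_normalizer)).trans
        inf_normalizer_le_normalizer_inf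
    have hcop : (Nat.card Y).Coprime (Nat.card W₂) :=
      (TauTwo.coprime_sigmaCore hG c.maxL hr1.2.1 hY).coprime_dvd_right (card_dvd_of_le inf_le_left)
    obtain ⟨S₂, hS₂⟩ := Core.exists_invariant_sylow (A := Y) (K := W₂) hYW₂ hcop
      (Or.inl (hG.2.2.2 Y (Uniqueness.ne_top_of_pGroup hG hY))) s
    set S := (S₂ : Subgroup W₂).map W₂.subtype with hS
    have hSne : S ≠ ⊥ := fun e => by
      have h0 : (S₂ : Subgroup W₂) = ⊥ := (map_eq_bot_iff_of_injective _ W₂.subtype_injective).mp e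
      have := S₂.not_dvd_index
      rw [h0, index_bot] at this
      exact this (hX ▸ card_dvd_of_le hXW₂)
    obtain ⟨X', hX', hX'S⟩ := exists_line (S₂.2.map W₂.subtype) hSne
    have hX'W₂ : X' ≤ W₂ := hX'S.trans (map_subtype_le _)
    have hSM : S ≤ M := (map_subtype_le _).trans inf_le_right
    have hSc : IsCyclic S := cyclic_of_rank hG hs.2.2.2.2 (S₂.2.map _) hSM
    have hYX' : Y ≤ centralizer (X' : Set G) := le_centralizer_of_not_dvd hX' (hX'S.trans hSM) hs.2.2.2.1 hYM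
      (hS₂.trans (SigmaEmbedding.normalizer_le_of_cyclic hSc hX'S))
    obtain ⟨Z, hZ, hZY⟩ := exists_line hY fun e => hYmove (e ▸ bot_le)
    have hrr : Cfsg.PRankLE r 1 M := by
      by_contra h
      obtain ⟨E', hE', hPE'⟩ := TauTwo.exists_complement_ge hG c.max (hX'S.trans hSM) fun v hv hd => by
        rw [(Nat.prime_dvd_prime_iff_eq hv Fact.out).mp (hX' ▸ hd)]; exact hs.2.1
      obtain ⟨A, hA, hAM⟩ := TauTwo.exists_isPair h
      obtain ⟨A', hA', hA'E⟩ := TauTwo.exists_pair_complement hG c.max c.compl (hA.tau2_of_not_sigma hG c.max hAM hrM)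
      exact not_le_of_rank hA' (c.rank_one hG (hA'.dvd_card.trans (card_dvd_of_le hA'E))) (hA'E.trans c.compl.1)
    have hW₂eq := c₂.fixed_eq hG
    have hWX' : W ≤ Cfsg.sigmaCore M ⊓ centralizer (X' : Set G) :=
      le_inf (hWP.trans inf_le_left) (le_centralizer_iff.mp ((hX'W₂.trans hW₂eq.ge).trans inf_le_right))
    exact hYmove ((centralizes_fixed hG c.max hs hX' (hX'S.trans hSM) hrM hrr hY hYM hYX').trans
      (Subgroup.centralizer_le hWX'))

/-- A line moving `P` fixes a nontrivial point of `L_σ`. -/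
theorem Cfg.moves_nonregular_L (c : Cfg M E P L p) (hG : Cfsg.IsMinSimpleOddOrder G) (hX : Nat.card X = s)
    (hXE : X ≤ E) (hmove : ¬ X ≤ centralizer (P : Set G)) :
    Cfsg.sigmaCore L ⊓ centralizer (X : Set G) ≠ ⊥ := by
  intro hreg
  have hsL := c.moves_not_sigma hG hX hXE hmove
  have hs := c.tau1_of_moves hG (isPGroup_of_card_eq hX) hXE hmove
  have hXL : X ≤ L := hXE.trans (c.EL hG)
  have hXM : X ≤ M := hXE.trans c.compl.1
  obtain ⟨⟨x, hx⟩, hx1⟩ := X.ne_bot_iff_exists_ne_one.mp (ne_bot_of_card_eq hX)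
  have hxo : orderOf x = s := by
    rcases (Nat.dvd_prime Fact.out).mp (hX ▸ X.orderOf_dvd_natCard hx) with h | h
    · exact absurd (Subtype.ext (orderOf_eq_one_iff.mp h)) hx1
    · exact h
  have hXz : zpowers x = X := eq_of_le_of_card_ge (zpowers_le.mpr hx) (by rw [hX, Nat.card_zpowers, hxo])
  have hnil : Group.IsNilpotent (Cfsg.sigmaCore L) := NonKappa.isNilpotent_of_fpf_elem hxo
    (le_normalizer_sigmaCore L (hXL hx))
    (by rw [SylowUnique.centralizer_singleton_eq, hXz]; exact hreg)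
  set W := Cfsg.sigmaCore M ⊓ L with hW
  have hWσ : ∀ v : ℕ, v.Prime → v ∣ Nat.card W → v ∉ Cfsg.sigma L := fun v hv hd hvL => by
    have := Fact.mk hv
    obtain ⟨Q₀⟩ : Nonempty (Sylow v ↥(Cfsg.sigmaCore L)) := inferInstance
    obtain ⟨Q, hQ⟩ := TauTwo.sigma_sylow_top hG c.maxL hvL Q₀
    have hQL : (Q : Subgroup G) ≤ Cfsg.sigmaCore L := hQ.le.trans (map_subtype_le _)
    have hvM : v ∈ Cfsg.sigma M := TauTwo.mem_sigma_of_dvd hv (hd.trans (card_dvd_of_le inf_le_left)) hG c.max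
    obtain ⟨h, hh⟩ := SigmaTrans.exists_conj_le hvM Q.2
    have hQM : (Q : Subgroup G) ≤ M.map (MulAut.conj h).toMonoidHom := fun b hb =>
      Transfer.mem_map_conj.mpr (by simpa [mul_assoc] using hh b hb)
    have hvM' : v ∈ Cfsg.sigma (M.map (MulAut.conj h).toMonoidHom) :=
      SigmaEmbedding.sigma_of_conj (g := h⁻¹) (by rw [map_conj_inv]; exact hvM)
    have hle := (TauTwo.le_normalizer_of_nilpotent hnil Q hQL).trans (TauTwo.sylow_normalizer_le hvM' Q hQM)
    exact c.nconj hG h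
      ((c.maxL.le_iff.mp hle).resolve_left (SylowUnique.isCoatom_conj c.max h).1).symm
  have hXW : X ≤ normalizer (W : Set G) :=
    (le_inf (hXM.trans (le_normalizer_sigmaCore M)) (hXL.trans le_normalizer)).trans
      inf_normalizer_le_normalizer_inf
  have hcop : (Nat.card X).Coprime (Nat.card W) :=
    (TauTwo.coprime_sigmaCore hG c.max hs.2.1 (isPGroup_of_card_eq hX)).coprime_dvd_right (card_dvd_of_le inf_le_left)
  have hWne : W ≠ ⊥ := fun e => c.nreg ((c.fixed_eq hG).trans e)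
  obtain ⟨t, ht, hdt⟩ := Nat.exists_prime_and_dvd (fun h1 => hWne (eq_bot_of_card_eq _ h1))
  have := Fact.mk ht
  have htL := hWσ t ht hdt
  have htM : t ∈ Cfsg.sigma M := TauTwo.mem_sigma_of_dvd ht (hdt.trans (card_dvd_of_le inf_le_left)) hG c.max
  obtain ⟨T₀, hT₀⟩ := Core.exists_invariant_sylow (A := X) (K := W) hXW hcop
    (Or.inl (hG.2.2.2 X (Uniqueness.ne_top_of_pGroup hG (isPGroup_of_card_eq hX)))) t
  set T := (T₀ : Subgroup W).map W.subtype with hT
  have hTne : T ≠ ⊥ := fun e => by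
    have h0 : (T₀ : Subgroup W) = ⊥ := (map_eq_bot_iff_of_injective _ W.subtype_injective).mp e
    have := T₀.not_dvd_index
    rw [h0, index_bot] at this
    exact this hdt
  have hTW : T ≤ W := map_subtype_le _
  have hTL : T ≤ L := hTW.trans inf_le_right
  obtain ⟨V, hV, hVT⟩ := exists_line (T₀.2.map W.subtype) hTne
  have hVW : V ≤ W := hVT.trans hTW
  have hVP : P ≤ Cfsg.sigmaCore L ⊓ centralizer (V : Set G) :=
    le_inf (c.leP_core hG) (le_centralizer_iff.mp ((hVW.trans (c.fixed_eq hG).ge).trans inf_le_right))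
  have hneV : Cfsg.sigmaCore L ⊓ centralizer (V : Set G) ≠ ⊥ := fun e =>
    ne_bot_of_card_eq c.cardP (le_bot_iff.mp (e ▸ hVP))
  obtain ⟨F, hF, hKF⟩ := TauTwo.exists_complement_ge hG c.maxL (sup_le hXL hTL) fun v hv hd => by
    rcases hv.dvd_mul.mp (hd.trans (Core.card_sup_dvd X T hT₀)) with h | h
    · rw [hX] at h; rw [(Nat.prime_dvd_prime_iff_eq hv Fact.out).mp h]; exact hsL
    · exact hWσ v hv (h.trans (card_dvd_of_le hTW))
  have hXF : X ≤ F := le_sup_left.trans hKF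
  have hTF : T ≤ F := le_sup_right.trans hKF
  by_cases ht1 : Cfsg.PRankLE t 1 L
  swap
  · have hτ : t ∈ Cfsg.tau2 L :=
      ⟨ht, htL, not_not.mp fun h => htL (SigmaTrans.alpha_subset_sigma hG c.maxL ⟨ht, h⟩), ht1⟩
    obtain ⟨B, hB, hBF⟩ := TauTwo.exists_pair_complement hG c.maxL hF hτ
    obtain ⟨-, hmem, -⟩ := TauTwo.le_normalizer_pair hG c.maxL hB htL hF hBF
    have hVu := TauTwo.centralizer_line_unique hG c.maxL hB (hBF.trans hF.1) htL
      (fun w hw => hmem w ((hVT.trans hTF) hw) (orderOf_dvd_iff_pow_eq_one.mp (hV ▸ V.orderOf_dvd_natCard hw)))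
      (ne_bot_of_card_eq hV) hneV
    have hVM : V ≤ M := hVW.trans (inf_le_left.trans (sigmaCore_le M))
    have hNV := normalizer_le_of_only hG hV hVu
    obtain ⟨S, hS, hVS, hSM, hSL, hmax⟩ := SigmaEmbedding.exists_max (isPGroup_of_card_eq hV) hVM (hVW.trans inf_le_right)
    obtain ⟨-, hnd⟩ := SigmaEmbedding.sylow_inf hG c.max htM (ne_bot_of_card_eq hV) hNV hS hVS hSM hSL hmax
    exact KappaSigma.not_noncyclic hG c.max c.maxL (c.ne hG) htL hS
      (fun hc => ht1 (CyclicPrimeAction.prankLE_one hSL hnd hS hc)) hSM hSL c.cardP (c.leP_core hG) c.leM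
  rcases tau_of_rank_one (hV ▸ card_dvd_of_le (hVW.trans inf_le_right)) htL ht1 with hτ | hτ
  · have hXV : X ≤ centralizer (V : Set G) :=
      (centralizes_of_not_dvd (T₀.2.map W.subtype) hTL hτ.2.2.2.1 hXL hT₀).trans (Subgroup.centralizer_le hVT)
    have h1 := CentTauOne.centralizer_le_centralizer hG c.maxL hF hτ (hVT.trans hTF) hV (R := X)
      (le_inf hXF hXV) (hX.symm ▸ (Fact.out : s.Prime))
    exact hmove (le_centralizer_iff.mp (hVP.trans (h1.trans inf_le_right)))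
  obtain ⟨K, c₁⟩ := exists_cfg hG c.maxL hF hτ hV (hVT.trans hTF) hneV
  have hs1 : Cfsg.PRankLE s 1 L := c₁.rank_one hG (hX ▸ card_dvd_of_le hXF)
  rcases tau_of_rank_one (hX ▸ card_dvd_of_le hXL) hsL hs1 with hsτ | hsτ
  · exact c₁.tau1_nonregular hG hsτ hX hXF hreg
  have hVX : V ≤ Cfsg.sigmaCore M ⊓ centralizer (X : Set G) := le_inf (hVW.trans inf_le_left)
    (derived_commutes hG c.maxL hF (le_derived hG c.maxL hF hτ (isPGroup_of_card_eq hV) (hVT.trans hTF))
      (le_derived hG c.maxL hF hsτ (isPGroup_of_card_eq hX) hXF))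
  have honly := only_of_fixed hG c.max hs hX hXM hV hVX
  obtain ⟨r, Y, hr, hY, hYF, hYmove⟩ := c₁.exists_mover hG
  have := Fact.mk hr
  have hr1 := c₁.tau1_of_moves hG hY hYF hYmove
  obtain ⟨Z, hZ, hZY⟩ := exists_line hY fun e => hYmove (e ▸ bot_le)
  have hYN : Y ≤ normalizer (X : Set G) := hYF.trans (le_normalizer_line hG c.maxL hF hsτ hX hXF)
  have hYM : Y ≤ M :=
    (hYF.trans (le_normalizer_line hG c.maxL hF hτ hV (hVT.trans hTF))).trans (normalizer_le_of_only hG hV honly)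
  have hYX : Y ≤ centralizer (X : Set G) := le_centralizer_of_not_dvd hX hXM hs.2.2.2.1 hYM hYN
  by_cases hrM : r ∈ Cfsg.sigma M
  · have h1 := CentTauOne.centralizer_le_centralizer hG c.maxL hF hr1 (hZY.trans hYF) hZ (R := X)
      (le_inf hXF (le_centralizer_iff.mp (hZY.trans hYX))) (hX.symm ▸ (Fact.out : s.Prime))
    exact c₁.line_nonregular hG hY hYF hYmove hZ hZY (le_bot_iff.mp (hreg ▸ h1))
  · have hrr : Cfsg.PRankLE r 1 M := by
      by_contra h
      obtain ⟨A, hA, hAM⟩ := TauTwo.exists_isPair h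
      obtain ⟨A', hA', hA'E⟩ := TauTwo.exists_pair_complement hG c.max c.compl (hA.tau2_of_not_sigma hG c.max hAM hrM)
      exact not_le_of_rank hA' (c.rank_one hG (hA'.dvd_card.trans (card_dvd_of_le hA'E))) (hA'E.trans c.compl.1)
    exact hYmove ((centralizes_fixed hG c.max hs hX hXM hrM hrr hY hYM hYX).trans (Subgroup.centralizer_le hVX))

/-- A line moving `P` has rank one in `L`. -/
theorem Cfg.moves_rank_one (c : Cfg M E P L p) (hG : Cfsg.IsMinSimpleOddOrder G) (hX : Nat.card X = s)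
    (hXE : X ≤ E) (hmove : ¬ X ≤ centralizer (P : Set G)) : Cfsg.PRankLE s 1 L := by
  by_contra hr1
  have hsL := c.moves_not_sigma hG hX hXE hmove
  have hs := c.tau1_of_moves hG (isPGroup_of_card_eq hX) hXE hmove
  have hXL : X ≤ L := hXE.trans (c.EL hG)
  obtain ⟨A₀, hA₀, hA₀L⟩ := TauTwo.exists_isPair hr1
  obtain ⟨F, hF, hXF⟩ := TauTwo.exists_complement_ge hG c.maxL hXL fun v hv hd => by
    rw [(Nat.prime_dvd_prime_iff_eq hv Fact.out).mp (hX ▸ hd)]; exact hsL
  obtain ⟨B, hB, hBF⟩ := TauTwo.exists_pair_complement hG c.maxL hF (hA₀.tau2_of_not_sigma hG c.maxL hA₀L hsL)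
  obtain ⟨-, hmem, -⟩ := TauTwo.le_normalizer_pair hG c.maxL hB hsL hF hBF
  have hu := TauTwo.centralizer_line_unique hG c.maxL hB (hBF.trans hF.1) hsL
    (fun w hw => hmem w (hXF hw) (orderOf_dvd_iff_pow_eq_one.mp (hX ▸ X.orderOf_dvd_natCard hw)))
    (ne_bot_of_card_eq hX) (c.moves_nonregular_L hG hX hXE hmove)
  exact hsL (KappaSigma.sigma_of_normalizer hG c.max hs.2.1 hs.2.2.2.2 hX (hXE.trans c.compl.1)
    (fun e => c.moves_nonregular hG hX hXE hmove (e ▸ bot_le)) c.maxL (normalizer_le_of_only hG hX hu))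

end CfsgLib.OddLocal.TauThree
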