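import Cfsg.Agent.Lib.OddLocal.TauThreeMoves
import Cfsg.Agent.S1446

/-!
A nonregular `τ₃`-line is centralized by all lines of `E`, and all have the same fixed points.
-/

set_option autoImplicit false
set_option linter.unusedSectionVars false

namespace CfsgLib.OddLocal.TauThree

open Subgroup
open CfsgLib.TwoGroups
open PrimeActionTools FixedTauOne
open SylowUnique (Only)
open TauTwoFacts (rankTwo structure_tau2)
open SigmaOrderP (sigmaCore_le le_normalizer_sigmaCore le_sigmaCore)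
open scoped commutatorElement

variable {G : Type*} [Group G] [Finite G] {p q r s : ℕ} [Fact p.Prime] [Fact q.Prime] [Fact r.Prime] [Fact s.Prime]
  {M E L H P R X Y Z : Subgroup G}

/-- A `p'`-group moving a line of order `p` is a group for a smaller prime. -/
theorem pgroup_lt (hP : Nat.card P = p) (hY : IsPGroup s Y) (hn : Y ≤ normalizer (P : Set G))
    (hmove : ¬ Y ≤ centralizer (P : Set G)) : s < p := by
  have hpp := (Fact.out : p.Prime)
  have hss := (Fact.out : s.Prime)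
  set f : Y →* MulAut P := P.normalizerMonoidHom.comp (inclusion hn) with hf
  obtain ⟨k, hk⟩ := IsPGroup.iff_card.mp (hY.of_surjective f.rangeRestrict f.rangeRestrict_surjective)
  have hk0 : k ≠ 0 := by
    rintro rfl
    refine hmove fun x hx => ?_
    have hbot : f.range = ⊥ := eq_bot_of_card_eq _ (hk.trans (pow_zero s))
    have h1 : f ⟨x, hx⟩ = 1 := mem_bot.mp (hbot ▸ ⟨⟨x, hx⟩, rfl⟩)
    have h2 : (⟨x, hn hx⟩ : normalizer (P : Set G)) ∈ P.normalizerMonoidHom.ker := h1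
    rw [normalizerMonoidHom_ker] at h2
    exact h2
  have hd : s ∣ Nat.card (MulAut P) :=
    ((dvd_pow_self s hk0).trans hk.symm.dvd).trans f.range.card_subgroup_dvd_card
  have : IsCyclic P := isCyclic_of_prime_card hP
  rw [IsCyclic.card_mulAut, hP, Nat.totient_prime hpp] at hd
  have h2 := hpp.two_le
  have h3 : s ≤ p - 1 := Nat.le_of_dvd (by omega) hd
  omega

theorem conj_le_sup (hE : Cfsg.IsComplIn E (Cfsg.sigmaCore M) M) (hn : E ≤ normalizer (P : Set G)) (hPM : P ≤ M)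
    {m : G} (hm : m ∈ M) : P.map (MulAut.conj m).toMonoidHom ≤ Cfsg.sigmaCore M ⊔ P := by
  obtain ⟨a, ha, b, hb, rfl⟩ := hE.2.2.2 m hm
  rintro _ ⟨x, hx, rfl⟩
  show a * b * x * (a * b)⁻¹ ∈ _
  have hbx : b * x * b⁻¹ * x⁻¹ ∈ Cfsg.sigmaCore M := by
    have h1 : x * b⁻¹ * x⁻¹ ∈ Cfsg.sigmaCore M :=
      (mem_normalizer_iff.mp (le_normalizer_sigmaCore M (hPM hx)) b⁻¹).mp (inv_mem hb)
    simpa [mul_assoc] using mul_mem hb h1
  have h1 : a * (b * x * b⁻¹ * x⁻¹) * a⁻¹ ∈ Cfsg.sigmaCore M :=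
    (mem_normalizer_iff.mp (le_normalizer_sigmaCore M (hE.1 ha)) _).mp hbx
  have h2 : a * x * a⁻¹ ∈ P := (mem_normalizer_iff.mp (hn ha) x).mp hx
  have e : a * b * x * (a * b)⁻¹ = a * (b * x * b⁻¹ * x⁻¹) * a⁻¹ * (a * x * a⁻¹) := by group
  rw [e]
  exact mul_mem (mem_sup_left h1) (mem_sup_right h2)

theorem exists_conj_of_rank_one (hG : Cfsg.IsMinSimpleOddOrder G) (hr : Cfsg.PRankLE p 1 M)
    (hP : Nat.card P = p) (hPM : P ≤ M) (hR : Nat.card R = p) (hRM : R ≤ M) :
    ∃ m ∈ M, R = P.map (MulAut.conj m).toMonoidHom := by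
  obtain ⟨T, hT⟩ := ((isPGroup_of_card_eq hP).comap_subtype (K := M)).exists_le_sylow
  obtain ⟨T', hT'⟩ := ((isPGroup_of_card_eq hR).comap_subtype (K := M)).exists_le_sylow
  obtain ⟨m, hm⟩ := MulAction.exists_smul_eq M T T'
  refine ⟨m, m.2, eq_of_cyclic (cyclic_of_rank hG hr (T'.2.map M.subtype) (map_subtype_le _)) hR
    (by rw [card_map_of_injective (MulAut.conj (m : G)).injective, hP]) (fun x hx => ⟨⟨x, hRM hx⟩, hT' hx, rfl⟩) ?_⟩
  rw [← hm, ← Core.sylow_map_conj_smul]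
  rintro _ ⟨x, hx, rfl⟩
  exact smul_mem_pointwise_smul x (MulAut.conj (m : G)) _ ⟨⟨x, hPM hx⟩, hT hx, rfl⟩

/-- BG 13.8: no line moves `P`. -/
theorem Cfg.centralizes_of_line (c : Cfg M E P L p) (hG : Cfsg.IsMinSimpleOddOrder G) (hX : Nat.card X = s)
    (hXE : X ≤ E) (ih : Rigid G s) : X ≤ centralizer (P : Set G) := by
  by_contra hmove
  have hss := (Fact.out : s.Prime)
  have hs := c.tau1_of_moves hG (isPGroup_of_card_eq hX) hXE hmove
  have hsL := c.moves_not_sigma hG hX hXE hmove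
  have hs1 := c.moves_rank_one hG hX hXE hmove
  have hXM : X ≤ M := hXE.trans c.compl.1
  have hXL : X ≤ L := hXE.trans (c.EL hG)
  have hneM : Cfsg.sigmaCore M ⊓ centralizer (X : Set G) ≠ ⊥ := fun e =>
    c.moves_nonregular hG hX hXE hmove (e ▸ bot_le)
  have hneL := c.moves_nonregular_L hG hX hXE hmove
  have hpack := pack_of_rank_one hG c.maxL hX hXL hsL hs1 hneL ih
  obtain ⟨t, Y, ht, hY, hYle⟩ := exists_prime_sub hneM
  obtain ⟨u, W, hu, hW, hWle⟩ := exists_prime_sub hneL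
  have := Fact.mk ht
  have := Fact.mk hu
  have hYo := only_of_fixed hG c.max hs hX hXM hY hYle
  obtain ⟨hWo, hWσ⟩ := hpack.1 u W hu hW hWle
  obtain ⟨H, hH, hNH⟩ := (eq_top_or_exists_le_coatom _).resolve_left
    (TransitivityHyp.normalizer_ne_top hG (ne_bot_of_card_eq hX)
      (Uniqueness.ne_top_of_pGroup hG (isPGroup_of_card_eq hX)))
  have hsH : s ∈ Cfsg.sigma H := KappaSigma.sigma_of_normalizer hG c.max hs.2.1 hs.2.2.2.2 hX hXM hneM hH hNH
  have hHM : ∀ g : G, H ≠ M.map (MulAut.conj g).toMonoidHom := fun g e =>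
    hs.2.1 (SigmaEmbedding.sigma_of_conj (e ▸ hsH))
  have hHL : ∀ g : G, H ≠ L.map (MulAut.conj g).toMonoidHom := fun g e =>
    hsL (SigmaEmbedding.sigma_of_conj (e ▸ hsH))
  have hXO : X ≤ Cfsg.sigmaCore H := le_sigmaCore hG hH hsH (isPGroup_of_card_eq hX) (le_normalizer.trans hNH)
  have hCH : centralizer (X : Set G) ≤ H := (Subgroup.centralizer_le_normalizer _).trans hNH
  have hYC : Y ≤ centralizer (X : Set G) := hYle.trans inf_le_right
  have hWC : W ≤ centralizer (X : Set G) := hWle.trans inf_le_right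
  have htH : t ∉ Cfsg.sigma H := not_sigma_of_fixed hG c.max hs hX hXM hY hYle hH hHM
  have huH : u ∉ Cfsg.sigma H := hWσ H hH hHL
  -- both have rank one in `H`
  have hrank : ∀ (v : ℕ) (V : Subgroup G), Fact v.Prime → Nat.card V = v → V ≤ centralizer (X : Set G) →
      v ∉ Cfsg.sigma H → ∀ N : Subgroup G, Only N (centralizer (V : Set G)) → H ≠ N → Cfsg.PRankLE v 1 H := by
    intro v V hv hV hVC hvH N honly hne
    by_contra h
    have hτ : v ∈ Cfsg.tau2 H :=
      ⟨Fact.out, hvH, not_not.mp fun h' => hvH (SigmaTrans.alpha_subset_sigma hG hH ⟨Fact.out, h'⟩), h⟩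
    obtain ⟨F, hF, hVF⟩ := TauTwo.exists_complement_ge hG hH (hVC.trans hCH) fun w hw hd => by
      rw [(Nat.prime_dvd_prime_iff_eq hw Fact.out).mp (hV ▸ hd)]; exact hvH
    obtain ⟨B, hB, hBF⟩ := TauTwo.exists_pair_complement hG hH hF hτ
    obtain ⟨-, hmem, -⟩ := TauTwo.le_normalizer_pair hG hH hB hvH hF hBF
    exact hne (honly.2 H hH (TauTwo.centralizer_line_unique hG hH hB (hBF.trans hF.1) hvH
      (fun w hw => hmem w (hVF hw) (orderOf_dvd_iff_pow_eq_one.mp (hV ▸ V.orderOf_dvd_natCard hw)))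
      (ne_bot_of_card_eq hV) fun e => ne_bot_of_card_eq hX
        (le_bot_iff.mp (e ▸ le_inf hXO (le_centralizer_iff.mp hVC)))).1)
  have ht1 := hrank t Y ‹_› hY hYC htH M hYo (fun e => hs.2.1 (e ▸ hsH))
  have hu1 := hrank u W ‹_› hW hWC huH L hWo (fun e => hsL (e ▸ hsH))
  -- a Hall subgroup of `C_H(X)` containing `Y` and a conjugate of `W`
  set D := centralizer (X : Set G) with hD
  have : Group.IsSolvable D := CfsgLib.Core.isSolvable_of_le (hG.2.2.2 H hH.1) hCH
  set π : Set ℕ := {v | v = t ∨ v = u} with hπ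
  obtain ⟨D₁, hD₁, hYD₁⟩ := Core.exists_piHall_ge (G := ↥D) (π := π) (K := Y.subgroupOf D) fun v hv hd => by
    rw [Nat.card_congr (subgroupOfEquivOfLe hYC).toEquiv, hY] at hd
    exact Or.inl ((Nat.prime_dvd_prime_iff_eq hv ht).mp hd)
  obtain ⟨⟨g, hgD⟩, hgle⟩ := Core.exists_conj_le_piHall hD₁ (K := W.subgroupOf D) fun v hv hd => by
    rw [Nat.card_congr (subgroupOfEquivOfLe hWC).toEquiv, hW] at hd
    exact Or.inr ((Nat.prime_dvd_prime_iff_eq hv hu).mp hd)
  set V := W.map (MulAut.conj g).toMonoidHom with hV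
  set D' := D₁.map D.subtype with hD'
  have hVD : V ≤ D' := by
    rintro _ ⟨x, hx, rfl⟩
    exact ⟨_, hgle ((Subgroup.smul_mem_pointwise_smul_iff (a := MulAut.conj (⟨g, hgD⟩ : D))).mpr
      (show (⟨x, hWC hx⟩ : D) ∈ W.subgroupOf D from hx)), rfl⟩
  have hYD : Y ≤ D' := fun x hx => ⟨⟨x, hYC hx⟩, hYD₁ (mem_subgroupOf.mpr hx), rfl⟩
  have hVcard : Nat.card V = u := by rw [hV, card_map_of_injective (MulAut.conj g).injective, hW]
  have hD'π : ∀ v : ℕ, v.Prime → v ∣ Nat.card D' → v ∈ π := fun v hv hd => by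
    rw [hD', card_map_of_injective D.subtype_injective] at hd
    exact hD₁.1 v hv hd
  obtain ⟨F, hF, hDF⟩ := TauTwo.exists_complement_ge hG hH ((map_subtype_le _).trans hCH : D' ≤ H) fun v hv hd => by
    rcases hD'π v hv hd with h | h
    · rw [h]; exact htH
    · rw [h]; exact huH
  have hVY : V ≤ normalizer (Y : Set G) ∨ Y ≤ normalizer (V : Set G) := by
    rcases tau_of_rank_one (hY ▸ card_dvd_of_le (hYC.trans hCH)) htH ht1 with ht' | ht'
    swap
    · exact Or.inl ((hVD.trans hDF).trans (le_normalizer_line hG hH hF ht' hY (hYD.trans hDF)))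
    rcases tau_of_rank_one (hW ▸ card_dvd_of_le (hWC.trans hCH)) huH hu1 with hu' | hu'
    swap
    · exact Or.inr ((hYD.trans hDF).trans (le_normalizer_line hG hH hF hu' hVcard (hVD.trans hDF)))
    left
    have : Group.IsSolvable F := CfsgLib.Core.isSolvable_of_le (hG.2.2.2 H hH.1) hF.1
    obtain ⟨H₁, hH₁, hle⟩ := Core.exists_piHall_ge (G := ↥F) (π := Cfsg.tau1 H) (K := D'.subgroupOf F) fun v hv hd => by
      rw [Nat.card_congr (subgroupOfEquivOfLe hDF).toEquiv] at hd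
      rcases hD'π v hv hd with h | h
      · rw [h]; exact ht'
      · rw [h]; exact hu'
    have hc : IsCyclic (H₁.map F.subtype) :=
      (SigmaComplement.complement_structure hG hH hF).2.1 _ ⟨map_subtype_le _, fun v hv hd => by
        rw [card_map_of_injective F.subtype_injective] at hd
        exact hH₁.1 v hv hd, fun v hv hvπ => by
        rw [relIndex, subgroupOf, comap_map_eq_self_of_injective F.subtype_injective]
        exact hH₁.2 v hv hvπ⟩
    have hle' : D' ≤ H₁.map F.subtype := fun x hx => ⟨⟨x, hDF hx⟩, hle (mem_subgroupOf.mpr hx), rfl⟩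
    refine le_trans ?_ (Subgroup.centralizer_le_normalizer _)
    exact fun a ha => mem_centralizer_iff.mpr fun b hb => congrArg Subtype.val
      ((IsCyclic.isMulCommutative (α := ↥(H₁.map F.subtype))).is_comm.comm ⟨b, hle' (hYD hb)⟩ ⟨a, hle' (hVD ha)⟩)
  set L₁ := L.map (MulAut.conj g).toMonoidHom with hL₁
  have hL₁max : IsCoatom L₁ := SylowUnique.isCoatom_conj c.maxL g
  have hfixX : X.map (MulAut.conj g).toMonoidHom = X :=
    Transfer.map_conj_eq_self_iff.mpr (Subgroup.centralizer_le_normalizer _ hgD)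
  have hXL₁ : X ≤ L₁ := by rw [← hfixX]; exact map_mono hXL
  have huL : u ∈ Cfsg.sigma L :=
    TauTwo.mem_sigma_of_dvd hu (hW ▸ card_dvd_of_le (hWle.trans inf_le_left)) hG c.maxL
  have huL₁ : u ∈ Cfsg.sigma L₁ :=
    SigmaEmbedding.sigma_of_conj (g := g⁻¹) (by rw [hL₁, map_conj_inv]; exact huL)
  have hVL₁ : V ≤ Cfsg.sigmaCore L₁ ⊓ centralizer (X : Set G) :=
    le_inf (le_sigmaCore hG hL₁max huL₁ (isPGroup_of_card_eq hVcard)
      (map_mono ((hWle.trans inf_le_left).trans (sigmaCore_le L)))) (hVD.trans (map_subtype_le _))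
  have hsL₁ : s ∉ Cfsg.sigma L₁ := fun h => hsL (SigmaEmbedding.sigma_of_conj h)
  have hnc₁ : ∀ x : G, M ≠ L₁.map (MulAut.conj x).toMonoidHom := fun x e => by
    refine c.nconj' hG (x * g) ?_
    rw [e, hL₁, map_map]
    congr 1
    ext z
    simp [mul_assoc]
  have hnc₁' : ∀ x : G, L₁ ≠ M.map (MulAut.conj x).toMonoidHom := fun x e => by
    refine hnc₁ x⁻¹ ?_
    rw [e, map_conj_inv]
  have hpack₁ := pack_of_rank_one hG hL₁max hX hXL₁ hsL₁ (prankLE_conj hs1 g)
    (fun e => ne_bot_of_card_eq hVcard (le_bot_iff.mp (e ▸ hVL₁))) ih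
  -- `V` lies in `M`
  have hVM : V ≤ M := by
    rcases hVY with h | h
    · exact h.trans (normalizer_le_of_only hG hY hYo)
    have hYL₁ : Y ≤ L₁ := by
      refine h.trans ?_
      rw [hV, Transfer.normalizer_map_conj]
      exact map_mono (normalizer_le_of_only hG hW hWo)
    have htL₁ : t ∉ Cfsg.sigma L₁ := not_sigma_of_fixed hG c.max hs hX hXM hY hYle hL₁max hnc₁'
    obtain ⟨F₁, hF₁, hKF⟩ := TauTwo.exists_complement_ge hG hL₁max (sup_le hXL₁ hYL₁) fun v hv hd => by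
      rcases hv.dvd_mul.mp (hd.trans (Core.card_sup_dvd X Y
        ((le_centralizer_iff.mp hYC).trans (Subgroup.centralizer_le_normalizer _)))) with h' | h'
      · rw [hX] at h'; rw [(Nat.prime_dvd_prime_iff_eq hv hss).mp h']; exact hsL₁
      · rw [hY] at h'; rw [(Nat.prime_dvd_prime_iff_eq hv ht).mp h']; exact htL₁
    exact (hVL₁.trans (hpack₁.2 F₁ hF₁ (le_sup_left.trans hKF) Y (hY.symm ▸ ht)
      (le_inf (le_sup_right.trans hKF) hYC))).trans hYo.1
  have huM : u ∉ Cfsg.sigma M := (hpack₁.1 u V hu hVcard hVL₁).2 M c.max hnc₁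
  have hVX : V ≤ centralizer (X : Set G) := hVL₁.trans inf_le_right
  obtain ⟨E₂, hE₂, hKE⟩ := TauTwo.exists_complement_ge hG c.max (sup_le hXM hVM) fun v hv hd => by
    rcases hv.dvd_mul.mp (hd.trans (Core.card_sup_dvd X V
      ((le_centralizer_iff.mp hVX).trans (Subgroup.centralizer_le_normalizer _)))) with h' | h'
    · rw [hX] at h'; rw [(Nat.prime_dvd_prime_iff_eq hv hss).mp h']; exact hs.2.1
    · rw [hVcard] at h'; rw [(Nat.prime_dvd_prime_iff_eq hv hu).mp h']; exact huM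
  have hXE₂ : X ≤ E₂ := le_sup_left.trans hKE
  have hVE₂ : V ≤ E₂ := le_sup_right.trans hKE
  -- the line of `E₂`
  have hdp : p ∣ Nat.card E₂ := by
    by_contra hd
    have h1 : Nat.card M ∣ Nat.card E₂ * Nat.card (Cfsg.sigmaCore M) :=
      (card_dvd_of_le (fun m hm => by
        obtain ⟨a, ha, b, hb, rfl⟩ := hE₂.2.2.2 m hm
        exact mul_mem (mem_sup_left ha) (mem_sup_right hb) : M ≤ E₂ ⊔ Cfsg.sigmaCore M)).trans
        (Core.card_sup_dvd E₂ (Cfsg.sigmaCore M) (hE₂.1.trans (le_normalizer_sigmaCore M)))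
    rcases (Fact.out : p.Prime).dvd_mul.mp ((c.cardP ▸ card_dvd_of_le c.leM).trans h1) with h | h
    · exact hd h
    · exact c.tau.2.1 (TauTwo.mem_sigma_of_dvd Fact.out h hG c.max)
  obtain ⟨z, hz⟩ := exists_prime_orderOf_dvd_card' p hdp
  set P' := zpowers (z : G) with hP'
  have hP'card : Nat.card P' = p := by rw [hP', Nat.card_zpowers, orderOf_coe, hz]
  have hP'E : P' ≤ E₂ := zpowers_le.mpr z.2
  obtain ⟨m, hm, hmeq⟩ := exists_conj_of_rank_one hG c.tau.2.2.2 c.cardP c.leM hP'card (hP'E.trans hE₂.1)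
  have hne' : Cfsg.sigmaCore M ⊓ centralizer (P' : Set G) ≠ ⊥ := by
    intro e
    refine c.nreg (eq_bot_iff.mpr fun y hy => ?_)
    have h1 : m * y * m⁻¹ ∈ Cfsg.sigmaCore M ⊓ centralizer (P' : Set G) := by
      refine ⟨(mem_normalizer_iff.mp (le_normalizer_sigmaCore M hm) y).mp hy.1, mem_centralizer_iff.mpr ?_⟩
      rw [hmeq]
      rintro _ ⟨x, hx, rfl⟩
      show m * x * m⁻¹ * (m * y * m⁻¹) = m * y * m⁻¹ * (m * x * m⁻¹)
      have := mem_centralizer_iff.mp hy.2 x hx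
      calc m * x * m⁻¹ * (m * y * m⁻¹) = m * (x * y) * m⁻¹ := by group
        _ = m * (y * x) * m⁻¹ := by rw [this]
        _ = _ := by group
    rw [e, mem_bot, conj_eq_one_iff] at h1
    exact mem_bot.mpr h1
  set L' := L.map (MulAut.conj m).toMonoidHom with hL'
  have c' : Cfg M E₂ P' L' p := ⟨c.max, hE₂, c.tau, hP'card, hP'E, hne', SylowUnique.isCoatom_conj c.maxL m, by
    rw [hmeq, Transfer.normalizer_map_conj]; exact map_mono c.nle⟩
  have hmove' : ¬ X ≤ centralizer (P' : Set G) := fun hc => hmove fun x hx => mem_centralizer_iff.mpr fun y hy => by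
    have hback : P'.map (MulAut.conj m⁻¹).toMonoidHom = P := by rw [hmeq, map_conj_inv]
    have h1 : P ≤ Cfsg.sigmaCore M ⊔ P' := by
      conv_lhs => rw [← hback]
      exact conj_le_sup hE₂ (c'.E_normalizes hG) c'.leM (inv_mem hm)
    obtain ⟨b, hb, o, ho, rfl⟩ := (Core.mem_sup_iff_mul
      (c'.leM.trans (le_normalizer_sigmaCore M))).mp ((sup_comm _ P').le (h1 hy))
    have hxb : x * b = b * x := (mem_centralizer_iff.mp (hc hx) b hb).symm
    have h2 : x * (b * o) * x⁻¹ * (b * o)⁻¹ ∈ P ⊓ Cfsg.sigmaCore M := by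
      refine ⟨P.mul_mem ((mem_normalizer_iff.mp (c.E_normalizes hG (hXE hx)) _).mp hy) (P.inv_mem hy), ?_⟩
      have h3 : x * o * x⁻¹ * o⁻¹ ∈ Cfsg.sigmaCore M :=
        mul_mem ((mem_normalizer_iff.mp (le_normalizer_sigmaCore M (hXM hx)) o).mp ho) (inv_mem ho)
      have e : x * (b * o) * x⁻¹ * (b * o)⁻¹ = b * (x * o * x⁻¹ * o⁻¹) * b⁻¹ := by
        rw [← mul_assoc x b o, hxb]; group
      rw [e]
      exact (mem_normalizer_iff.mp (le_normalizer_sigmaCore M (c'.leM hb)) _).mp h3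
    rw [show P ⊓ Cfsg.sigmaCore M = ⊥ from inf_eq_bot_of_coprime
      (TauTwo.coprime_sigmaCore hG c.max c.tau.2.1 (isPGroup_of_card_eq c.cardP)), mem_bot,
      mul_inv_eq_one, mul_inv_eq_iff_eq_mul] at h2
    exact h2.symm
  have huL' : u ∈ Cfsg.sigma L' :=
    SigmaEmbedding.sigma_of_conj (g := m⁻¹) (by rw [hL', map_conj_inv]; exact huL)
  have hVL' : V ≤ Cfsg.sigmaCore L' ⊓ centralizer (X : Set G) :=
    le_inf (le_sigmaCore hG c'.maxL huL' (isPGroup_of_card_eq hVcard) (hVE₂.trans (c'.EL hG))) hVX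
  have hpack' := pack_of_rank_one hG c'.maxL hX (hXE₂.trans (c'.EL hG)) (c'.moves_not_sigma hG hX hXE₂ hmove')
    (c'.moves_rank_one hG hX hXE₂ hmove') (c'.moves_nonregular_L hG hX hXE₂ hmove') ih
  have hCV := (CentTauOne.centralizer_le_centralizer hG c.max hE₂ hs hXE₂ hX (R := V) (le_inf hVE₂ hVX)
    (hVcard.symm ▸ hu)).trans inf_le_right
  refine c'.moves_nonregular hG hX hXE₂ hmove' ((le_inf inf_le_left ?_).trans ((c'.fixed_eq hG).ge.trans inf_le_right))
  exact hCV.trans (hpack'.1 u V hu hVcard hVL').1.1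

/-- `τ₃ ∩ κ` forces all lines of `E` to share their fixed points and to centralize each other. -/
theorem rigid (hG : Cfsg.IsMinSimpleOddOrder G) (s : ℕ) : Rigid G s := by
  induction s using Nat.strong_induction_on with
  | _ p ihp =>
  intro M E P hM hE hp hP hPE hne R hR hRE
  have := Fact.mk hp.1
  obtain ⟨r, hr⟩ : ∃ r, Nat.card R = r := ⟨_, rfl⟩
  rw [hr] at hR
  have := Fact.mk hR
  obtain ⟨L, c⟩ := exists_cfg hG hM hE hp hP hPE hne
  have hline : ∀ (v : ℕ) (V : Subgroup G), Fact v.Prime → Nat.card V = v → V ≤ E → V ≤ centralizer (P : Set G) := by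
    intro v V _ hV hVE
    by_contra hmove
    exact hmove (c.centralizes_of_line hG hV hVE (ihp v (lt_of_moves hP hV (hVE.trans (c.E_normalizes hG)) hmove)))
  have hRP := hline r R ‹_› hr hRE
  refine ⟨hRP, ?_⟩
  obtain ⟨s, Y, hs, hY, hYE, hmove⟩ := c.exists_mover hG
  have := Fact.mk hs
  have hs1 := c.tau1_of_moves hG hY hYE hmove
  obtain ⟨Z, hZ, hZY⟩ := exists_line hY fun e => hmove (e ▸ bot_le)
  have hZE : Z ≤ E := hZY.trans hYE
  have hZP : Z ≤ centralizer (P : Set G) := hline s Z ‹_› hZ hZE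
  have hsL := c.mover_sigma hG hY hYE hmove hZ hZY hZP
  have hYW : Y ≤ centralizer ((Cfsg.sigmaCore M ⊓ centralizer (P : Set G) : Subgroup G) : Set G) := by
    rw [c.fixed_eq hG]
    exact centralizes_inf hG hM c.maxL (c.nconj hG) hsL hs1.2.1 hY (hYE.trans hE.1) (hYE.trans (c.EL hG))
  have hZeq : Cfsg.sigmaCore M ⊓ centralizer (Z : Set G) = Cfsg.sigmaCore M ⊓ centralizer (P : Set G) :=
    le_antisymm (CentTauOne.centralizer_le_centralizer hG hM hE hs1 hZE hZ
      (le_inf hPE (le_centralizer_iff.mp hZP)) (hP.symm ▸ hp.1))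
      (le_inf inf_le_left (le_centralizer_iff.mp (hZY.trans hYW)))
  have hEW : ∀ e ∈ E, ∀ y : G, y ∈ Cfsg.sigmaCore M ⊓ centralizer (P : Set G) →
      e * y * e⁻¹ ∈ Cfsg.sigmaCore M ⊓ centralizer (P : Set G) := by
    rw [c.fixed_eq hG]
    exact fun e he y hy => ⟨(mem_normalizer_iff.mp (le_normalizer_sigmaCore M (hE.1 he)) y).mp hy.1,
      L.mul_mem (L.mul_mem (c.EL hG he) hy.2) (L.inv_mem (c.EL hG he))⟩
  have hone : ∀ (v : ℕ) (V : Subgroup G), Fact v.Prime → v ∈ Cfsg.tau1 M → Nat.card V = v → V ≤ E →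
      Cfsg.sigmaCore M ⊓ centralizer (V : Set G) = Cfsg.sigmaCore M ⊓ centralizer (P : Set G) := by
    intro v V _ hv hV hVE
    obtain ⟨e, he, hiff⟩ := exists_conj_fixed hG hM hE hs1 hv hZ hZE hV hVE
    refine le_antisymm (fun y hy => ?_) (fun y hy => ?_)
    · have h1 : e⁻¹ * y * e⁻¹⁻¹ ∈ Cfsg.sigmaCore M :=
        (mem_normalizer_iff.mp (le_normalizer_sigmaCore M (hE.1 (inv_mem he))) y).mp hy.1
      have h2 : e⁻¹ * y * e⁻¹⁻¹ ∈ centralizer (Z : Set G) := (hiff _ h1).mpr (by simpa [mul_assoc] using hy.2)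
      have h3 := hEW e he _ (hZeq.le (mem_inf.mpr ⟨h1, h2⟩))
      simpa [mul_assoc] using h3
    · have h1 := hEW e⁻¹ (inv_mem he) y hy
      rw [← hZeq] at h1
      exact ⟨hy.1, by simpa [mul_assoc] using (hiff _ h1.1).mp h1.2⟩
  have hrE : r ∣ Nat.card E := hr ▸ card_dvd_of_le hRE
  have hr1 := c.rank_one hG hrE
  have hrσ := SigmaComplement.not_mem_sigma hG hM hE hrE
  rcases tau_of_rank_one (hrE.trans (card_dvd_of_le hE.1)) hrσ hr1 with hτ | hτ
  · exact hone r R ‹_› hτ hr hRE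
  have hRne : Cfsg.sigmaCore M ⊓ centralizer (R : Set G) ≠ ⊥ := by
    intro hreg
    have hYc : IsCyclic Y := cyclic_of_rank hG hs1.2.2.2.2 hY (hYE.trans hE.1)
    have hmoveR : ¬ Z ≤ centralizer (R : Set G) := fun hc => hne (by
      rw [← hZeq]
      exact le_bot_iff.mp (hreg ▸ CentTauOne.centralizer_le_centralizer hG hM hE hs1 hZE hZ
        (le_inf hRE (le_centralizer_iff.mp hc)) (hr.symm ▸ hR)))
    have hYR : Y ≤ normalizer (R : Set G) := hYE.trans (le_normalizer_line hG hM hE hτ hr hRE)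
    have hsr : s ≠ r := fun e => hτ.2.2.1 |> fun h => hs1.2.2.2.1 (e ▸ h)
    have hline : ∀ y ∈ Y, y ≠ 1 → Z ≤ zpowers y := by
      intro y hy hy1
      obtain ⟨Z', hZ', hZ'y⟩ := exists_line (hY.to_le (zpowers_le.mpr hy)) fun e => hy1 (zpowers_eq_bot.mp e)
      exact eq_of_cyclic hYc hZ hZ' hZY (hZ'y.trans (zpowers_le.mpr hy)) ▸ hZ'y
    have hzc : ∀ y : G, centralizer ((zpowers y : Subgroup G) : Set G) = centralizer ({y} : Set G) :=
      fun y => (SylowUnique.centralizer_singleton_eq y).symm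
    obtain ⟨⟨x, hx⟩, hx1⟩ := R.ne_bot_iff_exists_ne_one.mp (ne_bot_of_card_eq hr)
    have hxo : orderOf x = r := by
      rcases (Nat.dvd_prime hR).mp (hr ▸ R.orderOf_dvd_natCard hx) with h | h
      · exact absurd (Subtype.ext (orderOf_eq_one_iff.mp h)) hx1
      · exact h
    have hRz : zpowers x = R := eq_of_le_of_card_ge (zpowers_le.mpr hx) (by rw [hr, Nat.card_zpowers, hxo])
    have hnil : Group.IsNilpotent (Cfsg.sigmaCore M) := NonKappa.isNilpotent_of_fpf_elem hxo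
      (le_normalizer_sigmaCore M (hE.1 (hRE hx))) (by rw [← hzc, hRz]; exact hreg)
    have hRY : R ⊔ Y ≤ M := sup_le (hRE.trans hE.1) (hYE.trans hE.1)
    have h := Cfsg.Agent.S1446.result R Y (Cfsg.sigmaCore M) (ne_bot_of_card_eq hr)
      (fun e => hmove (e ▸ bot_le)) (inf_eq_bot_of_coprime (TauTwo.coprime_pGroups hsr.symm (isPGroup_of_card_eq hr) hY))
      hYR (fun y hy hy1 => by
        rw [← hzc]
        rcases (Nat.dvd_prime hR).mp (hr ▸ card_dvd_of_le (inf_le_left : R ⊓ centralizer ((zpowers y : Subgroup G) : Set G) ≤ R)) with h | h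
        · exact eq_bot_of_card_eq _ h
        · exact absurd ((hline y hy hy1).trans (le_centralizer_iff.mp
            (inf_eq_left.mp (eq_of_le_of_card_ge inf_le_left (by rw [hr, h]))))) hmoveR)
      (CfsgLib.Core.isSolvable_of_le (hG.2.2.2 M hM.1) hRY) (hG.1.of_dvd_nat (card_subgroup_dvd_card _))
      (TauTwo.sigmaCore_ne_bot hG hM) hnil ((hRE.trans hE.1).trans (le_normalizer_sigmaCore M))
      ((hYE.trans hE.1).trans (le_normalizer_sigmaCore M))
      ((coprime_complement hG hM hE).coprime_dvd_left (card_dvd_of_le (sup_le hRE hYE))) hreg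
      (fun y hy hy1 => by
        refine le_antisymm ?_ (inf_le_inf_left _ (Subgroup.centralizer_le (Set.singleton_subset_iff.mpr hy)))
        rw [← hzc]
        refine le_inf inf_le_left ((inf_le_inf_left _ (Subgroup.centralizer_le (hline y hy hy1))).trans ?_)
        rw [hZeq]
        exact le_centralizer_iff.mp hYW)
    have hZeqY : Z = Y := eq_of_le_of_card_ge hZY (by
      obtain ⟨k, hk⟩ := IsPGroup.iff_card.mp hY
      have h1 := h.1
      rw [hk] at h1
      rw [hZ, hk, h1.eq_one_of_pow, pow_one])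
    exact hmove (hZeqY ▸ hZP)
  obtain ⟨L', c'⟩ := exists_cfg hG hM hE hτ hr hRE hRne
  have hsp : s < p := pgroup_lt hP hY (hYE.trans (c.E_normalizes hG)) hmove
  have hZR : Z ≤ centralizer (R : Set G) := by
    by_contra hm
    exact hm (c'.centralizes_of_line hG hZ hZE (ihp s hsp))
  have h1 : Cfsg.sigmaCore M ⊓ centralizer (Z : Set G) ≤ Cfsg.sigmaCore M ⊓ centralizer (R : Set G) :=
    CentTauOne.centralizer_le_centralizer hG hM hE hs1 hZE hZ (le_inf hRE (le_centralizer_iff.mp hZR))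
      (hr.symm ▸ hR)
  refine le_antisymm ?_ (hZeq ▸ h1)
  -- the mover of `R` gives the reverse inclusion
  obtain ⟨s', Y', hs', hY', hY'E, hmove'⟩ := c'.exists_mover hG
  have := Fact.mk hs'
  have hs'1 := c'.tau1_of_moves hG hY' hY'E hmove'
  obtain ⟨Z', hZ', hZ'Y⟩ := exists_line hY' fun e => hmove' (e ▸ bot_le)
  have hZ'E : Z' ≤ E := hZ'Y.trans hY'E
  have hZ'R : Z' ≤ centralizer (R : Set G) := by
    by_contra hm
    refine c'.moves_nonregular hG hZ' hZ'E hm ?_
    rw [hone s' Z' ‹_› hs'1 hZ' hZ'E, ← hZeq]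
    exact h1.trans inf_le_right
  have hs'L := c'.mover_sigma hG hY' hY'E hmove' hZ' hZ'Y hZ'R
  rw [← hone s' Z' ‹_› hs'1 hZ' hZ'E, c'.fixed_eq hG]
  exact le_inf inf_le_left (le_centralizer_iff.mp (hZ'Y.trans (centralizes_inf hG hM c'.maxL (c'.nconj hG) hs'L
    hs'1.2.1 hY' (hY'E.trans hE.1) (hY'E.trans (c'.EL hG)))))

end CfsgLib.OddLocal.TauThree
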